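import Mathlib

set_option autoImplicit false

/-!
Fixed points of a `p`-group acting by conjugation on cosets of a `p'`-subgroup, and consequences:
fixed points in quotients lift (the acting group being a `p`-group, no conjugacy part of
Schur-Zassenhaus is needed).
-/

namespace Cfsg.Agent.SignalizersComponents.CoprimeFix

/-- A `p`-subgroup `P` normalizing the `p'`-subgroup `W` and the left coset `xW` centralizes an element
of `xW`. -/
theorem exists_fixed_in_coset {G : Type*} [Group G] {p : ℕ} [Fact p.Prime] (P : Subgroup G)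
    (hP : IsPGroup p P) (W : Subgroup G) (hW : ¬ p ∣ Nat.card W)
    (hPW : ∀ b ∈ P, ∀ w ∈ W, b * w * b⁻¹ ∈ W) (x : G) (hx : ∀ b ∈ P, x⁻¹ * (b * x * b⁻¹) ∈ W) :
    ∃ y : G, x⁻¹ * y ∈ W ∧ ∀ b ∈ P, b * y * b⁻¹ = y := by
  classical
  let α := {y : G // x⁻¹ * y ∈ W}
  have hmem : ∀ b ∈ P, ∀ y : G, x⁻¹ * y ∈ W → x⁻¹ * (b * y * b⁻¹) ∈ W := by
    intro b hb y hy
    have h1 : x⁻¹ * (b * y * b⁻¹) = (x⁻¹ * (b * x * b⁻¹)) * (b * (x⁻¹ * y) * b⁻¹) := by group
    rw [h1]
    exact W.mul_mem (hx b hb) (hPW b hb _ hy)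
  let _ : MulAction P α :=
    { smul := fun b y => ⟨b * y.1 * (b : G)⁻¹, hmem b b.2 y.1 y.2⟩
      one_smul := by
        intro y
        apply Subtype.ext
        change (1 : G) * y.1 * (1 : G)⁻¹ = y.1
        simp
      mul_smul := by
        intro b c y
        apply Subtype.ext
        change ((b : G) * c) * y.1 * ((b : G) * c)⁻¹ = b * (c * y.1 * (c : G)⁻¹) * (b : G)⁻¹
        group }
  have hcard : Nat.card α = Nat.card W := by
    refine Nat.card_congr ⟨fun y => ⟨x⁻¹ * y.1, y.2⟩, fun w => ⟨x * w.1, by simp⟩, ?_, ?_⟩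
    · intro y; simp
    · intro w; simp
  obtain ⟨y, hy⟩ := hP.nonempty_fixed_point_of_prime_not_dvd_card α (by rw [hcard]; exact hW)
  refine ⟨y.1, y.2, fun b hb => ?_⟩
  have := hy ⟨b, hb⟩
  exact congrArg Subtype.val this

/-- Quotient form: if the `p`-subgroup `P` normalizes the `p'`-subgroup `V`, and `N` is a normal subgroup
of `G`, then each element of `VN/N` centralized by the image of `P` is the image of an element of `V`
centralized by `P`. -/
theorem map_inf_centralizer_le {G : Type*} [Group G] [Finite G] {p : ℕ} [Fact p.Prime] (P : Subgroup G)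
    (hP : IsPGroup p P) (V : Subgroup G) (hV : ¬ p ∣ Nat.card V)
    (hPV : ∀ b ∈ P, ∀ v ∈ V, b * v * b⁻¹ ∈ V) (N : Subgroup G) [N.Normal] :
    V.map (QuotientGroup.mk' N) ⊓ Subgroup.centralizer ((P.map (QuotientGroup.mk' N) : Subgroup (G ⧸ N)) : Set (G ⧸ N)) ≤
      (V ⊓ Subgroup.centralizer (P : Set G)).map (QuotientGroup.mk' N) := by
  rintro z ⟨⟨x, hxV, rfl⟩, hz⟩
  have hz' := Subgroup.mem_centralizer_iff.mp hz
  have hx : ∀ b ∈ P, x⁻¹ * (b * x * b⁻¹) ∈ V ⊓ N := by
    intro b hb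
    refine ⟨V.mul_mem (V.inv_mem hxV) (hPV b hb x hxV), ?_⟩
    have h1 := hz' (QuotientGroup.mk' N b) ⟨b, hb, rfl⟩
    have h2 : (QuotientGroup.mk' N) (x⁻¹ * (b * x * b⁻¹)) = 1 := by
      simp only [map_mul, map_inv]
      rw [h1]
      group
    exact (QuotientGroup.eq_one_iff _).mp h2
  have hW : ¬ p ∣ Nat.card ↥(V ⊓ N) := fun h =>
    hV (h.trans (Subgroup.card_dvd_of_le inf_le_left))
  obtain ⟨y, hy1, hy2⟩ := exists_fixed_in_coset P hP (V ⊓ N) hW
    (fun b hb w hw => ⟨hPV b hb w hw.1, Subgroup.Normal.conj_mem inferInstance w hw.2 b⟩) x hx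
  refine ⟨y, ⟨?_, ?_⟩, ?_⟩
  · have := V.mul_mem hxV hy1.1
    simpa using this
  · refine Subgroup.mem_centralizer_iff.mpr fun b hb => ?_
    have := hy2 b hb
    rw [mul_inv_eq_iff_eq_mul] at this
    exact this
  · have : (QuotientGroup.mk' N) (x⁻¹ * y) = 1 := (QuotientGroup.eq_one_iff _).mpr hy1.2
    rw [map_mul, map_inv, inv_mul_eq_one] at this
    exact this.symm

end Cfsg.Agent.SignalizersComponents.CoprimeFix
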