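import Mathlib

/-!
Basic facts on products of subgroups one of which normalises the other, and on fixed points of a
`p`-group in invariant cosets of `p'`-subgroups (the elementary part of coprime action for `p`-groups).
-/

set_option autoImplicit false

namespace Cfsg.Agent.SignalizersComponents.CoprimeBasic

/-- A `p`-subgroup `P` of a finite group normalising a `p'`-subgroup `D` and fixing (setwise) a left coset
`y D` fixes one of its points. -/
theorem exists_fixed_in_coset {G : Type*} [Group G] [Finite G] {p : ℕ} [hp : Fact p.Prime]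
    (P : Subgroup G) (hP : IsPGroup p P) (D : Subgroup G) (hD : ¬ p ∣ Nat.card D)
    (hPD : ∀ a ∈ P, ∀ d ∈ D, a * d * a⁻¹ ∈ D) (y : G)
    (hy : ∀ a ∈ P, y⁻¹ * (a * y * a⁻¹) ∈ D) :
    ∃ d ∈ D, ∀ a ∈ P, a * (y * d) = (y * d) * a := by
  let S : Set G := {g | y⁻¹ * g ∈ D}
  have hS : ∀ a ∈ P, ∀ g ∈ S, a * g * a⁻¹ ∈ S := by
    intro a ha g hg
    have h1 : a * (y⁻¹ * g) * a⁻¹ ∈ D := hPD a ha _ hg
    have h2 : y⁻¹ * (a * g * a⁻¹) = (y⁻¹ * (a * y * a⁻¹)) * (a * (y⁻¹ * g) * a⁻¹) := by group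
    show y⁻¹ * (a * g * a⁻¹) ∈ D
    rw [h2]
    exact D.mul_mem (hy a ha) h1
  let act : MulAction P S :=
    { smul := fun z g => ⟨(z : G) * g * (z : G)⁻¹, hS z z.2 g g.2⟩
      one_smul := fun g => by
        apply Subtype.ext
        show ((1 : P) : G) * (g : G) * ((1 : P) : G)⁻¹ = g
        simp
      mul_smul := fun z w g => by
        apply Subtype.ext
        show ((z * w : P) : G) * (g : G) * ((z * w : P) : G)⁻¹ =
          (z : G) * ((w : G) * g * (w : G)⁻¹) * (z : G)⁻¹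
        push_cast
        group }
  have hcardS : Nat.card S = Nat.card D := by
    refine Nat.card_congr ⟨fun g => ⟨y⁻¹ * g, g.2⟩, fun d => ⟨y * d, ?_⟩, ?_, ?_⟩
    · show y⁻¹ * (y * (d : G)) ∈ D
      simp
    · intro g; apply Subtype.ext; simp
    · intro g; apply Subtype.ext; simp
  obtain ⟨⟨g, hg⟩, hfix⟩ :=
    hP.nonempty_fixed_point_of_prime_not_dvd_card S (by rw [hcardS]; exact hD)
  refine ⟨y⁻¹ * g, hg, fun a ha => ?_⟩
  have h2 : a * g * a⁻¹ = g := congrArg Subtype.val (hfix ⟨a, ha⟩)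
  rw [mul_inv_cancel_left]
  calc a * g = (a * g * a⁻¹) * a := by group
    _ = g * a := by rw [h2]

/-- Single-element version: a `p`-element `a` normalising a `p'`-subgroup `D` and the coset `y D`
commutes with some element of `y D`. -/
theorem exists_fixed_in_coset_of_pow {G : Type*} [Group G] [Finite G] {p : ℕ} [Fact p.Prime]
    (a : G) (k : ℕ) (ha : a ^ p ^ k = 1) (D : Subgroup G) (hD : ¬ p ∣ Nat.card D)
    (hDa : ∀ d ∈ D, a * d * a⁻¹ ∈ D) (y : G) (hy : y⁻¹ * (a * y * a⁻¹) ∈ D) :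
    ∃ d ∈ D, a * (y * d) = (y * d) * a := by
  have hP : IsPGroup p (Subgroup.zpowers a) := by
    rintro ⟨z, hz⟩
    obtain ⟨n, rfl⟩ := (Subgroup.mem_zpowers_iff.mp hz)
    refine ⟨k, ?_⟩
    apply Subtype.ext
    show (a ^ n) ^ p ^ k = 1
    rw [← zpow_natCast, ← zpow_mul, mul_comm, zpow_mul, zpow_natCast, ha, one_zpow]
  -- natural powers suffice
  have hpow : ∀ z ∈ Subgroup.zpowers a, ∃ m : ℕ, a ^ m = z := fun z hz =>
    ((isOfFinOrder_of_finite a).mem_powers_iff_mem_zpowers.mpr hz)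
  have hD' : ∀ m : ℕ, ∀ d ∈ D, a ^ m * d * (a ^ m)⁻¹ ∈ D := by
    intro m
    induction m with
    | zero => intro d hd; simpa using hd
    | succ n ih =>
      intro d hd
      have h := ih _ (hDa d hd)
      have e : a ^ n * (a * d * a⁻¹) * (a ^ n)⁻¹ = a ^ (n + 1) * d * (a ^ (n + 1))⁻¹ := by
        rw [pow_succ]; group
      rwa [e] at h
  have hy' : ∀ m : ℕ, y⁻¹ * (a ^ m * y * (a ^ m)⁻¹) ∈ D := by
    intro m
    induction m with
    | zero => simp
    | succ n ih =>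
      have h := D.mul_mem ih (hD' n _ hy)
      have e : y⁻¹ * (a ^ n * y * (a ^ n)⁻¹) * (a ^ n * (y⁻¹ * (a * y * a⁻¹)) * (a ^ n)⁻¹)
          = y⁻¹ * (a ^ (n + 1) * y * (a ^ (n + 1))⁻¹) := by
        rw [pow_succ]; group
      rwa [e] at h
  obtain ⟨d, hd, hfix⟩ := exists_fixed_in_coset (p := p) (Subgroup.zpowers a) hP D hD
    (by intro z hz d hd; obtain ⟨m, rfl⟩ := hpow z hz; exact hD' m d hd) y
    (by intro z hz; obtain ⟨m, rfl⟩ := hpow z hz; exact hy' m)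
  exact ⟨d, hd, hfix a (Subgroup.mem_zpowers a)⟩

/-- If `Y` normalises `X`, every element of `X ⊔ Y` is a product `x * y`. -/
theorem mem_sup_iff {G : Type*} [Group G] {X Y : Subgroup G}
    (hn : Y ≤ Subgroup.normalizer (X : Set G)) (g : G) :
    g ∈ X ⊔ Y ↔ ∃ x ∈ X, ∃ y ∈ Y, x * y = g := by
  have h1 := Subgroup.coe_mul_of_right_le_normalizer_left X Y hn
  have h2 : g ∈ X ⊔ Y ↔ g ∈ ((X ⊔ Y : Subgroup G) : Set G) := Iff.rfl
  rw [h2, h1, Set.mem_mul]
  rfl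

/-- If `Y` normalises `X`, then `X` is normal in `X ⊔ Y` and `Y` maps onto the quotient. -/
theorem exists_surjective_quotient_sup {G : Type*} [Group G] {X Y : Subgroup G}
    (hn : Y ≤ Subgroup.normalizer (X : Set G)) :
    ∃ _ : (X.subgroupOf (X ⊔ Y)).Normal,
      ∃ f : Y →* (↥(X ⊔ Y)) ⧸ (X.subgroupOf (X ⊔ Y)), Function.Surjective f := by
  have hle : X ⊔ Y ≤ Subgroup.normalizer (X : Set G) := sup_le Subgroup.le_normalizer hn
  have hnorm : (X.subgroupOf (X ⊔ Y)).Normal := Subgroup.normal_subgroupOf_of_le_normalizer hle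
  refine ⟨hnorm, (QuotientGroup.mk' (X.subgroupOf (X ⊔ Y))).comp
    (Subgroup.inclusion le_sup_right), ?_⟩
  intro q
  obtain ⟨⟨g, hg⟩, rfl⟩ := QuotientGroup.mk'_surjective _ q
  obtain ⟨x, hx, y, hy, rfl⟩ := (mem_sup_iff hn g).mp hg
  refine ⟨⟨y, hy⟩, ?_⟩
  show QuotientGroup.mk' _ _ = QuotientGroup.mk' _ _
  rw [QuotientGroup.mk'_eq_mk']
  refine ⟨⟨y⁻¹ * x * y, Subgroup.mul_mem _ (Subgroup.mul_mem _ ?_ ?_) ?_⟩, ?_, ?_⟩
  · exact Subgroup.inv_mem _ (Subgroup.mem_sup_right hy)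
  · exact Subgroup.mem_sup_left hx
  · exact Subgroup.mem_sup_right hy
  · rw [Subgroup.mem_subgroupOf]
    have := (Subgroup.mem_normalizer_iff.mp (Subgroup.inv_mem _ (hn hy)) x).mp hx
    simpa using this
  · apply Subtype.ext
    simp [mul_assoc]

/-- If `Y` normalises `X`, then `X ⊔ Y` is solvable when `X`, `Y` are. -/
theorem isSolvable_sup {G : Type*} [Group G] {X Y : Subgroup G}
    (hn : Y ≤ Subgroup.normalizer (X : Set G)) (hX : Group.IsSolvable X) (hY : Group.IsSolvable Y) :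
    Group.IsSolvable ↥(X ⊔ Y) := by
  obtain ⟨hnorm, f, hf⟩ := exists_surjective_quotient_sup hn
  have h1 : Group.IsSolvable ((↥(X ⊔ Y)) ⧸ (X.subgroupOf (X ⊔ Y))) :=
    Group.isSolvable_of_surjective hf
  have h2 : Group.IsSolvable (X.subgroupOf (X ⊔ Y)) :=
    Group.isSolvable_of_surjective
      (f := (Subgroup.subgroupOfEquivOfLe (le_sup_left : X ≤ X ⊔ Y)).symm.toMonoidHom)
      (Subgroup.subgroupOfEquivOfLe (le_sup_left : X ≤ X ⊔ Y)).symm.surjective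
  exact (Group.isSolvable_iff_subgroup_quotient (X.subgroupOf (X ⊔ Y))).mpr ⟨h2, h1⟩

/-- If `Y` normalises `X`, then `|XY|` divides `|X| * |Y|`. -/
theorem card_sup_dvd {G : Type*} [Group G] [Finite G] {X Y : Subgroup G}
    (hn : Y ≤ Subgroup.normalizer (X : Set G)) :
    Nat.card ↥(X ⊔ Y) ∣ Nat.card X * Nat.card Y := by
  obtain ⟨hnorm, f, hf⟩ := exists_surjective_quotient_sup hn
  have h1 : Nat.card (X.subgroupOf (X ⊔ Y)) = Nat.card X :=
    Nat.card_congr (Subgroup.subgroupOfEquivOfLe (le_sup_left : X ≤ X ⊔ Y)).toEquiv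
  have h2 := Subgroup.card_mul_index (X.subgroupOf (X ⊔ Y))
  rw [h1] at h2
  rw [← h2]
  apply Nat.mul_dvd_mul_left
  rw [Subgroup.index_eq_card]
  exact Subgroup.card_dvd_of_surjective f hf

/-- Centraliser of a `p`-group in a product `XY` of `P`-invariant subgroups with `Y` normalising `X` and
`X ⊓ Y` of order prime to `p`: `C_{XY}(P) = C_X(P) C_Y(P)`. -/
theorem exists_factorization_of_centralizing {G : Type*} [Group G] [Finite G] {p : ℕ}
    [Fact p.Prime] {X Y : Subgroup G}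
    (hn : Y ≤ Subgroup.normalizer (X : Set G)) (P : Subgroup G) (hP : IsPGroup p P)
    (hXP : ∀ a ∈ P, ∀ x ∈ X, a * x * a⁻¹ ∈ X) (hYP : ∀ a ∈ P, ∀ y ∈ Y, a * y * a⁻¹ ∈ Y)
    (hp : ¬ p ∣ Nat.card ↥(X ⊓ Y)) (g : G) (hg : g ∈ X ⊔ Y) (hgP : ∀ a ∈ P, a * g = g * a) :
    ∃ x ∈ X, ∃ y ∈ Y, (∀ a ∈ P, a * x = x * a) ∧ (∀ a ∈ P, a * y = y * a) ∧ x * y = g := by
  obtain ⟨x, hx, y, hy, rfl⟩ := (mem_sup_iff hn _).mp hg
  have hya : ∀ a ∈ P, y⁻¹ * (a * y * a⁻¹) ∈ X ⊓ Y := by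
    intro a ha
    have hfix : a * (x * y) * a⁻¹ = x * y := by rw [hgP a ha]; group
    refine ⟨?_, Y.mul_mem (Y.inv_mem hy) (hYP a ha y hy)⟩
    have h1 : (a * x * a⁻¹) * (a * y * a⁻¹) = x * y := by rw [← hfix]; group
    have h2 : y⁻¹ * (a * y * a⁻¹) = y⁻¹ * ((a * x * a⁻¹)⁻¹ * x) * y := by
      have h3 : a * y * a⁻¹ = (a * x * a⁻¹)⁻¹ * (x * y) := by rw [← h1]; group
      rw [h3]; group
    rw [h2]
    have h4 : (a * x * a⁻¹)⁻¹ * x ∈ X := X.mul_mem (X.inv_mem (hXP a ha x hx)) hx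
    have := (Subgroup.mem_normalizer_iff.mp (Subgroup.inv_mem _ (hn hy)) _).mp h4
    simpa using this
  obtain ⟨d, hd, hda⟩ := exists_fixed_in_coset P hP (X ⊓ Y) hp
    (fun a ha d hd => ⟨hXP a ha d hd.1, hYP a ha d hd.2⟩) y hya
  refine ⟨x * y * (y * d)⁻¹, ?_, y * d, Y.mul_mem hy hd.2, ?_, hda, by group⟩
  · have e : x * y * (y * d)⁻¹ = x * (y * d⁻¹ * y⁻¹) := by group
    rw [e]
    exact X.mul_mem hx ((Subgroup.mem_normalizer_iff.mp (hn hy) _).mp (X.inv_mem hd.1))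
  · intro a ha
    have h1 : Commute a (x * y) := hgP a ha
    have h2 : Commute a (y * d) := hda a ha
    exact (h1.mul_right h2.inv_right).eq

end Cfsg.Agent.SignalizersComponents.CoprimeBasic
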