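import Mathlib
import Cfsg.Prelude.Def_Local
import Cfsg.Agent.Lib.Cores

/-!
# Subnormal subgroups and cores; Sylow subgroups of perfect groups

* `map_subtype_pCore_of_subnormal`: `O_p(H) = H ∩ O_p(G)` for `H` subnormal in `G`;
* `map_subtype_pPrimeCore_of_subnormal`: `O_{p'}(H) = H ∩ O_{p'}(G)` for `H` subnormal in finite `G`;
* `subnormal_pGroup_le_pCore`, `subnormal_coprime_le_pPrimeCore`;
* `exists_not_mem_center_of_perfect`: a finite perfect group of order divisible by `p` has a
  noncentral `p`-element;
* `exists_invariant_of_involutive`: with an involutory automorphism `τ`, a noncentral `2`-element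
  `x` with `x⁻¹ τ(x)` central.
-/

set_option autoImplicit false

open Cfsg Subgroup

namespace Cfsg.Agent.SignalizersComponents.CompBasic

variable {G : Type*} [Group G]

/-- `O_p(H) = H ∩ O_p(G)` for `H` subnormal in `G`. -/
theorem map_subtype_pCore_of_subnormal (p : ℕ) {H : Subgroup G} (hH : H.IsSubnormal) :
    (pCore p H).map H.subtype = H ⊓ pCore p G := by
  induction hH with
  | top =>
    have h := Lib.Cores.map_equiv_pCore (Subgroup.topEquiv (G := G)) p
    rw [top_inf_eq, ← h]
    rfl
  | step H K h_le hSubn hN ih =>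
    have h1 := Lib.Cores.map_subtype_pCore (G := K) p (N := H.subgroupOf K) hN
    have h2 := Lib.Cores.map_equiv_pCore (subgroupOfEquivOfLe h_le) p
    have h3 := congrArg (Subgroup.map K.subtype) h1
    rw [Subgroup.map_map] at h3
    rw [← h2, Subgroup.map_map]
    have h4 : H.subtype.comp (subgroupOfEquivOfLe h_le).toMonoidHom =
        K.subtype.comp (H.subgroupOf K).subtype := by
      ext x
      rfl
    rw [h4, h3, Subgroup.map_inf_eq _ _ _ K.subtype_injective, ih, map_subgroupOf_eq_of_le h_le,
      ← inf_assoc, inf_eq_left.mpr h_le]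

/-- A subnormal `p`-subgroup of `G` is contained in `O_p(G)`. -/
theorem subnormal_pGroup_le_pCore {p : ℕ} {N : Subgroup G} (hN : N.IsSubnormal)
    (hp : IsPGroup p N) : N ≤ pCore p G := by
  have h := map_subtype_pCore_of_subnormal p hN
  rw [(Lib.Cores.pCore_eq_top_iff (G := N) p).2 hp, ← MonoidHom.range_eq_map, range_subtype] at h
  exact inf_eq_left.mp h.symm

/-- `O_{p'}(H) = H ∩ O_{p'}(G)` for `H` subnormal in the finite group `G`. -/
theorem map_subtype_pPrimeCore_of_subnormal [Finite G] (p : ℕ) {H : Subgroup G}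
    (hH : H.IsSubnormal) : (pPrimeCore p H).map H.subtype = H ⊓ pPrimeCore p G := by
  induction hH with
  | top =>
    have h := Lib.Cores.map_equiv_pPrimeCore (Subgroup.topEquiv (G := G)) p
    rw [top_inf_eq, ← h]
    rfl
  | step H K h_le hSubn hN ih =>
    have h1 := Lib.Cores.map_subtype_pPrimeCore (G := K) p (N := H.subgroupOf K) hN
    have h2 := Lib.Cores.map_equiv_pPrimeCore (subgroupOfEquivOfLe h_le) p
    have h3 := congrArg (Subgroup.map K.subtype) h1
    rw [Subgroup.map_map] at h3
    rw [← h2, Subgroup.map_map]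
    have h4 : H.subtype.comp (subgroupOfEquivOfLe h_le).toMonoidHom =
        K.subtype.comp (H.subgroupOf K).subtype := by
      ext x
      rfl
    rw [h4, h3, Subgroup.map_inf_eq _ _ _ K.subtype_injective, ih, map_subgroupOf_eq_of_le h_le,
      ← inf_assoc, inf_eq_left.mpr h_le]

/-- A subnormal `p'`-subgroup of a finite group `G` is contained in `O_{p'}(G)`. -/
theorem subnormal_coprime_le_pPrimeCore [Finite G] {p : ℕ} {N : Subgroup G} (hN : N.IsSubnormal)
    (hp : (Nat.card N).Coprime p) : N ≤ pPrimeCore p G := by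
  have h := map_subtype_pPrimeCore_of_subnormal p hN
  rw [(Lib.Cores.pPrimeCore_eq_top_iff (G := N) p).2 hp, ← MonoidHom.range_eq_map,
    range_subtype] at h
  exact inf_eq_left.mp h.symm

/-- A homomorphism from a perfect group to a commutative group is trivial. -/
theorem hom_eq_one_of_perfect {X A : Type*} [Group X] [CommGroup A] (hX : Group.IsPerfect X)
    (f : X →* A) (x : X) : f x = 1 := by
  have h1 : x ∈ commutator X := by
    rw [hX.commutator_eq_top]
    exact mem_top x
  exact Abelianization.commutator_subset_ker f h1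

open scoped IsMulCommutative in
/-- A finite perfect group with order divisible by the prime `p` has, in each Sylow `p`-subgroup,
an element which is not central. -/
theorem sylow_not_le_center_of_perfect {X : Type*} [Group X] [Finite X] (hX : Group.IsPerfect X)
    (p : ℕ) [Fact p.Prime] (hp : p ∣ Nat.card X) (T : Sylow p X) : ¬ (T : Subgroup X) ≤ center X := by
  intro hT
  have h1 : ¬ p ∣ (center X).index := by
    intro h
    have h2 := T.not_dvd_index
    exact h2 (h.trans (Subgroup.index_dvd_of_le hT))
  obtain ⟨x, hx⟩ : ∃ x : (T : Subgroup X), x ≠ 1 := by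
    have h3 := T.ne_bot_of_dvd_card hp
    exact (Subgroup.ne_bot_iff_exists_ne_one (H := (T : Subgroup X))).mp h3
  have h4 : (x : X) ^ (center X).index = 1 := by
    rw [← MonoidHom.transferCenterPow_apply]
    have := hom_eq_one_of_perfect hX (MonoidHom.transferCenterPow X) (x : X)
    rw [this]
    rfl
  have h5 : ∃ n : ℕ, orderOf x = p ^ n := IsPGroup.iff_orderOf.mp T.isPGroup' x
  obtain ⟨n, hn⟩ := h5
  have h6 : orderOf (x : X) ∣ (center X).index := orderOf_dvd_of_pow_eq_one h4
  rw [Subgroup.orderOf_coe, hn] at h6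
  have h7 : n = 0 := by
    by_contra hne
    exact h1 ((dvd_pow_self p hne).trans h6)
  rw [h7, pow_zero, orderOf_eq_one_iff] at hn
  exact hx hn

open scoped Pointwise in
/-- An automorphism of `p`-power order of a finite group leaves invariant a Sylow `p`-subgroup. -/
theorem exists_invariant_sylow {X : Type*} [Group X] [Finite X] (p : ℕ) [Fact p.Prime]
    (τ : MulAut X) {k : ℕ} (hτ : τ ^ p ^ k = 1) :
    ∃ T : Sylow p X, ∀ x : X, τ x ∈ (T : Subgroup X) ↔ x ∈ (T : Subgroup X) := by
  classical
  have : Fintype (Sylow p X) := Fintype.ofFinite _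
  have h1 : ¬ p ∣ Fintype.card (Sylow p X) := by
    rw [← Nat.card_eq_fintype_card]
    exact not_dvd_card_sylow p X
  have h2 : (MulAction.toPermHom (MulAut X) (Sylow p X) τ) ^ p ^ k = 1 := by
    rw [← map_pow, hτ, map_one]
  obtain ⟨T, hT⟩ := Equiv.Perm.exists_fixed_point_of_prime h1 h2
  refine ⟨T, fun x => ?_⟩
  have hT' : τ • (T : Subgroup X) = (T : Subgroup X) := congrArg Sylow.toSubgroup hT
  constructor
  · intro hx
    rw [← hT'] at hx
    have h := (Subgroup.smul_mem_pointwise_smul_iff (a := τ) (S := (T : Subgroup X)) (x := x)).mp hx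
    exact h
  · intro hx
    rw [← hT']
    exact Subgroup.smul_mem_pointwise_smul x τ _ hx

/-- Let `X` be a finite perfect group of order divisible by `p` and `τ` an automorphism of
`p`-power order. Then there is a noncentral `p`-element `x` with `x⁻¹ τ(x)` a central
`p`-element. -/
theorem exists_almost_fixed {X : Type*} [Group X] [Finite X] (hX : Group.IsPerfect X)
    (p : ℕ) [Fact p.Prime] (hp : p ∣ Nat.card X) (τ : MulAut X) {k : ℕ} (hτ : τ ^ p ^ k = 1) :
    ∃ x : X, x ∉ center X ∧ (∃ n : ℕ, x ^ p ^ n = 1) ∧ x⁻¹ * τ x ∈ center X ∧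
      (∃ n : ℕ, (x⁻¹ * τ x) ^ p ^ n = 1) := by
  classical
  obtain ⟨T, hT⟩ := exists_invariant_sylow p τ hτ
  have hnc := sylow_not_le_center_of_perfect hX p hp T
  -- the automorphism of `T` induced by `τ`
  let f : (T : Subgroup X) ≃* (T : Subgroup X) :=
    { toFun := fun x => ⟨τ x, (hT x).mpr x.2⟩
      invFun := fun x => ⟨τ.symm x, by
        rw [← hT, MulEquiv.apply_symm_apply]
        exact x.2⟩
      left_inv := fun x => by simp
      right_inv := fun x => by simp
      map_mul' := fun x y => by
        ext
        simp }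
  let Z : Subgroup (T : Subgroup X) := (center X).subgroupOf T
  have hfZ : Z.map (f : (T : Subgroup X) →* (T : Subgroup X)) = Z := by
    ext y
    constructor
    · rintro ⟨x, hx, rfl⟩
      have hx' : (x : X) ∈ center X := hx
      change τ (x : X) ∈ center X
      rw [mem_center_iff] at hx' ⊢
      intro g
      have := congrArg τ (hx' (τ.symm g))
      simpa using this
    · intro hy
      have hy' : (y : X) ∈ center X := hy
      refine ⟨f.symm y, ?_, by simp⟩
      change τ.symm (y : X) ∈ center X
      rw [mem_center_iff] at hy' ⊢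
      intro g
      have := congrArg τ.symm (hy' (τ g))
      simpa using this
  let q : ((T : Subgroup X) ⧸ Z) ≃* ((T : Subgroup X) ⧸ Z) := QuotientGroup.congr Z Z f hfZ
  let σ : Equiv.Perm ((T : Subgroup X) ⧸ Z) := q.toEquiv
  have hσ1 : ∀ (n : ℕ) (x : (T : Subgroup X)),
      (σ ^ n) (x : (T : Subgroup X) ⧸ Z) = ((f ^ n : MulAut (T : Subgroup X)) x :
        (T : Subgroup X)) := by
    intro n
    induction n with
    | zero => intro x; rfl
    | succ n ih =>
      intro x
      rw [pow_succ, pow_succ, Equiv.Perm.mul_apply]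
      exact ih (f x)
  have hfk : ∀ (n : ℕ) (x : (T : Subgroup X)),
      (((f ^ n : MulAut (T : Subgroup X)) x : (T : Subgroup X)) : X) = (τ ^ n) (x : X) := by
    intro n
    induction n with
    | zero => intro x; rfl
    | succ n ih =>
      intro x
      rw [pow_succ, pow_succ]
      exact ih (f x)
  have hσ : σ ^ p ^ k = 1 := by
    ext x
    induction x using QuotientGroup.induction_on with
    | H x =>
      rw [hσ1]
      have : (f ^ p ^ k : MulAut (T : Subgroup X)) x = x := by
        ext
        rw [hfk, hτ]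
        rfl
      rw [this]
      rfl
  have : Fintype ((T : Subgroup X) ⧸ Z) := Fintype.ofFinite _
  have hcard : p ∣ Fintype.card ((T : Subgroup X) ⧸ Z) := by
    have h1 : IsPGroup p ((T : Subgroup X) ⧸ Z) := T.isPGroup'.to_quotient Z
    obtain ⟨n, hn⟩ := IsPGroup.iff_card.mp h1
    rw [Nat.card_eq_fintype_card] at hn
    rw [hn]
    refine dvd_pow_self p ?_
    rintro rfl
    apply hnc
    rw [pow_zero, ← Nat.card_eq_fintype_card] at hn
    have h2 : Z = ⊤ := by
      rw [← Subgroup.index_eq_one]
      exact hn
    intro x hx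
    have h3 : (⟨x, hx⟩ : (T : Subgroup X)) ∈ Z := by
      rw [h2]
      exact mem_top _
    exact h3
  have h1 : σ 1 = 1 := map_one q
  obtain ⟨b, hb, hb1⟩ := Equiv.Perm.exists_fixed_point_of_prime' hcard hσ h1
  induction b using QuotientGroup.induction_on with
  | H b =>
    have hbz : (b : X) ∉ center X := by
      intro h
      apply hb1
      exact (QuotientGroup.eq_one_iff b).mpr h
    have hb2 : ((f b : (T : Subgroup X)) : (T : Subgroup X) ⧸ Z) = b := hb
    have hb3 : (b : X)⁻¹ * τ b ∈ center X := by
      have h := QuotientGroup.eq.mp hb2.symm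
      exact h
    obtain ⟨n, hn⟩ := T.isPGroup' b
    have hn' : (b : X) ^ p ^ n = 1 := by
      have := congrArg (Subtype.val) hn
      simpa using this
    refine ⟨b, hbz, ⟨n, hn'⟩, hb3, ⟨n, ?_⟩⟩
    have hcomm : Commute ((b : X)⁻¹ * τ b) (b : X) := by
      have := (mem_center_iff.mp hb3) (b : X)
      exact this.symm
    have h5 : (b : X) * ((b : X)⁻¹ * τ b) = τ b := by group
    have h6 : (τ (b : X)) ^ p ^ n = 1 := by rw [← map_pow, hn', map_one]
    rw [← h5, hcomm.symm.mul_pow, hn', one_mul] at h6
    exact h6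

end Cfsg.Agent.SignalizersComponents.CompBasic
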