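import Mathlib
import Cfsg.Prelude.Def_Local

/-!
Core theory of components, the layer and the generalized Fitting subgroup.
-/

set_option autoImplicit false

namespace Cfsg.Agent.SignalizersComponents.Components

open Cfsg Subgroup

/-! ### Quasisimple groups -/

section Quasisimple

variable {K : Type*} [Group K]

theorem quasisimple_normal (h : IsQuasisimple K) (N : Subgroup K) (hN : N.Normal) :
    N = ⊤ ∨ N ≤ center K := by
  obtain ⟨hp, hs⟩ := h
  have hN' : (N.map (QuotientGroup.mk' (center K))).Normal :=
    hN.map _ (QuotientGroup.mk'_surjective _)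
  rcases hN'.eq_bot_or_eq_top with hb | ht
  · right
    rw [Subgroup.map_eq_bot_iff, QuotientGroup.ker_mk'] at hb
    exact hb
  · left
    have h1 : N ⊔ center K = ⊤ := by
      have := congrArg (comap (QuotientGroup.mk' (center K))) ht
      rwa [comap_map_eq, QuotientGroup.ker_mk', comap_top] at this
    have h2 := Subgroup.Normal.commutator_le_of_self_sup_commutative_eq_top h1 inferInstance
    rw [Group.IsPerfect.commutator_eq_top] at h2
    exact top_le_iff.mp h2

theorem quasisimple_subnormal (h : IsQuasisimple K) {N : Subgroup K} (hN : N.IsSubnormal) :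
    N = ⊤ ∨ N ≤ center K := by
  induction hN with
  | top => exact Or.inl rfl
  | step H L h_le hSubn hN ih =>
    rcases ih with rfl | hc
    · refine quasisimple_normal h H ?_
      rw [normal_subgroupOf_iff_le_normalizer h_le, top_le_iff, normalizer_eq_top_iff] at hN
      exact hN
    · exact Or.inr (h_le.trans hc)

theorem isQuasisimple_of_mulEquiv {L : Type*} [Group L] (e : K ≃* L) (h : IsQuasisimple K) :
    IsQuasisimple L := by
  obtain ⟨hp, hs⟩ := h
  refine ⟨Group.IsPerfect.ofSurjective (f := e.toMonoidHom) e.surjective, ?_⟩
  have e' : K ⧸ center K ≃* L ⧸ center L := by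
    refine QuotientGroup.congr (center K) (center L) e ?_
    ext x
    constructor
    · rintro ⟨y, hy, rfl⟩
      rw [mem_center_iff]
      intro g
      obtain ⟨g', rfl⟩ := e.surjective g
      have := (mem_center_iff.mp hy) g'
      simpa using congrArg e this
    · intro hx
      refine ⟨e.symm x, ?_, by simp⟩
      rw [SetLike.mem_coe, mem_center_iff]
      intro g
      have := (mem_center_iff.mp hx) (e g)
      simpa using congrArg e.symm this
  exact (MulEquiv.isSimpleGroup_congr e').mp hs

theorem isQuasisimple_congr {L : Type*} [Group L] (e : K ≃* L) :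
    IsQuasisimple K ↔ IsQuasisimple L :=
  ⟨isQuasisimple_of_mulEquiv e, isQuasisimple_of_mulEquiv e.symm⟩

theorem quasisimple_center_ne_top (h : IsQuasisimple K) : center K ≠ ⊤ := by
  intro hc
  have := h.2.toNontrivial
  obtain ⟨x, y, hxy⟩ := this
  apply hxy
  induction x using QuotientGroup.induction_on with | _ x =>
  induction y using QuotientGroup.induction_on with | _ y =>
  rw [QuotientGroup.eq, hc]
  trivial

theorem quasisimple_not_isMulCommutative (h : IsQuasisimple K) : ¬ IsMulCommutative K := by
  intro hc
  apply quasisimple_center_ne_top h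
  rw [eq_top_iff]
  intro x _
  rw [mem_center_iff]
  intro g
  exact hc.is_comm.comm _ _

theorem quasisimple_nontrivial (h : IsQuasisimple K) : Nontrivial K := by
  by_contra hn
  rw [not_nontrivial_iff_subsingleton] at hn
  exact quasisimple_center_ne_top h (Subsingleton.elim _ _)

theorem quasisimple_isPerfect (h : IsQuasisimple K) : Group.IsPerfect K := h.1

theorem quasisimple_not_isSolvable (h : IsQuasisimple K) : ¬ Group.IsSolvable K := by
  have := h.1
  have := quasisimple_nontrivial h
  exact Group.IsPerfect.not_isSolvable K

end Quasisimple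

/-! ### Transport of components -/

section Transport

variable {G G' : Type*} [Group G] [Group G']

theorem isComponent_map_equiv (e : G ≃* G') {K : Subgroup G} (hK : IsComponent K) :
    IsComponent (K.map e.toMonoidHom) :=
  ⟨hK.1.map e.surjective, isQuasisimple_of_mulEquiv (e.subgroupMap K) hK.2⟩

theorem isComponent_conj (g : G) {K : Subgroup G} (hK : IsComponent K) :
    IsComponent (K.map (MulAut.conj g).toMonoidHom) :=
  isComponent_map_equiv (MulAut.conj g) hK

theorem isComponent_map_subtype {H : Subgroup G} (hH : H.IsSubnormal) {K : Subgroup H}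
    (hK : IsComponent K) : IsComponent (K.map H.subtype) :=
  ⟨hK.1.trans' hH, isQuasisimple_of_mulEquiv
    (K.equivMapOfInjective H.subtype H.subtype_injective) hK.2⟩

theorem isComponent_subgroupOf {H K : Subgroup G} (hKH : K ≤ H) (hK : IsComponent K) :
    IsComponent (K.subgroupOf H) :=
  ⟨hK.1.subgroupOf, isQuasisimple_of_mulEquiv (Subgroup.subgroupOfEquivOfLe hKH).symm hK.2⟩

theorem isComponent_map_subtype_iff {H : Subgroup G} (hH : H.IsSubnormal) {K : Subgroup H} :
    IsComponent (K.map H.subtype) ↔ IsComponent K := by
  refine ⟨fun h => ?_, isComponent_map_subtype hH⟩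
  have := isComponent_subgroupOf (map_subtype_le K) h
  rwa [subgroupOf, comap_map_eq_self_of_injective H.subtype_injective] at this

end Transport

/-! ### The layer -/

section Layer

variable {G : Type*} [Group G]

theorem component_le_layer {K : Subgroup G} (hK : IsComponent K) : K ≤ layer G :=
  le_sSup hK

theorem layer_le_iff {H : Subgroup G} : layer G ≤ H ↔ ∀ K : Subgroup G, IsComponent K → K ≤ H :=
  sSup_le_iff

theorem map_equiv_layer_le {G' : Type*} [Group G'] (φ : G ≃* G') :
    (layer G).map φ.toMonoidHom ≤ layer G' := by
  rw [map_le_iff_le_comap, layer_le_iff]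
  intro K hK
  rw [← map_le_iff_le_comap]
  exact component_le_layer (isComponent_map_equiv φ hK)

theorem map_equiv_layer {G' : Type*} [Group G'] (φ : G ≃* G') :
    (layer G).map φ.toMonoidHom = layer G' := by
  apply le_antisymm (map_equiv_layer_le φ)
  have h := map_mono (f := φ.toMonoidHom) (map_equiv_layer_le φ.symm)
  rw [map_map] at h
  have h2 : φ.toMonoidHom.comp φ.symm.toMonoidHom = MonoidHom.id G' := by
    ext x; simp
  rwa [h2, map_id] at h

variable (G) in
theorem layer_characteristic : (layer G).Characteristic := by
  rw [characteristic_iff_map_le]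
  intro φ
  exact map_equiv_layer_le φ

variable (G) in
theorem layer_normal : (layer G).Normal := by
  have := layer_characteristic G
  infer_instance

theorem map_subtype_layer_le {H : Subgroup G} (hH : H.IsSubnormal) :
    (layer H).map H.subtype ≤ layer G := by
  rw [map_le_iff_le_comap, layer_le_iff]
  intro K hK
  rw [← map_le_iff_le_comap]
  exact component_le_layer (isComponent_map_subtype hH hK)

/-- The iterated commutator `[H, L, …, L]` (`n` times `L`). -/
def itcomm (H L : Subgroup G) : ℕ → Subgroup G
  | 0 => H
  | n + 1 => ⁅itcomm H L n, L⁆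

theorem itcomm_zero (H L : Subgroup G) : itcomm H L 0 = H := rfl

theorem itcomm_succ (H L : Subgroup G) (n : ℕ) : itcomm H L (n + 1) = ⁅itcomm H L n, L⁆ := rfl

theorem itcomm_mono {H H' L L' : Subgroup G} (h1 : H ≤ H') (h2 : L ≤ L') (n : ℕ) :
    itcomm H L n ≤ itcomm H' L' n := by
  induction n with
  | zero => exact h1
  | succ n ih => exact commutator_mono ih h2

/-- If `L` is subnormal in `G` then `[G, L, …, L] ≤ L` for some number of commutations. -/
theorem exists_itcomm_top_le {L : Subgroup G} (hL : L.IsSubnormal) :
    ∃ n, itcomm ⊤ L n ≤ L := by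
  induction hL with
  | top => exact ⟨0, le_rfl⟩
  | step H K h_le hSubn hN ih =>
    obtain ⟨n, hn⟩ := ih
    refine ⟨n + 1, ?_⟩
    rw [itcomm_succ]
    refine (commutator_mono ((itcomm_mono le_rfl h_le n).trans hn) le_rfl).trans ?_
    rw [← le_normalizer_iff_commutator_le_right]
    exact (normal_subgroupOf_iff_le_normalizer h_le).mp hN

theorem itcomm_le_of_le_normalizer {H L : Subgroup G} (hn : L ≤ normalizer (H : Set G)) (n : ℕ) :
    itcomm H L n ≤ H := by
  induction n with
  | zero => exact le_rfl
  | succ n ih =>
    refine (commutator_mono ih le_rfl).trans ?_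
    rwa [← le_normalizer_iff_commutator_le_left]

/-- If `L` is perfect and `[X, L, L] = 1` then `[X, L] = 1`. -/
theorem commutator_eq_bot_of_commutator_commutator_eq_bot {X L : Subgroup G}
    (hL : Group.IsPerfect L) (h : ⁅⁅X, L⁆, L⁆ = ⊥) : ⁅X, L⁆ = ⊥ := by
  have h1 : ⁅⁅L, X⁆, L⁆ = ⊥ := by rwa [commutator_comm L X]
  have h2 := commutator_commutator_eq_bot_of_rotate h1 h
  rw [Subgroup.commutator_eq_self (H := L)] at h2
  rwa [commutator_comm]

theorem commutator_eq_bot_of_itcomm_eq_bot {X L : Subgroup G}
    (hL : Group.IsPerfect L) {n : ℕ} (h : itcomm X L n = ⊥) : ⁅X, L⁆ = ⊥ := by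
  induction n with
  | zero =>
    rw [itcomm_zero] at h
    rw [h, commutator_bot_left]
  | succ n ih =>
    cases n with
    | zero => exact h
    | succ n => exact ih (commutator_eq_bot_of_commutator_commutator_eq_bot hL h)

/-- A component which normalizes a subgroup `H` (not necessarily subnormal) is contained
in `H` or commutes with `H`. -/
theorem component_le_or_commutator_eq_bot_of_le_normalizer {L H : Subgroup G}
    (hL : IsComponent L) (hn : L ≤ normalizer (H : Set G)) : L ≤ H ∨ ⁅L, H⁆ = ⊥ := by
  have h1 : (H.subgroupOf L).Normal := normal_subgroupOf_of_le_normalizer hn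
  rcases quasisimple_normal hL.2 _ h1 with h | h
  · exact Or.inl (subgroupOf_eq_top.mp h)
  · right
    obtain ⟨n, hn'⟩ := exists_itcomm_top_le hL.1
    have h2 : itcomm H L n ≤ H ⊓ L :=
      le_inf (itcomm_le_of_le_normalizer hn n) ((itcomm_mono le_top le_rfl n).trans hn')
    have h3 : itcomm H L (n + 1) = ⊥ := by
      rw [itcomm_succ, commutator_eq_bot_iff_le_centralizer]
      intro x hx
      have hx' := h2 hx
      rw [mem_centralizer_iff]
      intro y hy
      have hxc : (⟨x, hx'.2⟩ : L) ∈ center L := h (mem_subgroupOf.mpr hx'.1)
      have := mem_center_iff.mp hxc ⟨y, hy⟩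
      exact congrArg Subtype.val this
    rw [commutator_comm]
    exact commutator_eq_bot_of_itcomm_eq_bot hL.2.1 h3

/-- A component is contained in or commutes with each subnormal subgroup (S1261). -/
theorem component_le_or_commutator_eq_bot {L H : Subgroup G}
    (hL : IsComponent L) (hH : H.IsSubnormal) : L ≤ H ∨ ⁅L, H⁆ = ⊥ := by
  induction hH with
  | top => exact Or.inl le_top
  | step H K h_le hSubn hN ih =>
    rcases ih with h | h
    · exact component_le_or_commutator_eq_bot_of_le_normalizer hL
        (h.trans ((normal_subgroupOf_iff_le_normalizer h_le).mp hN))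
    · right
      rw [eq_bot_iff] at h ⊢
      exact (commutator_mono le_rfl h_le).trans h

/-- Distinct components commute. -/
theorem component_commutator_eq_bot_of_ne {K L : Subgroup G} (hK : IsComponent K)
    (hL : IsComponent L) (hne : K ≠ L) : ⁅K, L⁆ = ⊥ := by
  rcases component_le_or_commutator_eq_bot hK hL.1 with h | h
  · rcases component_le_or_commutator_eq_bot hL hK.1 with h' | h'
    · exact absurd (le_antisymm h h') hne
    · rwa [commutator_comm]
  · exact h

theorem component_le_centralizer_of_ne {K L : Subgroup G} (hK : IsComponent K)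
    (hL : IsComponent L) (hne : K ≠ L) : K ≤ centralizer (L : Set G) :=
  commutator_eq_bot_iff_le_centralizer.mp (component_commutator_eq_bot_of_ne hK hL hne)

theorem layer_le_normalizer_component {K : Subgroup G} (hK : IsComponent K) :
    layer G ≤ normalizer (K : Set G) := by
  rw [layer_le_iff]
  intro L hL
  by_cases h : L = K
  · rw [h]; exact le_normalizer
  · exact (component_le_centralizer_of_ne hL hK h).trans (centralizer_le_normalizer _)

theorem component_normal_in_layer {K : Subgroup G} (hK : IsComponent K) :
    (K.subgroupOf (layer G)).Normal :=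
  normal_subgroupOf_of_le_normalizer (layer_le_normalizer_component hK)

theorem component_commutator_self {K : Subgroup G} (hK : IsComponent K) : ⁅K, K⁆ = K :=
  haveI := hK.2.1
  Subgroup.commutator_eq_self (H := K)

variable (G) in
theorem layer_commutator_self : ⁅layer G, layer G⁆ = layer G := by
  apply le_antisymm (Subgroup.commutator_le_self _)
  rw [layer_le_iff]
  intro K hK
  calc K = ⁅K, K⁆ := (component_commutator_self hK).symm
    _ ≤ ⁅layer G, layer G⁆ := commutator_mono (component_le_layer hK) (component_le_layer hK)

variable (G) in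
theorem layer_isPerfect : Group.IsPerfect (layer G) :=
  Subgroup.isPerfect_iff.mpr (layer_commutator_self G)

theorem component_ne_bot {K : Subgroup G} (hK : IsComponent K) : K ≠ ⊥ := by
  rintro rfl
  have := quasisimple_nontrivial hK.2
  exact not_nontrivial _ this

/-- S1262: a component commutes with each solvable subgroup which it normalizes. -/
theorem component_commutator_solvable {L H : Subgroup G} (hL : IsComponent L)
    (hn : L ≤ normalizer (H : Set G)) (hs : Group.IsSolvable H) : ⁅L, H⁆ = ⊥ := by
  rcases component_le_or_commutator_eq_bot_of_le_normalizer hL hn with h | h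
  · exfalso
    apply quasisimple_not_isSolvable hL.2
    exact Group.isSolvable_of_isSolvable_injective (f := inclusion h) (inclusion_injective h)
  · exact h

theorem layer_commutator_solvable {H : Subgroup G} (hn : layer G ≤ normalizer (H : Set G))
    (hs : Group.IsSolvable H) : ⁅layer G, H⁆ = ⊥ := by
  rw [commutator_eq_bot_iff_le_centralizer, layer_le_iff]
  intro K hK
  rw [← commutator_eq_bot_iff_le_centralizer]
  exact component_commutator_solvable hK ((component_le_layer hK).trans hn) hs

/-- The layer commutes with every normal nilpotent subgroup, hence with the Fitting subgroup. -/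
theorem layer_le_centralizer_fitting : layer G ≤ centralizer (fittingSubgroup G : Set G) := by
  rw [← commutator_eq_bot_iff_le_centralizer, commutator_comm, commutator_eq_bot_iff_le_centralizer,
    fittingSubgroup, sSup_le_iff]
  rintro N ⟨hN, hnil⟩
  rw [← commutator_eq_bot_iff_le_centralizer, commutator_comm]
  refine layer_commutator_solvable ?_ ?_
  · rw [normalizer_eq_top_iff.mpr hN]; exact le_top
  · infer_instance

theorem layer_commutator_fitting : ⁅layer G, fittingSubgroup G⁆ = ⊥ :=
  commutator_eq_bot_iff_le_centralizer.mpr layer_le_centralizer_fitting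

end Layer

end Cfsg.Agent.SignalizersComponents.Components
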