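import Mathlib
import Cfsg.Prelude.Def_Local
import Cfsg.Agent.Lib.Cores
import Cfsg.Agent.SignalizersComponents.Components
import Cfsg.Agent.SignalizersComponents.CompBasic

/-!
# `p`-local subgroups and the action on the components
-/

set_option autoImplicit false

namespace Cfsg.Agent.SignalizersComponents.CompOrbit

open Subgroup Cfsg
open scoped Pointwise

/-- A `p`-subgroup `P` of `W` containing all `p`-elements of `N_W(P)` is a Sylow `p`-subgroup of
`W`: each `p`-element of `W` is conjugate in `W` to an element of `P`. -/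
theorem exists_conj_mem_of_normalizer {G : Type*} [Group G] [Finite G] {p : ℕ} [Fact p.Prime]
    {P W : Subgroup G} (hP : IsPGroup p P) (hPW : P ≤ W)
    (h : ∀ x ∈ W, x ∈ normalizer (P : Set G) → (∀ a ∈ P, ∃ n : ℕ, (x * a) ^ p ^ n = 1) →
      x ∈ P) {u : G}
    (hu : u ∈ W) (hpu : ∃ n : ℕ, u ^ p ^ n = 1) : ∃ w ∈ W, w * u * w⁻¹ ∈ P := by
  set P' : Subgroup W := P.subgroupOf W with hP'
  have hP'p : IsPGroup p P' := hP.comap_of_injective W.subtype W.subtype_injective
  obtain ⟨S, hS⟩ := hP'p.exists_le_sylow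
  have hSP : (S : Subgroup W) ≤ P' := by
    by_contra hcon
    have hnil : Group.IsNilpotent (S : Subgroup W) := S.isPGroup'.isNilpotent
    have hlt : P'.subgroupOf (S : Subgroup W) < ⊤ := by
      rw [lt_top_iff_ne_top, Ne, subgroupOf_eq_top]
      exact hcon
    have h1 := Group.normalizerCondition_of_isNilpotent (G := (S : Subgroup W)) _ hlt
    obtain ⟨s, hs1, hs2⟩ := SetLike.exists_of_lt h1
    apply hs2
    rw [mem_subgroupOf, hP', mem_subgroupOf]
    apply h _ (s : W).2
    · rw [mem_normalizer_iff]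
      rw [mem_normalizer_iff] at hs1
      intro x
      constructor
      · intro hx
        have hxW : x ∈ W := hPW hx
        have hxS : (⟨x, hxW⟩ : W) ∈ (S : Subgroup W) := hS (mem_subgroupOf.mpr hx)
        have := (hs1 ⟨⟨x, hxW⟩, hxS⟩).mp (mem_subgroupOf.mpr (mem_subgroupOf.mpr hx))
        exact mem_subgroupOf.mp (mem_subgroupOf.mp this)
      · intro hx
        have hxW : ((s : W) : G) * x * ((s : W) : G)⁻¹ ∈ W := hPW hx
        have hxW' : x ∈ W := by
          have := W.mul_mem (W.mul_mem (W.inv_mem (s : W).2) hxW) (s : W).2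
          simpa [mul_assoc] using this
        have hxS : (s : W) * ⟨x, hxW'⟩ * (s : W)⁻¹ ∈ (S : Subgroup W) :=
          hS (mem_subgroupOf.mpr hx)
        have hxS' : (⟨x, hxW'⟩ : W) ∈ (S : Subgroup W) := by
          have := (S : Subgroup W).mul_mem ((S : Subgroup W).mul_mem
            ((S : Subgroup W).inv_mem s.2) hxS) s.2
          simpa [mul_assoc] using this
        have := (hs1 ⟨⟨x, hxW'⟩, hxS'⟩).mpr (mem_subgroupOf.mpr (mem_subgroupOf.mpr hx))
        exact mem_subgroupOf.mp (mem_subgroupOf.mp this)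
    · intro a ha
      have haS : (⟨a, hPW ha⟩ : W) ∈ (S : Subgroup W) := hS (mem_subgroupOf.mpr ha)
      obtain ⟨n, hn⟩ := S.isPGroup' (s * ⟨_, haS⟩)
      refine ⟨n, ?_⟩
      have h2 := congrArg (fun x : (S : Subgroup W) => ((x : W) : G)) hn
      simpa using h2
  obtain ⟨n, hn⟩ := hpu
  have hZ : IsPGroup p (zpowers (⟨u, hu⟩ : W)) := by
    apply IsPGroup.of_card_dvd_pow (n := n)
    rw [Nat.card_zpowers]
    exact orderOf_dvd_of_pow_eq_one (Subtype.ext (by simpa using hn))
  obtain ⟨T, hT⟩ := hZ.exists_le_sylow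
  obtain ⟨w, hw⟩ := MulAction.exists_smul_eq W T S
  refine ⟨w, w.2, ?_⟩
  have h3 : (⟨u, hu⟩ : W) ∈ (T : Subgroup W) := hT (mem_zpowers _)
  have h4 : w * ⟨u, hu⟩ * w⁻¹ ∈ (S : Subgroup W) := by
    rw [← hw]
    exact Subgroup.smul_mem_pointwise_smul (⟨u, hu⟩ : W) (MulAut.conj w) (T : Subgroup W) h3
  exact mem_subgroupOf.mp (hSP h4)

/-- If `O_{p'}(G) = 1` then `F(G) ≤ O_p(G)`. -/
theorem fittingSubgroup_le_pCore {G : Type*} [Group G] [Finite G] {p : ℕ} [hp : Fact p.Prime]
    (hO : pPrimeCore p G = ⊥) : fittingSubgroup G ≤ pCore p G := by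
  rw [Cfsg.Agent.Lib.Cores.fittingSubgroup_eq_iSup_pCore]
  refine iSup_le fun r => ?_
  by_cases hr : (r : ℕ) = p
  · rw [hr]
  · have : Fact (r : ℕ).Prime := ⟨r.2⟩
    have h1 : pCore (r : ℕ) G ≤ pPrimeCore p G := by
      apply Cfsg.Agent.Lib.Cores.le_pPrimeCore (Cfsg.Agent.Lib.Cores.pCore_normal _)
      obtain ⟨n, hn⟩ := IsPGroup.iff_card.mp
        (Cfsg.Agent.Lib.Cores.pCore_isPGroup (G := G) (r : ℕ))
      rw [hn]
      exact Nat.Coprime.pow_left _ ((Nat.coprime_primes r.2 hp.out).mpr hr)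
    rw [hO] at h1
    exact h1.trans bot_le

/-- If `O_{p'}(G) = 1` then every abelian normal subgroup lies in `O_p(G)`. -/
theorem inf_centralizer_self_le_pCore {G : Type*} [Group G] [Finite G] {p : ℕ} [hp : Fact p.Prime]
    (hO : pPrimeCore p G = ⊥) {N : Subgroup G} (hN : N.Normal) :
    N ⊓ centralizer (N : Set G) ≤ pCore p G := by
  refine le_trans ?_ (fittingSubgroup_le_pCore hO)
  apply Cfsg.Agent.Lib.Cores.le_fittingSubgroup inferInstance
  let _ : CommGroup ↥(N ⊓ centralizer (N : Set G)) :=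
    { (inferInstance : Group ↥(N ⊓ centralizer (N : Set G))) with
      mul_comm := by
        rintro ⟨a, ha⟩ ⟨b, hb⟩
        exact Subtype.ext ((mem_centralizer_iff.mp hb.2) a ha.1) }
  exact CommGroup.isNilpotent

theorem smul_le_iff_le_comap {G : Type*} [Group G] (g : G) (A B : Subgroup G) :
    MulAut.conj g • A ≤ B ↔ A ≤ B.comap (MulAut.conj g).toMonoidHom :=
  Subgroup.map_le_iff_le_comap (f := (MulAut.conj g).toMonoidHom)

theorem smul_le_smul_iff' {G : Type*} [Group G] (g : G) (A B : Subgroup G) :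
    MulAut.conj g • A ≤ B ↔ ∀ a ∈ A, g * a * g⁻¹ ∈ B :=
  smul_le_iff_le_comap g A B

theorem isComponent_smul {G : Type*} [Group G] (g : G) {L : Subgroup G} (hL : IsComponent L) :
    IsComponent (MulAut.conj g • L) :=
  Cfsg.Agent.SignalizersComponents.Components.isComponent_conj g hL

/-- The product of the `P`-conjugates of `L`. -/
def orb {G : Type*} [Group G] (P L : Subgroup G) : Subgroup G :=
  ⨆ g : P, MulAut.conj (g : G) • L

theorem smul_le_orb {G : Type*} [Group G] {P L : Subgroup G} {g : G} (hg : g ∈ P) :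
    MulAut.conj g • L ≤ orb P L :=
  le_iSup (fun g : P => MulAut.conj (g : G) • L) ⟨g, hg⟩

theorem orb_le_iff {G : Type*} [Group G] {P L H : Subgroup G} :
    orb P L ≤ H ↔ ∀ g ∈ P, MulAut.conj g • L ≤ H := by
  constructor
  · intro h g hg
    exact (smul_le_orb hg).trans h
  · intro h
    exact iSup_le fun g => h g g.2

theorem le_orb {G : Type*} [Group G] (P L : Subgroup G) : L ≤ orb P L := by
  have := smul_le_orb (L := L) (one_mem P)
  rwa [map_one, one_smul] at this

theorem orb_le_layer {G : Type*} [Group G] {P L : Subgroup G} (hL : IsComponent L) :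
    orb P L ≤ layer G :=
  orb_le_iff.mpr fun g _ => le_sSup (isComponent_smul g hL)

theorem smul_orb_le {G : Type*} [Group G] {P L : Subgroup G} {g : G} (hg : g ∈ P) :
    MulAut.conj g • orb P L ≤ orb P L := by
  rw [smul_le_iff_le_comap, orb_le_iff]
  intro h hh
  rw [← smul_le_iff_le_comap, smul_smul, ← map_mul]
  exact smul_le_orb (P.mul_mem hg hh)

theorem le_normalizer_orb {G : Type*} [Group G] (P L : Subgroup G) :
    P ≤ normalizer (orb P L : Set G) := by
  rw [le_normalizer_iff]
  intro h hh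
  exact (smul_le_smul_iff' h _ _).mp (smul_orb_le hh)

theorem smul_orb_of_centralizer {G : Type*} [Group G] {P L : Subgroup G} {c : G}
    (hc : c ∈ centralizer (P : Set G)) : MulAut.conj c • orb P L ≤ orb P (MulAut.conj c • L) := by
  rw [smul_le_iff_le_comap, orb_le_iff]
  intro h hh
  rw [← smul_le_iff_le_comap, smul_smul, ← map_mul,
    ← (mem_centralizer_iff.mp hc) h hh, map_mul, mul_smul]
  exact smul_le_orb hh

/-- Products of disjoint `P`-orbits of components commute. -/
theorem orb_le_centralizer_orb {G : Type*} [Group G] {P L L' : Subgroup G} (hL : IsComponent L)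
    (hL' : IsComponent L') (h : ∀ g ∈ P, L' ≠ MulAut.conj g • L) :
    orb P L' ≤ centralizer (orb P L : Set G) := by
  rw [orb_le_iff]
  intro g hg
  rw [le_centralizer_iff, orb_le_iff]
  intro k hk
  apply Cfsg.Agent.SignalizersComponents.Components.component_le_centralizer_of_ne
    (isComponent_smul k hL) (isComponent_smul g hL')
  intro heq
  apply h (g⁻¹ * k) (P.mul_mem (P.inv_mem hg) hk)
  rw [map_mul, mul_smul, heq, map_inv, inv_smul_smul]

/-- If `O_{p'}(G) = 1` and `O_p(G) ≤ P`, the centre of the product of a `P`-orbit of components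
lies in `P`. -/
theorem orb_inf_centralizer_le {G : Type*} [Group G] [Finite G] {p : ℕ} [Fact p.Prime]
    (hO : pPrimeCore p G = ⊥) {P L : Subgroup G} (hQ : pCore p G ≤ P) (hL : IsComponent L) :
    orb P L ⊓ centralizer (orb P L : Set G) ≤ P := by
  refine le_trans ?_ hQ
  refine le_trans ?_ (inf_centralizer_self_le_pCore hO
    (Cfsg.Agent.SignalizersComponents.Components.layer_normal G))
  refine le_inf (inf_le_left.trans (orb_le_layer hL)) ?_
  rw [le_centralizer_iff, Cfsg.Agent.SignalizersComponents.Components.layer_le_iff]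
  intro K hK
  by_cases hex : ∃ g ∈ P, K = MulAut.conj g • L
  · obtain ⟨g, hg, rfl⟩ := hex
    rw [le_centralizer_iff]
    exact inf_le_right.trans (centralizer_le (smul_le_orb hg))
  · push Not at hex
    exact ((le_orb P K).trans (orb_le_centralizer_orb hL hK hex)).trans
      (centralizer_le inf_le_left)

/-- Key step: let `O_{p'}(G) = 1`, `O_p(G) ≤ P` a `p`-subgroup, and let `c` centralize `P` and
commute with `E(G) ∩ N_G(P)` modulo a subgroup `Y` of order prime to `p`. Then `c` leaves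
invariant each `P`-orbit of components. -/
theorem exists_smul_eq_of_commutator {G : Type*} [Group G] [Finite G] {p : ℕ} [hp : Fact p.Prime]
    (hO : pPrimeCore p G = ⊥) {P Y L : Subgroup G} (hP : IsPGroup p P) (hQ : pCore p G ≤ P)
    (hY : (Nat.card Y).Coprime p) (hL : IsComponent L) {c : G}
    (hcP : c ∈ centralizer (P : Set G))
    (hc : ∀ z ∈ layer G ⊓ normalizer (P : Set G), z⁻¹ * (c * z * c⁻¹) ∈ Y) :
    ∃ g ∈ P, MulAut.conj c • L = MulAut.conj g • L := by
  by_contra hcon
  push Not at hcon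
  set U := orb P L with hU
  have hcomm : orb P (MulAut.conj c • L) ≤ centralizer (U : Set G) :=
    orb_le_centralizer_orb hL (isComponent_smul c hL) hcon
  -- claim 1
  have h1 : ∀ z ∈ U, z ∈ normalizer (P : Set G) → (∃ n : ℕ, z ^ p ^ n = 1) →
      z ∈ centralizer (U : Set G) := by
    rintro z hzU hzN ⟨n, hn⟩
    have h2 : c * z * c⁻¹ ∈ orb P (MulAut.conj c • L) :=
      (smul_le_smul_iff' c _ _).mp (smul_orb_of_centralizer hcP) z hzU
    have h3 := hcomm h2
    have h4 : Commute z (c * z * c⁻¹) := (mem_centralizer_iff.mp h3) z hzU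
    have h5 : z⁻¹ * (c * z * c⁻¹) ∈ Y := hc z ⟨orb_le_layer hL hzU, hzN⟩
    have h6 : (z⁻¹ * (c * z * c⁻¹)) ^ p ^ n = 1 := by
      rw [(h4.inv_left).mul_pow, inv_pow, hn, inv_one, one_mul, conj_pow, hn, mul_one,
        mul_inv_cancel]
    have h7 : orderOf (z⁻¹ * (c * z * c⁻¹)) ∣ Nat.card Y := by
      have := orderOf_dvd_natCard (⟨_, h5⟩ : Y)
      rwa [Subgroup.orderOf_mk] at this
    have h8 : orderOf (z⁻¹ * (c * z * c⁻¹)) = 1 := by
      have h9 : (orderOf (z⁻¹ * (c * z * c⁻¹))).Coprime (p ^ n) :=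
        Nat.Coprime.pow_right n (Nat.Coprime.coprime_dvd_left h7 hY)
      exact Nat.eq_one_of_dvd_coprimes h9 dvd_rfl (orderOf_dvd_of_pow_eq_one h6)
    rw [orderOf_eq_one_iff, inv_mul_eq_one] at h8
    rw [h8]
    exact h3
  have hPU : P ≤ normalizer (U : Set G) := le_normalizer_orb P L
  have hZ : U ⊓ centralizer (U : Set G) ≤ P := orb_inf_centralizer_le hO hQ hL
  have h2 : ∀ x ∈ U ⊔ P, x ∈ normalizer (P : Set G) →
      (∀ a ∈ P, ∃ n : ℕ, (x * a) ^ p ^ n = 1) → x ∈ P := by
    intro x hx hxN hxp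
    rw [← SetLike.mem_coe, Subgroup.coe_mul_of_right_le_normalizer_left U P hPU] at hx
    obtain ⟨u, hu, a, ha, rfl⟩ := hx
    have hu2 : u ∈ normalizer (P : Set G) := by
      have := mul_mem hxN (inv_mem (le_normalizer ha))
      simpa using this
    have hu3 : ∃ n : ℕ, u ^ p ^ n = 1 := by
      obtain ⟨n, hn⟩ := hxp a⁻¹ (P.inv_mem ha)
      exact ⟨n, by simpa using hn⟩
    exact P.mul_mem (hZ ⟨hu, h1 u hu hu2 hu3⟩) ha
  -- every `p`-element of `U` centralizes `U`
  have h3 : ∀ u ∈ U, (∃ n : ℕ, u ^ p ^ n = 1) → u ∈ centralizer (U : Set G) := by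
    intro u hu hup
    obtain ⟨w, hw, hwu⟩ := exists_conj_mem_of_normalizer (W := U ⊔ P) hP le_sup_right h2
      (le_sup_left (a := U) (b := P) hu) hup
    have hwN : w ∈ normalizer (U : Set G) := sup_le le_normalizer hPU hw
    have h4 : w * u * w⁻¹ ∈ U := (mem_normalizer_iff.mp hwN u).mp hu
    have h5 : w * u * w⁻¹ ∈ centralizer (U : Set G) := by
      apply h1 _ h4 (le_normalizer hwu)
      obtain ⟨n, hn⟩ := hup
      exact ⟨n, by rw [conj_pow, hn, mul_one, mul_inv_cancel]⟩
    rw [mem_centralizer_iff] at h5 ⊢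
    intro y hy
    have h6 := h5 (w * y * w⁻¹) ((mem_normalizer_iff.mp hwN y).mp hy)
    have h7 : w * (y * u) * w⁻¹ = w * (u * y) * w⁻¹ := by
      calc w * (y * u) * w⁻¹ = w * y * w⁻¹ * (w * u * w⁻¹) := by group
        _ = w * u * w⁻¹ * (w * y * w⁻¹) := h6
        _ = w * (u * y) * w⁻¹ := by group
    exact mul_left_cancel (mul_right_cancel h7)
  -- hence `L` has order prime to `p`
  have h4 : (Nat.card L).Coprime p := by
    rw [Nat.coprime_comm, Nat.Prime.coprime_iff_not_dvd hp.out]
    intro hdvd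
    obtain ⟨T⟩ : Nonempty (Sylow p L) := inferInstance
    apply CompBasic.sylow_not_le_center_of_perfect hL.2.1 p hdvd T
    intro t ht
    rw [mem_center_iff]
    intro l
    apply Subtype.ext
    have h5 : ∃ n : ℕ, (t : G) ^ p ^ n = 1 := by
      obtain ⟨n, hn⟩ := T.isPGroup' ⟨t, ht⟩
      refine ⟨n, ?_⟩
      have h6 := congrArg (fun x : (T : Subgroup L) => ((x : L) : G)) hn
      simpa using h6
    exact (mem_centralizer_iff.mp (h3 t (le_orb P L t.2) h5)) l (le_orb P L l.2)
  have h5 := CompBasic.subnormal_coprime_le_pPrimeCore hL.1 h4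
  rw [hO, le_bot_iff] at h5
  exact Cfsg.Agent.SignalizersComponents.Components.component_ne_bot hL h5

theorem mem_normalizer_iff_smul_eq {G : Type*} [Group G] {L : Subgroup G} {g : G} :
    g ∈ normalizer (L : Set G) ↔ MulAut.conj g • L = L :=
  mem_normalizer_iff_map_conj_eq

/-- Let `K` centralize the `p`-group `P`, `K = [K, K] Y` with `Y` of order prime to `p`, and let
each element of `K` move the subgroup `L` to a `P`-conjugate of `L`. Then `K` normalizes `L`. -/
theorem le_normalizer_of_forall_exists {G : Type*} [Group G] [Finite G] {p : ℕ}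
    [hp : Fact p.Prime] {P Y K L : Subgroup G} (hP : IsPGroup p P)
    (hY : (Nat.card Y).Coprime p) (hKP : K ≤ centralizer (P : Set G)) (hKY : K = ⁅K, K⁆ ⊔ Y)
    (h : ∀ k ∈ K, ∃ g ∈ P, MulAut.conj k • L = MulAut.conj g • L) :
    K ≤ normalizer (L : Set G) := by
  have hYK : Y ≤ K := hKY ▸ le_sup_right
  have hcomm : ∀ k ∈ K, ∀ g ∈ P, k * g = g * k := fun k hk g hg =>
    ((mem_centralizer_iff.mp (hKP hk)) g hg).symm
  set R : Subgroup K := (normalizer (L : Set G)).subgroupOf K with hR
  have hRn : R.Normal := by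
    refine ⟨?_⟩
    rintro ⟨r, hr⟩ hrR ⟨k, hk⟩
    rw [hR, mem_subgroupOf] at hrR ⊢
    rw [mem_normalizer_iff_smul_eq] at hrR ⊢
    obtain ⟨g, hg, hgk⟩ := h k⁻¹ (K.inv_mem hk)
    change MulAut.conj (k * r * k⁻¹) • L = L
    rw [map_mul, map_mul, mul_smul, mul_smul, hgk, smul_smul (MulAut.conj r), ← map_mul,
      hcomm r hr g hg, map_mul, mul_smul]
    have h1 : MulAut.conj r • L = L := hrR
    rw [h1, ← hgk, smul_smul, ← map_mul, mul_inv_cancel, map_one, one_smul]
  have hpow : ∀ k ∈ K, ∃ n : ℕ, k ^ p ^ n ∈ normalizer (L : Set G) := by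
    intro k hk
    obtain ⟨g, hg, hgk⟩ := h k hk
    have h1 : ∀ n : ℕ, MulAut.conj (k ^ n) • L = MulAut.conj (g ^ n) • L := by
      intro n
      induction n with
      | zero => simp
      | succ n ih =>
        rw [pow_succ k, map_mul, mul_smul, hgk, smul_smul, ← map_mul,
          hcomm (k ^ n) (K.pow_mem hk n) g hg, map_mul, mul_smul, ih, smul_smul, ← map_mul,
          ← pow_succ']
    obtain ⟨n, hn⟩ := hP ⟨g, hg⟩
    refine ⟨n, ?_⟩
    have h2 : g ^ p ^ n = 1 := congrArg Subtype.val hn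
    rw [mem_normalizer_iff_smul_eq, h1, h2, map_one, one_smul]
  have hYR : Y ≤ normalizer (L : Set G) := by
    intro y hy
    obtain ⟨n, hn⟩ := hpow y (hYK hy)
    have h1 : (p ^ n).Coprime (orderOf y) := by
      apply Nat.Coprime.pow_left
      have := orderOf_dvd_natCard (⟨y, hy⟩ : Y)
      rw [Subgroup.orderOf_mk] at this
      exact (Nat.Coprime.coprime_dvd_left this hY).symm
    obtain ⟨m, hm⟩ := exists_pow_eq_self_of_coprime h1
    rw [← hm]
    exact pow_mem hn m
  have hpg : IsPGroup p (K ⧸ R) := by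
    intro x
    induction x using QuotientGroup.induction_on with | _ x =>
    obtain ⟨n, hn⟩ := hpow x x.2
    refine ⟨n, ?_⟩
    rw [← QuotientGroup.mk_pow, QuotientGroup.eq_one_iff, hR, mem_subgroupOf]
    exact hn
  have hperf : Group.IsPerfect (K ⧸ R) := by
    have h1 : (Y.subgroupOf K).map (QuotientGroup.mk' R) = ⊥ := by
      rw [Subgroup.map_eq_bot_iff, QuotientGroup.ker_mk']
      exact Subgroup.comap_mono hYR
    have h2 : (⁅K, K⁆).subgroupOf K = commutator K := by
      apply Subgroup.map_subtype_inj.mp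
      rw [map_subtype_commutator, map_subgroupOf_eq_of_le (Subgroup.commutator_le_self K)]
    have h3 : commutator K ⊔ Y.subgroupOf K = ⊤ := by
      apply Subgroup.map_subtype_inj.mp
      rw [Subgroup.map_sup, map_subtype_commutator, map_subgroupOf_eq_of_le hYK, ← hKY,
        ← MonoidHom.range_eq_map, range_subtype]
    have h4 := congrArg (Subgroup.map (QuotientGroup.mk' R)) h3
    rw [Subgroup.map_sup, h1, sup_bot_eq, map_top_of_surjective _ (QuotientGroup.mk'_surjective R),
      commutator_def, map_commutator,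
      map_top_of_surjective _ (QuotientGroup.mk'_surjective R)] at h4
    exact ⟨h4⟩
  have hnil : Group.IsNilpotent (K ⧸ R) := hpg.isNilpotent
  have hsub : Subsingleton (K ⧸ R) := by
    by_contra hne
    rw [not_subsingleton_iff_nontrivial] at hne
    exact Group.IsPerfect.not_isNilpotent _ hnil
  have hRt : R = ⊤ := by
    rw [← QuotientGroup.subsingleton_iff]
    exact hsub
  exact subgroupOf_eq_top.mp hRt

/-- The normalizer of a subgroup normalizes each characteristic subgroup of it. -/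
theorem normalizer_le_normalizer_map_of_characteristic {G : Type*} [Group G] {H : Subgroup G}
    {K : Subgroup H} (hK : K.Characteristic) :
    normalizer (H : Set G) ≤ normalizer (K.map H.subtype : Set G) := by
  rw [le_normalizer_iff]
  rintro g hg _ ⟨x, hx, rfl⟩
  have h1 := hK.fixed (MulDistribMulAction.toMulAut (normalizer (H : Set G)) H ⟨g, hg⟩)
  have h2 : x ∈ K.comap
      (MulDistribMulAction.toMulAut (normalizer (H : Set G)) H ⟨g, hg⟩).toMonoidHom := by
    rw [h1]; exact hx
  exact ⟨_, h2, rfl⟩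

/-- A subgroup `A` with `A ≤ [A, A] Y` and `[[A, B], A] ≤ Y` satisfies `[A, B] ≤ Y`, for `Y`
normalized by `A` and `B`. -/
theorem commutator_le_of_perfect_mod {G : Type*} [Group G] {A B Y : Subgroup G}
    (hA : A ≤ normalizer (Y : Set G)) (hB : B ≤ normalizer (Y : Set G)) (hAY : A ≤ ⁅A, A⁆ ⊔ Y)
    (h : ⁅⁅A, B⁆, A⁆ ≤ Y) : ⁅A, B⁆ ≤ Y := by
  set N := normalizer (Y : Set G) with hN
  have hYN : Y ≤ N := le_normalizer
  have hYn : (Y.subgroupOf N).Normal := normal_in_normalizer
  set f := QuotientGroup.mk' (Y.subgroupOf N) with hf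
  have hker : ∀ H : Subgroup N, H.map f = ⊥ ↔ H.map N.subtype ≤ Y := by
    intro H
    rw [Subgroup.map_eq_bot_iff, hf, QuotientGroup.ker_mk', Subgroup.map_le_iff_le_comap]
    rfl
  have hA' : (A.subgroupOf N).map N.subtype = A := map_subgroupOf_eq_of_le hA
  have hB' : (B.subgroupOf N).map N.subtype = B := map_subgroupOf_eq_of_le hB
  have h1 : ⁅⁅(A.subgroupOf N).map f, (B.subgroupOf N).map f⁆, (A.subgroupOf N).map f⁆ = ⊥ := by
    rw [← map_commutator, ← map_commutator, hker, map_commutator, map_commutator, hA', hB']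
    exact h
  have h2 : ⁅(A.subgroupOf N).map f, (A.subgroupOf N).map f⁆ = (A.subgroupOf N).map f := by
    apply le_antisymm (Subgroup.commutator_le_self _)
    rw [← map_commutator]
    have h3 : A.subgroupOf N ≤ ⁅A.subgroupOf N, A.subgroupOf N⁆ ⊔ Y.subgroupOf N := by
      rw [← Subgroup.map_subtype_le_map_subtype, Subgroup.map_sup, map_commutator, hA',
        map_subgroupOf_eq_of_le hYN]
      exact hAY
    refine (Subgroup.map_mono h3).trans ?_
    rw [Subgroup.map_sup]
    have h4 : (Y.subgroupOf N).map f = ⊥ := by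
      rw [hker, map_subgroupOf_eq_of_le hYN]
    rw [h4, sup_bot_eq]
  have h5 : ⁅⁅(B.subgroupOf N).map f, (A.subgroupOf N).map f⁆, (A.subgroupOf N).map f⁆ = ⊥ := by
    rwa [commutator_comm ((B.subgroupOf N).map f)]
  have h6 := commutator_commutator_eq_bot_of_rotate h1 h5
  rw [h2, ← map_commutator, hker, map_commutator, hA', hB'] at h6
  exact h6

end Cfsg.Agent.SignalizersComponents.CompOrbit
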