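import Cfsg.Agent.Lib.PComponents
import Cfsg.Agent.SignalizersComponents.Components

set_option autoImplicit false

/-!
Central quotients of quasisimple groups are quasisimple; a component whose order is divisible by
`p` is a `p`-component.
-/

namespace Cfsg.Agent.SignalizersComponents.EvenComponent

open Subgroup Cfsg Cfsg.Agent.SignalizersComponents.Components

/-- If `A` is perfect, `f : A → B` has central kernel and `f a` is central in `B = f(A)`,
then `a` is central. -/
theorem mem_center_of_map_mem_center {A B : Type*} [Group A] [Group B] (f : A →* B)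
    (hA : Group.IsPerfect A) (hk : f.ker ≤ center A) {a : A}
    (ha : ∀ x, f (a * x) = f (x * a)) : a ∈ center A := by
  have h1 : ⁅(⊤ : Subgroup A), Subgroup.zpowers a⁆ ≤ center A := by
    refine le_trans ?_ hk
    have : Subgroup.zpowers (f a) ≤ centralizer (Set.range f) := by
      rw [Subgroup.zpowers_le, mem_centralizer_iff]
      rintro _ ⟨x, rfl⟩
      rw [← map_mul, ← map_mul]; exact (ha x).symm
    rw [← Subgroup.map_eq_bot_iff, Subgroup.map_commutator, commutator_eq_bot_iff_le_centralizer]
    rintro _ ⟨x, _, rfl⟩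
    rw [mem_centralizer_iff]
    rintro _ ⟨y, hy, rfl⟩
    obtain ⟨n, rfl⟩ := hy
    have h2 : f a ^ n ∈ centralizer (Set.range f) := this ⟨n, rfl⟩
    have h3 := mem_centralizer_iff.mp h2 (f x) ⟨x, rfl⟩
    show f (a ^ n) * f x = f x * f (a ^ n)
    rw [map_zpow]; exact h3.symm
  have h2 : ⁅⁅Subgroup.zpowers a, (⊤ : Subgroup A)⁆, (⊤ : Subgroup A)⁆ = ⊥ := by
    rw [commutator_comm (Subgroup.zpowers a), commutator_eq_bot_iff_le_centralizer]
    intro x hx
    rw [mem_centralizer_iff]
    intro y _
    exact mem_center_iff.mp (h1 hx) y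
  have h3 : ⁅Subgroup.zpowers a, (⊤ : Subgroup A)⁆ = ⊥ :=
    commutator_eq_bot_of_commutator_commutator_eq_bot
      (Subgroup.isPerfect_iff.mpr (by
        have := hA.commutator_eq_top
        rwa [_root_.commutator_def] at this)) h2
  rw [commutator_eq_bot_iff_le_centralizer, Subgroup.zpowers_le] at h3
  rw [mem_center_iff]
  intro g
  exact mem_centralizer_iff.mp h3 g (mem_top g)

/-- A quotient of a quasisimple group by a central subgroup is quasisimple. -/
theorem isQuasisimple_of_surjective {A B : Type*} [Group A] [Group B] (f : A →* B)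
    (hf : Function.Surjective f) (hA : IsQuasisimple A) (hk : f.ker ≤ center A) :
    IsQuasisimple B := by
  have hAp := hA.1
  have hAs := hA.2
  have hBp : Group.IsPerfect B := Group.IsPerfect.ofSurjective (f := f) hf
  refine ⟨hBp, ?_⟩
  have hc : center A ≤ (center B).comap f := by
    intro x hx
    rw [mem_comap, mem_center_iff]
    intro g
    obtain ⟨g, rfl⟩ := hf g
    rw [← map_mul, ← map_mul, mem_center_iff.mp hx g]
  have hc' : (center B).comap f ≤ center A := by
    intro x hx
    apply mem_center_of_map_mem_center f hA.1 hk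
    intro y
    have := mem_center_iff.mp (mem_comap.mp hx) (f y)
    rw [map_mul, map_mul, this]
  have hnt : Nontrivial (B ⧸ center B) := by
    by_contra hn
    rw [not_nontrivial_iff_subsingleton, QuotientGroup.subsingleton_iff] at hn
    apply quasisimple_center_ne_top hA
    rw [eq_top_iff]
    refine le_trans ?_ hc'
    rw [hn, comap_top]
  have hsurj : Function.Surjective (QuotientGroup.map (center A) (center B) f hc) := by
    intro q
    obtain ⟨b, rfl⟩ := QuotientGroup.mk'_surjective _ q
    obtain ⟨a, rfl⟩ := hf b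
    exact ⟨QuotientGroup.mk' _ a, rfl⟩
  exact IsSimpleGroup.isSimpleGroup_of_surjective _ hsurj

/-- A component whose order is divisible by `p` is a `p`-component. -/
theorem isPComponent_of_isComponent {X : Type*} [Group X] [Finite X] {p : ℕ}
    [hp : Fact p.Prime] {K : Subgroup X} (hK : IsComponent K) (hdvd : p ∣ Nat.card K) :
    IsPComponent p K := by
  set π := QuotientGroup.mk' (pPrimeCore p X) with hπ
  have hcore : K ⊓ pPrimeCore p X ≤ (center K).map K.subtype := by
    have hn : ((pPrimeCore p X).subgroupOf K).Normal := inferInstance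
    rcases quasisimple_normal hK.2 _ hn with h | h
    · exfalso
      have h1 : K ≤ pPrimeCore p X := subgroupOf_eq_top.mp h
      have h2 : (Nat.card (pPrimeCore p X)).Coprime p := Lib.Cores.pPrimeCore_coprime p
      have h3 : p ∣ Nat.card (pPrimeCore p X) := hdvd.trans (Subgroup.card_dvd_of_le h1)
      exact (Nat.Prime.coprime_iff_not_dvd hp.out).mp h2.symm h3
    · rintro x ⟨hx1, hx2⟩
      exact ⟨⟨x, hx1⟩, h hx2, rfl⟩
  have hquas : IsQuasisimple (K.map π) := by
    refine isQuasisimple_of_surjective (π.subgroupMap K) (π.subgroupMap_surjective K) hK.2 ?_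
    intro x hx
    have h1 : (x : X) ∈ pPrimeCore p X := by
      have h2 : π x = 1 := congrArg Subtype.val (MonoidHom.mem_ker.mp hx)
      rwa [← MonoidHom.mem_ker, hπ, QuotientGroup.ker_mk'] at h2
    obtain ⟨y, hy, hyx⟩ := hcore ⟨x.2, h1⟩
    have : y = x := Subtype.ext hyx
    rw [← this]; exact hy
  refine ⟨hK.1, ⟨hK.1.map (QuotientGroup.mk'_surjective _), hquas⟩, ?_⟩
  intro H hH hle hmap
  have h1 : (H.subgroupOf K).IsSubnormal := hH.subgroupOf
  rcases quasisimple_subnormal hK.2 h1 with h | h
  · exact le_antisymm hle (subgroupOf_eq_top.mp h)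
  · exfalso
    apply quasisimple_center_ne_top hquas
    rw [eq_top_iff]
    rintro ⟨x', hx'⟩ _
    rw [mem_center_iff]
    rintro ⟨g, hg⟩
    apply Subtype.ext
    have hx0 : x' ∈ H.map π := by rw [hmap]; exact hx'
    obtain ⟨x, hx, rfl⟩ := hx0
    obtain ⟨g, hg', rfl⟩ := hg
    have h3 := mem_center_iff.mp (h (show (⟨x, hle hx⟩ : K) ∈ H.subgroupOf K from hx)) ⟨g, hg'⟩
    have h4 : g * x = x * g := congrArg Subtype.val h3
    show π g * π x = π x * π g
    rw [← map_mul, ← map_mul, h4]

end Cfsg.Agent.SignalizersComponents.EvenComponent
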