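import Mathlib
import Cfsg.Prelude.Def_Local
import Cfsg.Agent.Lib.Cores
import Cfsg.Agent.SignalizersComponents.CompBasic
import Cfsg.Agent.SignalizersComponents.Components

/-!
# Uniqueness of `p`-components and their normalizers

* `relIndex_dvd_index_of_subnormal`: `|H : H ∩ P|` divides `|G : P|` for `H` subnormal;
* `pcomp_unique`: two `p`-components with the same image modulo `O_{p'}(X)` are equal;
* `mem_normalizer_of_mk_centralizes`: an element centralizing `K` modulo `O_{p'}(X)` normalizes `K`;
* `pLayer_le_normalizer`, `pPrimeCore_le_normalizer`;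
* `mem_normalizer_of_centralizes`: an element centralizing a subgroup `T` with `|K : K ∩ T|` prime
  to `p` normalizes `K`.
-/

set_option autoImplicit false
open Cfsg

namespace Cfsg.Agent.SignalizersComponents.PCompCore

open Subgroup

/-- `|N : N ∩ P|` divides `|G : P|` for `N` normal. -/
theorem relIndex_dvd_index_of_normal_right {G : Type*} [Group G] [Finite G] (P N : Subgroup G)
    [N.Normal] : P.relIndex N ∣ P.index := by
  have h1 : Nat.card P * P.relIndex (P ⊔ N) = Nat.card (P ⊔ N : Subgroup G) := by
    rw [← relIndex_bot_left P, relIndex_mul_relIndex ⊥ P (P ⊔ N) bot_le le_sup_left,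
      relIndex_bot_left]
  have h2 : Nat.card N * N.relIndex P = Nat.card (P ⊔ N : Subgroup G) := by
    rw [← relIndex_sup_right P N, ← relIndex_bot_left N,
      relIndex_mul_relIndex ⊥ N (P ⊔ N) bot_le le_sup_right, relIndex_bot_left]
  have h3 : Nat.card (P ⊓ N : Subgroup G) * N.relIndex P = Nat.card P := by
    rw [← inf_relIndex_left P N, ← relIndex_bot_left (P ⊓ N),
      relIndex_mul_relIndex ⊥ _ _ bot_le inf_le_left, relIndex_bot_left]
  have h4 : Nat.card (P ⊓ N : Subgroup G) * P.relIndex N = Nat.card N := by
    rw [← inf_relIndex_right P N, ← relIndex_bot_left (P ⊓ N),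
      relIndex_mul_relIndex ⊥ _ _ bot_le inf_le_right, relIndex_bot_left]
  have h5 : P.relIndex (P ⊔ N) = P.relIndex N := by
    have hpos : 0 < Nat.card P := Nat.card_pos
    have h6 : Nat.card P * P.relIndex (P ⊔ N) = Nat.card P * P.relIndex N := by
      rw [h1, ← h2, ← h4, ← h3]
      ring
    exact Nat.eq_of_mul_eq_mul_left hpos h6
  rw [← h5]
  exact relIndex_dvd_index_of_le le_sup_left

/-- `|H : H ∩ P|` divides `|G : P|` for `H` subnormal. -/
theorem relIndex_dvd_index_of_subnormal {G : Type*} [Group G] [Finite G] (P : Subgroup G)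
    {H : Subgroup G} (hH : H.IsSubnormal) : P.relIndex H ∣ P.index := by
  induction hH with
  | top => rw [relIndex_top_right]
  | step H K h_le hSubn hN ih =>
    refine dvd_trans ?_ ih
    have h := relIndex_dvd_index_of_normal_right (P.subgroupOf K) (H.subgroupOf K)
    rwa [relIndex_subgroupOf h_le] at h

/-- `|H : H ∩ P|` divides `|M : P ∩ M|` for `H` subnormal in `G` and `H ≤ M`. -/
theorem relIndex_dvd_relIndex_of_subnormal {G : Type*} [Group G] [Finite G] (P : Subgroup G)
    {H M : Subgroup G} (hH : H.IsSubnormal) (hHM : H ≤ M) : P.relIndex H ∣ P.relIndex M := by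
  have h := relIndex_dvd_index_of_subnormal (P.subgroupOf M) (hH.subgroupOf (K := M))
  rwa [relIndex_subgroupOf hHM] at h

/-- Conjugates of `p`-components are `p`-components. -/
theorem isPComponent_conj {X : Type*} [Group X] {p : ℕ} {K : Subgroup X} (hK : IsPComponent p K)
    (g : X) : IsPComponent p (K.map (MulAut.conj g).toMonoidHom) := by
  obtain ⟨h1, h2, h3⟩ := hK
  have key : ∀ (g : X) (H : Subgroup X),
      (H.map (MulAut.conj g).toMonoidHom).map (QuotientGroup.mk' (pPrimeCore p X)) =
      (H.map (QuotientGroup.mk' (pPrimeCore p X))).map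
        (MulAut.conj (QuotientGroup.mk' (pPrimeCore p X) g)).toMonoidHom := by
    intro g H
    rw [Subgroup.map_map, Subgroup.map_map]
    congr 1
  have hinv : ∀ (g : X) (H : Subgroup X),
      (H.map (MulAut.conj g).toMonoidHom).map (MulAut.conj g⁻¹).toMonoidHom = H := by
    intro g H
    rw [Subgroup.map_map]
    convert Subgroup.map_id H
    ext x
    simp [mul_assoc]
  refine ⟨h1.map (MulAut.conj g).surjective, ?_, ?_⟩
  · rw [key]
    exact Cfsg.Agent.SignalizersComponents.Components.isComponent_conj _ h2
  · intro H hH hle heq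
    have h4 : H.map (MulAut.conj g⁻¹).toMonoidHom ≤ K := by
      have := Subgroup.map_mono (f := (MulAut.conj g⁻¹).toMonoidHom) hle
      rwa [hinv] at this
    have h5 := h3 _ (hH.map (MulAut.conj g⁻¹).surjective) h4 (by
      rw [key, heq, ← key, hinv])
    rw [← h5]
    have := hinv g⁻¹ H
    rw [inv_inv] at this
    exact this.symm

/-- A component of a finite group with trivial `p'`-core has order divisible by `p`. -/
theorem dvd_card_component {G : Type*} [Group G] [Finite G] {p : ℕ} [hp : Fact p.Prime]
    (h : pPrimeCore p G = ⊥) {K : Subgroup G} (hK : IsComponent K) : p ∣ Nat.card K := by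
  by_contra hnd
  have h1 := Cfsg.Agent.SignalizersComponents.CompBasic.subnormal_coprime_le_pPrimeCore hK.1
    ((Nat.Prime.coprime_iff_not_dvd hp.out).mpr hnd).symm
  rw [h, le_bot_iff] at h1
  exact Cfsg.Agent.SignalizersComponents.Components.component_ne_bot hK h1

/-- In a component of a finite group with trivial `p'`-core, the centralizer of the component has
index divisible by `p`: no subgroup `T` with `|K : K ∩ T|` prime to `p` centralizes `K`. -/
theorem not_le_centralizer_of_component {G : Type*} [Group G] [Finite G] {p : ℕ}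
    [hp : Fact p.Prime] (h : pPrimeCore p G = ⊥) {K : Subgroup G} (hK : IsComponent K)
    (T : Subgroup G) (hT : ¬ p ∣ T.relIndex K) : ¬ T ⊓ K ≤ centralizer (K : Set G) := by
  intro hc
  have h1 : T.subgroupOf K ≤ center K := by
    intro x hx
    rw [mem_center_iff]
    intro y
    have hx2 : (x : G) ∈ T ⊓ K := ⟨hx, x.2⟩
    have h2 := (mem_centralizer_iff.mp (hc hx2)) (y : G) y.2
    exact Subtype.ext h2
  have h2 : ¬ p ∣ (center K).index := fun h3 => hT (h3.trans (Subgroup.index_dvd_of_le h1))
  obtain ⟨S⟩ := (inferInstance : Nonempty (Sylow p K))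
  refine Cfsg.Agent.SignalizersComponents.CompBasic.sylow_not_le_center_of_perfect hK.2.1 p
    (dvd_card_component h hK) S ?_
  -- a Sylow subgroup lies in a normal subgroup of index prime to `p`
  have h4 : (center K).relIndex (S : Subgroup K) ∣ (center K).index :=
    relIndex_dvd_index_of_normal _ _
  rw [← relIndex_eq_one]
  obtain ⟨n, hn⟩ := IsPGroup.iff_card.mp S.isPGroup'
  have h5 : (center K).relIndex (S : Subgroup K) ∣ p ^ n := by
    rw [← hn]
    exact relIndex_dvd_card _ _
  have h6 : Nat.Coprime (p ^ n) (center K).index :=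
    Nat.Coprime.pow_left n ((Nat.Prime.coprime_iff_not_dvd hp.out).mpr h2)
  exact Nat.eq_one_of_dvd_coprimes h6 h5 h4

section

variable {X : Type*} [Group X] [Finite X] {p : ℕ} [hp : Fact p.Prime]

/-- No subgroup `T` with `|K : K ∩ T|` prime to `p` centralizes the `p`-component `K` modulo
`O_{p'}(X)`. -/
theorem not_map_le_centralizer {K : Subgroup X} (hK : IsPComponent p K) (T : Subgroup X)
    (hT : ¬ p ∣ T.relIndex K) :
    ¬ (T ⊓ K).map (QuotientGroup.mk' (pPrimeCore p X)) ≤
      centralizer ((K.map (QuotientGroup.mk' (pPrimeCore p X)) : Subgroup _) :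
        Set (X ⧸ pPrimeCore p X)) := by
  intro hc
  refine not_le_centralizer_of_component
    (Cfsg.Agent.Lib.Cores.pPrimeCore_quotient_pPrimeCore (G := X) p) hK.2.1
    ((T ⊓ K).map (QuotientGroup.mk' (pPrimeCore p X))) ?_ (inf_le_left.trans hc)
  intro h1
  apply hT
  refine h1.trans ?_
  rw [← relIndex_comap, ← inf_relIndex_right T K]
  exact relIndex_dvd_of_le_left _ (le_comap_map _ _)

/-- **Uniqueness of `p`-components**: two `p`-components with the same image modulo `O_{p'}(X)`
are equal. -/
theorem pcomp_unique {K L : Subgroup X} (hK : IsPComponent p K) (hL : IsPComponent p L)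
    (h : K.map (QuotientGroup.mk' (pPrimeCore p X)) =
      L.map (QuotientGroup.mk' (pPrimeCore p X))) : K = L := by
  -- one inclusion suffices by symmetry
  have key : ∀ {K L : Subgroup X}, IsPComponent p K → IsPComponent p L →
      K.map (QuotientGroup.mk' (pPrimeCore p X)) = L.map (QuotientGroup.mk' (pPrimeCore p X)) →
      K ≤ L := by
    intro K L hK hL h
    have hsub : (L ⊓ K).IsSubnormal := hL.1.inf hK.1
    have hsub2 := (hsub.quotient (K := pPrimeCore p X)).subgroupOf
      (K := K.map (QuotientGroup.mk' (pPrimeCore p X)))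
    have hle : K ≤ L ⊔ pPrimeCore p X := by
      have h1 : K ≤ (K.map (QuotientGroup.mk' (pPrimeCore p X))).comap
          (QuotientGroup.mk' (pPrimeCore p X)) := le_comap_map _ _
      rwa [h, comap_map_eq, QuotientGroup.ker_mk'] at h1
    have hidx : ¬ p ∣ L.relIndex K := by
      intro h1
      have h2 := h1.trans (relIndex_dvd_relIndex_of_subnormal L hK.1 hle)
      -- `|L O : L|` divides `|O|`
      have h3 : L.relIndex (L ⊔ pPrimeCore p X) ∣ Nat.card (pPrimeCore p X) := by
        have h4 : Nat.card L * L.relIndex (L ⊔ pPrimeCore p X) =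
            Nat.card (L ⊔ pPrimeCore p X : Subgroup X) := by
          rw [← relIndex_bot_left L, relIndex_mul_relIndex ⊥ L _ bot_le le_sup_left,
            relIndex_bot_left]
        have h5 : Nat.card (L ⊔ pPrimeCore p X : Subgroup X) ∣
            Nat.card (pPrimeCore p X) * Nat.card L := by
          rw [sup_comm]
          exact Cfsg.Agent.Lib.Cores.card_sup_dvd _ _ inferInstance
        rw [← h4, mul_comm (Nat.card (pPrimeCore p X))] at h5
        exact Nat.dvd_of_mul_dvd_mul_left Nat.card_pos h5
      exact (Nat.Prime.coprime_iff_not_dvd hp.out).mp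
        (Cfsg.Agent.Lib.Cores.pPrimeCore_coprime (G := X) p).symm (h2.trans h3)
    rcases Cfsg.Agent.SignalizersComponents.Components.quasisimple_subnormal hK.2.1.2 hsub2
      with h1 | h1
    · have h2 := hK.2.2 _ hsub inf_le_right
        (le_antisymm (Subgroup.map_mono inf_le_right) (subgroupOf_eq_top.mp h1))
      rw [← h2]
      exact inf_le_left
    · exfalso
      refine not_map_le_centralizer hK L hidx ?_
      intro x hx
      rw [mem_centralizer_iff]
      intro y hy
      have hxK := Subgroup.map_mono (f := QuotientGroup.mk' (pPrimeCore p X))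
        (inf_le_right : L ⊓ K ≤ K) hx
      have hx' : (⟨x, hxK⟩ : K.map (QuotientGroup.mk' (pPrimeCore p X))) ∈
          Subgroup.center (K.map (QuotientGroup.mk' (pPrimeCore p X))) := h1 hx
      exact congrArg Subtype.val (Subgroup.mem_center_iff.mp hx' ⟨y, hy⟩)
  exact le_antisymm (key hK hL h) (key hL hK h.symm)

/-- If `g K g⁻¹ = K` then `g` is in the normalizer of `K`. -/
theorem mem_normalizer_of_map_conj_eq {G : Type*} [Group G] {K : Subgroup G} {g : G}
    (h : K.map (MulAut.conj g).toMonoidHom = K) : g ∈ normalizer (K : Set G) := by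
  rw [mem_normalizer_iff]
  intro x
  constructor
  · intro hx
    have h1 : g * x * g⁻¹ ∈ K.map (MulAut.conj g).toMonoidHom := ⟨x, hx, by simp⟩
    rwa [h] at h1
  · intro hx
    rw [← h] at hx
    obtain ⟨y, hy, hyx⟩ := hx
    have h1 : g * y * g⁻¹ = g * x * g⁻¹ := by simpa using hyx
    have h2 : y = x := mul_left_cancel (mul_right_cancel h1)
    rwa [← h2]

omit [Finite X] hp in
/-- The image modulo `O_{p'}(X)` of a conjugate. -/
theorem map_mk_map_conj (g : X) (H : Subgroup X) :
    (H.map (MulAut.conj g).toMonoidHom).map (QuotientGroup.mk' (pPrimeCore p X)) =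
      (H.map (QuotientGroup.mk' (pPrimeCore p X))).map
        (MulAut.conj (QuotientGroup.mk' (pPrimeCore p X) g)).toMonoidHom := by
  rw [Subgroup.map_map, Subgroup.map_map]
  congr 1

/-- An element whose image normalizes the image of the `p`-component `K` modulo `O_{p'}(X)`
normalizes `K`. -/
theorem mem_normalizer_of_mk_normalizes {K : Subgroup X} (hK : IsPComponent p K) {g : X}
    (hg : (K.map (QuotientGroup.mk' (pPrimeCore p X))).map
        (MulAut.conj (QuotientGroup.mk' (pPrimeCore p X) g)).toMonoidHom =
      K.map (QuotientGroup.mk' (pPrimeCore p X))) : g ∈ normalizer (K : Set X) := by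
  refine mem_normalizer_of_map_conj_eq (pcomp_unique (isPComponent_conj hK g) hK ?_)
  rw [map_mk_map_conj, hg]

/-- Conjugation by an element of the centralizer fixes a subgroup. -/
theorem map_conj_eq_of_mem_centralizer {G : Type*} [Group G] {K : Subgroup G} {g : G}
    (h : g ∈ centralizer (K : Set G)) : K.map (MulAut.conj g).toMonoidHom = K := by
  have h1 : ∀ x ∈ K, g * x * g⁻¹ = x := by
    intro x hx
    rw [← mem_centralizer_iff.mp h x hx, mul_inv_cancel_right]
  ext x
  constructor
  · rintro ⟨y, hy, rfl⟩
    change g * y * g⁻¹ ∈ K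
    rwa [h1 y hy]
  · intro hx
    exact ⟨x, hx, h1 x hx⟩

/-- An element centralizing the `p`-component `K` modulo `O_{p'}(X)` normalizes `K`. -/
theorem mem_normalizer_of_mk_centralizes {K : Subgroup X} (hK : IsPComponent p K) {g : X}
    (hg : QuotientGroup.mk' (pPrimeCore p X) g ∈
      centralizer ((K.map (QuotientGroup.mk' (pPrimeCore p X)) : Subgroup _) :
        Set (X ⧸ pPrimeCore p X))) : g ∈ normalizer (K : Set X) :=
  mem_normalizer_of_mk_normalizes hK (map_conj_eq_of_mem_centralizer hg)

/-- `O_{p'}(X)` normalizes every `p`-component. -/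
theorem pPrimeCore_le_normalizer {K : Subgroup X} (hK : IsPComponent p K) :
    pPrimeCore p X ≤ normalizer (K : Set X) := by
  intro g hg
  refine mem_normalizer_of_mk_centralizes hK ?_
  have h1 : QuotientGroup.mk' (pPrimeCore p X) g = 1 := (QuotientGroup.eq_one_iff g).mpr hg
  rw [h1]
  exact one_mem _

/-- Distinct `p`-components commute modulo `O_{p'}(X)`. -/
theorem map_le_centralizer_of_ne {K L : Subgroup X} (hK : IsPComponent p K)
    (hL : IsPComponent p L) (h : K ≠ L) : K.map (QuotientGroup.mk' (pPrimeCore p X)) ≤
      centralizer ((L.map (QuotientGroup.mk' (pPrimeCore p X)) : Subgroup _) :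
        Set (X ⧸ pPrimeCore p X)) :=
  Cfsg.Agent.SignalizersComponents.Components.component_le_centralizer_of_ne hK.2.1 hL.2.1
    (fun h1 => h (pcomp_unique hK hL h1))

/-- `p`-components normalize each other. -/
theorem le_normalizer_of_isPComponent {K L : Subgroup X} (hK : IsPComponent p K)
    (hL : IsPComponent p L) : K ≤ normalizer (L : Set X) := by
  rcases eq_or_ne K L with h | h
  · rw [h]
    exact le_normalizer
  · intro g hg
    exact mem_normalizer_of_mk_centralizes hL (map_le_centralizer_of_ne hK hL h
      (mem_map_of_mem _ hg))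

/-- The `p`-layer normalizes every `p`-component. -/
theorem pLayer_le_normalizer {K : Subgroup X} (hK : IsPComponent p K) :
    pLayer p X ≤ normalizer (K : Set X) :=
  sSup_le fun _ hL => le_normalizer_of_isPComponent hL hK

/-- An element `g` centralizing a subgroup `T` whose meet with the `p`-component `K` has index
prime to `p` in `K` normalizes `K`. -/
theorem mem_normalizer_of_centralizes {K : Subgroup X} (hK : IsPComponent p K) (T : Subgroup X)
    (hT : ¬ p ∣ T.relIndex K) {g : X} (hg : g ∈ centralizer (T : Set X)) :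
    g ∈ normalizer (K : Set X) := by
  by_contra hne
  have h1 : K.map (MulAut.conj g).toMonoidHom ≠ K := fun h2 =>
    hne (mem_normalizer_of_map_conj_eq h2)
  have h2 := map_le_centralizer_of_ne (isPComponent_conj hK g) hK h1
  refine not_map_le_centralizer hK T hT (le_trans (Subgroup.map_mono ?_) h2)
  rintro x ⟨hxT, hxK⟩
  refine ⟨x, hxK, ?_⟩
  change g * x * g⁻¹ = x
  rw [← mem_centralizer_iff.mp hg x hxT, mul_inv_cancel_right]

/-- The centralizer of a Sylow `p`-subgroup of a subgroup `M` containing the `p`-component `K`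
normalizes `K`. -/
theorem centralizer_sylow_le_normalizer {K M : Subgroup X} (hK : IsPComponent p K) (hKM : K ≤ M)
    (T : Sylow p M) :
    centralizer (((T : Subgroup M).map M.subtype : Subgroup X) : Set X) ≤
      normalizer (K : Set X) := by
  intro g hg
  refine mem_normalizer_of_centralizes hK _ ?_ hg
  intro h1
  have h2 := h1.trans (relIndex_dvd_relIndex_of_subnormal _ hK.1 hKM)
  have h3 : ((T : Subgroup M).map M.subtype).relIndex M = (T : Subgroup M).index := by
    rw [relIndex, subgroupOf, comap_map_eq_self_of_injective M.subtype_injective]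
  rw [h3] at h2
  exact T.not_dvd_index h2

end

end Cfsg.Agent.SignalizersComponents.PCompCore
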