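import Mathlib
import Cfsg.Prelude.Def_Local
import Cfsg.Agent.Lib.Cores

/-!
# p-components and the p-layer under isomorphisms

`IsPComponent`, `pLayer`, `pPrimePCore` are transported by isomorphisms; the p-layer and
`O_{p',p}` are characteristic.  Also `relCore p C` = `O_{p'}(C)` as a subgroup of the big group.
-/

set_option autoImplicit false
set_option linter.style.haveILetI false

namespace Cfsg.Agent.SignalizersComponents.PLayerAut

open Subgroup Cfsg Cfsg.Agent.Lib.Cores

variable {G H : Type*} [Group G] [Group H]

theorem isQuasisimple_of_equiv (e : G ≃* H) (h : IsQuasisimple G) : IsQuasisimple H := by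
  obtain ⟨h1, h2⟩ := h
  refine ⟨Group.IsPerfect.ofSurjective (f := e.toMonoidHom) e.surjective, ?_⟩
  have hc : (center G).map e.toMonoidHom = center H := by
    ext y
    constructor
    · rintro ⟨x, hx, rfl⟩
      rw [SetLike.mem_coe, mem_center_iff] at hx
      rw [mem_center_iff]
      intro g
      obtain ⟨g', rfl⟩ := e.surjective g
      have := congrArg e (hx g')
      simpa using this
    · intro hy
      refine ⟨e.symm y, ?_, by simp⟩
      rw [SetLike.mem_coe, mem_center_iff]
      rw [mem_center_iff] at hy
      intro g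
      apply e.injective
      simpa using hy (e g)
  have E : G ⧸ center G ≃* H ⧸ center H := QuotientGroup.congr (center G) (center H) e hc
  haveI := h2
  haveI : Nontrivial (H ⧸ center H) := E.symm.surjective.nontrivial
  exact IsSimpleGroup.isSimpleGroup_of_surjective E.toMonoidHom E.surjective

theorem isComponent_map_equiv (e : G ≃* H) {K : Subgroup G} (hK : IsComponent K) :
    IsComponent (K.map e.toMonoidHom) :=
  ⟨hK.1.map e.surjective,
    isQuasisimple_of_equiv (K.equivMapOfInjective e.toMonoidHom e.injective) hK.2⟩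

/-- The isomorphism of the quotients by the `p'`-cores. -/
noncomputable def quotEquiv (p : ℕ) (e : G ≃* H) : G ⧸ pPrimeCore p G ≃* H ⧸ pPrimeCore p H :=
  QuotientGroup.congr (pPrimeCore p G) (pPrimeCore p H) e (map_equiv_pPrimeCore e p)

theorem quotEquiv_mk (p : ℕ) (e : G ≃* H) (g : G) :
    quotEquiv p e (QuotientGroup.mk' (pPrimeCore p G) g) =
      QuotientGroup.mk' (pPrimeCore p H) (e g) := rfl

theorem map_map_quot (p : ℕ) (e : G ≃* H) (K : Subgroup G) :
    (K.map e.toMonoidHom).map (QuotientGroup.mk' (pPrimeCore p H)) =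
      (K.map (QuotientGroup.mk' (pPrimeCore p G))).map (quotEquiv p e).toMonoidHom := by
  rw [Subgroup.map_map, Subgroup.map_map]
  rfl

theorem isPComponent_map_equiv (p : ℕ) (e : G ≃* H) {K : Subgroup G} (hK : IsPComponent p K) :
    IsPComponent p (K.map e.toMonoidHom) := by
  obtain ⟨h1, h2, h3⟩ := hK
  refine ⟨h1.map e.surjective, ?_, ?_⟩
  · rw [map_map_quot]
    exact isComponent_map_equiv _ h2
  · intro L hL hLK hmap
    have h4 := h3 (L.comap e.toMonoidHom) (hL.comap _) ?_ ?_
    · rw [← h4, Subgroup.map_comap_eq_self_of_surjective e.surjective]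
    · intro x hx
      obtain ⟨y, hy, hxy⟩ := hLK hx
      have : y = x := e.injective hxy
      rwa [← this]
    · rw [map_map_quot] at hmap
      have h5 : L = (L.comap e.toMonoidHom).map e.toMonoidHom :=
        (Subgroup.map_comap_eq_self_of_surjective e.surjective L).symm
      rw [h5, map_map_quot] at hmap
      exact Subgroup.map_injective (quotEquiv p e).injective hmap

theorem pLayer_def (p : ℕ) : pLayer p G = sSup {K : Subgroup G | IsPComponent p K} := rfl

theorem map_pLayer_le (p : ℕ) (e : G ≃* H) : (pLayer p G).map e.toMonoidHom ≤ pLayer p H := by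
  rw [pLayer_def, sSup_eq_iSup', Subgroup.map_iSup]
  exact iSup_le fun K => le_sSup (isPComponent_map_equiv p e K.2)

theorem map_equiv_pLayer (p : ℕ) (e : G ≃* H) :
    (pLayer p G).map e.toMonoidHom = pLayer p H := by
  refine le_antisymm (map_pLayer_le p e) ?_
  intro x hx
  exact ⟨e.symm x, map_pLayer_le p e.symm ⟨x, hx, rfl⟩, by simp⟩

theorem pLayer_characteristic (p : ℕ) : (pLayer p G).Characteristic :=
  characteristic_iff_map_le.2 fun e => (map_equiv_pLayer p e).le

theorem pLayer_normal (p : ℕ) : (pLayer p G).Normal := by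
  haveI := pLayer_characteristic (G := G) p
  infer_instance

theorem pPrimePCore_def (p : ℕ) : pPrimePCore p G =
    (pCore p (G ⧸ pPrimeCore p G)).comap (QuotientGroup.mk' (pPrimeCore p G)) := rfl

theorem pPrimePCore_normal (p : ℕ) : (pPrimePCore p G).Normal := by
  rw [pPrimePCore_def]
  exact (Cfsg.Agent.Lib.Cores.pCore_normal p).comap _

theorem pPrimeCore_le_pPrimePCore (p : ℕ) : pPrimeCore p G ≤ pPrimePCore p G := by
  intro x hx
  rw [pPrimePCore_def, mem_comap]
  have : QuotientGroup.mk' (pPrimeCore p G) x = 1 := (QuotientGroup.eq_one_iff x).2 hx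
  rw [this]
  exact one_mem _

theorem map_pPrimePCore_le (p : ℕ) (e : G ≃* H) :
    (pPrimePCore p G).map e.toMonoidHom ≤ pPrimePCore p H := by
  rintro _ ⟨x, hx, rfl⟩
  rw [SetLike.mem_coe, pPrimePCore_def, mem_comap] at hx
  rw [pPrimePCore_def, mem_comap]
  have h := map_equiv_pCore (quotEquiv p e) p
  rw [← h]
  exact ⟨_, hx, rfl⟩

theorem map_equiv_pPrimePCore (p : ℕ) (e : G ≃* H) :
    (pPrimePCore p G).map e.toMonoidHom = pPrimePCore p H := by
  refine le_antisymm (map_pPrimePCore_le p e) ?_
  intro x hx
  exact ⟨e.symm x, map_pPrimePCore_le p e.symm ⟨x, hx, rfl⟩, by simp⟩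

theorem pPrimePCore_characteristic (p : ℕ) : (pPrimePCore p G).Characteristic :=
  characteristic_iff_map_le.2 fun e => (map_equiv_pPrimePCore p e).le

/-- `O_{p'}(C)` as a subgroup of the ambient group. -/
def relCore (p : ℕ) (C : Subgroup G) : Subgroup G := (pPrimeCore p ↥C).map C.subtype

theorem relCore_def (p : ℕ) (C : Subgroup G) : relCore p C = (pPrimeCore p ↥C).map C.subtype := rfl

theorem relCore_le (p : ℕ) (C : Subgroup G) : relCore p C ≤ C := map_subtype_le _

theorem relCore_coprime [Finite G] (p : ℕ) (C : Subgroup G) :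
    (Nat.card (relCore p C)).Coprime p := by
  rw [relCore_def, card_map_of_injective C.subtype_injective]
  exact pPrimeCore_coprime p

/-- The relative core is transported by isomorphisms. -/
theorem relCore_map_equiv (p : ℕ) (e : G ≃* H) (C : Subgroup G) :
    relCore p (C.map e.toMonoidHom) = (relCore p C).map e.toMonoidHom := by
  have E := C.equivMapOfInjective e.toMonoidHom e.injective
  rw [relCore_def, relCore_def, ← map_equiv_pPrimeCore
    (C.equivMapOfInjective e.toMonoidHom e.injective) p, Subgroup.map_map, Subgroup.map_map]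
  rfl

/-- A characteristic-type statement: whatever normalizes `C` normalizes `O_{p'}(C)`. -/
theorem normalizer_le_normalizer_relCore (p : ℕ) (C : Subgroup G) :
    normalizer (C : Set G) ≤ normalizer (relCore p C : Set G) := by
  intro g hg
  have h1 : C.map (MulAut.conj g).toMonoidHom = C := mem_normalizer_iff_map_conj_eq.mp hg
  have h2 := relCore_map_equiv p (MulAut.conj g) C
  rw [h1] at h2
  exact mem_normalizer_iff_map_conj_eq.mpr h2.symm

end Cfsg.Agent.SignalizersComponents.PLayerAut
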