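import Mathlib
import Cfsg.Agent.Lib.CoprimeCommutator
import Cfsg.Agent.Solvable.FixedPointFree
import Cfsg.Agent.SignalizersComponents.CoprimeBasic

set_option autoImplicit false

/-!
Goldschmidt's generation lemma: `A` an abelian `p`-group acting on a solvable `p'`-group `Y = [Y, A]` and
`B ≤ A`; then `C_Y(B)` is generated by the subgroups `C_Y(B) ∩ [C_Y(B₀), A]`, `B₀ ≤ B` with `B / B₀` cyclic.

The induction runs over pairs `(Y, Z)`, `Z` an `A`-invariant normal subgroup of `Y` with `Y = [Y, A] Z`, so that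
no quotient group is needed.
-/

namespace Cfsg.Agent.SignalizersComponents.GoldschmidtGen

open Subgroup
open scoped commutatorElement
open Cfsg.Agent.Lib.CoprimeCommutator

variable {G : Type*} [Group G]

/-- The generating family of the lemma. -/
def gen (A B Y : Subgroup G) : Subgroup G :=
  ⨆ B₀ : {B₀ : Subgroup G // B₀ ≤ B ∧ ∀ [(B₀.subgroupOf B).Normal], IsCyclic (↥B ⧸ B₀.subgroupOf B)},
    Y ⊓ centralizer (B : Set G) ⊓ ⁅Y ⊓ centralizer ((B₀ : Subgroup G) : Set G), A⁆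

theorem gen_mono (A B : Subgroup G) {Y Y' : Subgroup G} (h : Y ≤ Y') : gen A B Y ≤ gen A B Y' :=
  iSup_mono fun _ => inf_le_inf (inf_le_inf_right _ h) (commutator_mono (inf_le_inf_right _ h) le_rfl)

theorem gen_le (A B Y : Subgroup G) : gen A B Y ≤ Y ⊓ centralizer (B : Set G) :=
  iSup_le fun _ => inf_le_left

theorem le_gen (A B Y : Subgroup G) (B₀ : Subgroup G) (h : B₀ ≤ B)
    (hc : ∀ [(B₀.subgroupOf B).Normal], IsCyclic (↥B ⧸ B₀.subgroupOf B)) :
    Y ⊓ centralizer (B : Set G) ⊓ ⁅Y ⊓ centralizer (B₀ : Set G), A⁆ ≤ gen A B Y :=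
  le_iSup (fun B₀ : {B₀ : Subgroup G // B₀ ≤ B ∧
      ∀ [(B₀.subgroupOf B).Normal], IsCyclic (↥B ⧸ B₀.subgroupOf B)} =>
    Y ⊓ centralizer (B : Set G) ⊓ ⁅Y ⊓ centralizer ((B₀ : Subgroup G) : Set G), A⁆) ⟨B₀, h, hc⟩

theorem le_normalizer_of_conj_mem {A X : Subgroup G}
    (h : ∀ a ∈ A, ∀ x ∈ X, a * x * a⁻¹ ∈ X) : A ≤ normalizer (X : Set G) := by
  intro a ha
  rw [mem_normalizer_iff]
  intro x
  refine ⟨fun hx => h a ha x hx, fun hx => ?_⟩
  have h1 := h a⁻¹ (A.inv_mem ha) _ hx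
  have h2 : a⁻¹ * (a * x * a⁻¹) * a⁻¹⁻¹ = x := by group
  rwa [h2] at h1

theorem conj_mem_of_le_normalizer {A X : Subgroup G}
    (h : A ≤ normalizer (X : Set G)) {a x : G} (ha : a ∈ A) (hx : x ∈ X) : a * x * a⁻¹ ∈ X :=
  (mem_normalizer_iff.mp (h ha) x).mp hx

/-- If `A` normalises `Y` and centralises `B₁`, it normalises `⁅Y, B₁⁆`. -/
theorem le_normalizer_commutator {A Y B₁ : Subgroup G} (hAY : A ≤ normalizer (Y : Set G))
    (hAB : ∀ a ∈ A, ∀ b ∈ B₁, a * b = b * a) : A ≤ normalizer ((⁅Y, B₁⁆ : Subgroup G) : Set G) := by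
  apply le_normalizer_of_conj_mem
  intro a ha
  have h1 : ⁅Y, B₁⁆ ≤ (⁅Y, B₁⁆ : Subgroup G).comap (MulAut.conj a).toMonoidHom := by
    rw [commutator_le]
    intro y hy b hb
    show a * ⁅y, b⁆ * a⁻¹ ∈ (⁅Y, B₁⁆ : Subgroup G)
    have h2 : a * ⁅y, b⁆ * a⁻¹ = ⁅a * y * a⁻¹, a * b * a⁻¹⁆ := by
      simp only [commutatorElement_def]; group
    have h3 : a * b * a⁻¹ = b := by rw [hAB a ha b hb]; group
    rw [h2, h3]
    exact commutator_mem_commutator (conj_mem_of_le_normalizer hAY ha hy) hb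
  exact fun x hx => h1 hx

/-- If `A` normalises `Y` and is centralised by `B₁ ≤ A`, it normalises `C_Y(B₁)`. -/
theorem le_normalizer_inf_centralizer {A Y B₁ : Subgroup G} (hAY : A ≤ normalizer (Y : Set G))
    (hAB : ∀ a ∈ A, ∀ b ∈ B₁, a * b = b * a) :
    A ≤ normalizer ((Y ⊓ centralizer (B₁ : Set G) : Subgroup G) : Set G) := by
  apply le_normalizer_of_conj_mem
  intro a ha x hx
  refine ⟨conj_mem_of_le_normalizer hAY ha hx.1, mem_centralizer_iff.mpr fun b hb => ?_⟩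
  have h1 : b * x = x * b := mem_centralizer_iff.mp hx.2 b hb
  have h2 : b * a = a * b := (hAB a ha b hb).symm
  have h3 : b * a⁻¹ = a⁻¹ * b := (hAB a⁻¹ (A.inv_mem ha) b hb).symm
  calc b * (a * x * a⁻¹) = (b * a) * x * a⁻¹ := by group
    _ = a * (b * x) * a⁻¹ := by rw [h2]; group
    _ = a * x * (b * a⁻¹) := by rw [h1]; group
    _ = a * x * a⁻¹ * b := by rw [h3]; group

theorem le_normalizer_sup {A X X' : Subgroup G} (h : A ≤ normalizer (X : Set G))
    (h' : A ≤ normalizer (X' : Set G)) : A ≤ normalizer ((X ⊔ X' : Subgroup G) : Set G) := by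
  apply le_normalizer_of_conj_mem
  intro a ha
  have h1 : X ⊔ X' ≤ (X ⊔ X').comap (MulAut.conj a).toMonoidHom := by
    refine sup_le (fun x hx => ?_) (fun x hx => ?_)
    · exact mem_sup_left (conj_mem_of_le_normalizer h ha hx)
    · exact mem_sup_right (conj_mem_of_le_normalizer h' ha hx)
  exact fun x hx => h1 hx

/-- If `X ≤ Y` contains `⁅Y, Y⁆`, then `Y` normalises `X`. -/
theorem le_normalizer_of_commutator_le {X Y : Subgroup G} (hX : X ≤ Y) (h : ⁅Y, Y⁆ ≤ X) :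
    Y ≤ normalizer (X : Set G) := by
  apply le_normalizer_of_conj_mem
  intro y hy x hx
  have h1 : y * x * y⁻¹ = ⁅y, x⁆ * x := by simp only [commutatorElement_def]; group
  rw [h1]
  exact X.mul_mem (h (commutator_mem_commutator hy (hX hx))) hx

/-- In a solvable group `Y`, a subgroup `N` proper in `Y` and normalised by `Y` does not generate `Y`
together with `⁅Y, Y⁆`. -/
theorem sup_commutator_ne {Y N : Subgroup G} (hYs : Group.IsSolvable Y) (hN : N ≤ Y) (hne : N ≠ Y)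
    (hYN : Y ≤ normalizer (N : Set G)) : N ⊔ ⁅Y, Y⁆ ≠ Y := by
  have hnorm : (N.subgroupOf Y).Normal := normal_subgroupOf_of_le_normalizer hYN
  have hnt : Nontrivial (Y ⧸ N.subgroupOf Y) := by
    rw [QuotientGroup.nontrivial_iff]
    intro h
    rw [subgroupOf_eq_top] at h
    exact hne (le_antisymm hN h)
  have hlt : commutator (Y ⧸ N.subgroupOf Y) < ⊤ := Group.IsSolvable.commutator_lt_top_of_nontrivial _
  intro h
  apply absurd hlt
  rw [not_lt_top_iff]
  rw [eq_top_iff]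
  rintro q -
  obtain ⟨⟨y, hy⟩, rfl⟩ := QuotientGroup.mk'_surjective _ q
  -- the preimage of the commutator subgroup, in `G`
  have hle : N ⊔ ⁅Y, Y⁆ ≤ ((commutator (Y ⧸ N.subgroupOf Y)).comap
      (QuotientGroup.mk' (N.subgroupOf Y))).map Y.subtype := by
    refine sup_le (fun x hx => ?_) ?_
    · refine ⟨⟨x, hN hx⟩, ?_, rfl⟩
      show QuotientGroup.mk' (N.subgroupOf Y) ⟨x, hN hx⟩ ∈ commutator (Y ⧸ N.subgroupOf Y)
      have h1 : QuotientGroup.mk' (N.subgroupOf Y) ⟨x, hN hx⟩ = 1 := (QuotientGroup.eq_one_iff _).mpr hx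
      rw [h1]
      exact Subgroup.one_mem _
    · rw [commutator_le]
      intro a ha b hb
      refine ⟨⁅(⟨a, ha⟩ : Y), (⟨b, hb⟩ : Y)⁆, ?_, rfl⟩
      show QuotientGroup.mk' (N.subgroupOf Y) ⁅(⟨a, ha⟩ : Y), (⟨b, hb⟩ : Y)⁆ ∈
        commutator (Y ⧸ N.subgroupOf Y)
      rw [map_commutatorElement, commutator_def]
      exact commutator_mem_commutator (mem_top _) (mem_top _)
  obtain ⟨y', hy', hyy⟩ := hle (h.symm ▸ hy : y ∈ N ⊔ ⁅Y, Y⁆)
  have hyy' : y' = ⟨y, hy⟩ := Subtype.ext hyy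
  rw [← hyy']
  exact hy'

/-- The kernel of an abelian group acting irreducibly on an abelian section has cyclic quotient. -/
theorem exists_kernel [Finite G] {A B Y N : Subgroup G}
    (hcomm : ∀ a ∈ A, ∀ b ∈ A, a * b = b * a) (hB : B ≤ A)
    (hAY : A ≤ normalizer (Y : Set G)) (hN : N ≤ Y) (hne : N ≠ Y) (hAN : A ≤ normalizer (N : Set G))
    (hYY : ⁅Y, Y⁆ ≤ N)
    (hirr : ∀ X : Subgroup G, N ≤ X → X ≤ Y → A ≤ normalizer (X : Set G) → X = N ∨ X = Y) :
    ∃ B₁ : Subgroup G, B₁ ≤ B ∧ (∀ [(B₁.subgroupOf B).Normal], IsCyclic (↥B ⧸ B₁.subgroupOf B)) ∧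
      ⁅Y, B₁⁆ ≤ N := by
  have hYN : Y ≤ normalizer (N : Set G) := le_normalizer_of_commutator_le hN hYY
  have hnorm : (N.subgroupOf Y).Normal := normal_subgroupOf_of_le_normalizer hYN
  have hnt : Nontrivial (Y ⧸ N.subgroupOf Y) := by
    rw [QuotientGroup.nontrivial_iff]
    intro h
    rw [subgroupOf_eq_top] at h
    exact hne (le_antisymm hN h)
  -- action of `B` on `Y`
  let e : B →* MulAut Y := (Y.normalizerMonoidHom).comp (inclusion (hB.trans hAY))
  have he : ∀ (b : B) (y : Y), ((e b y : Y) : G) = b * y * (b : G)⁻¹ := fun b y => rfl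
  have heN : ∀ b : B, (N.subgroupOf Y).map (e b).toMonoidHom = N.subgroupOf Y := by
    have hle : ∀ b : B, (N.subgroupOf Y).map (e b).toMonoidHom ≤ N.subgroupOf Y := by
      rintro b _ ⟨y, hy, rfl⟩
      show ((e b y : Y) : G) ∈ N
      rw [he]
      exact conj_mem_of_le_normalizer hAN (hB b.2) hy
    intro b
    apply le_antisymm (hle b)
    intro y hy
    refine ⟨e b⁻¹ y, hle b⁻¹ ⟨y, hy, rfl⟩, ?_⟩
    show e b (e b⁻¹ y) = y
    rw [← MulAut.mul_apply, ← map_mul, mul_inv_cancel, map_one, MulAut.one_apply]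
  let ψ : B →* MulAut (Y ⧸ N.subgroupOf Y) :=
    { toFun := fun b => QuotientGroup.congr _ _ (e b) (heN b)
      map_one' := by
        ext q
        obtain ⟨y, rfl⟩ := QuotientGroup.mk'_surjective _ q
        show QuotientGroup.mk' _ (e 1 y) = QuotientGroup.mk' _ y
        rw [map_one, MulAut.one_apply]
      map_mul' := by
        intro b c
        ext q
        obtain ⟨y, rfl⟩ := QuotientGroup.mk'_surjective _ q
        show QuotientGroup.mk' _ (e (b * c) y) = QuotientGroup.mk' _ (e b (e c y))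
        rw [map_mul, MulAut.mul_apply] }
  have hψ : ∀ (b : B) (y : Y), ψ b (QuotientGroup.mk' _ y) = QuotientGroup.mk' _ (e b y) :=
    fun b y => rfl
  have hfix : ∀ (b : B) (y : Y), ψ b (QuotientGroup.mk' _ y) = QuotientGroup.mk' _ y ↔
      ⁅(y : G), (b : G)⁆ ∈ N := by
    intro b y
    rw [hψ, QuotientGroup.mk'_eq_mk']
    constructor
    · rintro ⟨z, hz, hz'⟩
      have h1 : (b : G) * y * (b : G)⁻¹ * z = y := by
        rw [← he, ← Subgroup.coe_mul, hz']
      have h2 : ⁅(y : G), (b : G)⁆ = ((b : G) * y * (b : G)⁻¹) * (z : G) * ((b : G) * y * (b : G)⁻¹)⁻¹ := by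
        rw [h1, commutatorElement_def]; group
      rw [h2]
      have h3 : (b : G) * y * (b : G)⁻¹ ∈ Y := by rw [← he]; exact (e b y).2
      exact conj_mem_of_le_normalizer hYN h3 hz
    · intro h
      have h3 : (e b y)⁻¹ * y ∈ N.subgroupOf Y := by
        show (((e b y)⁻¹ * y : Y) : G) ∈ N
        rw [Subgroup.coe_mul, Subgroup.coe_inv, he]
        have h4 : ((b : G) * y * (b : G)⁻¹)⁻¹ * y = (y : G)⁻¹ * (y * ((b : G) * (y : G)⁻¹ * (b : G)⁻¹)) * y := by
          group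
        rw [h4]
        have h5 : (y : G) * ((b : G) * (y : G)⁻¹ * (b : G)⁻¹) = ⁅(y : G), (b : G)⁆ := by
          rw [commutatorElement_def]; group
        rw [h5]
        have := conj_mem_of_le_normalizer hYN (Y.inv_mem y.2) h
        simpa using this
      exact ⟨_, h3, by group⟩
  have hcommV : ∀ u v : Y ⧸ N.subgroupOf Y, u * v = v * u := by
    intro u v
    obtain ⟨x, rfl⟩ := QuotientGroup.mk'_surjective _ u
    obtain ⟨y, rfl⟩ := QuotientGroup.mk'_surjective _ v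
    rw [← commutatorElement_eq_one_iff_mul_comm, ← map_commutatorElement]
    exact (QuotientGroup.eq_one_iff _).mpr (hYY (commutator_mem_commutator x.2 y.2))
  let _ : CommGroup (Y ⧸ N.subgroupOf Y) := { (inferInstance : Group (Y ⧸ N.subgroupOf Y)) with
    mul_comm := hcommV }
  have hBcomm : ∀ u v : B ⧸ ψ.ker, u * v = v * u := by
    intro u v
    obtain ⟨x, rfl⟩ := QuotientGroup.mk'_surjective _ u
    obtain ⟨y, rfl⟩ := QuotientGroup.mk'_surjective _ v
    rw [← map_mul, ← map_mul]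
    exact congrArg _ (Subtype.ext (hcomm _ (hB x.2) _ (hB y.2)))
  have hcyc : IsCyclic (B ⧸ ψ.ker) := by
    refine Cfsg.Agent.Solvable.FixedPointFree.isCyclic_of_comm' (V := Y ⧸ N.subgroupOf Y) hBcomm
      (QuotientGroup.kerLift ψ) ?_
    intro u hu v hv
    obtain ⟨b, rfl⟩ := QuotientGroup.mk'_surjective _ u
    obtain ⟨y, rfl⟩ := QuotientGroup.mk'_surjective _ v
    have hv' : ψ b (QuotientGroup.mk' _ y) = QuotientGroup.mk' _ y := hv
    rw [hfix] at hv'
    -- the elements of `Y` fixed by `b` modulo `N`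
    let X : Subgroup G :=
      { carrier := {x | x ∈ Y ∧ ⁅x, (b : G)⁆ ∈ N}
        one_mem' := ⟨Y.one_mem, by simp⟩
        mul_mem' := by
          rintro x x' ⟨hx, hx'⟩ ⟨hx2, hx2'⟩
          refine ⟨Y.mul_mem hx hx2, ?_⟩
          have h1 : ⁅x * x', (b : G)⁆ = x * ⁅x', (b : G)⁆ * x⁻¹ * ⁅x, (b : G)⁆ := by
            simp only [commutatorElement_def]; group
          rw [h1]
          exact N.mul_mem (conj_mem_of_le_normalizer hYN hx hx2') hx'
        inv_mem' := by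
          rintro x ⟨hx, hx'⟩
          refine ⟨Y.inv_mem hx, ?_⟩
          have h1 : ⁅x⁻¹, (b : G)⁆ = x⁻¹ * ⁅x, (b : G)⁆⁻¹ * x⁻¹⁻¹ := by
            simp only [commutatorElement_def]; group
          rw [h1]
          exact conj_mem_of_le_normalizer hYN (Y.inv_mem hx) (N.inv_mem hx') }
    have hXmem : ∀ x, x ∈ X ↔ x ∈ Y ∧ ⁅x, (b : G)⁆ ∈ N := fun x => Iff.rfl
    have hNX : N ≤ X := by
      intro x hx
      refine ⟨hN hx, ?_⟩
      have h1 : ⁅x, (b : G)⁆ = x * ((b : G) * x⁻¹ * (b : G)⁻¹) := by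
        simp only [commutatorElement_def]; group
      rw [h1]
      exact N.mul_mem hx (conj_mem_of_le_normalizer hAN (hB b.2) (N.inv_mem hx))
    have hAX : A ≤ normalizer (X : Set G) := by
      apply le_normalizer_of_conj_mem
      rintro a ha x ⟨hx, hx'⟩
      refine ⟨conj_mem_of_le_normalizer hAY ha hx, ?_⟩
      have h2 : a * ⁅x, (b : G)⁆ * a⁻¹ = ⁅a * x * a⁻¹, a * b * a⁻¹⁆ := by
        simp only [commutatorElement_def]; group
      have h3 : a * b * a⁻¹ = (b : G) := by rw [hcomm a ha b (hB b.2)]; group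
      rw [h3] at h2
      rw [← h2]
      exact conj_mem_of_le_normalizer hAN ha hx'
    rcases hirr X hNX (fun x hx => hx.1) hAX with h | h
    · have h1 : (y : G) ∈ X := ⟨y.2, hv'⟩
      rw [h] at h1
      exact (QuotientGroup.eq_one_iff _).mpr h1
    · exfalso
      apply hu
      have h1 : b ∈ ψ.ker := by
        rw [MonoidHom.mem_ker]
        ext q
        obtain ⟨x, rfl⟩ := QuotientGroup.mk'_surjective _ q
        rw [MulAut.one_apply, hfix]
        have h2 : (x : G) ∈ X := by rw [h]; exact x.2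
        exact h2.2
      exact (QuotientGroup.eq_one_iff _).mpr h1
  refine ⟨ψ.ker.map B.subtype, map_subtype_le _, ?_, ?_⟩
  · intro hn
    have heq : (ψ.ker.map B.subtype).subgroupOf B = ψ.ker := by
      rw [subgroupOf, comap_map_eq_self_of_injective B.subtype_injective]
    exact isCyclic_of_surjective (QuotientGroup.quotientMulEquivOfEq heq.symm).toMonoidHom
      (QuotientGroup.quotientMulEquivOfEq heq.symm).surjective
  · rw [commutator_le]
    rintro y hy _ ⟨b, hb, rfl⟩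
    have h1 : ψ b (QuotientGroup.mk' _ ⟨y, hy⟩) = QuotientGroup.mk' _ ⟨y, hy⟩ := by
      rw [MonoidHom.mem_ker.mp hb, MulAut.one_apply]
    exact (hfix b ⟨y, hy⟩).mp h1

/-- The lemma modulo a normal subgroup `Z`. -/
theorem main [Finite G] {p : ℕ} [hp : Fact p.Prime] {A B : Subgroup G} (hA : IsPGroup p A)
    (hcomm : ∀ a ∈ A, ∀ b ∈ A, a * b = b * a) (hB : B ≤ A) :
    ∀ (n : ℕ) (Y Z : Subgroup G), Z.relIndex Y = n → Group.IsSolvable Y → ¬ p ∣ Nat.card Y →
      A ≤ normalizer (Y : Set G) → A ≤ normalizer (Z : Set G) → Y ≤ normalizer (Z : Set G) → Z ≤ Y →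
      Y ≤ ⁅Y, A⁆ ⊔ Z → Y ⊓ centralizer (B : Set G) ≤ gen A B Y ⊔ Z := by
  intro n
  induction n using Nat.strong_induction_on with
  | _ n ih =>
  intro Y Z hn hYs hYp hAY hAZ hYZ hZY hYA
  by_cases hZeq : Z = Y
  · rw [hZeq]; exact inf_le_left.trans le_sup_right
  -- a maximal `A`-invariant normal subgroup of `Y` over `Z`
  let S : Set (Subgroup G) := {N | Z ≤ N ∧ N ≤ Y ∧ N ≠ Y ∧ A ≤ normalizer (N : Set G) ∧
    Y ≤ normalizer (N : Set G)}
  obtain ⟨N, hNmax⟩ := (Set.toFinite S).exists_maximal ⟨Z, le_rfl, hZY, hZeq, hAZ, hYZ⟩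
  obtain ⟨hZN, hNY, hNne, hAN, hYN⟩ := hNmax.1
  have hYY : ⁅Y, Y⁆ ≤ N := by
    have hAYY : A ≤ normalizer ((⁅Y, Y⁆ : Subgroup G) : Set G) := by
      apply le_normalizer_of_conj_mem
      intro a ha
      have h1 : ⁅Y, Y⁆ ≤ (⁅Y, Y⁆ : Subgroup G).comap (MulAut.conj a).toMonoidHom := by
        rw [commutator_le]
        intro y hy y' hy'
        show a * ⁅y, y'⁆ * a⁻¹ ∈ (⁅Y, Y⁆ : Subgroup G)
        have h2 : a * ⁅y, y'⁆ * a⁻¹ = ⁅a * y * a⁻¹, a * y' * a⁻¹⁆ := by
          simp only [commutatorElement_def]; group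
        rw [h2]
        exact commutator_mem_commutator (conj_mem_of_le_normalizer hAY ha hy)
          (conj_mem_of_le_normalizer hAY ha hy')
      exact fun x hx => h1 hx
    have hYYle : ⁅Y, Y⁆ ≤ Y := by
      rw [commutator_le]
      intro y hy y' hy'
      rw [commutatorElement_def]
      exact Y.mul_mem (Y.mul_mem (Y.mul_mem hy hy') (Y.inv_mem hy)) (Y.inv_mem hy')
    have h1 : N ⊔ ⁅Y, Y⁆ ∈ S :=
      ⟨hZN.trans le_sup_left, sup_le hNY hYYle, sup_commutator_ne hYs hNY hNne hYN,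
        le_normalizer_sup hAN hAYY,
        le_normalizer_of_commutator_le (sup_le hNY hYYle) le_sup_right⟩
    exact le_sup_right.trans (hNmax.2 h1 le_sup_left)
  have hirr : ∀ X : Subgroup G, N ≤ X → X ≤ Y → A ≤ normalizer (X : Set G) → X = N ∨ X = Y := by
    intro X hNX hXY hAX
    by_cases h : X = Y
    · exact Or.inr h
    · left
      have h1 : X ∈ S := ⟨hZN.trans hNX, hXY, h, hAX, le_normalizer_of_commutator_le hXY (hYY.trans hNX)⟩
      exact le_antisymm (hNmax.2 h1 hNX) hNX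
  obtain ⟨B₁, hB₁B, hB₁cyc, hB₁N⟩ := exists_kernel hcomm hB hAY hNY hNne hAN hYY hirr
  have hB₁A : B₁ ≤ A := hB₁B.trans hB
  have hB₁p : IsPGroup p B₁ := hA.to_le hB₁A
  have hBp : IsPGroup p B := hA.to_le hB
  have hcop : ∀ {C X : Subgroup G}, C ≤ A → X ≤ Y → (Nat.card C).Coprime (Nat.card X) := by
    intro C X hC hX
    obtain ⟨k, hk⟩ := (hA.to_le hC).exists_card_eq
    rw [hk]
    apply Nat.Coprime.pow_left
    rw [hp.out.coprime_iff_not_dvd]
    exact fun h => hYp (h.trans (card_dvd_of_le hX))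
  by_cases hcase : ⁅Y, B₁⁆ ≤ Z
  · -- `B₁` acts trivially on `Y / Z`
    set C : Subgroup G := Y ⊓ centralizer (B₁ : Set G) with hC
    set M : Subgroup G := ⁅C, A⁆ with hM
    have hAC : A ≤ normalizer (C : Set G) :=
      le_normalizer_inf_centralizer hAY fun a ha b hb => hcomm a ha b (hB₁A hb)
    have hMC : M ≤ C := commutator_le_left hAC
    have hMY : M ≤ Y := hMC.trans inf_le_left
    have hAM : A ≤ normalizer (M : Set G) := right_le_normalizer_commutator C A
    have hYM : Y ≤ Z ⊔ M := by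
      refine hYA.trans (sup_le ?_ le_sup_left)
      rw [commutator_le]
      intro y hy a ha
      obtain ⟨m, hm, c, hc, rfl⟩ := exists_commutator_mul_fixed_of_isPGroup p B₁ Y hB₁p
        (hB₁A.trans hAY) hYp y hy
      have h1 : ⁅m * c, a⁆ = m * ⁅c, a⁆ * m⁻¹ * ⁅m, a⁆ := by
        simp only [commutatorElement_def]; group
      rw [h1]
      have hmZ : m ∈ Z := hcase hm
      have h2 : ⁅m, a⁆ ∈ Z := by
        rw [commutatorElement_def]
        have : m * a * m⁻¹ * a⁻¹ = m * (a * m⁻¹ * a⁻¹) := by group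
        rw [this]
        exact Z.mul_mem hmZ (conj_mem_of_le_normalizer hAZ ha (Z.inv_mem hmZ))
      have h3 : ⁅c, a⁆ ∈ M := commutator_mem_commutator hc ha
      exact mul_mem (mul_mem (mul_mem (mem_sup_left hmZ) (mem_sup_right h3))
        (inv_mem (mem_sup_left hmZ))) (mem_sup_left h2)
    intro y hy
    obtain ⟨z, hz, m, hm, rfl⟩ :=
      (Cfsg.Agent.SignalizersComponents.CoprimeBasic.mem_sup_iff (hMY.trans hYZ) y).mp (hYM hy.1)
    have hst : ∀ b ∈ B, m⁻¹ * (b * m * b⁻¹) ∈ Z ⊓ M := by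
      intro b hb
      refine ⟨?_, M.mul_mem (M.inv_mem hm) (conj_mem_of_le_normalizer hAM (hB hb) hm)⟩
      have h1 : b * (z * m) = (z * m) * b := mem_centralizer_iff.mp hy.2 b hb
      have h2 : m⁻¹ * (b * m * b⁻¹) = (z * m)⁻¹ * (z * (b * z⁻¹ * b⁻¹)) * (z * m)⁻¹⁻¹ := by
        have h3 : b * m * b⁻¹ = (b * z⁻¹ * b⁻¹) * (z * m) := by
          calc b * m * b⁻¹ = (b * z⁻¹ * b⁻¹) * (b * (z * m)) * b⁻¹ := by group
            _ = (b * z⁻¹ * b⁻¹) * (z * m) := by rw [h1]; group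
        rw [h3]; group
      rw [h2]
      exact conj_mem_of_le_normalizer hYZ (Y.inv_mem hy.1)
        (Z.mul_mem hz (conj_mem_of_le_normalizer (hB.trans hAZ) hb (Z.inv_mem hz)))
    obtain ⟨c, hcB, hmc⟩ := exists_fixed_in_coset p B (Z ⊓ M) hBp
      (le_normalizer_of_conj_mem fun b hb x hx =>
        ⟨conj_mem_of_le_normalizer hAZ (hB hb) hx.1, conj_mem_of_le_normalizer hAM (hB hb) hx.2⟩)
      (fun h => hYp (h.trans (card_dvd_of_le (inf_le_left.trans hZY)))) m hst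
    have hcM : c ∈ M := by
      have := M.mul_mem hm hmc.2
      simpa using this
    have hcgen : c ∈ gen A B Y := le_gen A B Y B₁ hB₁B hB₁cyc ⟨⟨hMY hcM, hcB⟩, hcM⟩
    have h1 : z * m = z * (c * (m⁻¹ * c)⁻¹) := by group
    rw [h1]
    exact mul_mem (mem_sup_right hz) (mul_mem (mem_sup_left hcgen) (mem_sup_right (Z.inv_mem hmc.1)))
  · -- `Z < Z₁ = ⁅Y, B₁⁆ Z`
    set D : Subgroup G := ⁅N, A⁆ with hD
    have hDN : D ≤ N := commutator_le_left hAN
    have hYB₁ : ⁅Y, B₁⁆ ≤ D := by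
      rw [← commutator_commutator_eq B₁ Y (hB₁A.trans hAY) (hcop hB₁A le_rfl)]
      exact commutator_mono hB₁N hB₁A
    have hAYB : A ≤ normalizer ((⁅Y, B₁⁆ : Subgroup G) : Set G) :=
      le_normalizer_commutator hAY fun a ha b hb => hcomm a ha b (hB₁A hb)
    have hYYB : Y ≤ normalizer ((⁅Y, B₁⁆ : Subgroup G) : Set G) := left_le_normalizer_commutator Y B₁
    set Z₁ : Subgroup G := ⁅Y, B₁⁆ ⊔ Z with hZ₁
    have hZZ₁ : Z < Z₁ := lt_of_le_of_ne le_sup_right fun h => hcase (h ▸ le_sup_left)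
    have hZ₁Y : Z₁ ≤ Y := sup_le (hYB₁.trans (hDN.trans hNY)) hZY
    have hYZ₁ : Y ≤ normalizer (Z₁ : Set G) := le_normalizer_sup hYYB hYZ
    -- monotonicity of the index
    have hidx : ∀ {U V W : Subgroup G}, U ≤ V → V ≤ W → W ≤ Y → U.relIndex V * V.relIndex W = U.relIndex W :=
      fun hUV hVW _ => relIndex_mul_relIndex _ _ _ hUV hVW
    have hpos : ∀ U V : Subgroup G, 0 < U.relIndex V := fun U V =>
      Nat.pos_of_ne_zero (by rw [relIndex]; exact FiniteIndex.index_ne_zero)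
    have hlt1 : Z₁.relIndex Y < n := by
      rw [← hn, ← relIndex_mul_relIndex _ _ _ hZZ₁.le hZ₁Y]
      have h1 : 1 < Z.relIndex Z₁ := by
        have h2 := hpos Z Z₁
        have h3 : Z.relIndex Z₁ ≠ 1 := by
          rw [Ne, relIndex_eq_one]
          exact not_le_of_gt hZZ₁
        omega
      exact lt_mul_of_one_lt_left (hpos _ _) h1
    have ih1 := ih _ hlt1 Y Z₁ rfl hYs hYp hAY (le_normalizer_sup hAYB hAZ) hYZ₁ hZ₁Y
      (hYA.trans (sup_le_sup_left le_sup_right _))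
    have hAD : A ≤ normalizer (D : Set G) := right_le_normalizer_commutator N A
    have hDZY : D ⊔ Z ≤ Y := sup_le (hDN.trans hNY) hZY
    have hDZlt : D ⊔ Z < Y := lt_of_le_of_lt (sup_le hDN hZN) (lt_of_le_of_ne hNY hNne)
    have hlt2 : Z.relIndex (D ⊔ Z) < n := by
      rw [← hn, ← relIndex_mul_relIndex _ _ _ (le_sup_right : Z ≤ D ⊔ Z) hDZY]
      have h1 : 1 < (D ⊔ Z).relIndex Y := by
        have h2 := hpos (D ⊔ Z) Y
        have h3 : (D ⊔ Z).relIndex Y ≠ 1 := by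
          rw [Ne, relIndex_eq_one]
          exact not_le_of_gt hDZlt
        omega
      exact lt_mul_of_one_lt_right (hpos _ _) h1
    have hDs : Group.IsSolvable ↥(D ⊔ Z) :=
      Group.isSolvable_of_isSolvable_injective (f := inclusion hDZY) (inclusion_injective hDZY)
    have ih2 := ih _ hlt2 (D ⊔ Z) Z rfl hDs (fun h => hYp (h.trans (card_dvd_of_le hDZY)))
      (le_normalizer_sup hAD hAZ) hAZ (hDZY.trans hYZ) le_sup_right (by
        refine sup_le ?_ le_sup_right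
        have h1 : ⁅D, A⁆ = D := commutator_commutator_eq A N hAN (hcop le_rfl hNY)
        calc D = ⁅D, A⁆ := h1.symm
          _ ≤ ⁅D ⊔ Z, A⁆ := commutator_mono le_sup_left le_rfl
          _ ≤ _ := le_sup_left)
    intro y hy
    obtain ⟨z, hz, h, hh, rfl⟩ :=
      (Cfsg.Agent.SignalizersComponents.CoprimeBasic.mem_sup_iff
        (((gen_le A B Y).trans inf_le_left).trans hYZ₁) y).mp (by rw [sup_comm]; exact ih1 hy)
    have hzB : z ∈ centralizer (B : Set G) := by
      have h1 := (centralizer (B : Set G)).mul_mem hy.2 ((centralizer (B : Set G)).inv_mem (gen_le A B Y hh).2)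
      simpa using h1
    have hz2 : z ∈ D ⊔ Z := (sup_le_sup_right hYB₁ Z) hz
    have h3 : z ∈ gen A B Y ⊔ Z := (sup_le_sup_right (gen_mono A B hDZY) Z) (ih2 ⟨hz2, hzB⟩)
    exact mul_mem h3 (mem_sup_left hh)

/-- **Goldschmidt's generation lemma**, for an abelian `p`-group `A` acting on a solvable `p'`-group
`Y = ⁅Y, A⁆`. -/
theorem inf_centralizer_eq [Finite G] {p : ℕ} [hp : Fact p.Prime] {A B Y : Subgroup G} (hA : IsPGroup p A)
    (hcomm : ∀ a ∈ A, ∀ b ∈ A, a * b = b * a) (hB : B ≤ A) (hYs : Group.IsSolvable Y)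
    (hYp : ¬ p ∣ Nat.card Y) (hAY : A ≤ normalizer (Y : Set G)) (hYA : ⁅Y, A⁆ = Y) :
    Y ⊓ centralizer (B : Set G) =
      ⨆ B₀ : {B₀ : Subgroup G // B₀ ≤ B ∧ ∀ [(B₀.subgroupOf B).Normal], IsCyclic (↥B ⧸ B₀.subgroupOf B)},
        Y ⊓ centralizer (B : Set G) ⊓ ⁅Y ⊓ centralizer ((B₀ : Subgroup G) : Set G), A⁆ := by
  apply le_antisymm
  · have h := main hA hcomm hB _ Y ⊥ rfl hYs hYp hAY
      (le_normalizer_of_conj_mem fun a _ x hx => by rw [mem_bot] at hx ⊢; rw [hx]; group)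
      (le_normalizer_of_conj_mem fun a _ x hx => by rw [mem_bot] at hx ⊢; rw [hx]; group)
      bot_le (by rw [hYA, sup_bot_eq])
    rw [sup_bot_eq] at h
    exact h
  · exact gen_le A B Y

end Cfsg.Agent.SignalizersComponents.GoldschmidtGen
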