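import Mathlib
import Cfsg.Prelude.Def_Solvable
import Cfsg.Prelude.Def_Local
import Cfsg.Agent.Lib.Cores
import Cfsg.Agent.Lib.ThompsonPQ
import Cfsg.Agent.S0017
import Cfsg.Agent.SignalizersComponents.CoprimeBasic

/-!
`O_{p'}(C_G(P)) ≤ O_{p'}(G)` for a `p`-subgroup `P` of a finite solvable group `G` (and more general
forms), and basic facts on `centralizerPPrimeCore`.
-/

set_option autoImplicit false

namespace Cfsg.Agent.SignalizersComponents.CoreOfCentralizer

open Cfsg

/-- A `p`-subgroup `P` acts on a finite group with a normal `p'`-subgroup `N`: the centraliser of the image of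
`P` in `G / N` is the image of the centraliser of `P`. -/
theorem exists_centralizing_of_quotient {G : Type*} [Group G] [Finite G] {p : ℕ} [Fact p.Prime]
    (P : Subgroup G) (hP : IsPGroup p P) (N : Subgroup G) [hN : N.Normal] (hNp : ¬ p ∣ Nat.card N)
    (c : G ⧸ N) (hc : ∀ a ∈ P, (QuotientGroup.mk' N a) * c = c * QuotientGroup.mk' N a) :
    ∃ g : G, (∀ a ∈ P, a * g = g * a) ∧ QuotientGroup.mk' N g = c := by
  obtain ⟨y, rfl⟩ := QuotientGroup.mk'_surjective N c
  obtain ⟨d, hd, hfix⟩ := CoprimeBasic.exists_fixed_in_coset P hP N hNp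
    (fun a _ d hd => hN.conj_mem d hd a) y (by
      intro a ha
      have h1 : QuotientGroup.mk' N (a * y) = QuotientGroup.mk' N (y * a) := by
        rw [map_mul, map_mul]; exact hc a ha
      have h2 : QuotientGroup.mk' N (y⁻¹ * (a * y * a⁻¹)) = 1 := by
        rw [map_mul, map_mul, h1]
        simp
      exact (QuotientGroup.eq_one_iff _).mp h2)
  refine ⟨y * d, hfix, ?_⟩
  rw [map_mul]
  have : QuotientGroup.mk' N d = 1 := (QuotientGroup.eq_one_iff d).mpr hd
  rw [this, mul_one]

/-- Let `G` be a finite group with `C_G(O_p(G)) ≤ O_p(G)`, `P` a `p`-subgroup. A `p'`-subgroup `H` centralising `P` and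
normalised by `C_G(P)` is trivial. -/
theorem eq_bot_of_centralizer_pCore_le {G : Type*} [Group G] [Finite G] {p : ℕ} [Fact p.Prime]
    (hG : Subgroup.centralizer (pCore p G : Set G) ≤ pCore p G)
    (P : Subgroup G) (hP : IsPGroup p P) (H : Subgroup G) (hH : (Nat.card H).Coprime p)
    (hHP : H ≤ Subgroup.centralizer (P : Set G))
    (hn : Subgroup.centralizer (P : Set G) ⊓ pCore p G ≤ Subgroup.normalizer (H : Set G)) :
    H = ⊥ := by
  have hcore : IsPGroup p (pCore p G) := Lib.Cores.pCore_isPGroup p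
  have hinf : H ⊓ pCore p G = ⊥ := by
    obtain ⟨n, hn'⟩ := IsPGroup.iff_card.mp hcore
    apply Disjoint.eq_bot
    apply Subgroup.disjoint_of_coprime_natCard
    rw [hn']
    exact Nat.Coprime.pow_right n hH
  have hle : H ≤ Subgroup.centralizer (pCore p G : Set G) := by
    apply Lib.ThompsonPQ.thompson_p_times_q p P H (pCore p G) hP hH hcore
    · intro x hx
      rw [Subgroup.mem_centralizer_iff]
      intro h hh
      exact (Subgroup.mem_centralizer_iff.mp (hHP hh) x hx).symm
    · exact Subgroup.le_normalizer_of_normal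
    · exact Subgroup.le_normalizer_of_normal
    · rintro u ⟨hu1, hu2⟩
      rw [Subgroup.mem_centralizer_iff]
      intro h hh
      have h1 : u * h * u⁻¹ ∈ H := (Subgroup.mem_normalizer_iff.mp (hn ⟨hu2, hu1⟩) h).mp hh
      have h2 : h⁻¹ * (u * h * u⁻¹) ∈ H := H.mul_mem (H.inv_mem hh) h1
      have h3 : h⁻¹ * (u * h * u⁻¹) ∈ pCore p G := by
        have h4 : h⁻¹ * u * h ∈ pCore p G := by
          have := (pCore_normal p G).conj_mem u hu1 h⁻¹
          simpa using this
        have h5 := (pCore p G).mul_mem h4 ((pCore p G).inv_mem hu1)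
        have e : h⁻¹ * u * h * u⁻¹ = h⁻¹ * (u * h * u⁻¹) := by group
        rwa [e] at h5
      have h6 : h⁻¹ * (u * h * u⁻¹) ∈ H ⊓ pCore p G := ⟨h2, h3⟩
      rw [hinf, Subgroup.mem_bot] at h6
      have h7 : u * h * u⁻¹ = h := (inv_mul_eq_one.mp h6).symm
      calc h * u = (u * h * u⁻¹) * u := by rw [h7]
        _ = u * h := by group
  exact le_bot_iff.mp (hinf ▸ le_inf le_rfl (hle.trans hG))

/-- In a finite solvable group `G`, a `p'`-subgroup `H` which centralises a `p`-subgroup `P` and is normalised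
by `C_G(P)` lies in `O_{p'}(G)`. In particular `O_{p'}(C_G(P)) ≤ O_{p'}(G)`. -/
theorem le_pPrimeCore_of_centralizer_normalizes {G : Type*} [Group G] [Finite G]
    (hsolv : Group.IsSolvable G) {p : ℕ} [Fact p.Prime]
    (P : Subgroup G) (hP : IsPGroup p P) (H : Subgroup G) (hH : (Nat.card H).Coprime p)
    (hHP : H ≤ Subgroup.centralizer (P : Set G))
    (hn : Subgroup.centralizer (P : Set G) ≤ Subgroup.normalizer (H : Set G)) :
    H ≤ pPrimeCore p G := by
  have hp : p.Prime := Fact.out
  have hN : (pPrimeCore p G).Normal := pPrimeCore_normal p G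
  have hNp : ¬ p ∣ Nat.card (pPrimeCore p G) :=
    (hp.coprime_iff_not_dvd).mp (Lib.Cores.pPrimeCore_coprime p).symm
  let f : G →* G ⧸ pPrimeCore p G := QuotientGroup.mk' (pPrimeCore p G)
  have hf : Function.Surjective f := QuotientGroup.mk'_surjective _
  have hsolv' : Group.IsSolvable (G ⧸ pPrimeCore p G) := Group.isSolvable_of_surjective hf
  have hcore : pPrimeCore p (G ⧸ pPrimeCore p G) = ⊥ := Lib.Cores.pPrimeCore_quotient_pPrimeCore p
  have hself := Cfsg.Agent.S0017.result (G := G ⧸ pPrimeCore p G) p hcore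
  have hbot : H.map f = ⊥ := by
    refine eq_bot_of_centralizer_pCore_le hself (P.map f) (hP.map f) (H.map f) ?_ ?_ ?_
    · exact Nat.Coprime.coprime_dvd_left (Subgroup.card_dvd_of_surjective (f.subgroupMap H)
        (f.subgroupMap_surjective H)) hH
    · rintro _ ⟨h, hh, rfl⟩
      rw [Subgroup.mem_centralizer_iff]
      rintro _ ⟨a, ha, rfl⟩
      rw [← map_mul, ← map_mul, Subgroup.mem_centralizer_iff.mp (hHP hh) a ha]
    · rintro c ⟨hc, -⟩
      obtain ⟨g, hg, hgc⟩ := exists_centralizing_of_quotient P hP (pPrimeCore p G) hNp c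
        (fun a ha => Subgroup.mem_centralizer_iff.mp hc (f a) ⟨a, ha, rfl⟩)
      have hgn : g ∈ Subgroup.normalizer (H : Set G) := by
        apply hn
        rw [Subgroup.mem_centralizer_iff]
        exact hg
      rw [← hgc]
      have h1 : f g ∈ (Subgroup.normalizer (H : Set G)).map f := ⟨g, hgn, rfl⟩
      exact Subgroup.le_normalizer_map f h1
  intro h hh
  have h1 : f h ∈ H.map f := ⟨h, hh, rfl⟩
  rw [hbot, Subgroup.mem_bot] at h1
  exact (QuotientGroup.eq_one_iff h).mp h1

/-- `centralizerPPrimeCore p x ≤ C_G(x)`. -/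
theorem centralizerPPrimeCore_le {G : Type*} [Group G] (p : ℕ) (x : G) :
    centralizerPPrimeCore p x ≤ Subgroup.centralizer ({x} : Set G) := by
  rintro _ ⟨y, -, rfl⟩
  exact y.2

theorem card_centralizerPPrimeCore_coprime {G : Type*} [Group G] [Finite G] (p : ℕ) (x : G) :
    (Nat.card (centralizerPPrimeCore p x)).Coprime p := by
  have h := Lib.Cores.pPrimeCore_coprime (G := ↥(Subgroup.centralizer ({x} : Set G))) p
  have e : Nat.card (centralizerPPrimeCore p x) =
      Nat.card (pPrimeCore p ↥(Subgroup.centralizer ({x} : Set G))) :=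
    Nat.card_congr ((pPrimeCore p ↥(Subgroup.centralizer ({x} : Set G))).equivMapOfInjective
      (Subgroup.centralizer ({x} : Set G)).subtype
      (Subgroup.centralizer ({x} : Set G)).subtype_injective).symm.toEquiv
  rw [e]
  exact h

theorem centralizer_le_normalizer_centralizerPPrimeCore {G : Type*} [Group G] (p : ℕ) (x : G) :
    Subgroup.centralizer ({x} : Set G) ≤
      Subgroup.normalizer (centralizerPPrimeCore p x : Set G) := by
  intro c hc
  have hN : (pPrimeCore p ↥(Subgroup.centralizer ({x} : Set G))).Normal := pPrimeCore_normal p _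
  rw [Subgroup.mem_normalizer_iff]
  intro g
  constructor
  · rintro ⟨y, hy, rfl⟩
    exact ⟨⟨c, hc⟩ * y * ⟨c, hc⟩⁻¹, hN.conj_mem y hy _, rfl⟩
  · rintro ⟨y, hy, hyg⟩
    refine ⟨⟨c, hc⟩⁻¹ * y * ⟨c, hc⟩⁻¹⁻¹, hN.conj_mem y hy _, ?_⟩
    have h1 : (y : G) = c * g * c⁻¹ := hyg
    show c⁻¹ * (y : G) * c⁻¹⁻¹ = g
    rw [h1]
    group

/-- The balance condition for solvable centralisers: `O_{p'}(C_G(a)) ∩ C_G(b) ≤ O_{p'}(C_G(b))` for commuting
elements `a`, `b`, `a` a `p`-element, when `C_G(b)` is solvable. -/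
theorem balance_of_isSolvable {G : Type*} [Group G] [Finite G] {p : ℕ} [Fact p.Prime] (a b : G)
    (hab : a * b = b * a) (k : ℕ) (ha : a ^ p ^ k = 1)
    (hb : Group.IsSolvable ↥(Subgroup.centralizer ({b} : Set G))) :
    centralizerPPrimeCore p a ⊓ Subgroup.centralizer ({b} : Set G) ≤ centralizerPPrimeCore p b := by
  have haC : a ∈ Subgroup.centralizer ({b} : Set G) := by
    rw [Subgroup.mem_centralizer_iff]
    intro h hh
    rw [Set.mem_singleton_iff.mp hh]
    exact hab.symm
  let C : Subgroup G := Subgroup.centralizer ({b} : Set G)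
  let a' : C := ⟨a, haC⟩
  let H : Subgroup C := (centralizerPPrimeCore p a).subgroupOf C
  have hP : IsPGroup p (Subgroup.zpowers a') := by
    rintro ⟨z, hz⟩
    obtain ⟨n, rfl⟩ := Subgroup.mem_zpowers_iff.mp hz
    refine ⟨k, ?_⟩
    apply Subtype.ext
    apply Subtype.ext
    show (a ^ n) ^ p ^ k = 1
    rw [← zpow_natCast, ← zpow_mul, mul_comm, zpow_mul, zpow_natCast, ha, one_zpow]
  have hcentr : ∀ c : C, c ∈ Subgroup.centralizer (Subgroup.zpowers a' : Set C) ↔
      (c : G) ∈ Subgroup.centralizer ({a} : Set G) := by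
    intro c
    rw [Subgroup.mem_centralizer_iff, Subgroup.mem_centralizer_iff]
    constructor
    · intro h g hg
      rw [Set.mem_singleton_iff.mp hg]
      exact congrArg Subtype.val (h a' (Subgroup.mem_zpowers a'))
    · intro h g hg
      obtain ⟨n, rfl⟩ := Subgroup.mem_zpowers_iff.mp hg
      have h1 : Commute a' c := Subtype.ext (h a rfl)
      exact (h1.zpow_left n).eq
  have hle : H ≤ pPrimeCore p C := by
    apply le_pPrimeCore_of_centralizer_normalizes hb (Subgroup.zpowers a') hP H
    · exact Nat.Coprime.coprime_dvd_left (Subgroup.card_comap_dvd_of_injective _ _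
        C.subtype_injective) (card_centralizerPPrimeCore_coprime p a)
    · intro h hh
      rw [hcentr]
      exact centralizerPPrimeCore_le p a hh
    · intro c hc
      rw [hcentr] at hc
      have h1 := centralizer_le_normalizer_centralizerPPrimeCore p a hc
      rw [Subgroup.mem_normalizer_iff] at h1 ⊢
      intro g
      exact h1 g
  rintro g ⟨hg1, hg2⟩
  exact ⟨⟨g, hg2⟩, hle hg1, rfl⟩

end Cfsg.Agent.SignalizersComponents.CoreOfCentralizer
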