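import Mathlib

set_option autoImplicit false

/-!
An elementary abelian `p`-group `A` acting on a nontrivial `q`-group `X` (`q ≠ p`): some subgroup `B` of `A`
of index at most `p` centralizes a nonidentity element of `X`.
-/

namespace Cfsg.Agent.SignalizersComponents.HyperplaneFix

open Finset

theorem natCast_eq_zero_of_sums {R : Type*} [Ring R] {p : ℕ} (a c : R) (hac : Commute a c)
    (ha : ∀ k, 0 < k → k < p → ∑ j ∈ range p, (a ^ k) ^ j = 0)
    (hc : ∀ i < p, ∑ j ∈ range p, (a ^ i * c) ^ j = 0) : (p : R) = 0 := by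
  rcases Nat.eq_zero_or_pos p with rfl | hp
  · simp
  have h1 : ∑ i ∈ range p, ∑ j ∈ range p, (a ^ i * c) ^ j = 0 :=
    Finset.sum_eq_zero fun i hi => hc i (Finset.mem_range.mp hi)
  rw [Finset.sum_comm] at h1
  have h2 : ∀ j ∈ range p, ∑ i ∈ range p, (a ^ i * c) ^ j = (∑ i ∈ range p, (a ^ j) ^ i) * c ^ j := by
    intro j _
    rw [Finset.sum_mul]
    refine Finset.sum_congr rfl fun i _ => ?_
    rw [(hac.pow_left i).mul_pow, ← pow_mul, ← pow_mul, mul_comm i j]
  rw [Finset.sum_congr rfl h2] at h1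
  obtain ⟨n, rfl⟩ : ∃ n, p = n + 1 := ⟨p - 1, by omega⟩
  rw [Finset.sum_range_succ'] at h1
  rw [Finset.sum_eq_zero] at h1
  · simpa using h1
  · intro j hj
    rw [ha (j + 1) (Nat.succ_pos _) (by have := Finset.mem_range.mp hj; omega), zero_mul]

theorem sum_pow_eq_zero_of_fixed {V : Type*} [AddCommGroup V] (w : AddMonoid.End V) (p : ℕ)
    (hw : w ^ p = 1) (hfix : ∀ v, w v = v → v = 0) : ∑ j ∈ range p, w ^ j = 0 := by
  have h1 : (w - 1) * ∑ j ∈ range p, w ^ j = 0 := by
    rw [mul_geom_sum, hw, sub_self]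
  ext v
  have h2 : w ((∑ j ∈ range p, w ^ j) v) = (∑ j ∈ range p, w ^ j) v := by
    have := DFunLike.congr_fun h1 v
    rw [sub_mul, one_mul] at this
    have h3 : w ((∑ j ∈ range p, w ^ j) v) - (∑ j ∈ range p, w ^ j) v = 0 := this
    exact sub_eq_zero.mp h3
  exact hfix _ h2

/-- A finite commutative group `A` of exponent `p` acting on an abelian group `V` such that elements outside
the subgroup `B` have no nonzero fixed points, where `V` has an element not killed by `p`: then `B` has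
index at most `p`. -/
theorem index_le_of_fixedPointFree {A V : Type*} [CommGroup A] [Finite A] [AddCommGroup V]
    {p : ℕ} [hp : Fact p.Prime] (hA : ∀ a : A, a ^ p = 1) (φ : A →* AddMonoid.End V) (B : Subgroup A)
    (hfix : ∀ a ∉ B, ∀ v, φ a v = v → v = 0) (hV : ∃ v : V, p • v ≠ 0) : B.index ≤ p := by
  by_contra hlt
  push Not at hlt
  obtain ⟨v, hv⟩ := hV
  have hB : B ≠ ⊤ := by
    rintro rfl
    rw [Subgroup.index_top] at hlt
    have := hp.out.one_lt
    omega
  obtain ⟨a, ha⟩ : ∃ a, a ∉ B := by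
    by_contra h
    push Not at h
    exact hB (eq_top_iff.mpr fun x _ => h x)
  have hZ : Subgroup.zpowers (QuotientGroup.mk a : A ⧸ B) ≠ ⊤ := by
    intro h
    have h1 : Nat.card (Subgroup.zpowers (QuotientGroup.mk a : A ⧸ B)) = Nat.card (A ⧸ B) := by
      rw [h]; exact Subgroup.card_top
    rw [Nat.card_zpowers] at h1
    have h2 : orderOf (QuotientGroup.mk a : A ⧸ B) ≤ p := by
      apply Nat.le_of_dvd hp.out.pos
      apply orderOf_dvd_of_pow_eq_one
      rw [← QuotientGroup.mk_pow, hA a]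
      rfl
    rw [h1] at h2
    exact absurd hlt (not_lt.mpr h2)
  obtain ⟨c', hc'⟩ : ∃ c, c ∉ Subgroup.zpowers (QuotientGroup.mk a : A ⧸ B) := by
    by_contra h
    push Not at h
    exact hZ (eq_top_iff.mpr fun x _ => h x)
  obtain ⟨c, rfl⟩ := QuotientGroup.mk_surjective c'
  have hak : ∀ k, 0 < k → k < p → a ^ k ∉ B := by
    intro k hk0 hkp hk
    have hcop : Nat.Coprime k p :=
      ((Nat.Prime.coprime_iff_not_dvd hp.out).mpr (Nat.not_dvd_of_pos_of_lt hk0 hkp)).symm
    obtain ⟨m, -, hm⟩ := Nat.exists_mul_mod_eq_one_of_coprime hcop hp.out.one_lt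
    apply ha
    have h1 : a = (a ^ k) ^ m := by
      rw [← pow_mul, pow_eq_pow_mod (k * m) (hA a), hm, pow_one]
    rw [h1]
    exact B.pow_mem hk m
  have hci : ∀ i : ℕ, a ^ i * c ∉ B := by
    intro i hi
    apply hc'
    have h1 : (QuotientGroup.mk (a ^ i * c) : A ⧸ B) = 1 := (QuotientGroup.eq_one_iff _).mpr hi
    have h2 : (QuotientGroup.mk c : A ⧸ B) = (QuotientGroup.mk a : A ⧸ B) ^ (-(i : ℤ)) := by
      rw [QuotientGroup.mk_mul, QuotientGroup.mk_pow] at h1
      rw [zpow_neg, zpow_natCast]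
      exact eq_inv_of_mul_eq_one_right h1
    rw [h2]
    exact Subgroup.zpow_mem _ (Subgroup.mem_zpowers _) _
  have hone : ∀ x : A, (φ x) ^ p = 1 := fun x => by rw [← map_pow, hA, map_one]
  have key : ((p : ℕ) : AddMonoid.End V) = 0 := by
    refine natCast_eq_zero_of_sums (φ a) (φ c) ?_ ?_ ?_
    · exact (Commute.all a c).map φ
    · intro k hk0 hkp
      rw [← map_pow]
      exact sum_pow_eq_zero_of_fixed _ p (hone _) (hfix _ (hak k hk0 hkp))
    · intro i _
      rw [← map_pow, ← map_mul]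
      exact sum_pow_eq_zero_of_fixed _ p (hone _) (hfix _ (hci i))
  apply hv
  have h1 := DFunLike.congr_fun key v
  rwa [AddMonoid.End.natCast_apply] at h1


/-- An elementary abelian `p`-subgroup `A` normalizing a nontrivial `q`-subgroup `X`, `q ≠ p`: a subgroup `B`
of `A` of index at most `p` centralizes a nonidentity element of `X`. -/
theorem exists_hyperplane_fixed {G : Type*} [Group G] [Finite G] {p : ℕ} [hp : Fact p.Prime] {q : ℕ}
    [hq : Fact q.Prime] (hqp : q ≠ p) (A : Subgroup G) (hcomm : ∀ a ∈ A, ∀ b ∈ A, a * b = b * a)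
    (hexp : ∀ a ∈ A, a ^ p = 1) (X : Subgroup G) (hX : IsPGroup q X) (hX1 : X ≠ ⊥)
    (hAX : ∀ a ∈ A, ∀ x ∈ X, a * x * a⁻¹ ∈ X) :
    ∃ B ≤ A, Nat.card A ≤ p * Nat.card B ∧ ∃ x ∈ X, x ≠ 1 ∧ ∀ b ∈ B, b * x = x * b := by
  classical
  let S : Set (Subgroup A) := {B | ∃ x ∈ X, x ≠ 1 ∧ ∀ b ∈ B, (b : G) * x = x * b}
  have hSne : S.Nonempty := by
    obtain ⟨x, hx, hx1⟩ := X.bot_or_exists_ne_one.resolve_left hX1
    refine ⟨⊥, x, hx, hx1, fun b hb => ?_⟩
    rw [Subgroup.mem_bot] at hb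
    simp [hb]
  obtain ⟨B, hBmax⟩ := (Set.toFinite S).exists_maximal hSne
  obtain ⟨x₀, hx₀X, hx₀1, hx₀B⟩ := hBmax.1
  -- the fixed points `Y` of `B` in `X`, and the centre `Z` of `Y`
  set Y : Subgroup G := X ⊓ Subgroup.centralizer ((B.map A.subtype : Subgroup G) : Set G) with hY
  set Z : Subgroup G := Y ⊓ Subgroup.centralizer (Y : Set G) with hZ
  have hAC : ∀ a ∈ A, ∀ y ∈ Y, a * y * a⁻¹ ∈ Y := by
    intro a ha y hy
    refine ⟨hAX a ha y hy.1, Subgroup.mem_centralizer_iff.mpr ?_⟩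
    rintro _ ⟨b, hb, rfl⟩
    have h1 := Subgroup.mem_centralizer_iff.mp hy.2 _ ⟨b, hb, rfl⟩
    have h2 : (b : G) * a = a * b := hcomm _ b.2 _ ha
    have h3 : (b : G) * a⁻¹ = a⁻¹ * b := hcomm _ b.2 _ (A.inv_mem ha)
    change (b : G) * (a * y * a⁻¹) = a * y * a⁻¹ * b
    calc (b : G) * (a * y * a⁻¹) = ((b : G) * a) * y * a⁻¹ := by group
      _ = a * (b * y) * a⁻¹ := by rw [h2]; group
      _ = a * (y * b) * a⁻¹ := by rw [show (b : G) * y = y * b from h1]
      _ = a * y * (b * a⁻¹) := by group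
      _ = a * y * a⁻¹ * b := by rw [h3]; group
  have hAZ : ∀ a ∈ A, ∀ z ∈ Z, a * z * a⁻¹ ∈ Z := by
    intro a ha z hz
    refine ⟨hAC a ha z hz.1, Subgroup.mem_centralizer_iff.mpr fun y hy => ?_⟩
    have h1 := Subgroup.mem_centralizer_iff.mp hz.2 (a⁻¹ * y * a)
      (by simpa using hAC a⁻¹ (A.inv_mem ha) y hy)
    calc y * (a * z * a⁻¹) = a * ((a⁻¹ * y * a) * z) * a⁻¹ := by group
      _ = a * (z * (a⁻¹ * y * a)) * a⁻¹ := by rw [h1]
      _ = a * z * a⁻¹ * y := by group
  have hYp : IsPGroup q Y := hX.to_le inf_le_left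
  have hYne : Nontrivial Y := by
    refine ⟨⟨⟨x₀, hx₀X, Subgroup.mem_centralizer_iff.mpr ?_⟩, 1, fun h => hx₀1 (congrArg Subtype.val h)⟩⟩
    rintro _ ⟨b, hb, rfl⟩
    exact hx₀B b hb
  obtain ⟨z, hzZ, hz1⟩ : ∃ z ∈ Z, z ≠ 1 := by
    have := hYp.center_nontrivial
    obtain ⟨c, hc⟩ := exists_ne (1 : Subgroup.center Y)
    refine ⟨c.1.1, ⟨c.1.2, Subgroup.mem_centralizer_iff.mpr fun y hy => ?_⟩, fun h => hc ?_⟩
    · have := Subgroup.mem_center_iff.mp c.2 ⟨y, hy⟩
      exact congrArg Subtype.val this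
    · exact Subtype.ext (Subtype.ext h)
  let _ : CommGroup A := { (inferInstance : Group A) with
    mul_comm := fun a b => Subtype.ext (hcomm a a.2 b b.2) }
  let _ : CommGroup Z := { (inferInstance : Group Z) with
    mul_comm := fun a b => Subtype.ext ((Subgroup.mem_centralizer_iff.mp b.2.2 a.1 a.2.1)) }
  let φ : A →* AddMonoid.End (Additive Z) :=
    { toFun := fun a =>
        { toFun := fun z => Additive.ofMul ⟨a * z.toMul.1 * (a : G)⁻¹, hAZ a a.2 _ z.toMul.2⟩
          map_zero' := by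
            apply congrArg Additive.ofMul
            apply Subtype.ext
            change (a : G) * 1 * (a : G)⁻¹ = 1
            group
          map_add' := by
            intro u v
            apply congrArg Additive.ofMul
            apply Subtype.ext
            change (a : G) * (u.toMul.1 * v.toMul.1) * (a : G)⁻¹ =
              (a * u.toMul.1 * (a : G)⁻¹) * (a * v.toMul.1 * (a : G)⁻¹)
            group }
      map_one' := by
        ext u
        change (1 : G) * u.toMul.1 * (1 : G)⁻¹ = u.toMul.1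
        simp
      map_mul' := by
        intro a b
        ext u
        change ((a : G) * b) * u.toMul.1 * ((a : G) * b)⁻¹ =
          a * (b * u.toMul.1 * (b : G)⁻¹) * (a : G)⁻¹
        group }
  have hfix : ∀ a ∉ B, ∀ v, φ a v = v → v = 0 := by
    intro a ha v hv
    by_contra hv0
    have hv' : (a : G) * v.toMul.1 * (a : G)⁻¹ = v.toMul.1 :=
      congrArg (fun t : Additive Z => (t.toMul.1 : G)) hv
    have hle : B ⊔ Subgroup.zpowers a ∈ S := by
      refine ⟨v.toMul.1, v.toMul.2.1.1, fun h => hv0 ?_, ?_⟩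
      · exact congrArg Additive.ofMul (Subtype.ext h : v.toMul = (1 : Z))
      · intro b hb
        have h1 : B ⊔ Subgroup.zpowers a ≤
            (Subgroup.centralizer {v.toMul.1} : Subgroup G).comap A.subtype := by
          rw [sup_le_iff, Subgroup.zpowers_le]
          constructor
          · intro c hc
            rw [Subgroup.mem_comap, Subgroup.mem_centralizer_singleton_iff]
            have h2 := Subgroup.mem_centralizer_iff.mp v.toMul.2.1.2 _ ⟨c, hc, rfl⟩
            exact h2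
          · rw [Subgroup.mem_comap, Subgroup.mem_centralizer_singleton_iff]
            rw [mul_inv_eq_iff_eq_mul] at hv'
            exact hv'
        have h3 := h1 hb
        rw [Subgroup.mem_comap, Subgroup.mem_centralizer_singleton_iff] at h3
        exact h3
    have h4 := hBmax.2 hle le_sup_left
    exact ha (h4 (Subgroup.mem_sup_right (Subgroup.mem_zpowers a)))
  have hV : ∃ v : Additive Z, p • v ≠ 0 := by
    refine ⟨Additive.ofMul ⟨z, hzZ⟩, fun h => hz1 ?_⟩
    have h1 : z ^ p = 1 := congrArg (fun t : Additive Z => (t.toMul.1 : G)) h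
    obtain ⟨n, hn⟩ := hX ⟨z, hzZ.1.1⟩
    have h2 : z ^ q ^ n = 1 := congrArg Subtype.val hn
    have h3 : orderOf z ∣ 1 := by
      have hcop : Nat.Coprime p (q ^ n) :=
        ((Nat.coprime_primes hp.out hq.out).mpr (Ne.symm hqp)).pow_right n
      rw [← Nat.Coprime.gcd_eq_one hcop]
      exact Nat.dvd_gcd (orderOf_dvd_of_pow_eq_one h1) (orderOf_dvd_of_pow_eq_one h2)
    exact orderOf_eq_one_iff.mp (Nat.dvd_one.mp h3)
  have hidx := index_le_of_fixedPointFree (fun a : A => Subtype.ext (hexp a a.2)) φ B hfix hV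
  refine ⟨B.map A.subtype, Subgroup.map_subtype_le B, ?_, x₀, hx₀X, hx₀1, ?_⟩
  · rw [← B.card_mul_index, Subgroup.card_map_of_injective A.subtype_injective, mul_comm]
    exact Nat.mul_le_mul_right _ hidx
  · rintro _ ⟨b, hb, rfl⟩
    exact hx₀B b hb

end Cfsg.Agent.SignalizersComponents.HyperplaneFix
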