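import Mathlib
import Cfsg.Prelude.Def_Balance
import Cfsg.Agent.Lib.PGroupCoprimeAction
import Cfsg.Agent.S1280
import Cfsg.Agent.S1282

/-!
Maximal `q`-subgroups in the family of a solvable signalizer functor: basic facts and the
Transitivity Theorem.
-/

set_option autoImplicit false

namespace Cfsg.Agent.SignalizersComponents.SignalizerMax

open Cfsg

variable {G : Type*} [Group G] {p : ℕ} {A : Subgroup G} {θ : G → Subgroup G}

theorem mem_family_of_le [Finite G] {U V : Subgroup G} (hU : U ∈ signalizerFamily p A θ) (hVU : V ≤ U)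
    (hV : ∀ b ∈ A, ∀ u ∈ V, b * u * b⁻¹ ∈ V) : V ∈ signalizerFamily p A θ := by
  obtain ⟨h1, h2, -, h4⟩ := hU
  refine ⟨?_, fun h => h2 (h.trans (Subgroup.card_dvd_of_le hVU)), hV,
    fun a ha ha1 => (inf_le_inf_right _ hVU).trans (h4 a ha ha1)⟩
  have : Group.IsSolvable U := h1
  exact Group.isSolvable_of_isSolvable_injective (Subgroup.inclusion_injective hVU)

theorem theta_mem_family (hθ : IsSolvableSignalizerFunctor p A θ) {a : G} (ha : a ∈ A) (ha1 : a ≠ 1) :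
    θ a ∈ signalizerFamily p A θ :=
  ⟨hθ.2 a ha ha1, hθ.1.2.1 a ha ha1, hθ.1.2.2.1 a ha ha1, fun b hb hb1 => hθ.1.2.2.2 a ha ha1 b hb hb1⟩

theorem mem_inf_iff {x : G} : x ∈ signalizerInf A θ ↔ ∀ a ∈ A, a ≠ 1 → x ∈ θ a := by
  unfold signalizerInf
  rw [Subgroup.mem_iInf]
  exact ⟨fun h a ha ha1 => h ⟨a, ha, ha1⟩, fun h a => h a.1 a.2.1 a.2.2⟩

/-- `⋂ θ a` centralizes `A`. -/
theorem inf_le_centralizer (hθ : IsSolvableSignalizerFunctor p A θ) {c : G} (hc : c ∈ signalizerInf A θ) :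
    ∀ a ∈ A, a * c = c * a := by
  intro a ha
  by_cases ha1 : a = 1
  · rw [ha1]; simp
  · have h1 := hθ.1.1 a ha ha1 (mem_inf_iff.mp hc a ha ha1)
    exact Subgroup.mem_centralizer_iff.mp h1 a (by simp)

theorem conj_mem_family (hθ : IsSolvableSignalizerFunctor p A θ) {c : G} (hc : c ∈ signalizerInf A θ)
    {U : Subgroup G} (hU : U ∈ signalizerFamily p A θ) :
    U.map (MulAut.conj c).toMonoidHom ∈ signalizerFamily p A θ := by
  obtain ⟨h1, h2, h3, h4⟩ := hU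
  have hcA := inf_le_centralizer hθ hc
  refine ⟨?_, ?_, ?_, ?_⟩
  · have : Group.IsSolvable U := h1
    exact Group.isSolvable_of_surjective (f := (U.equivMapOfInjective _ (MulAut.conj c).injective).toMonoidHom)
      (U.equivMapOfInjective _ (MulAut.conj c).injective).surjective
  · rwa [Subgroup.card_map_of_injective (MulAut.conj c).injective]
  · rintro b hb _ ⟨u, hu, rfl⟩
    refine ⟨b * u * b⁻¹, h3 b hb u hu, ?_⟩
    change c * (b * u * b⁻¹) * c⁻¹ = b * (c * u * c⁻¹) * b⁻¹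
    have h5 := hcA b hb
    have h6 : b⁻¹ * c⁻¹ = c⁻¹ * b⁻¹ := by
      rw [← mul_inv_rev, ← mul_inv_rev, h5]
    calc c * (b * u * b⁻¹) * c⁻¹ = (c * b) * u * (b⁻¹ * c⁻¹) := by group
      _ = (b * c) * u * (c⁻¹ * b⁻¹) := by rw [h5, h6]
      _ = b * (c * u * c⁻¹) * b⁻¹ := by group
  · rintro a ha ha1 x ⟨⟨u, hu, rfl⟩, hx⟩
    have h5 := hcA a ha
    have h7 : c ∈ θ a := mem_inf_iff.mp hc a ha ha1
    have h8 : u ∈ θ a := by
      refine h4 a ha ha1 ⟨hu, ?_⟩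
      have h9 : a * (c * u * c⁻¹) = (c * u * c⁻¹) * a := Subgroup.mem_centralizer_iff.mp hx a (by simp)
      change u ∈ Subgroup.centralizer ({a} : Set G)
      rw [Subgroup.mem_centralizer_iff]
      intro y hy
      rw [Set.mem_singleton_iff.mp hy]
      have h6 : c⁻¹ * a = a * c⁻¹ := by
        rw [inv_mul_eq_iff_eq_mul, ← mul_assoc, ← h5, mul_assoc, mul_inv_cancel, mul_one]
      calc a * u = c⁻¹ * (c * a) * u * c⁻¹ * c := by group
        _ = c⁻¹ * (a * (c * u * c⁻¹)) * c := by rw [← h5]; group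
        _ = c⁻¹ * ((c * u * c⁻¹) * a) * c := by rw [h9]
        _ = u * (c⁻¹ * a) * c := by group
        _ = u * (a * c⁻¹) * c := by rw [h6]
        _ = u * a := by group
    exact (θ a).mul_mem ((θ a).mul_mem h7 h8) ((θ a).inv_mem h7)

/-- `Q` is a maximal `q`-subgroup in the family of `θ`. -/
def IsMaxQ (p : ℕ) (A : Subgroup G) (θ : G → Subgroup G) (q : ℕ) (Q : Subgroup G) : Prop :=
  Q ∈ signalizerFamily p A θ ∧ IsPGroup q Q ∧
    ∀ R ∈ signalizerFamily p A θ, IsPGroup q R → Q ≤ R → R = Q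

theorem exists_isMaxQ_ge [Finite G] {q : ℕ} {R : Subgroup G} (hR : R ∈ signalizerFamily p A θ) (hRq : IsPGroup q R) :
    ∃ Q, IsMaxQ p A θ q Q ∧ R ≤ Q := by
  obtain ⟨S, ⟨hRS, hS, hSq⟩, hSmax⟩ :=
    (Set.toFinite {S : Subgroup G | R ≤ S ∧ S ∈ signalizerFamily p A θ ∧ IsPGroup q S}).exists_maximal
      ⟨R, le_rfl, hR, hRq⟩
  exact ⟨S, ⟨hS, hSq, fun T hT hTq hST => le_antisymm (hSmax ⟨hRS.trans hST, hT, hTq⟩ hST) hST⟩, hRS⟩

theorem map_conj_map_conj (c d : G) (Q : Subgroup G) :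
    (Q.map (MulAut.conj c).toMonoidHom).map (MulAut.conj d).toMonoidHom =
      Q.map (MulAut.conj (d * c)).toMonoidHom := by
  rw [Subgroup.map_map]
  congr 1
  ext x
  simp [mul_assoc]

theorem map_conj_one (Q : Subgroup G) : Q.map (MulAut.conj (1 : G)).toMonoidHom = Q := by
  ext x
  simp

theorem map_conj_eq_iff {c : G} {P Q : Subgroup G} :
    P.map (MulAut.conj c).toMonoidHom = Q ↔ Q.map (MulAut.conj c⁻¹).toMonoidHom = P := by
  constructor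
  · rintro rfl
    rw [map_conj_map_conj, inv_mul_cancel, map_conj_one]
  · rintro rfl
    rw [map_conj_map_conj, mul_inv_cancel, map_conj_one]

theorem IsMaxQ.conj (hθ : IsSolvableSignalizerFunctor p A θ) {q : ℕ} {Q : Subgroup G} (hQ : IsMaxQ p A θ q Q)
    {c : G} (hc : c ∈ signalizerInf A θ) : IsMaxQ p A θ q (Q.map (MulAut.conj c).toMonoidHom) := by
  obtain ⟨h1, h2, h3⟩ := hQ
  refine ⟨conj_mem_family hθ hc h1, h2.map _, ?_⟩
  intro R hR hRq hle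
  have h4 := conj_mem_family hθ (inv_mem hc) hR
  have h5 : Q ≤ R.map (MulAut.conj c⁻¹).toMonoidHom := by
    have := Subgroup.map_mono (f := (MulAut.conj c⁻¹).toMonoidHom) hle
    rwa [map_conj_map_conj, inv_mul_cancel, map_conj_one] at this
  have h6 := h3 _ h4 (hRq.map _) h5
  rw [← h6, map_conj_map_conj, mul_inv_cancel, map_conj_one]

section Conj

/-- Conjugacy under `⋂ θ a`. -/
def ConjInf (A : Subgroup G) (θ : G → Subgroup G) (P Q : Subgroup G) : Prop :=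
  ∃ c ∈ signalizerInf A θ, P.map (MulAut.conj c).toMonoidHom = Q

theorem ConjInf.refl (P : Subgroup G) : ConjInf A θ P P := ⟨1, one_mem _, map_conj_one P⟩

theorem ConjInf.symm {P Q : Subgroup G} (h : ConjInf A θ P Q) : ConjInf A θ Q P := by
  obtain ⟨c, hc, h⟩ := h
  exact ⟨c⁻¹, inv_mem hc, map_conj_eq_iff.mp h⟩

theorem ConjInf.trans {P Q R : Subgroup G} (h : ConjInf A θ P Q) (h' : ConjInf A θ Q R) : ConjInf A θ P R := by
  obtain ⟨c, hc, rfl⟩ := h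
  obtain ⟨d, hd, rfl⟩ := h'
  exact ⟨d * c, mul_mem hd hc, (map_conj_map_conj c d P).symm⟩

end Conj

/-- In a member `H` of the family, `C_H(A) ≤ ⋂ θ a`. -/
theorem centralizer_inf_le {H : Subgroup G} (hH : H ∈ signalizerFamily p A θ) :
    H ⊓ Subgroup.centralizer (A : Set G) ≤ signalizerInf A θ := by
  rintro x ⟨hx, hxA⟩
  rw [mem_inf_iff]
  intro a ha ha1
  refine hH.2.2.2 a ha ha1 ⟨hx, ?_⟩
  change x ∈ Subgroup.centralizer ({a} : Set G)
  rw [Subgroup.mem_centralizer_iff]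
  intro y hy
  rw [Set.mem_singleton_iff.mp hy]
  exact Subgroup.mem_centralizer_iff.mp hxA a ha

theorem isPGroup_of_isElementaryAbelian (hA : IsElementaryAbelian p A) : IsPGroup p A := by
  rintro ⟨x, hx⟩
  refine ⟨1, Subtype.ext ?_⟩
  simp only [pow_one]
  exact hA.2 x hx

theorem le_normalizer_of_conj {U : Subgroup G} (hU : ∀ b ∈ A, ∀ u ∈ U, b * u * b⁻¹ ∈ U) :
    A ≤ Subgroup.normalizer (U : Set G) := by
  intro b hb
  rw [Subgroup.mem_normalizer_iff]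
  intro x
  refine ⟨fun hx => hU b hb x hx, fun hx => ?_⟩
  have h1 := hU b⁻¹ (A.inv_mem hb) _ hx
  have h2 : b⁻¹ * (b * x * b⁻¹) * b⁻¹⁻¹ = x := by group
  rwa [h2] at h1

/-- Two `q`-subgroups `R₁`, `R₂` in a member `H` of the family which lie in the family lie in maximal
members (of the `q`-part) which are conjugate under `⋂ θ a`. -/
theorem exists_conj_ge [Finite G] [Fact p.Prime] (hA : IsElementaryAbelian p A)
    (hθ : IsSolvableSignalizerFunctor p A θ) {q : ℕ} [Fact q.Prime] {H R₁ R₂ : Subgroup G}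
    (hH : H ∈ signalizerFamily p A θ)
    (h1 : R₁ ≤ H) (h1q : IsPGroup q R₁) (h1A : ∀ b ∈ A, ∀ u ∈ R₁, b * u * b⁻¹ ∈ R₁)
    (h2 : R₂ ≤ H) (h2q : IsPGroup q R₂) (h2A : ∀ b ∈ A, ∀ u ∈ R₂, b * u * b⁻¹ ∈ R₂) :
    ∃ S₁ S₂, IsMaxQ p A θ q S₁ ∧ IsMaxQ p A θ q S₂ ∧ R₁ ≤ S₁ ∧ R₂ ≤ S₂ ∧ ConjInf A θ S₁ S₂ := by
  have hAp := isPGroup_of_isElementaryAbelian hA
  obtain ⟨T₁, hT₁, hAT₁, hRT₁⟩ :=
    Lib.PGroupCoprimeAction.exists_invariant_sylow_ge hAp hH.2.1 hH.2.2.1 h1 h1q h1A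
  obtain ⟨T₂, hT₂, hAT₂, hRT₂⟩ :=
    Lib.PGroupCoprimeAction.exists_invariant_sylow_ge hAp hH.2.1 hH.2.2.1 h2 h2q h2A
  obtain ⟨c, hc, hcT⟩ := Lib.PGroupCoprimeAction.exists_centralizer_conj hAp hH.2.1 hH.2.2.1 hT₁ hT₂ hAT₁ hAT₂
  have hc' := centralizer_inf_le hH hc
  rw [Blocks.SylowIn.exists_sylow_map_eq_iff] at hT₁
  obtain ⟨S₁, hS₁, hTS₁⟩ := exists_isMaxQ_ge (mem_family_of_le hH hT₁.1 hAT₁) hT₁.2.1
  refine ⟨S₁, S₁.map (MulAut.conj c).toMonoidHom, hS₁, hS₁.conj hθ hc', hRT₁.trans hTS₁, ?_, c, hc', rfl⟩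
  refine hRT₂.trans ?_
  rw [← hcT]
  exact Subgroup.map_mono hTS₁

/-- **Transitivity Theorem.** -/
theorem transitivity [Finite G] [Fact p.Prime] (hA : IsElementaryAbelian p A) (hA3 : p ^ 3 ≤ Nat.card A)
    (hθ : IsSolvableSignalizerFunctor p A θ) {q : ℕ} [Fact q.Prime] {Q₁ Q₂ : Subgroup G}
    (hQ₁ : IsMaxQ p A θ q Q₁) (hQ₂ : IsMaxQ p A θ q Q₂) : ConjInf A θ Q₁ Q₂ := by
  have hp : p.Prime := Fact.out
  -- downward induction on the order of the intersection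
  suffices H : ∀ n : ℕ, ∀ Q₁ Q₂ : Subgroup G, IsMaxQ p A θ q Q₁ → IsMaxQ p A θ q Q₂ →
      Nat.card G - Nat.card ↥(Q₁ ⊓ Q₂) = n → ConjInf A θ Q₁ Q₂ from H _ Q₁ Q₂ hQ₁ hQ₂ rfl
  intro n
  induction n using Nat.strong_induction_on with
  | _ n ih =>
    intro Q₁ Q₂ hQ₁ hQ₂ hn
    by_cases hD₁ : Q₁ ⊓ Q₂ = Q₁
    · have h1 : Q₁ ≤ Q₂ := inf_eq_left.mp hD₁
      rw [hQ₁.2.2 Q₂ hQ₂.1 hQ₂.2.1 h1]
      exact ConjInf.refl _
    by_cases hD₂ : Q₁ ⊓ Q₂ = Q₂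
    · have h1 : Q₂ ≤ Q₁ := inf_eq_right.mp hD₂
      rw [hQ₂.2.2 Q₁ hQ₁.1 hQ₁.2.1 h1]
      exact ConjInf.refl _
    -- the prime `q` is not `p`
    have hqp : q ≠ p := by
      rintro rfl
      have h1 : Q₁ = ⊥ := by
        rw [← Subgroup.card_eq_one]
        obtain ⟨k, hk⟩ := IsPGroup.iff_card.mp hQ₁.2.1
        have h2 := hQ₁.1.2.1
        rw [hk] at h2 ⊢
        rcases Nat.eq_zero_or_pos k with h | h
        · rw [h, pow_zero]
        · exact absurd (dvd_pow_self q h.ne') h2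
      exact hD₁ (by rw [h1, bot_inf_eq])
    obtain ⟨a, ha, ha1, hn₁, hn₂⟩ := S1282.result p A hA hA3 q hqp Q₁ Q₂ hQ₁.2.1 hQ₂.2.1
      (le_normalizer_of_conj hQ₁.1.2.2.1) (le_normalizer_of_conj hQ₂.1.2.2.1) hD₁ hD₂
    set D := Q₁ ⊓ Q₂ with hDdef
    have hDA : ∀ b ∈ A, ∀ u ∈ D, b * u * b⁻¹ ∈ D := by
      intro b hb u hu
      exact ⟨hQ₁.1.2.2.1 b hb u hu.1, hQ₂.1.2.2.1 b hb u hu.2⟩
    have hDW : D ∈ signalizerFamily p A θ := mem_family_of_le hQ₁.1 inf_le_left hDA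
    have hAcomm : ∀ x ∈ A, ∀ y ∈ A, x * y = y * x := by
      intro x hx y hy
      have := hA.1.is_comm.comm (⟨x, hx⟩ : A) ⟨y, hy⟩
      exact congrArg Subtype.val this
    -- conjugation by elements of `A` preserves the normalizer of `D` and the centralizer of `a`
    have hNA : ∀ b ∈ A, ∀ u ∈ Subgroup.normalizer (D : Set G), b * u * b⁻¹ ∈ Subgroup.normalizer (D : Set G) := by
      intro b hb u hu
      have hbN := le_normalizer_of_conj hDA hb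
      exact mul_mem (mul_mem hbN hu) (inv_mem hbN)
    have hCA : ∀ b ∈ A, ∀ u ∈ Subgroup.centralizer ({a} : Set G), b * u * b⁻¹ ∈ Subgroup.centralizer ({a} : Set G) := by
      intro b hb u hu
      have hbC : b ∈ Subgroup.centralizer ({a} : Set G) := by
        rw [Subgroup.mem_centralizer_iff]
        intro y hy
        rw [Set.mem_singleton_iff.mp hy]
        exact hAcomm a ha b hb
      exact mul_mem (mul_mem hbC hu) (inv_mem hbC)
    -- the member `K = N_{θ(a)}(D)`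
    have hKA : ∀ b ∈ A, ∀ u ∈ θ a ⊓ Subgroup.normalizer (D : Set G),
        b * u * b⁻¹ ∈ θ a ⊓ Subgroup.normalizer (D : Set G) := fun b hb u hu =>
      ⟨hθ.1.2.2.1 a ha ha1 b hb u hu.1, hNA b hb u hu.2⟩
    have hK : θ a ⊓ Subgroup.normalizer (D : Set G) ∈ signalizerFamily p A θ :=
      mem_family_of_le (theta_mem_family hθ ha ha1) inf_le_left hKA
    have hp2 : p ^ 2 ≤ Nat.card A := (Nat.pow_le_pow_right hp.pos (by norm_num)).trans hA3
    have hH : D ⊔ (θ a ⊓ Subgroup.normalizer (D : Set G)) ∈ signalizerFamily p A θ :=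
      S1280.result p A hA hp2 θ hθ D _ hDW hK inf_le_right
    set H := D ⊔ (θ a ⊓ Subgroup.normalizer (D : Set G)) with hHdef
    -- the two subgroups `R i = D ⊔ (N_{Q i}(D) ⊓ C(a))`
    have key : ∀ Q : Subgroup G, IsMaxQ p A θ q Q → D ≤ Q →
        ¬ (Subgroup.normalizer (D : Set G) ⊓ Q ⊓ Subgroup.centralizer {a} ≤ D) →
        ∃ R : Subgroup G, R ≤ H ∧ R ≤ Q ∧ IsPGroup q R ∧ (∀ b ∈ A, ∀ u ∈ R, b * u * b⁻¹ ∈ R) ∧ D < R := by
      intro Q hQ hDQ hnle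
      refine ⟨D ⊔ (Subgroup.normalizer (D : Set G) ⊓ Q ⊓ Subgroup.centralizer {a}), ?_, ?_, ?_, ?_, ?_⟩
      · refine sup_le le_sup_left (le_trans ?_ le_sup_right)
        rintro x ⟨⟨hx1, hx2⟩, hx3⟩
        exact ⟨hQ.1.2.2.2 a ha ha1 ⟨hx2, hx3⟩, hx1⟩
      · exact sup_le hDQ (inf_le_left.trans inf_le_right)
      · exact hQ.2.1.to_le (sup_le hDQ (inf_le_left.trans inf_le_right))
      · intro b hb u hu
        have hb' : ∀ S : Subgroup G, (∀ u ∈ S, b * u * b⁻¹ ∈ S) → S.map (MulAut.conj b).toMonoidHom ≤ S := by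
          rintro S hS _ ⟨u, hu, rfl⟩
          exact hS u hu
        have h5 : (D ⊔ (Subgroup.normalizer (D : Set G) ⊓ Q ⊓ Subgroup.centralizer {a})).map
            (MulAut.conj b).toMonoidHom ≤
            D ⊔ (Subgroup.normalizer (D : Set G) ⊓ Q ⊓ Subgroup.centralizer {a}) := by
          rw [Subgroup.map_sup]
          refine sup_le_sup (hb' _ (hDA b hb)) (hb' _ ?_)
          rintro v ⟨⟨hv1, hv2⟩, hv3⟩
          exact ⟨⟨hNA b hb v hv1, hQ.1.2.2.1 b hb v hv2⟩, hCA b hb v hv3⟩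
        exact h5 ⟨u, hu, rfl⟩
      · refine lt_of_le_of_ne le_sup_left ?_
        intro h5
        exact hnle (sup_eq_left.mp h5.symm)
    obtain ⟨R₁, hR₁H, hR₁Q, hR₁q, hR₁A, hDR₁⟩ := key Q₁ hQ₁ inf_le_left hn₁
    obtain ⟨R₂, hR₂H, hR₂Q, hR₂q, hR₂A, hDR₂⟩ := key Q₂ hQ₂ inf_le_right hn₂
    obtain ⟨S₁, S₂, hS₁, hS₂, hRS₁, hRS₂, hconj⟩ := exists_conj_ge hA hθ hH hR₁H hR₁q hR₁A hR₂H hR₂q hR₂A
    have hlt : ∀ R Q S : Subgroup G, D < R → R ≤ Q → R ≤ S → Nat.card G - Nat.card ↥(Q ⊓ S) < n := by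
      intro R Q S hDR hRQ hRS
      have h6 : D < Q ⊓ S := lt_of_lt_of_le hDR (le_inf hRQ hRS)
      have h7 : Nat.card D < Nat.card ↥(Q ⊓ S) :=
        lt_of_not_ge fun h => h6.ne (Subgroup.eq_of_le_of_card_ge h6.le h)
      have h8 : Nat.card ↥(Q ⊓ S) ≤ Nat.card G := Subgroup.card_le_card_group _
      omega
    have e₁ : ConjInf A θ Q₁ S₁ := ih _ (hlt R₁ Q₁ S₁ hDR₁ hR₁Q hRS₁) Q₁ S₁ hQ₁ hS₁ rfl
    have e₂ : ConjInf A θ Q₂ S₂ := ih _ (hlt R₂ Q₂ S₂ hDR₂ hR₂Q hRS₂) Q₂ S₂ hQ₂ hS₂ rfl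
    exact (e₁.trans hconj).trans e₂.symm

end Cfsg.Agent.SignalizersComponents.SignalizerMax
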