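import Mathlib
import Cfsg.Prelude.Def_Balance
import Cfsg.Agent.SignalizersComponents.CoprimeGen
import Cfsg.Agent.SignalizersComponents.SignalizerMax
import Cfsg.Agent.S1280

set_option autoImplicit false

/-!
Tools for the solvable signalizer functor theorem: completeness criteria.
-/

namespace Cfsg.Agent.SignalizersComponents.FunctorTools

open Subgroup
open scoped commutatorElement
open Cfsg.Agent.Lib.CoprimeCommutator
open Cfsg.Agent.SignalizersComponents.GoldschmidtGen (le_normalizer_of_conj_mem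
  conj_mem_of_le_normalizer le_normalizer_commutator le_normalizer_inf_centralizer le_normalizer_sup)
open Cfsg.Agent.SignalizersComponents.CoprimeGen

variable {G : Type*} [Group G] {p : ℕ} {A : Subgroup G} {θ : G → Subgroup G}

/-- Some member of the family contains all `θ a`. -/
def SolComplete (p : ℕ) (A : Subgroup G) (θ : G → Subgroup G) : Prop :=
  ∃ W ∈ Cfsg.signalizerFamily p A θ, ∀ a ∈ A, a ≠ 1 → θ a ≤ W

theorem mem_centralizer_singleton {a x : G} :
    x ∈ centralizer ({a} : Set G) ↔ a * x = x * a := by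
  rw [Subgroup.mem_centralizer_iff]
  exact ⟨fun h => h a rfl, fun h => by rintro _ rfl; exact h⟩

theorem le_normalizer_of_mem {U : Subgroup G} (hU : U ∈ Cfsg.signalizerFamily p A θ) :
    A ≤ normalizer (U : Set G) := le_normalizer_of_conj_mem hU.2.2.1

/-- An `A`-invariant subgroup of a member is a member. -/
theorem mem_of_le [Finite G] {U V : Subgroup G} (hU : U ∈ Cfsg.signalizerFamily p A θ) (hVU : V ≤ U)
    (hV : A ≤ normalizer (V : Set G)) : V ∈ Cfsg.signalizerFamily p A θ :=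
  SignalizerMax.mem_family_of_le hU hVU fun _ hb _ hu => conj_mem_of_le_normalizer hV hb hu

/-- A product of two members, one normalising the other, is a member. -/
theorem sup_mem [Finite G] [Fact p.Prime] (hA : Cfsg.IsElementaryAbelian p A)
    (hA2 : p ^ 2 ≤ Nat.card A) (hθ : Cfsg.IsSolvableSignalizerFunctor p A θ) {X Y : Subgroup G}
    (hX : X ∈ Cfsg.signalizerFamily p A θ) (hY : Y ∈ Cfsg.signalizerFamily p A θ)
    (hn : Y ≤ normalizer (X : Set G)) : X ⊔ Y ∈ Cfsg.signalizerFamily p A θ :=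
  Cfsg.Agent.S1280.result p A hA hA2 θ hθ X Y hX hY hn

theorem iSup_le_normalizer {ι : Sort*} {X : Subgroup G} (S : ι → Subgroup G)
    (h : ∀ i, X ≤ normalizer (S i : Set G)) : X ≤ normalizer ((⨆ i, S i : Subgroup G) : Set G) := by
  apply le_normalizer_of_conj_mem
  intro a ha
  have h1 : (⨆ i, S i) ≤ (⨆ i, S i).comap (MulAut.conj a).toMonoidHom := by
    refine iSup_le fun i x hx => ?_
    exact (le_iSup S i) (conj_mem_of_le_normalizer (h i) ha hx)
  exact fun x hx => h1 hx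

theorem theta_le_normalizer (hθ : Cfsg.IsSolvableSignalizerFunctor p A θ) {a : G} (ha : a ∈ A)
    (ha1 : a ≠ 1) : A ≤ normalizer (θ a : Set G) :=
  le_normalizer_of_conj_mem (hθ.1.2.2.1 a ha ha1)

theorem hyperplane_pow_le [Finite G] [hp : Fact p.Prime] {B : Subgroup G} {n : ℕ}
    (hA : p ^ (n + 1) ≤ Nat.card A) (hBA : B ≤ A) (hB : B.relIndex A = p) : p ^ n ≤ Nat.card B := by
  have h1 := Subgroup.relIndex_mul_relIndex ⊥ B A bot_le hBA
  rw [Subgroup.relIndex_bot_left, Subgroup.relIndex_bot_left, hB] at h1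
  rw [← h1, pow_succ] at hA
  exact Nat.le_of_mul_le_mul_right hA hp.out.pos

/-- `θ a` is generated by its intersections with the centralizers of hyperplanes. -/
theorem theta_le_iSup_hyperplane [Finite G] [hp : Fact p.Prime] (hA : Cfsg.IsElementaryAbelian p A)
    (hA1 : A ≠ ⊥) (hθ : Cfsg.IsSolvableSignalizerFunctor p A θ) {a : G} (ha : a ∈ A) (ha1 : a ≠ 1) :
    θ a ≤ ⨆ B : {B : Subgroup G // B ≤ A ∧ B.relIndex A = p},
      θ a ⊓ centralizer ((B : Subgroup G) : Set G) :=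
  (Cfsg.Agent.Lib.CoprimeHyperplane.iSup_centralizer_hyperplane hA hA1 (hθ.1.2.1 a ha ha1)
    (theta_le_normalizer hθ ha ha1)).ge

/-- Balance for a subgroup: `θ a ⊓ C(L) ≤ θ z` for `z ∈ L`. -/
theorem theta_inf_centralizer_le (hθ : Cfsg.IsSolvableSignalizerFunctor p A θ) {L : Subgroup G}
    (hLA : L ≤ A) {a z : G} (ha : a ∈ A) (ha1 : a ≠ 1) (hz : z ∈ L) (hz1 : z ≠ 1) :
    θ a ⊓ centralizer (L : Set G) ≤ θ z := by
  refine le_trans (inf_le_inf_left _ (centralizer_le ?_)) (hθ.1.2.2.2 a ha ha1 z (hLA hz) hz1)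
  intro x hx
  rw [Set.mem_singleton_iff] at hx
  rw [hx]
  exact hz

theorem signalizerInf_le {L : Subgroup G} {z : G} (hz : z ∈ L) (hz1 : z ≠ 1) :
    Cfsg.signalizerInf L θ ≤ θ z :=
  iInf_le (fun a : {a : G // a ∈ L ∧ a ≠ 1} => θ (a : G)) ⟨z, hz, hz1⟩

theorem theta_inf_centralizer_le_signalizerInf (hθ : Cfsg.IsSolvableSignalizerFunctor p A θ)
    {L : Subgroup G} (hLA : L ≤ A) {a : G} (ha : a ∈ A) (ha1 : a ≠ 1) :
    θ a ⊓ centralizer (L : Set G) ≤ Cfsg.signalizerInf L θ :=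
  le_iInf fun z => theta_inf_centralizer_le hθ hLA ha ha1 z.2.1 z.2.2

/-- `signalizerInf L θ ≤ C(L)`. -/
theorem signalizerInf_le_centralizer (hθ : Cfsg.IsSolvableSignalizerFunctor p A θ)
    {L : Subgroup G} (hLA : L ≤ A) : Cfsg.signalizerInf L θ ≤ centralizer (L : Set G) := by
  intro x hx
  rw [mem_centralizer_iff]
  intro z hz
  by_cases hz1 : z = 1
  · rw [hz1]; simp
  · exact mem_centralizer_singleton.mp (hθ.1.1 z (hLA hz) hz1 (signalizerInf_le hz hz1 hx))

theorem le_normalizer_signalizerInf (hθ : Cfsg.IsSolvableSignalizerFunctor p A θ)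
    {L : Subgroup G} (hLA : L ≤ A) :
    A ≤ normalizer ((Cfsg.signalizerInf L θ : Subgroup G) : Set G) := by
  apply le_normalizer_of_conj_mem
  intro a ha x hx
  unfold Cfsg.signalizerInf at hx ⊢
  rw [Subgroup.mem_iInf] at hx ⊢
  intro z
  exact conj_mem_of_le_normalizer (theta_le_normalizer hθ (hLA z.2.1) z.2.2) ha (hx z)

theorem signalizerInf_mem [Finite G] (hθ : Cfsg.IsSolvableSignalizerFunctor p A θ)
    {L : Subgroup G} (hLA : L ≤ A) (hL1 : L ≠ ⊥) :
    Cfsg.signalizerInf L θ ∈ Cfsg.signalizerFamily p A θ := by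
  obtain ⟨z, hz, hz1⟩ := L.bot_or_exists_ne_one.resolve_left hL1
  exact mem_of_le (SignalizerMax.theta_mem_family hθ (hLA hz) hz1) (signalizerInf_le hz hz1)
    (le_normalizer_signalizerInf hθ hLA)

/-- **Completeness criterion.** If `1 ≠ L ≤ A` and all `⁅θ a, L⁆` lie in one member, then the functor
is complete. -/
theorem solComplete_of_commutator_le [Finite G] [hp : Fact p.Prime]
    (hA : Cfsg.IsElementaryAbelian p A) (hA3 : p ^ 3 ≤ Nat.card A)
    (hθ : Cfsg.IsSolvableSignalizerFunctor p A θ) {L M : Subgroup G} (hLA : L ≤ A) (hL1 : L ≠ ⊥)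
    (hM : M ∈ Cfsg.signalizerFamily p A θ) (h : ∀ a ∈ A, a ≠ 1 → ⁅θ a, L⁆ ≤ M) :
    SolComplete p A θ := by
  have hA1 : A ≠ ⊥ := ne_bot_of_pow_le three_ne_zero hA3
  have hA2 : p ^ 2 ≤ Nat.card A :=
    (Nat.pow_le_pow_right hp.out.pos (by norm_num)).trans hA3
  have hcomm := comm_of_isElementaryAbelian hA
  set W₀ : Subgroup G := ⨆ a : {a : G // a ∈ A ∧ a ≠ 1}, ⁅θ (a : G), L⁆ with hW₀
  have hW₀M : W₀ ≤ M := iSup_le fun a => h a.1 a.2.1 a.2.2
  have hAW₀ : A ≤ normalizer (W₀ : Set G) := iSup_le_normalizer _ fun a =>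
    le_normalizer_commutator (theta_le_normalizer hθ a.2.1 a.2.2)
      fun x hx l hl => hcomm x hx l (hLA hl)
  have hW₀mem : W₀ ∈ Cfsg.signalizerFamily p A θ := mem_of_le hM hW₀M hAW₀
  set T : Subgroup G := Cfsg.signalizerInf L θ with hT
  have hTmem : T ∈ Cfsg.signalizerFamily p A θ := signalizerInf_mem hθ hLA hL1
  have hTW : T ≤ normalizer (W₀ : Set G) := by
    have hgen := Cfsg.Agent.Lib.CoprimeHyperplane.iSup_centralizer_hyperplane hA hA1 hTmem.2.1
      (le_normalizer_of_mem hTmem)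
    conv_lhs => rw [← hgen]
    refine iSup_le fun B => ?_
    apply le_normalizer_of_conj_mem
    rintro x ⟨hxT, hxB⟩
    have hB2 : p ^ 2 ≤ Nat.card B.1 := hyperplane_pow_le hA3 B.2.1 B.2.2
    have hle : W₀ ≤ W₀.comap (MulAut.conj x).toMonoidHom := by
      conv_lhs => rw [hW₀]
      refine iSup_le fun a => ?_
      refine (commutator_le_iSup_ne_one hA B.2.1 hB2 hLA (hθ.2 a.1 a.2.1 a.2.2)
        (hθ.1.2.1 a.1 a.2.1 a.2.2) (theta_le_normalizer hθ a.2.1 a.2.2)).trans (iSup_le fun b => ?_)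
      have hbA : b.1 ∈ A := B.2.1 b.2.1
      refine (commutator_mono (hθ.1.2.2.2 a.1 a.2.1 a.2.2 b.1 hbA b.2.2) le_rfl).trans ?_
      -- `x ∈ θ b` and `x` centralises `L`
      have hxb : x ∈ θ b.1 := by
        obtain ⟨z, hz, hz1⟩ := L.bot_or_exists_ne_one.resolve_left hL1
        refine theta_inf_centralizer_le hθ B.2.1 (hLA hz) hz1 b.2.1 b.2.2 ⟨?_, hxB⟩
        exact signalizerInf_le hz hz1 hxT
      have hxL : x ∈ centralizer (L : Set G) := signalizerInf_le_centralizer hθ hLA hxT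
      rw [commutator_le]
      intro t ht l hl
      show x * ⁅t, l⁆ * x⁻¹ ∈ W₀
      have h2 : x * ⁅t, l⁆ * x⁻¹ = ⁅x * t * x⁻¹, x * l * x⁻¹⁆ := by
        simp only [commutatorElement_def]; group
      have h3 : x * l * x⁻¹ = l := by
        rw [← mem_centralizer_iff.mp hxL l hl]; group
      rw [h2, h3]
      exact (le_iSup (fun a : {a : G // a ∈ A ∧ a ≠ 1} => ⁅θ (a : G), L⁆) ⟨b.1, hbA, b.2.2⟩)
        (commutator_mem_commutator ((θ b.1).mul_mem ((θ b.1).mul_mem hxb ht) ((θ b.1).inv_mem hxb)) hl)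
    exact fun w hw => hle hw
  refine ⟨W₀ ⊔ T, sup_mem hA hA2 hθ hW₀mem hTmem hTW, ?_⟩
  intro a ha ha1 t ht
  obtain ⟨m, hm, c, hc, rfl⟩ := exists_commutator_mul_fixed_of_isPGroup p L (θ a)
    ((isPGroup_of_isElementaryAbelian hA).to_le hLA) (hLA.trans (theta_le_normalizer hθ ha ha1))
    (hθ.1.2.1 a ha ha1) t ht
  refine mul_mem (mem_sup_left ?_) (mem_sup_right ?_)
  · exact (le_iSup (fun a : {a : G // a ∈ A ∧ a ≠ 1} => ⁅θ (a : G), L⁆) ⟨a, ha, ha1⟩) hm
  · exact theta_inf_centralizer_le_signalizerInf hθ hLA ha ha1 hc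

/-- It is enough to know `⁅θ b, L⁆ ≤ M` for the nontrivial `b` of a noncyclic subgroup `B`. -/
theorem solComplete_of_commutator_le' [Finite G] [hp : Fact p.Prime]
    (hA : Cfsg.IsElementaryAbelian p A) (hA3 : p ^ 3 ≤ Nat.card A)
    (hθ : Cfsg.IsSolvableSignalizerFunctor p A θ) {B L M : Subgroup G} (hBA : B ≤ A)
    (hB2 : p ^ 2 ≤ Nat.card B) (hLA : L ≤ A) (hL1 : L ≠ ⊥)
    (hM : M ∈ Cfsg.signalizerFamily p A θ) (h : ∀ b ∈ B, b ≠ 1 → ⁅θ b, L⁆ ≤ M) :
    SolComplete p A θ := by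
  refine solComplete_of_commutator_le hA hA3 hθ hLA hL1 hM fun a ha ha1 => ?_
  refine (commutator_le_iSup_ne_one hA hBA hB2 hLA (hθ.2 a ha ha1) (hθ.1.2.1 a ha ha1)
    (theta_le_normalizer hθ ha ha1)).trans (iSup_le fun b => ?_)
  exact (commutator_mono (hθ.1.2.2.2 a ha ha1 b.1 (hBA b.2.1) b.2.2) le_rfl).trans
    (h b.1 b.2.1 b.2.2)

/-- Completeness criterion (Y): one point `⟨y⟩` of a noncyclic subgroup may be missing. -/
theorem solComplete_of_missing_point [Finite G] [hp : Fact p.Prime]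
    (hA : Cfsg.IsElementaryAbelian p A) (hA3 : p ^ 3 ≤ Nat.card A)
    (hθ : Cfsg.IsSolvableSignalizerFunctor p A θ) {B M : Subgroup G} {y : G} (hBA : B ≤ A)
    (hB2 : p ^ 2 ≤ Nat.card B) (hy : y ∈ A) (hy1 : y ≠ 1)
    (hM : M ∈ Cfsg.signalizerFamily p A θ) (h : ∀ b ∈ B, b ∉ zpowers y → θ b ≤ M) :
    SolComplete p A θ := by
  have hLA : zpowers y ≤ A := by rwa [zpowers_le]
  refine solComplete_of_commutator_le' hA hA3 hθ hBA hB2 hLA ?_ hM fun b hb hb1 => ?_
  · rwa [Ne, zpowers_eq_bot]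
  · by_cases hby : b ∈ zpowers y
    · -- `y` is a power of `b`
      have h1 : zpowers y ≤ centralizer (θ b : Set G) := by
        have h2 : zpowers b = zpowers y := by
          have hyp : (Nat.card (zpowers y)).Prime := by
            rw [Nat.card_zpowers]
            have : y ^ p = 1 := hA.2 y hy
            rw [orderOf_eq_prime this hy1]
            exact hp.out
          have : Fact (Nat.card (zpowers y)).Prime := ⟨hyp⟩
          have h3 : zpowers b ≤ zpowers y := by rwa [zpowers_le]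
          have h4 : Nat.card (zpowers b) ∣ Nat.card (zpowers y) := card_dvd_of_le h3
          rcases (Nat.dvd_prime hyp).mp h4 with h5 | h5
          · exfalso
            apply hb1
            rw [Subgroup.card_eq_one, zpowers_eq_bot] at h5
            exact h5
          · exact Subgroup.eq_of_le_of_card_ge h3 h5.ge
        rw [← h2, zpowers_le]
        rw [mem_centralizer_iff]
        intro t ht
        exact (mem_centralizer_singleton.mp (hθ.1.1 b (hBA hb) hb1 ht)).symm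
      have h2 : ⁅θ b, zpowers y⁆ = ⊥ := by
        rw [commutator_comm]
        exact commutator_eq_bot_iff_le_centralizer.mpr h1
      rw [h2]
      exact bot_le
    · have h1 : A ≤ normalizer (M : Set G) := le_normalizer_of_mem hM
      refine (commutator_mono (h b hb hby) le_rfl).trans ?_
      exact commutator_le_left (hLA.trans h1)

/-- All lines version: `⁅θ(B), L⁆ ≤ M` for all hyperplanes `B`. -/
theorem solComplete_of_hyperplane_commutator_le [Finite G] [hp : Fact p.Prime]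
    (hA : Cfsg.IsElementaryAbelian p A) (hA3 : p ^ 3 ≤ Nat.card A)
    (hθ : Cfsg.IsSolvableSignalizerFunctor p A θ) {L M : Subgroup G} (hLA : L ≤ A) (hL1 : L ≠ ⊥)
    (hM : M ∈ Cfsg.signalizerFamily p A θ)
    (h : ∀ B ≤ A, B.relIndex A = p → ⁅Cfsg.signalizerInf B θ, L⁆ ≤ M) :
    SolComplete p A θ := by
  have hA1 : A ≠ ⊥ := ne_bot_of_pow_le three_ne_zero hA3
  refine solComplete_of_commutator_le hA hA3 hθ hLA hL1 hM fun a ha ha1 => ?_
  refine (commutator_le_iSup_hyperplane hA hA1 hLA (hθ.2 a ha ha1) (hθ.1.2.1 a ha ha1)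
    (theta_le_normalizer hθ ha ha1)).trans (iSup_le fun B => ?_)
  exact (commutator_mono (theta_inf_centralizer_le_signalizerInf hθ B.2.1 ha ha1) le_rfl).trans
    (h B.1 B.2.1 B.2.2)

/-- **One-bad-line lemma**: if `θ(B) ≤ M` for all hyperplanes `B` except possibly `ℓ`, the functor is
complete. -/
theorem solComplete_of_one_bad_hyperplane [Finite G] [hp : Fact p.Prime]
    (hA : Cfsg.IsElementaryAbelian p A) (hA3 : p ^ 3 ≤ Nat.card A)
    (hθ : Cfsg.IsSolvableSignalizerFunctor p A θ) {l M : Subgroup G} (hlA : l ≤ A)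
    (hl : l.relIndex A = p)
    (hM : M ∈ Cfsg.signalizerFamily p A θ)
    (h : ∀ B ≤ A, B.relIndex A = p → B ≠ l → Cfsg.signalizerInf B θ ≤ M) :
    SolComplete p A θ := by
  have hl2 : p ^ 2 ≤ Nat.card l := hyperplane_pow_le hA3 hlA hl
  have hl1 : l ≠ ⊥ := ne_bot_of_pow_le two_ne_zero hl2
  refine solComplete_of_hyperplane_commutator_le hA hA3 hθ hlA hl1 hM fun B hBA hB => ?_
  by_cases hBl : B = l
  · have h1 : ⁅Cfsg.signalizerInf B θ, l⁆ = ⊥ := by
      rw [commutator_eq_bot_iff_le_centralizer, ← hBl]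
      exact signalizerInf_le_centralizer hθ hBA
    rw [h1]
    exact bot_le
  · exact (commutator_mono (h B hBA hB hBl) le_rfl).trans
      (commutator_le_left (hlA.trans (le_normalizer_of_mem hM)))

/-- If `θ(B) ≤ M` for all hyperplanes `B`, the functor is complete. -/
theorem solComplete_of_hyperplane_le [Finite G] [hp : Fact p.Prime]
    (hA : Cfsg.IsElementaryAbelian p A) (hA1 : A ≠ ⊥)
    (hθ : Cfsg.IsSolvableSignalizerFunctor p A θ) {M : Subgroup G}
    (hM : M ∈ Cfsg.signalizerFamily p A θ)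
    (h : ∀ B ≤ A, B.relIndex A = p → Cfsg.signalizerInf B θ ≤ M) :
    SolComplete p A θ := by
  refine ⟨M, hM, fun a ha ha1 => ?_⟩
  exact (theta_le_iSup_hyperplane hA hA1 hθ ha ha1).trans (iSup_le fun B =>
    (theta_inf_centralizer_le_signalizerInf hθ B.2.1 ha ha1).trans (h B.1 B.2.1 B.2.2))

/-- If `θ b ≤ M` for all nontrivial `b` in a noncyclic subgroup, the functor is complete. -/
theorem solComplete_of_noncyclic_le [Finite G] [hp : Fact p.Prime]
    (hA : Cfsg.IsElementaryAbelian p A)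
    (hθ : Cfsg.IsSolvableSignalizerFunctor p A θ) {B M : Subgroup G} (hBA : B ≤ A)
    (hB2 : p ^ 2 ≤ Nat.card B)
    (hM : M ∈ Cfsg.signalizerFamily p A θ) (h : ∀ b ∈ B, b ≠ 1 → θ b ≤ M) :
    SolComplete p A θ := by
  refine ⟨M, hM, fun a ha ha1 => ?_⟩
  refine (le_iSup_centralizer_ne_one (isElementaryAbelian_mono hA hBA) hB2
    (hθ.1.2.1 a ha ha1) (hBA.trans (theta_le_normalizer hθ ha ha1))).trans (iSup_le fun b => ?_)
  exact (hθ.1.2.2.2 a ha ha1 b.1 (hBA b.2.1) b.2.2).trans (h b.1 b.2.1 b.2.2)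

/-- **Normal subfunctor lemma (N)**: if `U` is a member and `θ a` normalises `C_U(a)` for all `a`, then
every `θ a` normalises `U`. -/
theorem theta_le_normalizer_of_normal [Finite G] [hp : Fact p.Prime]
    (hA : Cfsg.IsElementaryAbelian p A) (hA3 : p ^ 3 ≤ Nat.card A)
    (hθ : Cfsg.IsSolvableSignalizerFunctor p A θ) {U : Subgroup G}
    (hU : U ∈ Cfsg.signalizerFamily p A θ)
    (h : ∀ a ∈ A, a ≠ 1 → θ a ≤ normalizer ((U ⊓ centralizer {a} : Subgroup G) : Set G))
    {a : G} (ha : a ∈ A) (ha1 : a ≠ 1) : θ a ≤ normalizer (U : Set G) := by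
  have hA1 : A ≠ ⊥ := ne_bot_of_pow_le three_ne_zero hA3
  refine (theta_le_iSup_hyperplane hA hA1 hθ ha ha1).trans (iSup_le fun B => ?_)
  have hB2 : p ^ 2 ≤ Nat.card B.1 := hyperplane_pow_le hA3 B.2.1 B.2.2
  apply le_normalizer_of_conj_mem
  intro x hx
  have hle : U ≤ U.comap (MulAut.conj x).toMonoidHom := by
    refine (le_iSup_centralizer_ne_one (isElementaryAbelian_mono hA B.2.1) hB2 hU.2.1
      (B.2.1.trans (le_normalizer_of_mem hU))).trans (iSup_le fun b => ?_)
    intro u hu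
    have hxb : x ∈ θ b.1 := theta_inf_centralizer_le hθ B.2.1 ha ha1 b.2.1 b.2.2 hx
    exact (conj_mem_of_le_normalizer (h b.1 (B.2.1 b.2.1) b.2.2) hxb hu).1
  exact fun u hu => hle hu

/-- From a member containing all `θ a` to the conclusion of the signalizer functor theorem. -/
theorem SolComplete.conclusion [Finite G] [hp : Fact p.Prime]
    (hA : Cfsg.IsElementaryAbelian p A) (hθ : Cfsg.IsSolvableSignalizerFunctor p A θ)
    (h : SolComplete p A θ) :
    (⨆ a : {a : G // a ∈ A ∧ a ≠ 1}, θ (a : G)) ∈ Cfsg.signalizerFamily p A θ ∧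
      ∀ a ∈ A, a ≠ 1 →
        (⨆ b : {a : G // a ∈ A ∧ a ≠ 1}, θ (b : G)) ⊓ centralizer {a} = θ a := by
  obtain ⟨W, hW, hle⟩ := h
  have h1 : (⨆ a : {a : G // a ∈ A ∧ a ≠ 1}, θ (a : G)) ≤ W := iSup_le fun a => hle a.1 a.2.1 a.2.2
  refine ⟨mem_of_le hW h1 (iSup_le_normalizer _ fun a => theta_le_normalizer hθ a.2.1 a.2.2),
    fun a ha ha1 => le_antisymm ?_ ?_⟩
  · exact (inf_le_inf_right _ h1).trans (hW.2.2.2 a ha ha1)
  · exact le_inf (le_iSup (fun a : {a : G // a ∈ A ∧ a ≠ 1} => θ (a : G)) ⟨a, ha, ha1⟩)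
      (hθ.1.1 a ha ha1)

end Cfsg.Agent.SignalizersComponents.FunctorTools
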