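import Mathlib
import Cfsg.Prelude.Def_Balance
import Cfsg.Agent.SignalizersComponents.FunctorTools
import Cfsg.Agent.S1281

set_option autoImplicit false

/-!
The minimal counterexample to the solvable signalizer functor theorem.
-/

namespace Cfsg.Agent.SignalizersComponents.FunctorInduction

open Subgroup
open scoped commutatorElement
open Cfsg.Agent.SignalizersComponents.GoldschmidtGen (le_normalizer_of_conj_mem
  conj_mem_of_le_normalizer)
open Cfsg.Agent.SignalizersComponents.CoprimeGen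
open Cfsg.Agent.SignalizersComponents.FunctorTools

universe u

/-- A minimal counterexample. -/
structure MinCounter {G : Type u} [Group G] (p : ℕ) (A : Subgroup G) (θ : G → Subgroup G) : Prop where
  elem : Cfsg.IsElementaryAbelian p A
  card : Nat.card A = p ^ 3
  func : Cfsg.IsSolvableSignalizerFunctor p A θ
  notComplete : ¬ SolComplete p A θ
  local_complete : ∀ D ∈ Cfsg.signalizerFamily p A θ, D ≠ ⊥ →
    ∃ W ∈ Cfsg.signalizerFamily p A θ, W ≤ normalizer (D : Set G) ∧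
      ∀ a ∈ A, a ≠ 1 → θ a ⊓ normalizer (D : Set G) ≤ W
  sub_complete : ∀ ψ : G → Subgroup G, Cfsg.IsSolvableSignalizerFunctor p A ψ →
    (∀ a ∈ A, a ≠ 1 → ψ a ≤ θ a) → (∃ a ∈ A, a ≠ 1 ∧ ψ a ≠ θ a) → SolComplete p A ψ

section restrict

variable {G : Type u} [Group G] {p : ℕ} {A : Subgroup G} {θ : G → Subgroup G}

/-- Completeness only depends on the values on `A#`. -/
theorem SolComplete.congr {ψ : G → Subgroup G} (h : ∀ a ∈ A, a ≠ 1 → ψ a = θ a)
    (hc : SolComplete p A ψ) : SolComplete p A θ := by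
  obtain ⟨W, ⟨h1, h2, h3, h4⟩, h5⟩ := hc
  refine ⟨W, ⟨h1, h2, h3, fun a ha ha1 => ?_⟩, fun a ha ha1 => ?_⟩
  · rw [← h a ha ha1]; exact h4 a ha ha1
  · rw [← h a ha ha1]; exact h5 a ha ha1

theorem functor_congr {ψ : G → Subgroup G} (h : ∀ a ∈ A, a ≠ 1 → ψ a = θ a)
    (hc : Cfsg.IsSolvableSignalizerFunctor p A ψ) : Cfsg.IsSolvableSignalizerFunctor p A θ := by
  obtain ⟨⟨h1, h2, h3, h4⟩, h5⟩ := hc
  refine ⟨⟨fun a ha ha1 => ?_, fun a ha ha1 => ?_, fun a ha ha1 => ?_, fun a ha ha1 b hb hb1 => ?_⟩,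
    fun a ha ha1 => ?_⟩
  · rw [← h a ha ha1]; exact h1 a ha ha1
  · rw [← h a ha ha1]; exact h2 a ha ha1
  · rw [← h a ha ha1]; exact h3 a ha ha1
  · rw [← h a ha ha1, ← h b hb hb1]; exact h4 a ha ha1 b hb hb1
  · rw [← h a ha ha1]; exact h5 a ha ha1

/-- Restriction of a functor to a subgroup `A₀` of `A`. -/
theorem functor_restrict {A₀ : Subgroup G} (h : A₀ ≤ A)
    (hc : Cfsg.IsSolvableSignalizerFunctor p A θ) : Cfsg.IsSolvableSignalizerFunctor p A₀ θ := by
  obtain ⟨⟨h1, h2, h3, h4⟩, h5⟩ := hc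
  exact ⟨⟨fun a ha ha1 => h1 a (h ha) ha1, fun a ha ha1 => h2 a (h ha) ha1,
    fun a ha ha1 b hb => h3 a (h ha) ha1 b (h hb),
    fun a ha ha1 b hb hb1 => h4 a (h ha) ha1 b (h hb) hb1⟩, fun a ha ha1 => h5 a (h ha) ha1⟩

/-- Completeness for a noncyclic `A₀ ≤ A` gives completeness for `A`. -/
theorem solComplete_of_le [Finite G] [hp : Fact p.Prime] (hA : Cfsg.IsElementaryAbelian p A)
    {A₀ : Subgroup G} (h : A₀ ≤ A) (hA₀ : p ^ 2 ≤ Nat.card A₀)
    (hθ : Cfsg.IsSolvableSignalizerFunctor p A θ) (hc : SolComplete p A₀ θ) : SolComplete p A θ := by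
  have hA₀e := isElementaryAbelian_mono hA h
  obtain ⟨hWm, hWc⟩ := SolComplete.conclusion hA₀e (functor_restrict h hθ) hc
  set W : Subgroup G := ⨆ a : {a : G // a ∈ A₀ ∧ a ≠ 1}, θ (a : G) with hW
  have hAW : A ≤ normalizer (W : Set G) := iSup_le_normalizer _ fun a =>
    theta_le_normalizer hθ (h a.2.1) a.2.2
  have hle : ∀ a ∈ A, a ≠ 1 → θ a ≤ W := by
    intro a ha ha1
    refine (le_iSup_centralizer_ne_one hA₀e hA₀ (hθ.1.2.1 a ha ha1)
      (h.trans (theta_le_normalizer hθ ha ha1))).trans (iSup_le fun b => ?_)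
    exact (hθ.1.2.2.2 a ha ha1 b.1 (h b.2.1) b.2.2).trans
      (le_iSup (fun a : {a : G // a ∈ A₀ ∧ a ≠ 1} => θ (a : G)) b)
  refine ⟨W, ⟨hWm.1, hWm.2.1, fun b hb u hu => conj_mem_of_le_normalizer hAW hb hu,
    fun a ha ha1 => ?_⟩, hle⟩
  -- `C_W(a) = ⟨C_W(a) ∩ C(b) : b ∈ A₀#⟩`
  have hcomm := comm_of_isElementaryAbelian hA
  have hinv : A₀ ≤ normalizer ((W ⊓ centralizer {a} : Subgroup G) : Set G) := by
    apply le_normalizer_of_conj_mem
    rintro b hb x ⟨hx, hxa⟩
    refine ⟨conj_mem_of_le_normalizer hAW (h hb) hx, ?_⟩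
    have hb' : b ∈ centralizer ({a} : Set G) :=
      mem_centralizer_singleton.mpr (hcomm a ha b (h hb))
    exact (centralizer {a}).mul_mem ((centralizer {a}).mul_mem hb' hxa) ((centralizer {a}).inv_mem hb')
  refine (le_iSup_centralizer_ne_one hA₀e hA₀
    (fun hd => hWm.2.1 (hd.trans (card_dvd_of_le inf_le_left))) hinv).trans (iSup_le fun b => ?_)
  rintro x ⟨⟨hxW, hxa⟩, hxb⟩
  have h1 : x ∈ θ b.1 := by
    rw [← hWc b.1 b.2.1 b.2.2]
    exact ⟨hxW, hxb⟩
  exact hθ.1.2.2.2 b.1 (h b.2.1) b.2.2 a ha ha1 ⟨h1, hxa⟩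

end restrict

section ambient

variable {G : Type u} [Group G] {p : ℕ} {A : Subgroup G} {θ : G → Subgroup G}

/-- The functor in a subgroup `N ≥ A`. -/
def subFunctor (N : Subgroup G) (θ : G → Subgroup G) : N → Subgroup N :=
  fun x => (θ (x : G)).subgroupOf N

theorem subFunctor_isFunctor [Finite G] {N : Subgroup G} (hN : A ≤ N)
    (hθ : Cfsg.IsSolvableSignalizerFunctor p A θ) :
    Cfsg.IsSolvableSignalizerFunctor p (A.subgroupOf N) (subFunctor N θ) := by
  obtain ⟨⟨h1, h2, h3, h4⟩, h5⟩ := hθ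
  have hne : ∀ {x : N}, x ≠ 1 → (x : G) ≠ 1 := fun hx h => hx (Subtype.ext h)
  refine ⟨⟨fun a ha ha1 x hx => ?_, fun a ha ha1 hd => ?_, fun a ha ha1 b hb x hx => ?_,
    fun a ha ha1 b hb hb1 x hx => ?_⟩, fun a ha ha1 => ?_⟩
  · rw [mem_centralizer_singleton]
    exact Subtype.ext (mem_centralizer_singleton.mp (h1 a ha (hne ha1) hx))
  · apply h2 a ha (hne ha1)
    have h6 : Nat.card ↥((θ (a : G)).subgroupOf N) = Nat.card ↥(((θ (a : G)).subgroupOf N).map N.subtype) :=
      (Nat.card_congr (((θ (a : G)).subgroupOf N).equivMapOfInjective _ N.subtype_injective).toEquiv)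
    have h7 : p ∣ Nat.card ↥(((θ (a : G)).subgroupOf N).map N.subtype) := by
      rw [← h6]; exact hd
    refine h7.trans (card_dvd_of_le ?_)
    rintro _ ⟨x, hx, rfl⟩
    exact hx
  · exact h3 a ha (hne ha1) b hb x hx
  · have h6 : (x : G) ∈ θ (a : G) ⊓ centralizer {(b : G)} := by
      refine ⟨hx.1, mem_centralizer_singleton.mpr ?_⟩
      exact congrArg Subtype.val (mem_centralizer_singleton.mp hx.2)
    exact h4 a ha (hne ha1) b hb (hne hb1) h6
  · have := h5 a ha (hne ha1)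
    exact Group.isSolvable_of_isSolvable_injective
      (f := (N.subtype.comp ((θ (a : G)).subgroupOf N).subtype).codRestrict (θ (a : G)) (fun x => x.2))
      (fun x y hxy => Subtype.ext (Subtype.ext (congrArg (fun z : θ (a : G) => (z : G)) hxy)))

theorem map_subtype_mem_family [Finite G] {N : Subgroup G} (hN : A ≤ N) {W : Subgroup N}
    (hW : W ∈ Cfsg.signalizerFamily p (A.subgroupOf N) (subFunctor N θ)) :
    W.map N.subtype ∈ Cfsg.signalizerFamily p A θ := by
  obtain ⟨h1, h2, h3, h4⟩ := hW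
  refine ⟨?_, ?_, ?_, ?_⟩
  · exact Group.isSolvable_of_surjective
      (f := (W.equivMapOfInjective _ N.subtype_injective).toMonoidHom)
      (W.equivMapOfInjective _ N.subtype_injective).surjective
  · rwa [Subgroup.card_map_of_injective N.subtype_injective]
  · rintro b hb _ ⟨u, hu, rfl⟩
    exact ⟨⟨b, hN hb⟩ * u * ⟨b, hN hb⟩⁻¹, h3 ⟨b, hN hb⟩ hb u hu, rfl⟩
  · rintro a ha ha1 x ⟨⟨u, hu, rfl⟩, hx⟩
    have h5 : u ∈ W ⊓ centralizer {(⟨a, hN ha⟩ : N)} :=
      ⟨hu, mem_centralizer_singleton.mpr (Subtype.ext (mem_centralizer_singleton.mp hx))⟩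
    exact h4 ⟨a, hN ha⟩ ha (fun h => ha1 (congrArg Subtype.val h)) h5

end ambient

section quotient

variable {G : Type u} [Group G] {p : ℕ} {A : Subgroup G} {θ : G → Subgroup G}

/-- The functor on the quotient `G / D`. -/
def quotFunctor (A : Subgroup G) (θ : G → Subgroup G) (D : Subgroup G) [D.Normal] :
    G ⧸ D → Subgroup (G ⧸ D) :=
  fun x => ⨆ a : {a : G // a ∈ A ∧ a ≠ 1 ∧ QuotientGroup.mk' D a = x}, (θ a).map (QuotientGroup.mk' D)

theorem quotFunctor_apply {D : Subgroup G} [D.Normal] (hinj : ∀ a ∈ A, ∀ b ∈ A,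
    QuotientGroup.mk' D a = QuotientGroup.mk' D b → a = b) {a : G} (ha : a ∈ A) (ha1 : a ≠ 1) :
    quotFunctor A θ D (QuotientGroup.mk' D a) = (θ a).map (QuotientGroup.mk' D) := by
  apply le_antisymm
  · refine iSup_le fun b => ?_
    rw [hinj b.1 b.2.1 a ha b.2.2.2]
  · exact le_iSup (fun a' : {a' : G // a' ∈ A ∧ a' ≠ 1 ∧ QuotientGroup.mk' D a' = QuotientGroup.mk' D a} =>
      (θ a').map (QuotientGroup.mk' D)) ⟨a, ha, ha1, rfl⟩

theorem inj_of_coprime [Finite G] [hp : Fact p.Prime] (hA : Cfsg.IsElementaryAbelian p A)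
    {D : Subgroup G} [D.Normal] (hD : ¬ p ∣ Nat.card D) : ∀ a ∈ A, ∀ b ∈ A,
    QuotientGroup.mk' D a = QuotientGroup.mk' D b → a = b := by
  intro a ha b hb hab
  rw [QuotientGroup.mk'_eq_mk'] at hab
  obtain ⟨z, hz, hz'⟩ := hab
  have hz1 : z = a⁻¹ * b := by rw [← hz']; group
  have hzA : z ∈ A := by rw [hz1]; exact mul_mem (inv_mem ha) hb
  by_contra hne
  have hz2 : z ≠ 1 := by
    intro h
    apply hne
    rw [h, mul_one] at hz'
    exact hz'
  have h1 : orderOf z = p := orderOf_eq_prime (hA.2 z hzA) hz2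
  apply hD
  rw [← h1]
  exact Subgroup.orderOf_dvd_natCard D hz

theorem card_map_mk {D X : Subgroup G} [D.Normal]
    (hinj : ∀ a ∈ X, ∀ b ∈ X, QuotientGroup.mk' D a = QuotientGroup.mk' D b → a = b) :
    Nat.card (X.map (QuotientGroup.mk' D)) = Nat.card X := by
  refine (Nat.card_congr (Equiv.ofBijective (fun x : X =>
    (⟨QuotientGroup.mk' D x, ⟨x, x.2, rfl⟩⟩ : X.map (QuotientGroup.mk' D))) ⟨?_, ?_⟩)).symm
  · intro x y hxy
    exact Subtype.ext (hinj x x.2 y y.2 (congrArg Subtype.val hxy))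
  · rintro ⟨_, x, hx, rfl⟩
    exact ⟨⟨x, hx⟩, rfl⟩

theorem elem_map [Finite G] (hA : Cfsg.IsElementaryAbelian p A) (D : Subgroup G) [D.Normal] :
    Cfsg.IsElementaryAbelian p (A.map (QuotientGroup.mk' D)) := by
  have hcomm := comm_of_isElementaryAbelian hA
  refine ⟨⟨⟨?_⟩⟩, ?_⟩
  · rintro ⟨_, x, hx, rfl⟩ ⟨_, y, hy, rfl⟩
    apply Subtype.ext
    show QuotientGroup.mk' D x * QuotientGroup.mk' D y = QuotientGroup.mk' D y * QuotientGroup.mk' D x
    rw [← map_mul, ← map_mul, hcomm x hx y hy]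
  · rintro _ ⟨x, hx, rfl⟩
    rw [← map_pow, hA.2 x hx, map_one]

theorem quotFunctor_isFunctor [Finite G] [hp : Fact p.Prime] (hA : Cfsg.IsElementaryAbelian p A)
    (hA2 : p ^ 2 ≤ Nat.card A)
    (hθ : Cfsg.IsSolvableSignalizerFunctor p A θ) {D : Subgroup G} [D.Normal]
    (hD : ¬ p ∣ Nat.card D) :
    Cfsg.IsSolvableSignalizerFunctor p (A.map (QuotientGroup.mk' D)) (quotFunctor A θ D) := by
  have hinj := inj_of_coprime hA hD
  have happ := fun {a : G} (ha : a ∈ A) (ha1 : a ≠ 1) =>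
    quotFunctor_apply (θ := θ) (D := D) hinj ha ha1
  have hne : ∀ {a : G}, QuotientGroup.mk' D a ≠ 1 → a ≠ 1 := fun h h1 => h (by rw [h1, map_one])
  refine ⟨⟨?_, ?_, ?_, ?_⟩, ?_⟩
  · rintro _ ⟨a, ha, rfl⟩ ha1
    rw [happ ha (hne ha1)]
    rintro _ ⟨t, ht, rfl⟩
    rw [mem_centralizer_singleton, ← map_mul, ← map_mul,
      mem_centralizer_singleton.mp (hθ.1.1 a ha (hne ha1) ht)]
  · rintro _ ⟨a, ha, rfl⟩ ha1
    rw [happ ha (hne ha1)]
    intro hd
    exact hθ.1.2.1 a ha (hne ha1) (hd.trans (Subgroup.card_map_dvd _ _))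
  · rintro _ ⟨a, ha, rfl⟩ ha1 _ ⟨b, hb, rfl⟩ x hx
    rw [happ ha (hne ha1)] at hx ⊢
    obtain ⟨t, ht, rfl⟩ := hx
    exact ⟨b * t * b⁻¹, hθ.1.2.2.1 a ha (hne ha1) b hb t ht, by simp⟩
  · rintro _ ⟨a, ha, rfl⟩ ha1 _ ⟨b, hb, rfl⟩ hb1
    rw [happ ha (hne ha1), happ hb (hne hb1)]
    exact Cfsg.Agent.S1281.result p A hA hA2 θ hθ D hD a b ha (hne ha1) hb (hne hb1)
  · rintro _ ⟨a, ha, rfl⟩ ha1
    rw [happ ha (hne ha1)]
    have := hθ.2 a ha (hne ha1)
    exact Group.isSolvable_of_surjective (f := (QuotientGroup.mk' D).subgroupMap (θ a))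
      ((QuotientGroup.mk' D).subgroupMap_surjective (θ a))

/-- If `D` is a normal member and the functor on `G / D` is complete, so is `θ`. -/
theorem solComplete_of_quotient [Finite G] [hp : Fact p.Prime] (hA : Cfsg.IsElementaryAbelian p A)
    (hθ : Cfsg.IsSolvableSignalizerFunctor p A θ) {D : Subgroup G} [D.Normal]
    (hD : D ∈ Cfsg.signalizerFamily p A θ)
    (hc : SolComplete p (A.map (QuotientGroup.mk' D)) (quotFunctor A θ D)) : SolComplete p A θ := by
  have hinj := inj_of_coprime hA hD.2.1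
  have happ := fun {a : G} (ha : a ∈ A) (ha1 : a ≠ 1) =>
    quotFunctor_apply (θ := θ) (D := D) hinj ha ha1
  have hne : ∀ {a : G}, a ∈ A → a ≠ 1 → QuotientGroup.mk' D a ≠ 1 := fun {a} ha ha1 h =>
    ha1 (hinj a ha 1 A.one_mem (by rw [h, map_one]))
  obtain ⟨W, ⟨h1, h2, h3, h4⟩, h5⟩ := hc
  refine ⟨W.comap (QuotientGroup.mk' D), ⟨?_, ?_, ?_, ?_⟩, ?_⟩
  · -- solvable
    have hker : ((QuotientGroup.mk' D).subgroupComap W).ker = D.subgroupOf (W.comap (QuotientGroup.mk' D)) := by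
      ext x
      rw [MonoidHom.mem_ker, Subgroup.mem_subgroupOf]
      rw [← QuotientGroup.eq_one_iff (N := D) (x : G)]
      constructor
      · intro h
        exact congrArg Subtype.val h
      · intro h
        exact Subtype.ext h
    have hDs : Group.IsSolvable ↥((QuotientGroup.mk' D).subgroupComap W).ker := by
      rw [hker]
      have := hD.1
      have hle : D ≤ W.comap (QuotientGroup.mk' D) := by
        intro x hx
        rw [mem_comap, (QuotientGroup.eq_one_iff (N := D) x).mpr hx |> fun h : QuotientGroup.mk' D x = 1 => h]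
        exact one_mem _
      exact Group.isSolvable_of_surjective (f := (Subgroup.subgroupOfEquivOfLe hle).symm.toMonoidHom)
        (Subgroup.subgroupOfEquivOfLe hle).symm.surjective
    exact Group.isSolvable_of_ker_le_range (G' := ↥((QuotientGroup.mk' D).subgroupComap W).ker)
      (G'' := W) (Subgroup.subtype _) ((QuotientGroup.mk' D).subgroupComap W)
      (by rw [Subgroup.range_subtype])
  · -- order
    intro hd
    obtain ⟨x, hx⟩ := exists_prime_orderOf_dvd_card' (G := ↥(W.comap (QuotientGroup.mk' D))) p hd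
    have hxW : QuotientGroup.mk' D (x : G) ∈ W := x.2
    have hxp : (x : G) ^ p = 1 := by
      have := pow_orderOf_eq_one x
      rw [hx] at this
      exact congrArg Subtype.val this
    have h6 : QuotientGroup.mk' D (x : G) = 1 := by
      by_contra hne1
      have h7 : orderOf (QuotientGroup.mk' D (x : G)) = p :=
        orderOf_eq_prime (by rw [← map_pow, hxp, map_one]) hne1
      apply h2
      rw [← h7]
      exact Subgroup.orderOf_dvd_natCard W hxW
    have h7 : (x : G) ∈ D := (QuotientGroup.eq_one_iff (N := D) (x : G)).mp h6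
    apply hD.2.1
    have h8 : orderOf (x : G) = p := by rw [Subgroup.orderOf_coe, hx]
    rw [← h8]
    exact Subgroup.orderOf_dvd_natCard D h7
  · intro b hb u hu
    rw [mem_comap] at hu ⊢
    rw [map_mul, map_mul, map_inv]
    exact h3 _ ⟨b, hb, rfl⟩ _ hu
  · rintro a ha ha1 x ⟨hx, hxa⟩
    have hx' : QuotientGroup.mk' D x ∈ W := hx
    have h6 : QuotientGroup.mk' D x ∈ W ⊓ centralizer {QuotientGroup.mk' D a} := by
      refine ⟨hx', mem_centralizer_singleton.mpr ?_⟩
      rw [← map_mul, ← map_mul, mem_centralizer_singleton.mp hxa]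
    have h7 := h4 _ ⟨a, ha, rfl⟩ (hne ha ha1) h6
    rw [happ ha ha1] at h7
    obtain ⟨t, ht, htx⟩ := h7
    rw [QuotientGroup.mk'_eq_mk'] at htx
    obtain ⟨z, hz, rfl⟩ := htx
    refine (θ a).mul_mem ht (hD.2.2.2 a ha ha1 ⟨hz, ?_⟩)
    have h8 : t * z ∈ centralizer ({a} : Set G) := hxa
    have h9 : t ∈ centralizer ({a} : Set G) := hθ.1.1 a ha ha1 ht
    have := mul_mem (inv_mem h9) h8
    simpa using this
  · intro a ha ha1
    rw [← Subgroup.map_le_iff_le_comap, ← happ ha ha1]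
    exact h5 _ ⟨a, ha, rfl⟩ (hne ha ha1)

end quotient

/-- **Induction principle**: if there is no minimal counterexample, every solvable signalizer functor
is complete. -/
theorem solComplete {p : ℕ} [hp : Fact p.Prime]
    (hno : ∀ (G : Type u) [Group G] [Finite G] (A : Subgroup G) (θ : G → Subgroup G),
      MinCounter p A θ → False) :
    ∀ (n : ℕ) (G : Type u) [Group G] [Finite G] (A : Subgroup G) (θ : G → Subgroup G),
      Nat.card G = n → Cfsg.IsElementaryAbelian p A → p ^ 3 ≤ Nat.card A →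
      Cfsg.IsSolvableSignalizerFunctor p A θ → SolComplete p A θ := by
  intro n
  induction n using Nat.strong_induction_on with
  | _ n ih =>
  intro G _ _ A θ hn hA hA3 hθ
  -- reduce to `|A| = p ^ 3`
  wlog hcard : Nat.card A = p ^ 3 generalizing A
  · obtain ⟨A₀, hA₀, hc₀⟩ : ∃ A₀ : Subgroup G, A₀ ≤ A ∧ Nat.card A₀ = p ^ 3 := by
      obtain ⟨k, hk⟩ := IsPGroup.iff_card.mp (isPGroup_of_isElementaryAbelian hA)
      have hk3 : 3 ≤ k := by
        rw [hk] at hA3
        exact (Nat.pow_le_pow_iff_right hp.out.one_lt).mp hA3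
      obtain ⟨B, hB⟩ := Sylow.exists_subgroup_card_pow_prime (G := A) p (n := 3)
        (by rw [hk]; exact pow_dvd_pow p hk3)
      refine ⟨B.map A.subtype, map_subtype_le _, ?_⟩
      rw [Subgroup.card_map_of_injective A.subtype_injective]
      exact hB
    exact solComplete_of_le hA hA₀ (by rw [hc₀]; exact Nat.pow_le_pow_right hp.out.pos (by norm_num)) hθ
      (this A₀ (isElementaryAbelian_mono hA hA₀) hc₀.ge (functor_restrict hA₀ hθ) hc₀)
  by_contra hnc
  have hA2 : p ^ 2 ≤ Nat.card A := (Nat.pow_le_pow_right hp.out.pos (by norm_num)).trans hA3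
  -- choose `θ` minimal
  let S : Set (G → Subgroup G) := {ψ | Cfsg.IsSolvableSignalizerFunctor p A ψ ∧ ¬ SolComplete p A ψ}
  have hfin : S.Finite := Set.toFinite S
  obtain ⟨ψ, hψmin⟩ := hfin.exists_minimal ⟨θ, hθ, hnc⟩
  obtain ⟨hψ, hψnc⟩ := hψmin.1
  refine hno G A ψ ⟨hA, hcard, hψ, hψnc, ?_, ?_⟩
  · intro D hD hD1
    by_cases hDn : D.Normal
    · exfalso
      apply hψnc
      have hcardlt : Nat.card (G ⧸ D) < n := by
        rw [← hn, ← Subgroup.index_eq_card, ← Subgroup.card_mul_index D]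
        have h1 : 1 < Nat.card D := by
          rw [Subgroup.one_lt_card_iff_ne_bot]
          exact hD1
        have h2 : 0 < D.index := Nat.pos_of_ne_zero Subgroup.FiniteIndex.index_ne_zero
        exact lt_mul_of_one_lt_left h2 h1
      have hinj := inj_of_coprime hA hD.2.1
      exact solComplete_of_quotient hA hψ hD (ih _ hcardlt (G ⧸ D) (A.map (QuotientGroup.mk' D))
        (quotFunctor A ψ D) rfl (elem_map hA D) (by rw [card_map_mk hinj]; exact hA3)
        (quotFunctor_isFunctor hA hA2 hψ hD.2.1))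
    · set N : Subgroup G := normalizer (D : Set G) with hN
      have hAN : A ≤ N := le_normalizer_of_mem hD
      have hcardlt : Nat.card N < n := by
        rw [← hn]
        have hNtop : N ≠ ⊤ := fun h => hDn (Subgroup.normalizer_eq_top_iff.mp h)
        have h1 : (N : Set G) ⊂ Set.univ := by
          rw [Set.ssubset_univ_iff, Ne, Subgroup.coe_eq_univ]
          exact hNtop
        have := Set.ncard_lt_ncard h1 (Set.toFinite _)
        rwa [Set.ncard_univ] at this
      obtain ⟨W, hW, hle⟩ := ih _ hcardlt N (A.subgroupOf N) (subFunctor N ψ) rfl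
        (by
          refine ⟨⟨⟨?_⟩⟩, ?_⟩
          · rintro ⟨x, hx⟩ ⟨y, hy⟩
            exact Subtype.ext (Subtype.ext (comm_of_isElementaryAbelian hA _ hx _ hy))
          · intro x hx
            exact Subtype.ext (hA.2 _ hx))
        (by
          rw [Nat.card_congr (Subgroup.subgroupOfEquivOfLe hAN).toEquiv]
          exact hA3)
        (subFunctor_isFunctor hAN hψ)
      refine ⟨W.map N.subtype, map_subtype_mem_family hAN hW, map_subtype_le _, ?_⟩
      rintro a ha ha1 x ⟨hx, hxN⟩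
      exact ⟨⟨x, hxN⟩, hle ⟨a, hAN ha⟩ ha (fun h => ha1 (congrArg Subtype.val h)) hx, rfl⟩
  · intro φ hφ hle hex
    by_contra hnc'
    classical
    let φ' : G → Subgroup G := fun x => if x ∈ A ∧ x ≠ 1 then φ x else ψ x
    have hφ' : ∀ a ∈ A, a ≠ 1 → φ a = φ' a := fun a ha ha1 => by
      simp only [φ', ha, ha1, ne_eq, not_false_eq_true, and_self, if_true]
    have h1 : φ' ∈ S := by
      refine ⟨functor_congr hφ' hφ, fun hc => hnc' ?_⟩
      exact SolComplete.congr (fun a ha ha1 => (hφ' a ha ha1).symm) hc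
    have h2 : φ' ≤ ψ := by
      intro x
      by_cases hx : x ∈ A ∧ x ≠ 1
      · rw [← hφ' x hx.1 hx.2]; exact hle x hx.1 hx.2
      · simp only [φ', hx, if_false]; exact le_rfl
    have h3 := hψmin.2 h1 h2
    obtain ⟨a, ha, ha1, hne⟩ := hex
    apply hne
    apply le_antisymm (hle a ha ha1)
    rw [hφ' a ha ha1]
    exact h3 a

end Cfsg.Agent.SignalizersComponents.FunctorInduction
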