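import Mathlib
import Cfsg.Prelude.Def_OddOrderLocal
import Cfsg.Agent.OddOrderLocal.HallPi
import Cfsg.Agent.SignalizersComponents.CoprimeBasic
import Cfsg.Agent.SignalizersComponents.GoldschmidtGen

set_option autoImplicit false
set_option linter.unusedSectionVars false

/-!
Invariant Hall subgroups: a `p`-group `A` acting on a solvable `p'`-group `K` (both subgroups of an
ambient group). `A`-invariant `ρ`-subgroups lie in `A`-invariant Hall `ρ`-subgroups, those are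
conjugate under `C_K(A)`, and two `ρ`-subgroups invariant under `A` and under `C_K(A)` generate a
`ρ`-subgroup.
-/

namespace Cfsg.Agent.SignalizersComponents.InvariantHall

open Subgroup
open Cfsg.Agent.OddOrderLocal
open Cfsg.Agent.SignalizersComponents.GoldschmidtGen (le_normalizer_of_conj_mem
  conj_mem_of_le_normalizer)

variable {G : Type*} [Group G]

/-- All prime divisors of the order of `X` lie in `ρ`. -/
def PiNum (ρ : Set ℕ) (X : Subgroup G) : Prop :=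
  ∀ q : ℕ, q.Prime → q ∣ Nat.card X → q ∈ ρ

theorem PiNum.mono [Finite G] {ρ : Set ℕ} {X Y : Subgroup G} (hY : PiNum ρ Y) (h : X ≤ Y) :
    PiNum ρ X := fun q hq hd => hY q hq (hd.trans (card_dvd_of_le h))

theorem PiNum.mono_set {ρ σ : Set ℕ} {X : Subgroup G} (hX : PiNum ρ X) (h : ρ ⊆ σ) :
    PiNum σ X := fun q hq hd => h (hX q hq hd)

theorem PiNum.map {H : Type*} [Group H] {ρ : Set ℕ} {X : Subgroup G} (hX : PiNum ρ X) (f : G →* H) :
    PiNum ρ (X.map f) := fun q hq hd => hX q hq (hd.trans (Subgroup.card_map_dvd X f))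

theorem piNum_bot {ρ : Set ℕ} : PiNum ρ (⊥ : Subgroup G) := fun q hq hd => by
  rw [Subgroup.card_bot] at hd
  exact absurd (Nat.dvd_one.mp hd) hq.one_lt.ne'

theorem PiNum.sup [Finite G] {ρ : Set ℕ} {X Y : Subgroup G} (hX : PiNum ρ X) (hY : PiNum ρ Y)
    (hn : Y ≤ normalizer (X : Set G)) : PiNum ρ (X ⊔ Y) := fun q hq hd => by
  rcases hq.dvd_mul.mp (hd.trans (CoprimeBasic.card_sup_dvd hn)) with h | h
  · exact hX q hq h
  · exact hY q hq h

theorem piNum_of_isPGroup {ρ : Set ℕ} {p : ℕ} [hp : Fact p.Prime] [Finite G] {A : Subgroup G}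
    (hA : IsPGroup p A) (h : p ∈ ρ) : PiNum ρ A := fun q hq hd => by
  obtain ⟨k, hk⟩ := IsPGroup.iff_card.mp hA
  rw [hk] at hd
  rwa [(Nat.prime_dvd_prime_iff_eq hq hp.out).mp (hq.dvd_of_dvd_pow hd)]

/-- Subgroups with disjoint sets of primes meet trivially. -/
theorem PiNum.inf_eq_bot [Finite G] {ρ σ : Set ℕ} {X Y : Subgroup G} (hX : PiNum ρ X)
    (hY : PiNum σ Y) (h : ∀ q ∈ ρ, q ∉ σ) : X ⊓ Y = ⊥ := by
  rw [← Subgroup.card_eq_one]
  by_contra hne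
  obtain ⟨q, hq, hd⟩ := Nat.exists_prime_and_dvd hne
  exact h q (hX q hq (hd.trans (card_dvd_of_le inf_le_left)))
    (hY q hq (hd.trans (card_dvd_of_le inf_le_right)))

section conj

/-- If `Y` is normalised by `g` then `Y ≤ T ^ g` implies `Y ≤ T`. -/
theorem le_of_le_map_conj {Y T : Subgroup G} {g : G} (hg : g ∈ normalizer (Y : Set G))
    (h : Y ≤ T.map (MulAut.conj g).toMonoidHom) : Y ≤ T := by
  intro y hy
  obtain ⟨t, ht, hty⟩ := h ((mem_normalizer_iff.mp hg y).mp hy)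
  have h1 : g * t * g⁻¹ = g * y * g⁻¹ := hty
  have h2 : t = y := mul_left_cancel (mul_right_cancel h1)
  rwa [← h2]

theorem map_conj_eq {Y : Subgroup G} {g : G} (hg : g ∈ normalizer (Y : Set G)) :
    Y.map (MulAut.conj g).toMonoidHom = Y :=
  Subgroup.mem_normalizer_iff_map_conj_eq.mp hg

theorem map_conj_mul (Y : Subgroup G) (g h : G) :
    Y.map (MulAut.conj (g * h)).toMonoidHom =
      (Y.map (MulAut.conj h).toMonoidHom).map (MulAut.conj g).toMonoidHom := by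
  rw [Subgroup.map_map]
  congr 1
  ext x
  simp [mul_assoc]

end conj

section

variable [Finite G] {p : ℕ} [hp : Fact p.Prime] {A K : Subgroup G}

theorem inf_eq_bot (hA : IsPGroup p A) (hK : ¬ p ∣ Nat.card K) : K ⊓ A = ⊥ := by
  rw [← Subgroup.card_eq_one]
  obtain ⟨k, hk⟩ := IsPGroup.iff_card.mp (hA.to_le (inf_le_right : K ⊓ A ≤ A))
  rcases Nat.eq_zero_or_pos k with h | h
  · rw [hk, h, pow_zero]
  · exact absurd ((hk ▸ dvd_pow_self p h.ne').trans (card_dvd_of_le inf_le_left)) hK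

theorem isSolvable_sup (hA : IsPGroup p A) (hAK : A ≤ normalizer (K : Set G))
    (hs : Group.IsSolvable K) : Group.IsSolvable ↥(K ⊔ A) := by
  have := hA.isNilpotent
  exact CoprimeBasic.isSolvable_sup hAK hs inferInstance

theorem card_sup_of_inf_eq_bot {X Y : Subgroup G} (hn : Y ≤ normalizer (X : Set G))
    (h : X ⊓ Y = ⊥) : Nat.card ↥(X ⊔ Y) = Nat.card X * Nat.card Y := by
  rw [← Nat.card_prod]
  refine Nat.card_congr (Equiv.ofBijective (fun z : X × Y => (⟨z.1 * z.2,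
    Subgroup.mul_mem_sup z.1.2 z.2.2⟩ : ↥(X ⊔ Y))) ⟨?_, ?_⟩).symm
  · rintro ⟨k, n⟩ ⟨k', n'⟩ hh
    have h1 : (k : G) * n = k' * n' := congrArg Subtype.val hh
    have h2 : (k' : G)⁻¹ * k = n' * (n : G)⁻¹ := by
      rw [inv_mul_eq_iff_eq_mul, ← mul_assoc, ← h1, mul_inv_cancel_right]
    have h3 : (k' : G)⁻¹ * k ∈ X ⊓ Y :=
      ⟨X.mul_mem (X.inv_mem k'.2) k.2, h2 ▸ Y.mul_mem n'.2 (Y.inv_mem n.2)⟩
    rw [h, mem_bot] at h3
    have h4 : k = k' := Subtype.ext (inv_mul_eq_one.mp h3).symm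
    have h5 : n = n' := by
      subst h4
      exact Subtype.ext (mul_left_cancel h1)
    rw [h4, h5]
  · rintro ⟨m, hm⟩
    obtain ⟨k, hk, n, hn', rfl⟩ := (CoprimeBasic.mem_sup_iff hn m).mp hm
    exact ⟨(⟨k, hk⟩, ⟨n, hn'⟩), rfl⟩

/-- For `A ≤ T ≤ K ⊔ A` we have `T = (K ⊓ T) ⊔ A`. -/
theorem inf_sup_eq {T : Subgroup G} (hAK : A ≤ normalizer (K : Set G)) (hAT : A ≤ T)
    (hT : T ≤ K ⊔ A) : (K ⊓ T) ⊔ A = T := by
  apply le_antisymm (sup_le inf_le_right hAT)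
  intro t ht
  obtain ⟨k, hk, a, ha, rfl⟩ := (CoprimeBasic.mem_sup_iff hAK t).mp (hT ht)
  refine mul_mem (mem_sup_left ⟨hk, ?_⟩) (mem_sup_right ha)
  have := T.mul_mem ht (T.inv_mem (hAT ha))
  rwa [mul_inv_cancel_right] at this

/-- `A ≤ N(K ∩ T)` for `A ≤ T`. -/
theorem le_normalizer_inf {T : Subgroup G} (hAK : A ≤ normalizer (K : Set G)) (hAT : A ≤ T) :
    A ≤ normalizer ((K ⊓ T : Subgroup G) : Set G) := by
  apply le_normalizer_of_conj_mem
  intro a ha x hx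
  exact ⟨conj_mem_of_le_normalizer hAK ha hx.1, T.mul_mem (T.mul_mem (hAT ha) hx.2)
    (T.inv_mem (hAT ha))⟩

/-- Index computation: `|K : K ∩ T| = |K A : T|` for `A ≤ T ≤ K A`. -/
theorem relIndex_inf_eq (hA : IsPGroup p A) (hK : ¬ p ∣ Nat.card K)
    (hAK : A ≤ normalizer (K : Set G)) {T : Subgroup G} (hAT : A ≤ T) (hT : T ≤ K ⊔ A) :
    (K ⊓ T).relIndex K = T.relIndex (K ⊔ A) := by
  have h1 : Nat.card ↥(K ⊔ A) = Nat.card K * Nat.card A :=
    card_sup_of_inf_eq_bot hAK (inf_eq_bot hA hK)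
  have h2 : Nat.card T = Nat.card ↥(K ⊓ T) * Nat.card A := by
    conv_lhs => rw [← inf_sup_eq hAK hAT hT]
    exact card_sup_of_inf_eq_bot (le_normalizer_inf hAK hAT)
      (inf_eq_bot hA fun hd => hK (hd.trans (card_dvd_of_le inf_le_left)))
  have h3 := HallPi.card_mul_relIndex (inf_le_left : K ⊓ T ≤ K)
  have h4 := HallPi.card_mul_relIndex hT
  rw [h1, h2, ← h3] at h4
  have h5 : 0 < Nat.card ↥(K ⊓ T) * Nat.card A := Nat.mul_pos Nat.card_pos Nat.card_pos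
  have h6 : Nat.card ↥(K ⊓ T) * Nat.card A * T.relIndex (K ⊔ A) =
      Nat.card ↥(K ⊓ T) * Nat.card A * (K ⊓ T).relIndex K := by
    rw [h4]; ring
  exact (Nat.eq_of_mul_eq_mul_left h5 h6).symm

/-- A Hall `ρ ∪ {p}`-subgroup `T ≥ A` of `K A` meets `K` in a Hall `ρ`-subgroup. -/
theorem isPiHallOf_inf (hA : IsPGroup p A) (hK : ¬ p ∣ Nat.card K)
    (hAK : A ≤ normalizer (K : Set G)) {ρ : Set ℕ} {T : Subgroup G} (hAT : A ≤ T)
    (hT : Cfsg.IsPiHallOf (insert p ρ) T (K ⊔ A)) : Cfsg.IsPiHallOf ρ (K ⊓ T) K := by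
  refine ⟨inf_le_left, ?_, ?_⟩
  · intro q hq hd
    have h2 : q ∈ insert p ρ := hT.2.1 q hq (hd.trans (card_dvd_of_le inf_le_right))
    rcases h2 with rfl | h2
    · exact absurd (hd.trans (card_dvd_of_le inf_le_left)) hK
    · exact h2
  · intro q hq hqρ hd
    rw [relIndex_inf_eq hA hK hAK hAT hT.1] at hd
    exact hT.2.2 q hq (Set.mem_insert_of_mem p hqρ) hd

/-- Conversely `H ⊔ A` is a Hall `ρ ∪ {p}`-subgroup of `K A` for an `A`-invariant Hall `ρ`-subgroup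
`H` of `K`. -/
theorem isPiHallOf_sup (hA : IsPGroup p A) (hK : ¬ p ∣ Nat.card K)
    (hAK : A ≤ normalizer (K : Set G)) {ρ : Set ℕ} {H : Subgroup G}
    (hAH : A ≤ normalizer (H : Set G)) (hH : Cfsg.IsPiHallOf ρ H K) :
    Cfsg.IsPiHallOf (insert p ρ) (H ⊔ A) (K ⊔ A) ∧ K ⊓ (H ⊔ A) = H := by
  have hinf : K ⊓ (H ⊔ A) = H := by
    apply le_antisymm _ (le_inf hH.1 le_sup_left)
    rintro x ⟨hxK, hx⟩
    obtain ⟨h, hh, a, ha, rfl⟩ := (CoprimeBasic.mem_sup_iff hAH x).mp hx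
    have h1 : a ∈ K ⊓ A := by
      refine ⟨?_, ha⟩
      have := K.mul_mem (K.inv_mem (hH.1 hh)) hxK
      rwa [inv_mul_cancel_left] at this
    rw [inf_eq_bot hA hK, mem_bot] at h1
    rwa [h1, mul_one]
  refine ⟨⟨sup_le_sup_right hH.1 A, ?_, ?_⟩, hinf⟩
  · exact PiNum.sup (PiNum.mono_set hH.2.1 (Set.subset_insert p ρ))
      (piNum_of_isPGroup hA (Set.mem_insert p ρ)) hAH
  · intro q hq hqρ hd
    rw [← relIndex_inf_eq hA hK hAK le_sup_right (sup_le_sup_right hH.1 A), hinf] at hd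
    rcases hqρ with rfl | hqρ
    · exact hK (hd.trans (relIndex_dvd_card H K))
    · exact hH.2.2 q hq hqρ hd

/-- Every `A`-invariant `ρ`-subgroup of `K` lies in an `A`-invariant Hall `ρ`-subgroup of `K`. -/
theorem exists_invariant_hall_ge (hA : IsPGroup p A) (hK : ¬ p ∣ Nat.card K)
    (hAK : A ≤ normalizer (K : Set G)) (hs : Group.IsSolvable K) {ρ : Set ℕ} {X : Subgroup G}
    (hXK : X ≤ K) (hAX : A ≤ normalizer (X : Set G)) (hX : PiNum ρ X) :
    ∃ H : Subgroup G, Cfsg.IsPiHallOf ρ H K ∧ A ≤ normalizer (H : Set G) ∧ X ≤ H := by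
  have hL := isSolvable_sup hA hAK hs
  have h1 : PiNum (insert p ρ) (X ⊔ A) :=
    PiNum.sup (hX.mono_set (Set.subset_insert p ρ)) (piNum_of_isPGroup hA (Set.mem_insert p ρ)) hAX
  obtain ⟨T, hT, hXT⟩ := HallPi.exists_isPiHallOf_ge hL (insert p ρ)
    (sup_le_sup_right hXK A) h1
  have hXT' : X ≤ T := le_sup_left.trans hXT
  have hAT : A ≤ T := le_sup_right.trans hXT
  exact ⟨K ⊓ T, isPiHallOf_inf hA hK hAK hAT hT, le_normalizer_inf hAK hAT, le_inf hXK hXT'⟩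

/-- `A`-invariant Hall subgroups exist. -/
theorem exists_invariant_hall (hA : IsPGroup p A) (hK : ¬ p ∣ Nat.card K)
    (hAK : A ≤ normalizer (K : Set G)) (hs : Group.IsSolvable K) (ρ : Set ℕ) :
    ∃ H : Subgroup G, Cfsg.IsPiHallOf ρ H K ∧ A ≤ normalizer (H : Set G) := by
  obtain ⟨H, h1, h2, -⟩ := exists_invariant_hall_ge hA hK hAK hs (ρ := ρ) (X := ⊥) bot_le
    (le_normalizer_of_conj_mem fun a _ x hx => by
      rw [mem_bot] at hx ⊢; rw [hx]; group) piNum_bot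
  exact ⟨H, h1, h2⟩

/-- `A`-invariant Hall `ρ`-subgroups of `K` are conjugate under `C_K(A)`. -/
theorem exists_centralizer_conj_hall (hA : IsPGroup p A) (hK : ¬ p ∣ Nat.card K)
    (hAK : A ≤ normalizer (K : Set G)) (hs : Group.IsSolvable K) {ρ : Set ℕ} {H₁ H₂ : Subgroup G}
    (h₁ : Cfsg.IsPiHallOf ρ H₁ K) (h₂ : Cfsg.IsPiHallOf ρ H₂ K)
    (hA₁ : A ≤ normalizer (H₁ : Set G)) (hA₂ : A ≤ normalizer (H₂ : Set G)) :
    ∃ c ∈ K ⊓ centralizer (A : Set G), H₁.map (MulAut.conj c).toMonoidHom = H₂ := by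
  have hL := isSolvable_sup hA hAK hs
  obtain ⟨hT₁, hi₁⟩ := isPiHallOf_sup hA hK hAK hA₁ h₁
  obtain ⟨hT₂, hi₂⟩ := isPiHallOf_sup hA hK hAK hA₂ h₂
  obtain ⟨g, hg, hgT⟩ := HallPi.conj_of_isPiHallOf hL hT₁ hT₂
  -- `A` and `A ^ g` are Sylow `p`-subgroups of `T₂ = H₂ A`
  have hT₂s : Group.IsSolvable ↥(H₂ ⊔ A) := by
    have := hL
    exact Group.isSolvable_of_isSolvable_injective (Subgroup.inclusion_injective hT₂.1)
  have hsyl : ∀ B : Subgroup G, B ≤ H₂ ⊔ A → Nat.card B = Nat.card A →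
      Cfsg.IsPiHallOf {p} B (H₂ ⊔ A) := by
    intro B hB hcard
    refine ⟨hB, ?_, ?_⟩
    · intro q hq hd
      rw [hcard] at hd
      exact piNum_of_isPGroup hA (Set.mem_singleton p) q hq hd
    · rintro q hq rfl hd
      have h3 : Nat.card ↥(H₂ ⊔ A) = Nat.card H₂ * Nat.card A :=
        card_sup_of_inf_eq_bot hA₂ (inf_eq_bot hA fun hd => hK (hd.trans (card_dvd_of_le h₂.1)))
      have h4 := HallPi.card_mul_relIndex hB
      rw [h3, hcard, mul_comm] at h4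
      have h5 := Nat.eq_of_mul_eq_mul_right Nat.card_pos h4
      rw [h5] at hd
      exact hK (hd.trans (card_dvd_of_le h₂.1))
  have hgA : A.map (MulAut.conj g).toMonoidHom ≤ H₂ ⊔ A := by
    rw [← hgT]
    exact map_mono le_sup_right
  obtain ⟨t, ht, htA⟩ := HallPi.conj_of_isPiHallOf hT₂s
    (hsyl _ hgA (Subgroup.card_map_of_injective (MulAut.conj g).injective))
    (hsyl A le_sup_right rfl)
  rw [← map_conj_mul] at htA
  have htT : (H₂ ⊔ A).map (MulAut.conj t).toMonoidHom = H₂ ⊔ A :=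
    map_conj_eq (le_normalizer ht)
  have htg : (H₁ ⊔ A).map (MulAut.conj (t * g)).toMonoidHom = H₂ ⊔ A := by
    rw [map_conj_mul, hgT, htT]
  obtain ⟨k, hk, a, ha, hka⟩ := (CoprimeBasic.mem_sup_iff hAK (t * g)).mp
    (mul_mem (hT₂.1 ht) hg)
  -- `k` normalises `A`
  have haA : A.map (MulAut.conj a).toMonoidHom = A := map_conj_eq (le_normalizer ha)
  have hkA : A.map (MulAut.conj k).toMonoidHom = A := by
    rw [← hka, map_conj_mul, haA] at htA
    exact htA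
  have haT : (H₁ ⊔ A).map (MulAut.conj a).toMonoidHom = H₁ ⊔ A :=
    map_conj_eq (le_normalizer (mem_sup_right ha))
  have hkT : (H₁ ⊔ A).map (MulAut.conj k).toMonoidHom = H₂ ⊔ A := by
    rw [← hka, map_conj_mul, haT] at htg
    exact htg
  refine ⟨k, ⟨hk, ?_⟩, ?_⟩
  · change k ∈ centralizer (A : Set G)
    rw [mem_centralizer_iff]
    intro x hx
    have h3 : k * x * k⁻¹ ∈ A := by
      rw [← hkA]
      exact ⟨x, hx, rfl⟩
    have h4 : k * x * k⁻¹ * x⁻¹ ∈ K ⊓ A := by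
      have h5 := conj_mem_of_le_normalizer hAK hx (K.inv_mem hk)
      have h6 : k * x * k⁻¹ * x⁻¹ ∈ K := by
        have h7 : k * x * k⁻¹ * x⁻¹ = k * (x * k⁻¹ * x⁻¹) := by group
        rw [h7]
        exact K.mul_mem hk h5
      exact ⟨h6, A.mul_mem h3 (A.inv_mem hx)⟩
    rw [inf_eq_bot hA hK, mem_bot] at h4
    have h5 : k * x * k⁻¹ = x := mul_inv_eq_one.mp h4
    exact (mul_inv_eq_iff_eq_mul.mp h5).symm
  · rw [← hi₂, ← hkT]
    conv_lhs => rw [← hi₁]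
    have hKk : K.map (MulAut.conj k).toMonoidHom = K := map_conj_eq (le_normalizer hk)
    rw [Subgroup.map_inf_eq _ _ _ (MulAut.conj k).injective, hKk]

/-- Two `ρ`-subgroups of `K` that are invariant under `A` and under `C_K(A)` generate a
`ρ`-subgroup. -/
theorem PiNum.sup_of_invariant (hA : IsPGroup p A) (hK : ¬ p ∣ Nat.card K)
    (hAK : A ≤ normalizer (K : Set G)) (hs : Group.IsSolvable K) {ρ : Set ℕ} {X Y : Subgroup G}
    (hXK : X ≤ K) (hAX : A ≤ normalizer (X : Set G)) (hX : PiNum ρ X)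
    (hYK : Y ≤ K) (hAY : A ≤ normalizer (Y : Set G)) (hY : PiNum ρ Y)
    (hCY : K ⊓ centralizer (A : Set G) ≤ normalizer (Y : Set G)) : PiNum ρ (X ⊔ Y) := by
  obtain ⟨H₁, h₁, hA₁, hXH⟩ := exists_invariant_hall_ge hA hK hAK hs hXK hAX hX
  obtain ⟨H₂, h₂, hA₂, hYH⟩ := exists_invariant_hall_ge hA hK hAK hs hYK hAY hY
  obtain ⟨c, hc, hcH⟩ := exists_centralizer_conj_hall hA hK hAK hs h₁ h₂ hA₁ hA₂
  have hYH₁ : Y ≤ H₁ := le_of_le_map_conj (hCY hc) (by rw [hcH]; exact hYH)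
  exact PiNum.mono (Y := H₁) h₁.2.1 (sup_le hXH hYH₁)

end

end Cfsg.Agent.SignalizersComponents.InvariantHall
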