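import Mathlib
import Cfsg.Prelude.Def_Balance
import Cfsg.Agent.SignalizersComponents.InvariantHall
import Cfsg.Agent.SignalizersComponents.FunctorInduction
import Cfsg.Agent.S1285

set_option autoImplicit false
set_option linter.unusedSectionVars false

/-!
Hall subfunctors of a solvable signalizer functor `θ`: with `C = ⋂ θ a`, the map sending `a` to the
largest `AC`-invariant `ρ`-subgroup of `θ a` is again a solvable signalizer functor. If it is complete,
its closure `piClosure ρ A θ` is the largest `AC`-invariant `ρ`-subgroup in the family of `θ`.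
-/

namespace Cfsg.Agent.SignalizersComponents.HallFunctor

open Subgroup
open Cfsg.Agent.SignalizersComponents.GoldschmidtGen (le_normalizer_of_conj_mem
  conj_mem_of_le_normalizer le_normalizer_sup)
open Cfsg.Agent.SignalizersComponents.CoprimeGen
open Cfsg.Agent.SignalizersComponents.FunctorTools
open Cfsg.Agent.SignalizersComponents.InvariantHall
open Cfsg.Agent.SignalizersComponents.FunctorInduction

variable {G : Type*} [Group G]

theorem le_normalizer_inf {H X Y : Subgroup G} (hX : H ≤ normalizer (X : Set G))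
    (hY : H ≤ normalizer (Y : Set G)) : H ≤ normalizer ((X ⊓ Y : Subgroup G) : Set G) :=
  le_normalizer_of_conj_mem fun _ ha _ hx =>
    ⟨conj_mem_of_le_normalizer hX ha hx.1, conj_mem_of_le_normalizer hY ha hx.2⟩

theorem le_normalizer_bot {H : Subgroup G} : H ≤ normalizer ((⊥ : Subgroup G) : Set G) :=
  le_normalizer_of_conj_mem fun a _ x hx => by
    rw [mem_bot] at hx ⊢; rw [hx]; group

/-- The join of all `ρ`-subgroups of `K` invariant under `A` and `C`. -/
def piRad (ρ : Set ℕ) (A C K : Subgroup G) : Subgroup G :=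
  sSup {X : Subgroup G | X ≤ K ∧ A ≤ normalizer (X : Set G) ∧ C ≤ normalizer (X : Set G) ∧ PiNum ρ X}

theorem le_piRad {ρ : Set ℕ} {A C K X : Subgroup G} (h1 : X ≤ K) (h2 : A ≤ normalizer (X : Set G))
    (h3 : C ≤ normalizer (X : Set G)) (h4 : PiNum ρ X) : X ≤ piRad ρ A C K :=
  le_sSup ⟨h1, h2, h3, h4⟩

theorem piRad_le {ρ : Set ℕ} {A C K : Subgroup G} : piRad ρ A C K ≤ K :=
  sSup_le fun _ hX => hX.1

section

variable [Finite G] {p : ℕ} [hp : Fact p.Prime] {A C K : Subgroup G}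

/-- `piRad ρ A C K` is a `ρ`-group, invariant under `A` and `C`. -/
theorem piRad_spec (hA : IsPGroup p A) (hK : ¬ p ∣ Nat.card K)
    (hAK : A ≤ normalizer (K : Set G)) (hs : Group.IsSolvable K) (ρ : Set ℕ)
    (hC : K ⊓ centralizer (A : Set G) ≤ C) :
    A ≤ normalizer (piRad ρ A C K : Set G) ∧ C ≤ normalizer (piRad ρ A C K : Set G) ∧
      PiNum ρ (piRad ρ A C K) := by
  obtain ⟨M, ⟨hM1, hM2, hM3, hM4⟩, hmax⟩ := (Set.toFinite {X : Subgroup G | X ≤ K ∧
    A ≤ normalizer (X : Set G) ∧ C ≤ normalizer (X : Set G) ∧ PiNum ρ X}).exists_maximal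
    ⟨⊥, bot_le, le_normalizer_bot, le_normalizer_bot, piNum_bot⟩
  have h1 : piRad ρ A C K = M := by
    apply le_antisymm _ (le_piRad hM1 hM2 hM3 hM4)
    refine sSup_le fun X hX => ?_
    obtain ⟨hX1, hX2, hX3, hX4⟩ := hX
    have h2 : M ⊔ X ∈ {X : Subgroup G | X ≤ K ∧
        A ≤ normalizer (X : Set G) ∧ C ≤ normalizer (X : Set G) ∧ PiNum ρ X} :=
      ⟨sup_le hM1 hX1, le_normalizer_sup hM2 hX2, le_normalizer_sup hM3 hX3,
        PiNum.sup_of_invariant hA hK hAK hs hM1 hM2 hM4 hX1 hX2 hX4 (hC.trans hX3)⟩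
    exact le_sup_right.trans (hmax h2 le_sup_left)
  rw [h1]
  exact ⟨hM2, hM3, hM4⟩

end

section functor

variable {p : ℕ} {A : Subgroup G} {θ : G → Subgroup G}

/-- The Hall subfunctor. -/
def hallFunctor (ρ : Set ℕ) (A : Subgroup G) (θ : G → Subgroup G) : G → Subgroup G :=
  fun a => piRad ρ A (Cfsg.signalizerInf A θ) (θ a)

theorem hallFunctor_le (ρ : Set ℕ) (A : Subgroup G) (θ : G → Subgroup G) (a : G) :
    hallFunctor ρ A θ a ≤ θ a := piRad_le

/-- The closure of the Hall subfunctor. -/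
def piClosure (ρ : Set ℕ) (A : Subgroup G) (θ : G → Subgroup G) : Subgroup G :=
  ⨆ a : {a : G // a ∈ A ∧ a ≠ 1}, hallFunctor ρ A θ (a : G)

theorem le_centralizer_singleton {a b : G} (hA : Cfsg.IsElementaryAbelian p A) (ha : a ∈ A)
    (hb : b ∈ A) : a ∈ centralizer ({b} : Set G) :=
  mem_centralizer_singleton.mpr (comm_of_isElementaryAbelian hA b hb a ha)

theorem le_normalizer_centralizer_singleton {H : Subgroup G} {b : G}
    (h : H ≤ centralizer ({b} : Set G)) :
    H ≤ normalizer ((centralizer ({b} : Set G) : Subgroup G) : Set G) :=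
  le_normalizer_of_conj_mem fun _ ha _ hx =>
    (centralizer {b}).mul_mem ((centralizer {b}).mul_mem (h ha) hx) ((centralizer {b}).inv_mem (h ha))

/-- `A` normalises `X ⊓ C(b)`. -/
theorem le_normalizer_inf_centralizer_singleton (hA : Cfsg.IsElementaryAbelian p A)
    {X : Subgroup G} (hX : A ≤ normalizer (X : Set G)) {b : G} (hb : b ∈ A) :
    A ≤ normalizer ((X ⊓ centralizer {b} : Subgroup G) : Set G) :=
  le_normalizer_inf hX (le_normalizer_centralizer_singleton fun _ ha =>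
    le_centralizer_singleton hA ha hb)

/-- `⋂ θ a` normalises `X ⊓ C(b)` if it normalises `X`. -/
theorem signalizerInf_le_normalizer_inf_centralizer (hθ : Cfsg.IsSolvableSignalizerFunctor p A θ)
    {X : Subgroup G} (hX : Cfsg.signalizerInf A θ ≤ normalizer (X : Set G)) {b : G} (hb : b ∈ A) :
    Cfsg.signalizerInf A θ ≤ normalizer ((X ⊓ centralizer {b} : Subgroup G) : Set G) :=
  le_normalizer_inf hX (le_normalizer_centralizer_singleton fun _ hc =>
    mem_centralizer_singleton.mpr (SignalizerMax.inf_le_centralizer hθ hc b hb))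

variable [Finite G] [hp : Fact p.Prime]

/-- For a member `K`: `C_K(A) ≤ ⋂ θ a`, so `piRad` behaves well. -/
theorem piRad_spec_mem (hA : Cfsg.IsElementaryAbelian p A) {K : Subgroup G}
    (hK : K ∈ Cfsg.signalizerFamily p A θ) (ρ : Set ℕ) :
    A ≤ normalizer (piRad ρ A (Cfsg.signalizerInf A θ) K : Set G) ∧
      Cfsg.signalizerInf A θ ≤ normalizer (piRad ρ A (Cfsg.signalizerInf A θ) K : Set G) ∧
      PiNum ρ (piRad ρ A (Cfsg.signalizerInf A θ) K) :=
  piRad_spec (isPGroup_of_isElementaryAbelian hA) hK.2.1 (le_normalizer_of_mem hK) hK.1 ρ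
    (SignalizerMax.centralizer_inf_le hK)

/-- `piRad` of a member is a member. -/
theorem piRad_mem (hA : Cfsg.IsElementaryAbelian p A) {K : Subgroup G}
    (hK : K ∈ Cfsg.signalizerFamily p A θ) (ρ : Set ℕ) :
    piRad ρ A (Cfsg.signalizerInf A θ) K ∈ Cfsg.signalizerFamily p A θ :=
  mem_of_le hK piRad_le (piRad_spec_mem hA hK ρ).1

/-- The Hall subfunctor is a solvable signalizer functor. -/
theorem hallFunctor_isFunctor (hA : Cfsg.IsElementaryAbelian p A)
    (hθ : Cfsg.IsSolvableSignalizerFunctor p A θ) (ρ : Set ℕ) :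
    Cfsg.IsSolvableSignalizerFunctor p A (hallFunctor ρ A θ) := by
  have hspec : ∀ a ∈ A, a ≠ 1 → A ≤ normalizer (hallFunctor ρ A θ a : Set G) ∧
      Cfsg.signalizerInf A θ ≤ normalizer (hallFunctor ρ A θ a : Set G) ∧
      PiNum ρ (hallFunctor ρ A θ a) := fun a ha ha1 =>
    piRad_spec_mem hA (SignalizerMax.theta_mem_family hθ ha ha1) ρ
  refine ⟨⟨fun a ha ha1 => (hallFunctor_le ρ A θ a).trans (hθ.1.1 a ha ha1),
    fun a ha ha1 hd => hθ.1.2.1 a ha ha1 (hd.trans (card_dvd_of_le (hallFunctor_le ρ A θ a))),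
    fun a ha ha1 b hb x hx => conj_mem_of_le_normalizer (hspec a ha ha1).1 hb hx, ?_⟩, ?_⟩
  · intro a ha ha1 b hb hb1
    obtain ⟨h1, h2, h3⟩ := hspec a ha ha1
    refine le_piRad ((inf_le_inf_right _ (hallFunctor_le ρ A θ a)).trans
      (hθ.1.2.2.2 a ha ha1 b hb hb1)) ?_ ?_ (h3.mono inf_le_left)
    · exact le_normalizer_inf_centralizer_singleton hA h1 hb
    · exact signalizerInf_le_normalizer_inf_centralizer hθ h2 hb
  · intro a ha ha1
    have := hθ.2 a ha ha1
    exact Group.isSolvable_of_isSolvable_injective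
      (Subgroup.inclusion_injective (hallFunctor_le ρ A θ a))

/-- Members of the Hall subfunctor are members of `θ`. -/
theorem mem_family_of_mem {ψ : G → Subgroup G} (hle : ∀ a ∈ A, a ≠ 1 → ψ a ≤ θ a) {U : Subgroup G}
    (hU : U ∈ Cfsg.signalizerFamily p A ψ) : U ∈ Cfsg.signalizerFamily p A θ :=
  ⟨hU.1, hU.2.1, hU.2.2.1, fun a ha ha1 => (hU.2.2.2 a ha ha1).trans (hle a ha ha1)⟩

/-- An `AC`-invariant `ρ`-subgroup in the family of `θ` lies in the family of the Hall subfunctor. -/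
theorem mem_hallFunctor_family (hA : Cfsg.IsElementaryAbelian p A)
    (hθ : Cfsg.IsSolvableSignalizerFunctor p A θ) {ρ : Set ℕ} {U : Subgroup G}
    (hU : U ∈ Cfsg.signalizerFamily p A θ) (hC : Cfsg.signalizerInf A θ ≤ normalizer (U : Set G))
    (hρ : PiNum ρ U) : U ∈ Cfsg.signalizerFamily p A (hallFunctor ρ A θ) :=
  ⟨hU.1, hU.2.1, hU.2.2.1, fun a ha ha1 => le_piRad (hU.2.2.2 a ha ha1)
    (le_normalizer_inf_centralizer_singleton hA (le_normalizer_of_mem hU) ha)
    (signalizerInf_le_normalizer_inf_centralizer hθ hC ha) (hρ.mono inf_le_left)⟩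

/-- `U` is a `ρ`-group as soon as all `C_U(a)` are. -/
theorem piNum_of_centralizer (hA : Cfsg.IsElementaryAbelian p A) (hA2 : p ^ 2 ≤ Nat.card A)
    {ρ : Set ℕ} {U : Subgroup G} (hU : ¬ p ∣ Nat.card U) (hAU : A ≤ normalizer (U : Set G))
    (h : ∀ a ∈ A, a ≠ 1 → PiNum ρ (U ⊓ centralizer {a})) : PiNum ρ U := by
  intro q hq hd
  have : Fact q.Prime := ⟨hq⟩
  by_contra hqρ
  obtain ⟨Q, ⟨T, hT⟩, hAQ⟩ := Lib.PGroupCoprimeAction.exists_invariant_sylow
    (isPGroup_of_isElementaryAbelian hA) hU (fun b hb u hu => conj_mem_of_le_normalizer hAU hb hu) q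
  have hQU : Q ≤ U := by rw [← hT]; exact map_subtype_le _
  have hQq : IsPGroup q Q := by rw [← hT]; exact T.isPGroup'.map _
  have hQ1 : q ∣ Nat.card Q := by
    rw [← hT, Subgroup.card_map_of_injective U.subtype_injective]
    exact T.dvd_card_of_dvd_card hd
  have hle := le_iSup_centralizer_ne_one hA hA2
    (fun h' => hU (h'.trans (card_dvd_of_le hQU))) (le_normalizer_of_conj_mem hAQ)
  have hbot : Q ≤ ⊥ := by
    refine hle.trans (iSup_le fun b => ?_)
    have h1 : PiNum ρ (Q ⊓ centralizer {b.1}) :=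
      (h b.1 b.2.1 b.2.2).mono (inf_le_inf_right _ hQU)
    have h2 : PiNum {q} (Q ⊓ centralizer {b.1}) :=
      piNum_of_isPGroup (hQq.to_le inf_le_left) (Set.mem_singleton q)
    have h3 := h1.inf_eq_bot h2 (by rintro r hr rfl; exact hqρ hr)
    rw [inf_idem] at h3
    exact h3.le
  rw [eq_bot_iff.mpr hbot, Subgroup.card_bot] at hQ1
  exact hq.one_lt.ne' (Nat.dvd_one.mp hQ1)

/-- Members of the Hall subfunctor are `ρ`-groups. -/
theorem piNum_of_mem (hA : Cfsg.IsElementaryAbelian p A) (hA2 : p ^ 2 ≤ Nat.card A)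
    (hθ : Cfsg.IsSolvableSignalizerFunctor p A θ) {ρ : Set ℕ} {U : Subgroup G}
    (hU : U ∈ Cfsg.signalizerFamily p A (hallFunctor ρ A θ)) : PiNum ρ U :=
  piNum_of_centralizer hA hA2 hU.2.1 (le_normalizer_of_mem hU) fun a ha ha1 =>
    (piRad_spec_mem hA (SignalizerMax.theta_mem_family hθ ha ha1) ρ).2.2.mono (hU.2.2.2 a ha ha1)

/-- The value at `a` is a `ρ`-group. -/
theorem hallFunctor_piNum (hA : Cfsg.IsElementaryAbelian p A)
    (hθ : Cfsg.IsSolvableSignalizerFunctor p A θ) {ρ : Set ℕ} {a : G} (ha : a ∈ A) (ha1 : a ≠ 1) :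
    PiNum ρ (hallFunctor ρ A θ a) :=
  (piRad_spec_mem hA (SignalizerMax.theta_mem_family hθ ha ha1) ρ).2.2

theorem hallFunctor_le_piClosure (ρ : Set ℕ) {a : G} (ha : a ∈ A) (ha1 : a ≠ 1) :
    hallFunctor ρ A θ a ≤ piClosure ρ A θ :=
  le_iSup (fun a : {a : G // a ∈ A ∧ a ≠ 1} => hallFunctor ρ A θ (a : G)) ⟨a, ha, ha1⟩

/-- `A` normalises the closure. -/
theorem le_normalizer_piClosure (hA : Cfsg.IsElementaryAbelian p A)
    (hθ : Cfsg.IsSolvableSignalizerFunctor p A θ) (ρ : Set ℕ) :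
    A ≤ normalizer (piClosure ρ A θ : Set G) :=
  iSup_le_normalizer _ fun a =>
    (piRad_spec_mem hA (SignalizerMax.theta_mem_family hθ a.2.1 a.2.2) ρ).1

/-- `⋂ θ a` normalises the closure. -/
theorem signalizerInf_le_normalizer_piClosure (hA : Cfsg.IsElementaryAbelian p A)
    (hθ : Cfsg.IsSolvableSignalizerFunctor p A θ) (ρ : Set ℕ) :
    Cfsg.signalizerInf A θ ≤ normalizer (piClosure ρ A θ : Set G) :=
  iSup_le_normalizer _ fun a =>
    (piRad_spec_mem hA (SignalizerMax.theta_mem_family hθ a.2.1 a.2.2) ρ).2.1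

/-- Every `AC`-invariant `ρ`-subgroup in the family lies in the closure (no completeness needed). -/
theorem le_piClosure (hA : Cfsg.IsElementaryAbelian p A) (hA2 : p ^ 2 ≤ Nat.card A)
    (hθ : Cfsg.IsSolvableSignalizerFunctor p A θ) {ρ : Set ℕ} {U : Subgroup G}
    (hU : U ∈ Cfsg.signalizerFamily p A θ) (hC : Cfsg.signalizerInf A θ ≤ normalizer (U : Set G))
    (hρ : PiNum ρ U) : U ≤ piClosure ρ A θ := by
  have h1 := mem_hallFunctor_family hA hθ hU hC hρ
  refine (le_iSup_centralizer_ne_one hA hA2 hU.2.1 (le_normalizer_of_mem hU)).trans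
    (iSup_le fun b => ?_)
  exact (h1.2.2.2 b.1 b.2.1 b.2.2).trans (hallFunctor_le_piClosure ρ b.2.1 b.2.2)

theorem piRad_le_piClosure (hA : Cfsg.IsElementaryAbelian p A) (hA2 : p ^ 2 ≤ Nat.card A)
    (hθ : Cfsg.IsSolvableSignalizerFunctor p A θ) {ρ : Set ℕ} {K : Subgroup G}
    (hK : K ∈ Cfsg.signalizerFamily p A θ) :
    piRad ρ A (Cfsg.signalizerInf A θ) K ≤ piClosure ρ A θ :=
  le_piClosure hA hA2 hθ (piRad_mem hA hK ρ) (piRad_spec_mem hA hK ρ).2.1 (piRad_spec_mem hA hK ρ).2.2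

/-- The closure is monotone in `ρ`. -/
theorem piClosure_mono (ρ σ : Set ℕ) (h : ρ ⊆ σ) : piClosure ρ A θ ≤ piClosure σ A θ := by
  refine iSup_le fun a => le_trans ?_ (hallFunctor_le_piClosure σ a.2.1 a.2.2)
  exact sSup_le fun X hX => le_sSup ⟨hX.1, hX.2.1, hX.2.2.1, hX.2.2.2.mono_set h⟩

section complete

/-- If the Hall subfunctor is complete then the closure is a member (of both families). -/
theorem piClosure_mem_hall (hA : Cfsg.IsElementaryAbelian p A)
    (hθ : Cfsg.IsSolvableSignalizerFunctor p A θ) {ρ : Set ℕ}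
    (hc : SolComplete p A (hallFunctor ρ A θ)) :
    piClosure ρ A θ ∈ Cfsg.signalizerFamily p A (hallFunctor ρ A θ) :=
  (SolComplete.conclusion hA (hallFunctor_isFunctor hA hθ ρ) hc).1

theorem piClosure_mem (hA : Cfsg.IsElementaryAbelian p A)
    (hθ : Cfsg.IsSolvableSignalizerFunctor p A θ) {ρ : Set ℕ}
    (hc : SolComplete p A (hallFunctor ρ A θ)) : piClosure ρ A θ ∈ Cfsg.signalizerFamily p A θ :=
  mem_family_of_mem (fun a _ _ => hallFunctor_le ρ A θ a) (piClosure_mem_hall hA hθ hc)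

theorem piClosure_piNum (hA : Cfsg.IsElementaryAbelian p A) (hA2 : p ^ 2 ≤ Nat.card A)
    (hθ : Cfsg.IsSolvableSignalizerFunctor p A θ) {ρ : Set ℕ}
    (hc : SolComplete p A (hallFunctor ρ A θ)) : PiNum ρ (piClosure ρ A θ) :=
  piNum_of_mem hA hA2 hθ (piClosure_mem_hall hA hθ hc)

theorem piClosure_inf_centralizer (hA : Cfsg.IsElementaryAbelian p A)
    (hθ : Cfsg.IsSolvableSignalizerFunctor p A θ) {ρ : Set ℕ}
    (hc : SolComplete p A (hallFunctor ρ A θ)) {a : G} (ha : a ∈ A) (ha1 : a ≠ 1) :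
    piClosure ρ A θ ⊓ centralizer {a} = hallFunctor ρ A θ a :=
  (SolComplete.conclusion hA (hallFunctor_isFunctor hA hθ ρ) hc).2 a ha ha1

/-- For a member `K` normalised by `⋂ θ a`: the largest `AC`-invariant `ρ`-subgroup of `K` is
`K ⊓ piClosure ρ A θ`. -/
theorem piRad_eq_inf (hA : Cfsg.IsElementaryAbelian p A) (hA2 : p ^ 2 ≤ Nat.card A)
    (hθ : Cfsg.IsSolvableSignalizerFunctor p A θ) {ρ : Set ℕ}
    (hc : SolComplete p A (hallFunctor ρ A θ)) {K : Subgroup G}
    (hK : K ∈ Cfsg.signalizerFamily p A θ) (hCK : Cfsg.signalizerInf A θ ≤ normalizer (K : Set G)) :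
    piRad ρ A (Cfsg.signalizerInf A θ) K = K ⊓ piClosure ρ A θ := by
  apply le_antisymm (le_inf piRad_le (piRad_le_piClosure hA hA2 hθ hK))
  exact le_piRad inf_le_left
    (le_normalizer_inf (le_normalizer_of_mem hK) (le_normalizer_piClosure hA hθ ρ))
    (le_normalizer_inf hCK (signalizerInf_le_normalizer_piClosure hA hθ ρ))
    ((piClosure_piNum hA hA2 hθ hc).mono inf_le_right)

end complete

end functor

section singlePrime

variable [Finite G] {p : ℕ} [hp : Fact p.Prime] {A : Subgroup G} {θ : G → Subgroup G}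

theorem isPGroup_of_piNum {q : ℕ} [hq : Fact q.Prime] {X : Subgroup G} (h : PiNum {q} X) :
    IsPGroup q X := by
  rw [IsPGroup.iff_card]
  exact ⟨_, Nat.eq_prime_pow_of_unique_prime_dvd Nat.card_pos.ne' fun hd hdv => h _ hd hdv⟩

/-- A functor with all values `q`-groups is complete. -/
theorem solComplete_of_singleton (hA : Cfsg.IsElementaryAbelian p A) (hA3 : p ^ 3 ≤ Nat.card A)
    (hθ : Cfsg.IsSolvableSignalizerFunctor p A θ) {q : ℕ} (hqp : q.Prime)
    (hq : ∀ a ∈ A, a ≠ 1 → PiNum {q} (θ a)) : SolComplete p A θ := by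
  have : Fact q.Prime := ⟨hqp⟩
  have hA2 : p ^ 2 ≤ Nat.card A := (Nat.pow_le_pow_right hp.out.pos (by norm_num)).trans hA3
  obtain ⟨-, X, hX1, hX2, hX3⟩ := S1285.result p A hA hA3 θ hθ q
    fun a ha ha1 => isPGroup_of_piNum (hq a ha ha1)
  have hX4 : PiNum {q} X := piNum_of_centralizer hA hA2 hX2 (le_normalizer_of_conj_mem hX1)
    fun a ha ha1 => by rw [hX3 a ha ha1]; exact hq a ha ha1
  have := (isPGroup_of_piNum hX4).isNilpotent
  exact ⟨X, ⟨inferInstance, hX2, hX1, fun a ha ha1 => (hX3 a ha ha1).le⟩,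
    fun a ha ha1 => (hX3 a ha ha1).ge.trans inf_le_left⟩

/-- The Hall subfunctor for one prime is complete. -/
theorem hallFunctor_complete_singleton (hA : Cfsg.IsElementaryAbelian p A)
    (hA3 : p ^ 3 ≤ Nat.card A) (hθ : Cfsg.IsSolvableSignalizerFunctor p A θ) {q : ℕ}
    (hqp : q.Prime) : SolComplete p A (hallFunctor {q} A θ) :=
  solComplete_of_singleton hA hA3 (hallFunctor_isFunctor hA hθ {q}) hqp
    fun _ ha ha1 => hallFunctor_piNum hA hθ ha ha1

end singlePrime

section counter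

universe u

variable {G : Type u} [Group G] [Finite G] {p : ℕ} [hp : Fact p.Prime] {A : Subgroup G}
  {θ : G → Subgroup G}

/-- In a minimal counterexample all proper Hall subfunctors are complete. -/
theorem MinCounter.hall_complete (h : MinCounter p A θ) {ρ : Set ℕ}
    (hρ : ∃ a ∈ A, a ≠ 1 ∧ ¬ PiNum ρ (θ a)) : SolComplete p A (hallFunctor ρ A θ) := by
  refine h.sub_complete _ (hallFunctor_isFunctor h.elem h.func ρ)
    (fun a _ _ => hallFunctor_le ρ A θ a) ?_
  obtain ⟨a, ha, ha1, hna⟩ := hρ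
  refine ⟨a, ha, ha1, fun heq => hna ?_⟩
  rw [← heq]
  exact hallFunctor_piNum h.elem h.func ha ha1

end counter



end Cfsg.Agent.SignalizersComponents.HallFunctor
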