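import Mathlib
import Cfsg.Prelude.Def_Balance
import Cfsg.Agent.SignalizersComponents.FunctorTools
import Cfsg.Agent.SignalizersComponents.FunctorInduction
import Cfsg.Agent.Lib.LocalCore
import Cfsg.Agent.OddOrderLocal.FitCores
import Cfsg.Agent.S1288

set_option autoImplicit false

/-!
Basic properties of a minimal counterexample to the solvable signalizer functor theorem: the largest
member `loc A θ D` normalising a member `D`, maximal members, the lemmas of Bender type.
-/

namespace Cfsg.Agent.SignalizersComponents.MinCounterBasic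

open Subgroup
open scoped commutatorElement
open Cfsg.Agent.SignalizersComponents.GoldschmidtGen (le_normalizer_of_conj_mem
  conj_mem_of_le_normalizer le_normalizer_inf_centralizer)
open Cfsg.Agent.SignalizersComponents.CoprimeGen
open Cfsg.Agent.SignalizersComponents.FunctorTools
open Cfsg.Agent.SignalizersComponents.FunctorInduction
open Cfsg.Agent.Lib

variable {G : Type*} [Group G]

/-! ### Cores of subgroups as subgroups of the ambient group -/

/-- `O_q(X)` as a subgroup of `G`. -/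
abbrev Op (q : ℕ) (X : Subgroup G) : Subgroup G := (Cfsg.pCore q X).map X.subtype

/-- `O_{q'}(X)` as a subgroup of `G`. -/
abbrev Opp (q : ℕ) (X : Subgroup G) : Subgroup G := (Cfsg.pPrimeCore q X).map X.subtype

section cores

variable {q r : ℕ} {X Y : Subgroup G}

theorem Op_le : Op q X ≤ X := map_subtype_le _

theorem Opp_le : Opp q X ≤ X := map_subtype_le _

theorem isPGroup_Op : IsPGroup q (Op q X) := LocalCore.isPGroup_map_pCore q X

theorem coprime_Opp [Finite G] : (Nat.card (Opp q X)).Coprime q :=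
  LocalCore.card_map_pPrimeCore_coprime q X

theorem le_normalizer_Op : X ≤ normalizer (Op q X : Set G) := LocalCore.le_normalizer_map_pCore q X

theorem le_normalizer_Opp : X ≤ normalizer (Opp q X : Set G) :=
  LocalCore.le_normalizer_map_pPrimeCore q X

/-- The normaliser of `X` normalises the image of a characteristic subgroup of `X`. -/
theorem normalizer_le_normalizer_map (C : Subgroup X) (hC : C.Characteristic) :
    normalizer (X : Set G) ≤ normalizer ((C.map X.subtype : Subgroup G) : Set G) := by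
  apply le_normalizer_of_conj_mem
  rintro g hg _ ⟨x, hx, rfl⟩
  let φ : MulAut X := X.normalizerMonoidHom ⟨g, hg⟩
  have hφ : ∀ y : X, ((φ y : X) : G) = g * y * g⁻¹ := fun y => rfl
  have h1 : φ x ∈ C := (Subgroup.characteristic_iff_map_le.mp hC) φ (Subgroup.mem_map_of_mem _ hx)
  exact ⟨φ x, h1, hφ x⟩

theorem normalizer_le_normalizer_Op : normalizer (X : Set G) ≤ normalizer (Op q X : Set G) :=
  normalizer_le_normalizer_map _ (Cores.pCore_characteristic q)

theorem normalizer_le_normalizer_Opp : normalizer (X : Set G) ≤ normalizer (Opp q X : Set G) :=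
  normalizer_le_normalizer_map _ (Cores.pPrimeCore_characteristic q)

/-- A normalised `q`-subgroup of `X` lies in `O_q(X)`. -/
theorem le_Op (hYX : Y ≤ X) (hY : IsPGroup q Y) (hX : X ≤ normalizer (Y : Set G)) : Y ≤ Op q X :=
  LocalCore.le_map_pCore hYX hY hX

theorem le_Opp (hYX : Y ≤ X) (hY : (Nat.card Y).Coprime q) (hX : X ≤ normalizer (Y : Set G)) :
    Y ≤ Opp q X := LocalCore.le_map_pPrimeCore hYX hY hX

theorem Op_inf_le (hYX : Y ≤ X) : Op q X ⊓ Y ≤ Op q Y :=
  le_Op inf_le_right (isPGroup_Op.to_le inf_le_left)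
    (fun _ hy => inf_normalizer_le_normalizer_inf ⟨le_normalizer_Op (hYX hy), le_normalizer hy⟩)

theorem Opp_inf_le [Finite G] (hYX : Y ≤ X) : Opp q X ⊓ Y ≤ Opp q Y :=
  le_Opp inf_le_right (coprime_Opp.coprime_dvd_left (card_dvd_of_le inf_le_left))
    (fun _ hy => inf_normalizer_le_normalizer_inf ⟨le_normalizer_Opp (hYX hy), le_normalizer hy⟩)

/-- Two subgroups normalising each other with trivial intersection commute. -/
theorem le_centralizer_of_normalize (h1 : X ≤ normalizer (Y : Set G)) (h2 : Y ≤ normalizer (X : Set G))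
    (h : X ⊓ Y = ⊥) : X ≤ centralizer (Y : Set G) := by
  intro x hx
  rw [mem_centralizer_iff]
  intro y hy
  have h3 : x * y * x⁻¹ * y⁻¹ ∈ X ⊓ Y := by
    refine ⟨?_, Y.mul_mem (conj_mem_of_le_normalizer h1 hx hy) (Y.inv_mem hy)⟩
    have h4 := X.mul_mem hx (conj_mem_of_le_normalizer h2 hy (X.inv_mem hx))
    simpa [mul_assoc] using h4
  rw [h, mem_bot] at h3
  have h5 : x * y = y * x := by
    calc x * y = (x * y * x⁻¹ * y⁻¹) * (y * x) := by group
      _ = y * x := by rw [h3, one_mul]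
  exact h5.symm

theorem coprime_of_isPGroup' [Finite G] [hq : Fact q.Prime] {n : ℕ} (hn : Nat.Coprime n q)
    (hX : IsPGroup q X) : Nat.Coprime n (Nat.card X) := by
  obtain ⟨m, hm⟩ := IsPGroup.iff_card.mp hX
  rw [hm]
  exact Nat.Coprime.pow_right m hn

theorem inf_eq_bot_of_coprime [Finite G] (h : (Nat.card X).Coprime (Nat.card Y)) : X ⊓ Y = ⊥ :=
  (Subgroup.disjoint_of_coprime_natCard h).eq_bot

/-- `O_q(X)` and `O_{q'}(X)` commute. -/
theorem Op_le_centralizer_Opp [Finite G] [hq : Fact q.Prime] :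
    Op q X ≤ centralizer (Opp q X : Set G) :=
  le_centralizer_of_normalize (Op_le.trans le_normalizer_Opp) (Opp_le.trans le_normalizer_Op)
    (inf_eq_bot_of_coprime (coprime_of_isPGroup' coprime_Opp isPGroup_Op).symm)

theorem Opp_le_centralizer_Op [Finite G] [hq : Fact q.Prime] :
    Opp q X ≤ centralizer (Op q X : Set G) :=
  Subgroup.le_centralizer_iff.mp Op_le_centralizer_Opp

theorem Op_le_Opp [Finite G] [hq : Fact q.Prime] [hr : Fact r.Prime] (h : r ≠ q) :
    Op r X ≤ Opp q X := by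
  refine le_Opp Op_le ?_ le_normalizer_Op
  obtain ⟨m, hm⟩ := IsPGroup.iff_card.mp (isPGroup_Op (q := r) (X := X))
  rw [hm]
  exact Nat.Coprime.pow_left m ((Nat.coprime_primes hr.out hq.out).mpr h)

theorem Op_eq_piCoreOf (hq : q.Prime) [Finite G] : Op q X = Cfsg.piCoreOf {q} X :=
  Cfsg.Agent.OddOrderLocal.FitCores.map_pCore_eq hq X

theorem fittingOf_le_iff' [Finite G] : Cfsg.fittingOf X ≤ Y ↔ ∀ q : ℕ, q.Prime → Op q X ≤ Y := by
  rw [Cfsg.Agent.OddOrderLocal.FitCores.fittingOf_le_iff]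
  exact forall₂_congr fun q hq => by rw [Op_eq_piCoreOf hq]

theorem Op_le_fittingOf [Finite G] (hq : q.Prime) : Op q X ≤ Cfsg.fittingOf X :=
  fittingOf_le_iff'.mp le_rfl q hq

theorem fittingOf_le : Cfsg.fittingOf X ≤ X := map_subtype_le _

/-- A nontrivial solvable group has a nontrivial `O_q`. -/
theorem exists_Op_ne_bot [Finite G] (hX : Group.IsSolvable X) (h : X ≠ ⊥) :
    ∃ q : ℕ, q.Prime ∧ Op q X ≠ ⊥ := by
  obtain ⟨q, hq, V, hVX, hV, hVq, hn⟩ :=
    Cfsg.Agent.OddOrderLocal.FitCores.exists_pgroup_le_of_solvable hX h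
  refine ⟨q, hq, fun h1 => hV ?_⟩
  have h2 := le_Op hVX hVq (le_normalizer.trans hn)
  rwa [h1, le_bot_iff] at h2

/-- A `q`-subgroup which is contained in `X` and centralises `O_q(X)`, when `O_{q'}(X) = 1`. -/
theorem centralizer_inf_le_Op [Finite G] [hq : Fact q.Prime] (hX : Group.IsSolvable X)
    (h : Opp q X = ⊥) : X ⊓ centralizer (Op q X : Set G) ≤ Op q X := by
  have h1 : Cfsg.fittingOf X = Op q X := by
    refine le_antisymm (fittingOf_le_iff'.mpr fun r hr => ?_) (Op_le_fittingOf hq.out)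
    by_cases hrq : r = q
    · rw [hrq]
    · haveI := Fact.mk hr
      exact ((Op_le_Opp hrq).trans h.le).trans bot_le
  have h2 := Cfsg.Agent.OddOrderLocal.FitCores.inf_centralizer_fittingOf_le hX
  rwa [h1] at h2

end cores

/-! ### Locals -/

section loc

variable {p : ℕ} {A : Subgroup G} {θ : G → Subgroup G}

/-- The largest member normalising `D`. -/
def loc (A : Subgroup G) (θ : G → Subgroup G) (D : Subgroup G) : Subgroup G :=
  ⨆ a : {a : G // a ∈ A ∧ a ≠ 1}, θ (a : G) ⊓ normalizer (D : Set G)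

theorem loc_le_normalizer (D : Subgroup G) : loc A θ D ≤ normalizer (D : Set G) :=
  iSup_le fun _ => inf_le_right

theorem theta_inf_le_loc (D : Subgroup G) {a : G} (ha : a ∈ A) (ha1 : a ≠ 1) :
    θ a ⊓ normalizer (D : Set G) ≤ loc A θ D :=
  le_iSup (fun a : {a : G // a ∈ A ∧ a ≠ 1} => θ (a : G) ⊓ normalizer (D : Set G)) ⟨a, ha, ha1⟩

/-- A member normalising `D` lies in `loc A θ D`. -/
theorem le_loc [Finite G] [hp : Fact p.Prime] (hA : Cfsg.IsElementaryAbelian p A)
    (hA2 : p ^ 2 ≤ Nat.card A) {U D : Subgroup G} (hU : U ∈ Cfsg.signalizerFamily p A θ)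
    (hn : U ≤ normalizer (D : Set G)) : U ≤ loc A θ D := by
  refine (le_iSup_centralizer_ne_one hA hA2 hU.2.1 (le_normalizer_of_mem hU)).trans
    (iSup_le fun a => ?_)
  exact (le_inf (hU.2.2.2 a a.2.1 a.2.2) (inf_le_left.trans hn)).trans
    (theta_inf_le_loc D a.2.1 a.2.2)

theorem MinCounter.pow_two_le [Finite G] [hp : Fact p.Prime] (h : MinCounter p A θ) :
    p ^ 2 ≤ Nat.card A := by
  rw [h.card]; exact Nat.pow_le_pow_right hp.out.pos (by norm_num)

theorem MinCounter.ne_bot [Finite G] [hp : Fact p.Prime] (h : MinCounter p A θ) : A ≠ ⊥ :=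
  ne_bot_of_pow_le three_ne_zero h.card.ge

theorem MinCounter.loc_mem [Finite G] [hp : Fact p.Prime] (h : MinCounter p A θ) {D : Subgroup G}
    (hD : D ∈ Cfsg.signalizerFamily p A θ) (hD1 : D ≠ ⊥) :
    loc A θ D ∈ Cfsg.signalizerFamily p A θ := by
  obtain ⟨W, hW, -, hle⟩ := h.local_complete D hD hD1
  have hAD := le_normalizer_of_mem hD
  refine mem_of_le hW (iSup_le fun a => hle a a.2.1 a.2.2) ?_
  refine iSup_le_normalizer _ fun a => ?_
  intro x hx
  exact inf_normalizer_le_normalizer_inf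
    ⟨theta_le_normalizer h.func a.2.1 a.2.2 hx, le_normalizer (hAD hx)⟩

theorem MinCounter.le_loc [Finite G] [hp : Fact p.Prime] (h : MinCounter p A θ) {U D : Subgroup G}
    (hU : U ∈ Cfsg.signalizerFamily p A θ) (hn : U ≤ normalizer (D : Set G)) : U ≤ loc A θ D :=
  MinCounterBasic.le_loc h.elem (MinCounter.pow_two_le h) hU hn

theorem exists_maximal_ge [Finite G] {D : Subgroup G} (hD : D ∈ Cfsg.signalizerFamily p A θ) :
    ∃ M, D ≤ M ∧ Maximal (· ∈ Cfsg.signalizerFamily p A θ) M := by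
  obtain ⟨M, hM, hmax⟩ := (Set.toFinite (Cfsg.signalizerFamily p A θ)).exists_le_maximal hD
  exact ⟨M, hM, hmax⟩

/-- If `M` is a maximal member normalising the nontrivial member `D`, then `M = loc A θ D`. -/
theorem MinCounter.loc_eq [Finite G] [hp : Fact p.Prime] (h : MinCounter p A θ) {M D : Subgroup G}
    (hM : Maximal (· ∈ Cfsg.signalizerFamily p A θ) M)
    (hD : D ∈ Cfsg.signalizerFamily p A θ) (hD1 : D ≠ ⊥) (hn : M ≤ normalizer (D : Set G)) :
    loc A θ D = M :=
  (hM.eq_of_le (MinCounter.loc_mem h hD hD1) (MinCounter.le_loc h hM.prop hn)).symm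

/-- A member normalising a nontrivial member `D` which is normalised by the maximal member `M` is
contained in `M`. -/
theorem MinCounter.le_of_le_normalizer [Finite G] [hp : Fact p.Prime] (h : MinCounter p A θ)
    {M D U : Subgroup G} (hM : Maximal (· ∈ Cfsg.signalizerFamily p A θ) M)
    (hD : D ∈ Cfsg.signalizerFamily p A θ) (hD1 : D ≠ ⊥) (hn : M ≤ normalizer (D : Set G))
    (hU : U ∈ Cfsg.signalizerFamily p A θ) (hUD : U ≤ normalizer (D : Set G)) : U ≤ M := by
  rw [← MinCounter.loc_eq h hM hD hD1 hn]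
  exact MinCounter.le_loc h hU hUD

/-- `⊥` is not a maximal member of a minimal counterexample. -/
theorem MinCounter.maximal_ne_bot [Finite G] [hp : Fact p.Prime] (h : MinCounter p A θ)
    {M : Subgroup G} (hM : Maximal (· ∈ Cfsg.signalizerFamily p A θ) M) : M ≠ ⊥ := by
  intro h1
  apply h.notComplete
  refine ⟨M, hM.prop, fun a ha ha1 => ?_⟩
  have h2 := SignalizerMax.theta_mem_family h.func ha ha1
  have h3 : M = θ a := hM.eq_of_le h2 (by rw [h1]; exact bot_le)
  exact h3.ge

/-! ### Members obtained from members -/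

theorem Op_mem [Finite G] {X : Subgroup G} (hX : X ∈ Cfsg.signalizerFamily p A θ) (q : ℕ) :
    Op q X ∈ Cfsg.signalizerFamily p A θ :=
  mem_of_le hX Op_le ((le_normalizer_of_mem hX).trans normalizer_le_normalizer_Op)

theorem Opp_mem [Finite G] {X : Subgroup G} (hX : X ∈ Cfsg.signalizerFamily p A θ) (q : ℕ) :
    Opp q X ∈ Cfsg.signalizerFamily p A θ :=
  mem_of_le hX Opp_le ((le_normalizer_of_mem hX).trans normalizer_le_normalizer_Opp)

theorem fittingOf_mem [Finite G] {X : Subgroup G} (hX : X ∈ Cfsg.signalizerFamily p A θ) :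
    Cfsg.fittingOf X ∈ Cfsg.signalizerFamily p A θ :=
  mem_of_le hX fittingOf_le ((le_normalizer_of_mem hX).trans
    (normalizer_le_normalizer_map _ Cores.fittingSubgroup_characteristic))

theorem inf_mem [Finite G] {X Y : Subgroup G} (hX : X ∈ Cfsg.signalizerFamily p A θ)
    (hY : A ≤ normalizer (Y : Set G)) : X ⊓ Y ∈ Cfsg.signalizerFamily p A θ :=
  mem_of_le hX inf_le_left
    (fun _ ha => inf_normalizer_le_normalizer_inf ⟨le_normalizer_of_mem hX ha, hY ha⟩)

/-- the centre of a member, as a subgroup of `G` -/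
theorem center_mem [Finite G] {X : Subgroup G} (hX : X ∈ Cfsg.signalizerFamily p A θ) :
    (Subgroup.center X).map X.subtype ∈ Cfsg.signalizerFamily p A θ :=
  mem_of_le hX (map_subtype_le _) ((le_normalizer_of_mem hX).trans
    (normalizer_le_normalizer_map _ inferInstance))

theorem center_map_ne_bot [Finite G] {q : ℕ} [hq : Fact q.Prime] {X : Subgroup G}
    (hX : IsPGroup q X) (hX1 : X ≠ ⊥) : (Subgroup.center X).map X.subtype ≠ ⊥ := by
  haveI : Nontrivial X := (Subgroup.nontrivial_iff_ne_bot X).mpr hX1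
  have h1 := hX.center_nontrivial
  rw [Ne, Subgroup.map_eq_bot_iff_of_injective _ X.subtype_injective]
  exact (Subgroup.nontrivial_iff_ne_bot _).mp h1

theorem le_centralizer_center_map (X : Subgroup G) :
    X ≤ centralizer (((Subgroup.center X).map X.subtype : Subgroup G) : Set G) := by
  intro x hx
  rw [mem_centralizer_iff]
  rintro _ ⟨z, hz, rfl⟩
  have := (Subgroup.mem_center_iff.mp hz) ⟨x, hx⟩
  exact (congrArg Subtype.val this).symm

theorem centralizer_le_normalizer' (X : Subgroup G) :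
    centralizer (X : Set G) ≤ normalizer (X : Set G) :=
  Subgroup.centralizer_le_normalizer _

/-! ### The lemmas of Bender type -/

/-- If `M` is a maximal member, `H` a member and `H ∩ O_q(M) ≠ 1`, then `H ∩ O_{q'}(M) ≤ O_{q'}(H)`. -/
theorem MinCounter.inf_Opp_le [Finite G] [hp : Fact p.Prime] (h : MinCounter p A θ) {q : ℕ}
    [hq : Fact q.Prime] {M H : Subgroup G} (hM : Maximal (· ∈ Cfsg.signalizerFamily p A θ) M)
    (hH : H ∈ Cfsg.signalizerFamily p A θ) (hD1 : H ⊓ Op q M ≠ ⊥) :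
    H ⊓ Opp q M ≤ Opp q H := by
  have hMm := hM.prop
  have hMO := Op_mem hMm q
  have hOM1 : Op q M ≠ ⊥ := fun h1 => hD1 (by rw [h1, inf_bot_eq])
  -- the centre of `O_q(M)`
  set Z : Subgroup G := (Subgroup.center (Op q M)).map (Op q M).subtype with hZ
  have hZm : Z ∈ Cfsg.signalizerFamily p A θ := center_mem hMO
  have hZ1 : Z ≠ ⊥ := center_map_ne_bot (isPGroup_Op (q := q)) hOM1
  have hZO : Z ≤ Op q M := map_subtype_le _
  have hZq : IsPGroup q Z := isPGroup_Op.to_le hZO
  have hMZ : M ≤ normalizer (Z : Set G) :=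
    le_normalizer_Op.trans (normalizer_le_normalizer_map _ inferInstance)
  -- `D = H ∩ O_q(M)`
  set D : Subgroup G := H ⊓ Op q M with hD
  have hDm : D ∈ Cfsg.signalizerFamily p A θ := inf_mem hH (le_normalizer_of_mem hMO)
  have hDq : IsPGroup q D := isPGroup_Op.to_le inf_le_right
  have hLm := MinCounter.loc_mem h hDm hD1
  have hLD : loc A θ D ≤ normalizer (D : Set G) := loc_le_normalizer D
  -- step 1
  have hZD : Z ≤ normalizer (D : Set G) := by
    refine le_trans ?_ (centralizer_le_normalizer' D)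
    rw [Subgroup.le_centralizer_iff]
    exact inf_le_right.trans (le_centralizer_center_map _)
  have h1 : Opp q M ⊓ loc A θ D ≤ Opp q (loc A θ D) := by
    refine LocalCore.pPrimeCoreOf_inf_le q M (loc A θ D) Z hLm.1 hZq
      (MinCounter.le_loc h hZm hZD) hMZ ?_
    refine MinCounter.le_of_le_normalizer h hM hZm hZ1 hMZ ?_ inf_le_right
    exact inf_mem hLm ((le_normalizer_of_mem hZm).trans le_normalizer)
  -- step 2
  have h2 : Opp q M ≤ loc A θ D := by
    refine MinCounter.le_loc h (Opp_mem hMm q) ?_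
    refine le_trans ?_ (centralizer_le_normalizer' D)
    exact Opp_le_centralizer_Op.trans (centralizer_le inf_le_right)
  -- step 3
  have h3 : Opp q (loc A θ D) ⊓ H ≤ Opp q H := by
    refine LocalCore.pPrimeCoreOf_inf_le q (loc A θ D) H D hH.1 hDq inf_le_left hLD ?_
    refine MinCounter.le_loc h ?_ inf_le_right
    exact inf_mem hH ((le_normalizer_of_mem hDm).trans le_normalizer)
  calc H ⊓ Opp q M ≤ Opp q (loc A θ D) ⊓ H :=
        le_inf (inf_le_right.trans ((le_inf le_rfl h2).trans h1)) inf_le_left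
    _ ≤ Opp q H := h3

/-- One half of the Bender argument. -/
theorem MinCounter.Opp_le_of_common [Finite G] [hp : Fact p.Prime] (h : MinCounter p A θ) {q : ℕ}
    [hq : Fact q.Prime] {M H : Subgroup G} (hM : Maximal (· ∈ Cfsg.signalizerFamily p A θ) M)
    (hH : Maximal (· ∈ Cfsg.signalizerFamily p A θ) H) (hMH : Cfsg.fittingOf M ≤ H)
    (hHM : Cfsg.fittingOf H ≤ M) (h1 : Op q M ≠ ⊥) (h2 : Op q H ≠ ⊥) : Opp q H ≤ Opp q M := by
  have hMm := hM.prop
  have hHm := hH.prop
  have hc : ∀ t : ℕ, t.Prime → t ≠ q → Op t H ≤ centralizer (Op q M : Set G) := by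
    intro t ht htq
    haveI := Fact.mk ht
    have h3 : M ⊓ Opp q H ≤ Opp q M := MinCounter.inf_Opp_le h hH hMm
      (by rw [inf_eq_right.mpr ((Op_le_fittingOf hq.out).trans hHM)]; exact h2)
    exact ((le_inf ((Op_le_fittingOf ht).trans hHM) (Op_le_Opp htq)).trans h3).trans
      Opp_le_centralizer_Op
  -- `O_q(M)` centralises `O_{q'}(H)`
  have hQH : Op q M ≤ H := (Op_le_fittingOf hq.out).trans hMH
  have hcent : Op q M ≤ centralizer (Opp q H : Set G) := by
    refine Cfsg.Agent.OddOrderLocal.FitCores.le_centralizer_of_centralizes_fitting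
      (hQH.trans le_normalizer_Opp) (Opp_mem hHm q).1
      (coprime_of_isPGroup' coprime_Opp isPGroup_Op).symm ?_
    rw [Subgroup.le_centralizer_iff, fittingOf_le_iff']
    intro t ht
    haveI := Fact.mk ht
    by_cases htq : t = q
    · subst htq
      have h4 : Op t (Opp t H) = ⊥ := by
        have h5 := inf_eq_bot_of_coprime
          (coprime_of_isPGroup' (coprime_Opp (q := t) (X := H)) (isPGroup_Op (q := t) (X := Opp t H)))
        rwa [inf_eq_right.mpr Op_le] at h5
      rw [h4]; exact bot_le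
    · refine le_trans ?_ (hc t ht htq)
      exact le_Op (Op_le.trans Opp_le) isPGroup_Op
        (le_normalizer_Opp.trans normalizer_le_normalizer_Op)
  have hYM : Opp q H ≤ M := by
    refine MinCounter.le_of_le_normalizer h hM (Op_mem hMm q) h1 le_normalizer_Op (Opp_mem hHm q) ?_
    exact (Subgroup.le_centralizer_iff.mp hcent).trans (centralizer_le_normalizer' _)
  have h3 : M ⊓ Opp q H ≤ Opp q M := MinCounter.inf_Opp_le h hH hMm
    (by rw [inf_eq_right.mpr ((Op_le_fittingOf hq.out).trans hHM)]; exact h2)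
  exact (le_inf hYM le_rfl).trans h3

/-- Two maximal members containing each other's Fitting subgroups, with a common prime `q` of their
Fitting subgroups and `O_{q'}(M) ≠ 1`, are equal. -/
theorem MinCounter.eq_of_common [Finite G] [hp : Fact p.Prime] (h : MinCounter p A θ) {q : ℕ}
    [hq : Fact q.Prime] {M H : Subgroup G} (hM : Maximal (· ∈ Cfsg.signalizerFamily p A θ) M)
    (hH : Maximal (· ∈ Cfsg.signalizerFamily p A θ) H) (hMH : Cfsg.fittingOf M ≤ H)
    (hHM : Cfsg.fittingOf H ≤ M) (h1 : Op q M ≠ ⊥) (h2 : Op q H ≠ ⊥) (h3 : Opp q M ≠ ⊥) :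
    M = H := by
  have h4 := le_antisymm (MinCounter.Opp_le_of_common h hM hH hMH hHM h1 h2)
    (MinCounter.Opp_le_of_common h hH hM hHM hMH h2 h1)
  rw [← MinCounter.loc_eq h hM (Opp_mem hM.prop q) h3 le_normalizer_Opp, ← h4,
    MinCounter.loc_eq h hH (Opp_mem hH.prop q) (by rwa [h4]) le_normalizer_Opp]

theorem MinCounter.Op_ne_bot_of_Op_ne_bot [Finite G]
    {M H : Subgroup G} (hM : M ∈ Cfsg.signalizerFamily p A θ)
    (hMH : Cfsg.fittingOf M ≤ H) (hHM : Cfsg.fittingOf H ≤ M) {s : ℕ} (hs : s.Prime)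
    (h1 : Op s H ≠ ⊥) : Op s M ≠ ⊥ := by
  intro h2
  apply h1
  have hXM : Op s H ≤ M := (Op_le_fittingOf hs).trans hHM
  have h3 : Op s H ≤ normalizer (Cfsg.fittingOf M : Set G) :=
    hXM.trans (LocalCore.le_normalizer_map_fittingSubgroup M)
  have h4 : Cfsg.fittingOf M ≤ normalizer (Op s H : Set G) := hMH.trans le_normalizer_Op
  have h5 : ∀ Y : Subgroup G, Y ≤ Cfsg.fittingOf M → Y ≤ Op s H → Y = ⊥ := by
    intro Y hY1 hY2
    have h6 := Cfsg.Agent.OddOrderLocal.FitCores.le_core_of_le_fittingOf hs hY1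
      (isPGroup_Op.to_le hY2)
    rw [← Op_eq_piCoreOf hs, h2] at h6
    exact le_bot_iff.mp h6
  have h6 : Op s H ≤ centralizer (Cfsg.fittingOf M : Set G) :=
    le_centralizer_of_normalize h3 h4 (h5 _ inf_le_right inf_le_left)
  exact h5 _ ((le_inf hXM h6).trans
    (Cfsg.Agent.OddOrderLocal.FitCores.inf_centralizer_fittingOf_le hM.1)) le_rfl

/-- **Bender's lemma.** Distinct maximal members containing each other's Fitting subgroups: both are
of the same pure type `q`. -/
theorem MinCounter.bender [Finite G] [hp : Fact p.Prime] (h : MinCounter p A θ)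
    {M H : Subgroup G} (hM : Maximal (· ∈ Cfsg.signalizerFamily p A θ) M)
    (hH : Maximal (· ∈ Cfsg.signalizerFamily p A θ) H) (hMH : Cfsg.fittingOf M ≤ H)
    (hHM : Cfsg.fittingOf H ≤ M) (hne : M ≠ H) :
    ∃ q : ℕ, q.Prime ∧ Op q M ≠ ⊥ ∧ Op q H ≠ ⊥ ∧ Opp q M = ⊥ ∧ Opp q H = ⊥ := by
  obtain ⟨s, hs, h1⟩ := exists_Op_ne_bot hH.prop.1 (MinCounter.maximal_ne_bot h hH)
  haveI := Fact.mk hs
  have h2 := MinCounter.Op_ne_bot_of_Op_ne_bot hM.prop hMH hHM hs h1
  refine ⟨s, hs, h2, h1, ?_, ?_⟩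
  · by_contra h3
    exact hne (MinCounter.eq_of_common h hM hH hMH hHM h2 h1 h3)
  · by_contra h3
    exact hne (MinCounter.eq_of_common h hH hM hHM hMH h1 h2 h3).symm

/-! ### The criterion from S1288 -/

/-- If `U ≤ O_{q'}(θ b)` for all `1 ≠ b ∈ B`, `B` noncyclic, then `U ≤ O_{q'}(H)` for every member `H`
containing `U`. -/
theorem le_Opp_of_forall [Finite G] [hp : Fact p.Prime] (hA : Cfsg.IsElementaryAbelian p A)
    {q : ℕ} [hq : Fact q.Prime] {B U H : Subgroup G} (hBA : B ≤ A) (hB2 : p ^ 2 ≤ Nat.card B)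
    (hH : H ∈ Cfsg.signalizerFamily p A θ) (hUH : U ≤ H)
    (hU : ∀ b ∈ B, b ≠ 1 → U ≤ Opp q (θ b)) : U ≤ Opp q H := by
  have hBe := isElementaryAbelian_mono hA hBA
  have hB1 : B ≠ ⊥ := ne_bot_of_pow_le two_ne_zero hB2
  have hUc : (Nat.card U).Coprime q := by
    obtain ⟨b, hb, hb1⟩ := B.bot_or_exists_ne_one.resolve_left hB1
    exact coprime_Opp.coprime_dvd_left (card_dvd_of_le (hU b hb hb1))
  by_cases hqH : q ∣ Nat.card H
  · refine Cfsg.Agent.S1288.result p B H hBe hB2 hH.2.1 hH.1 (hBA.trans (le_normalizer_of_mem hH)) q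
      hqH U hUH ((Nat.Prime.coprime_iff_not_dvd hq.out).mp hUc.symm) ?_
    intro B₁ hB₁ hi hdvd
    have hB₁1 : B₁ ≠ ⊥ := ne_bot_of_pow_le one_ne_zero (hyperplane_pow_le hB2 hB₁ hi)
    obtain ⟨b, hb, hb1⟩ := B₁.bot_or_exists_ne_one.resolve_left hB₁1
    have h1 : H ⊓ centralizer (B₁ : Set G) ≤ θ b :=
      le_trans (inf_le_inf_left _ (centralizer_le (by simpa using hb)))
        (hH.2.2.2 b (hBA (hB₁ hb)) hb1)
    have h2 : ⁅U, H ⊓ centralizer (B₁ : Set G)⁆ ≤ Opp q (θ b) := by
      rw [Subgroup.commutator_le]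
      intro u hu x hx
      have hu' : u ∈ Opp q (θ b) := hU b (hB₁ hb) hb1 hu
      have h3 : x * u⁻¹ * x⁻¹ ∈ Opp q (θ b) :=
        conj_mem_of_le_normalizer le_normalizer_Opp (h1 hx) ((Opp q (θ b)).inv_mem hu')
      rw [commutatorElement_def]
      have h4 := (Opp q (θ b)).mul_mem hu' h3
      simpa [mul_assoc] using h4
    have h3 : q ∣ Nat.card (Opp q (θ b)) := hdvd.trans (card_dvd_of_le h2)
    exact (Nat.Prime.coprime_iff_not_dvd hq.out).mp
      (coprime_Opp (q := q) (X := θ b)).symm h3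
  · refine hUH.trans (le_Opp le_rfl ?_ le_normalizer)
    exact ((Nat.Prime.coprime_iff_not_dvd hq.out).mpr hqH).symm

/-- **The key lemma.** If `M` is a maximal member and the noncyclic `B ≤ A` centralises a nontrivial
subgroup of `O_q(M)`, then `C_{O_{q'}(M)}(B)` lies in `O_{q'}(H)` for every member `H` containing it. -/
theorem MinCounter.centralizer_inf_Opp_le [Finite G] [hp : Fact p.Prime] (h : MinCounter p A θ)
    {q : ℕ} [hq : Fact q.Prime] {M H B : Subgroup G}
    (hM : Maximal (· ∈ Cfsg.signalizerFamily p A θ) M) (hH : H ∈ Cfsg.signalizerFamily p A θ)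
    (hBA : B ≤ A) (hB2 : p ^ 2 ≤ Nat.card B) (hne : Op q M ⊓ centralizer (B : Set G) ≠ ⊥)
    (hle : Opp q M ⊓ centralizer (B : Set G) ≤ H) :
    Opp q M ⊓ centralizer (B : Set G) ≤ Opp q H := by
  refine le_Opp_of_forall h.elem hBA hB2 hH hle fun b hb hb1 => ?_
  have hθ := SignalizerMax.theta_mem_family h.func (hBA hb) hb1
  have hcb : centralizer (B : Set G) ≤ centralizer ({b} : Set G) :=
    centralizer_le (by simpa using hb)
  have h1 : ∀ X : Subgroup G, X ≤ M → X ⊓ centralizer (B : Set G) ≤ θ b := fun X hX =>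
    (inf_le_inf hX hcb).trans (hM.prop.2.2.2 b (hBA hb) hb1)
  refine le_trans ?_ (MinCounter.inf_Opp_le h (q := q) hM hθ ?_)
  · exact le_inf (h1 _ Opp_le) inf_le_left
  · intro h2
    apply hne
    rw [← le_bot_iff, ← h2]
    exact le_inf (h1 _ Op_le) inf_le_left

end loc

end Cfsg.Agent.SignalizersComponents.MinCounterBasic
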