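import Mathlib
import Cfsg.Prelude.Def_Balance
import Cfsg.Prelude.Def_OddOrderLocal
import Cfsg.Agent.SignalizersComponents.MinCounterBasic
import Cfsg.Agent.SignalizersComponents.HallFunctor
import Cfsg.Agent.SignalizersComponents.LocalGlobal
import Cfsg.Agent.S1288

set_option autoImplicit false
set_option linter.unusedSectionVars false
set_option maxHeartbeats 400000

/-!
The radical `W_π` of a minimal counterexample to the solvable signalizer functor theorem:
steps (1)-(3) and (5), (6) of the radical proof.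
-/

namespace Cfsg.Agent.SignalizersComponents.Radical

open Subgroup
open scoped commutatorElement
open Cfsg (piCoreOf)
open Cfsg.Agent.OddOrderLocal.PiCoreOf
open Cfsg.Agent.SignalizersComponents.GoldschmidtGen (le_normalizer_of_conj_mem
  conj_mem_of_le_normalizer le_normalizer_commutator le_normalizer_sup)
open Cfsg.Agent.SignalizersComponents.CoprimeGen
open Cfsg.Agent.SignalizersComponents.FunctorTools
open Cfsg.Agent.SignalizersComponents.FunctorInduction
open Cfsg.Agent.SignalizersComponents.MinCounterBasic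
open Cfsg.Agent.SignalizersComponents.InvariantHall (PiNum)
open Cfsg.Agent.SignalizersComponents.HallFunctor
open Cfsg.Agent.Lib.CoprimeCommutator

/-- The local-to-global property for the set of primes `π` in the group `G`. -/
def LGHyp (r : ℕ) (G : Type*) [Group G] (π : Set ℕ) : Prop :=
  ∀ (K H : Subgroup G) (a : G), Group.IsSolvable K → ¬ r ∣ Nat.card K → a ^ r = 1 →
    a ∈ normalizer (K : Set G) → H ≤ K → a ∈ normalizer (H : Set G) → K ⊓ centralizer {a} ≤ H →
    ⁅piCoreOf π H, zpowers a⁆ ≤ piCoreOf π K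

section gen

variable {G : Type*} [Group G]

theorem le_normalizer_iInf {ι : Sort*} {H : Subgroup G} (S : ι → Subgroup G)
    (h : ∀ i, H ≤ normalizer (S i : Set G)) : H ≤ normalizer ((⨅ i, S i : Subgroup G) : Set G) :=
  le_normalizer_of_conj_mem fun _ ha _ hx => by
    rw [mem_iInf] at hx ⊢
    exact fun i => conj_mem_of_le_normalizer (h i) ha (hx i)

theorem commutator_zpowers_eq_bot_iff {X : Subgroup G} {a : G} :
    ⁅X, zpowers a⁆ = ⊥ ↔ X ≤ centralizer {a} := by
  rw [commutator_eq_bot_iff_le_centralizer, centralizer_zpowers]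

theorem piCoreOf_mono_set [Finite G] {π σ : Set ℕ} (h : π ⊆ σ) (X : Subgroup G) :
    piCoreOf π X ≤ piCoreOf σ X :=
  le_piCoreOf (piCoreOf_le _ X) (le_normalizer_piCoreOf _ X)
    fun q hq hd => h (piCoreOf_isPi π X q hq hd)

theorem piCoreOf_le_centralizer [Finite G] {π σ : Set ℕ} (h : ∀ q ∈ π, q ∉ σ) (X : Subgroup G) :
    piCoreOf π X ≤ centralizer (piCoreOf σ X : Set G) :=
  le_centralizer_of_normalize ((piCoreOf_le _ X).trans (le_normalizer_piCoreOf _ X))
    ((piCoreOf_le _ X).trans (le_normalizer_piCoreOf _ X))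
    (InvariantHall.PiNum.inf_eq_bot (piCoreOf_isPi π X) (piCoreOf_isPi σ X) h)

theorem inf_piCoreOf_le [Finite G] {π : Set ℕ} {X Y : Subgroup G} (h : Y ≤ X) :
    Y ⊓ piCoreOf π X ≤ piCoreOf π Y :=
  le_piCoreOf inf_le_left (HallFunctor.le_normalizer_inf Subgroup.le_normalizer
    (h.trans (le_normalizer_piCoreOf _ X))) (isPi_mono inf_le_right (piCoreOf_isPi π X))

theorem coprime_card_of_isPGroup [Finite G] {r : ℕ} [hr : Fact r.Prime] {B K : Subgroup G}
    (hB : IsPGroup r B) (hK : ¬ r ∣ Nat.card K) : (Nat.card B).Coprime (Nat.card K) := by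
  obtain ⟨k, hk⟩ := IsPGroup.iff_card.mp hB
  rw [hk]
  exact Nat.Coprime.pow_left _ ((hr.out.coprime_iff_not_dvd).mpr hK)

end gen

section defs

variable {G : Type*} [Group G]

/-- `⋂ O_π(θ d)`, `1 ≠ d ∈ D`. -/
def phi (π : Set ℕ) (θ : G → Subgroup G) (D : Subgroup G) : Subgroup G :=
  ⨅ d : {d : G // d ∈ D ∧ d ≠ 1}, piCoreOf π (θ (d : G))

/-- The radical `W_π`: generated by the `phi π θ D`, `D` a hyperplane of `A`. -/
def rad (r : ℕ) (π : Set ℕ) (A : Subgroup G) (θ : G → Subgroup G) : Subgroup G :=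
  ⨆ D : {D : Subgroup G // D ≤ A ∧ D.relIndex A = r}, phi π θ D

/-- The join of the `O_π(θ x)`, `1 ≠ x ∈ L`. -/
def xl (π : Set ℕ) (θ : G → Subgroup G) (L : Subgroup G) : Subgroup G :=
  ⨆ x : {x : G // x ∈ L ∧ x ≠ 1}, piCoreOf π (θ (x : G))

variable {r : ℕ} {π : Set ℕ} {A : Subgroup G} {θ : G → Subgroup G}

theorem phi_le {D : Subgroup G} {d : G} (hd : d ∈ D) (hd1 : d ≠ 1) :
    phi π θ D ≤ piCoreOf π (θ d) :=
  iInf_le (fun d : {d : G // d ∈ D ∧ d ≠ 1} => piCoreOf π (θ (d : G))) ⟨d, hd, hd1⟩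

theorem phi_le_rad {D : Subgroup G} (hD : D ≤ A) (hDr : D.relIndex A = r) :
    phi π θ D ≤ rad r π A θ :=
  le_iSup (fun D : {D : Subgroup G // D ≤ A ∧ D.relIndex A = r} => phi π θ D) ⟨D, hD, hDr⟩

theorem le_xl {L : Subgroup G} {x : G} (hx : x ∈ L) (hx1 : x ≠ 1) :
    piCoreOf π (θ x) ≤ xl π θ L :=
  le_iSup (fun x : {x : G // x ∈ L ∧ x ≠ 1} => piCoreOf π (θ (x : G))) ⟨x, hx, hx1⟩

end defs

section geometry

variable {G : Type*} [Group G] [Finite G] {r : ℕ} [hr : Fact r.Prime] {A : Subgroup G}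
  {θ : G → Subgroup G}

/-- Two hyperplanes meet. -/
theorem exists_mem_inf (hcard : Nat.card A = r ^ 3) {D L : Subgroup G}
    (hDr : D.relIndex A = r) (hLr : L.relIndex A = r) :
    ∃ z, z ∈ D ∧ z ∈ L ∧ z ≠ 1 := by
  have h1 : D ⊓ L ≠ ⊥ := by
    intro hbot
    have h2 := Subgroup.relIndex_inf_le (H := D) (K := L) (L := A)
    rw [hbot, Subgroup.relIndex_bot_left, hcard, hDr, hLr] at h2
    have h3 : r * r < r ^ 3 := by
      rw [← pow_two]
      exact Nat.pow_lt_pow_right hr.out.one_lt (by norm_num)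
    omega
  obtain ⟨z, hz, hz1⟩ := (D ⊓ L).bot_or_exists_ne_one.resolve_left h1
  exact ⟨z, hz.1, hz.2, hz1⟩

theorem card_hyperplane (hcard : Nat.card A = r ^ 3) {L : Subgroup G}
    (hL : L ≤ A) (hLr : L.relIndex A = r) : Nat.card L = r ^ 2 := by
  have h1 := Subgroup.relIndex_mul_relIndex ⊥ L A bot_le hL
  rw [Subgroup.relIndex_bot_left, Subgroup.relIndex_bot_left, hLr, hcard, pow_succ] at h1
  exact Nat.eq_of_mul_eq_mul_right hr.out.pos h1

/-- Every point lies on a hyperplane. -/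
theorem exists_hyperplane (hA : Cfsg.IsElementaryAbelian r A) (hcard : Nat.card A = r ^ 3) {a : G}
    (ha : a ∈ A) (ha1 : a ≠ 1) : ∃ L : Subgroup G, L ≤ A ∧ L.relIndex A = r ∧ a ∈ L := by
  have hord : orderOf (⟨a, ha⟩ : A) = r :=
    orderOf_eq_prime (Subtype.ext (hA.2 a ha)) (fun h => ha1 (congrArg Subtype.val h))
  have hz : Nat.card (zpowers (⟨a, ha⟩ : A)) = r ^ 1 := by rw [Nat.card_zpowers, hord, pow_one]
  obtain ⟨K, hK, hzK⟩ := Sylow.exists_subgroup_card_pow_prime_le (p := r) (m := 2) (n := 1)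
    (by rw [hcard]; exact pow_dvd_pow r (by norm_num)) (zpowers (⟨a, ha⟩ : A)) hz (by norm_num)
  refine ⟨K.map A.subtype, map_subtype_le _, ?_, ⟨⟨a, ha⟩, hzK (mem_zpowers _), rfl⟩⟩
  have h1 := Subgroup.relIndex_mul_relIndex ⊥ (K.map A.subtype) A bot_le (map_subtype_le _)
  rw [Subgroup.relIndex_bot_left, Subgroup.relIndex_bot_left, hcard,
    Subgroup.card_map_of_injective A.subtype_injective, hK, pow_succ r 2] at h1
  exact Nat.eq_of_mul_eq_mul_left (pow_pos hr.out.pos 2) h1

theorem eq_of_lt_of_le {B X : Subgroup G} (hBr : B.relIndex A = r) (hBX : B < X)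
    (hXA : X ≤ A) : X = A := by
  have h1 := Subgroup.relIndex_mul_relIndex B X A hBX.le hXA
  rw [hBr] at h1
  have h2 : B.relIndex X ∣ r := by rw [← h1]; exact dvd_mul_right _ _
  rcases (Nat.dvd_prime hr.out).mp h2 with h3 | h3
  · exact absurd (Subgroup.relIndex_eq_one.mp h3) (not_le_of_gt hBX)
  · rw [h3] at h1
    have h4 : X.relIndex A = 1 := Nat.eq_of_mul_eq_mul_left hr.out.pos (by rw [h1, mul_one])
    exact le_antisymm hXA (Subgroup.relIndex_eq_one.mp h4)

/-- `θ a` is generated by the `θ(L)`, `L` a hyperplane through `a`. -/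
theorem theta_le_of_forall_hyperplane (hA : Cfsg.IsElementaryAbelian r A)
    (hcard : Nat.card A = r ^ 3) (hθ : Cfsg.IsSolvableSignalizerFunctor r A θ) {a : G}
    (ha : a ∈ A) (ha1 : a ≠ 1) {N : Subgroup G}
    (h : ∀ L ≤ A, L.relIndex A = r → a ∈ L → Cfsg.signalizerInf L θ ≤ N) : θ a ≤ N := by
  have hA1 : A ≠ ⊥ := by
    rintro rfl
    exact ha1 (Subgroup.mem_bot.mp ha)
  refine (theta_le_iSup_hyperplane hA hA1 hθ ha ha1).trans (iSup_le fun B => ?_)
  by_cases haB : a ∈ B.1
  · exact (theta_inf_centralizer_le_signalizerInf hθ B.2.1 ha ha1).trans (h B.1 B.2.1 B.2.2 haB)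
  · obtain ⟨L, hLA, hLr, haL⟩ := exists_hyperplane hA hcard ha ha1
    have h1 : B.1 ⊔ zpowers a = A := by
      refine eq_of_lt_of_le B.2.2 (lt_of_le_of_ne le_sup_left fun heq => haB ?_)
        (sup_le B.2.1 (by rwa [zpowers_le]))
      rw [heq]
      exact mem_sup_right (mem_zpowers a)
    refine le_trans ?_ (h L hLA hLr haL)
    intro x hx
    have hxA : x ∈ centralizer (A : Set G) := by
      rw [← h1, ← Subgroup.zpowers_le, Subgroup.le_centralizer_iff]
      refine sup_le ?_ ?_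
      · rw [Subgroup.le_centralizer_iff, zpowers_le]; exact hx.2
      · rw [Subgroup.le_centralizer_iff, zpowers_le, centralizer_zpowers]
        exact hθ.1.1 a ha ha1 hx.1
    have h2 := theta_inf_centralizer_le_signalizerInf hθ le_rfl ha ha1 (⟨hx.1, hxA⟩ : x ∈ θ a ⊓ _)
    have h3 : Cfsg.signalizerInf A θ ≤ Cfsg.signalizerInf L θ :=
      le_iInf fun z => signalizerInf_le (hLA z.2.1) z.2.2
    exact h3 h2

/-- In a hyperplane two independent points are good, or two independent points are bad. -/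
theorem exists_pair (hcard : Nat.card A = r ^ 3) (hA : Cfsg.IsElementaryAbelian r A)
    {L : Subgroup G} (hLA : L ≤ A) (hLr : L.relIndex A = r) (P : G → Prop) :
    (∃ c c', c ∈ L ∧ c' ∈ L ∧ c ≠ 1 ∧ c' ≠ 1 ∧ L ≤ zpowers c ⊔ zpowers c' ∧ P c ∧ P c') ∨
    (∃ c c', c ∈ L ∧ c' ∈ L ∧ c ≠ 1 ∧ c' ≠ 1 ∧ L ≤ zpowers c ⊔ zpowers c' ∧ ¬ P c ∧ ¬ P c') := by
  have hLcard := card_hyperplane hcard hLA hLr
  have hL1 : L ≠ ⊥ := by
    rintro rfl
    rw [Subgroup.card_bot] at hLcard
    exact absurd hLcard.symm (Nat.one_lt_pow two_ne_zero hr.out.one_lt).ne'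
  obtain ⟨x, hx, hx1⟩ := L.bot_or_exists_ne_one.resolve_left hL1
  have hordx : Nat.card (zpowers x) = r := by
    rw [Nat.card_zpowers]
    exact orderOf_eq_prime (hA.2 x (hLA hx)) hx1
  have hxL : zpowers x ≤ L := by rwa [zpowers_le]
  have hlt : zpowers x < L := by
    refine lt_of_le_of_ne hxL fun heq => ?_
    rw [heq, hLcard] at hordx
    have := Nat.pow_lt_pow_right hr.out.one_lt (show 1 < 2 by norm_num)
    rw [pow_one] at this
    omega
  obtain ⟨y, hy, hyx⟩ := SetLike.exists_of_lt hlt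
  -- any `c`, `c'` with `x, y ∈ ⟨c, c'⟩` generate
  have hgen : L ≤ zpowers x ⊔ zpowers y := by
    have h1 : (zpowers x).relIndex L = r := by
      have h2 := Subgroup.relIndex_mul_relIndex ⊥ (zpowers x) L bot_le hxL
      rw [Subgroup.relIndex_bot_left, Subgroup.relIndex_bot_left, hordx, hLcard, pow_two] at h2
      exact Nat.eq_of_mul_eq_mul_left hr.out.pos h2
    refine (eq_of_lt_of_le (A := L) h1 (lt_of_le_of_ne le_sup_left fun heq => hyx ?_)
      (sup_le hxL (by rwa [zpowers_le]))).ge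
    rw [heq]
    exact mem_sup_right (mem_zpowers y)
  have hy1 : y ≠ 1 := by
    rintro rfl
    exact hyx (one_mem _)
  have hxy1 : x * y ≠ 1 := by
    intro h
    apply hyx
    rw [← inv_eq_of_mul_eq_one_right h]
    exact inv_mem (mem_zpowers x)
  have hxyL : x * y ∈ L := mul_mem hx hy
  have hgen2 : L ≤ zpowers x ⊔ zpowers (x * y) := by
    refine hgen.trans (sup_le le_sup_left ?_)
    rw [zpowers_le]
    have h1 : x⁻¹ * (x * y) ∈ zpowers x ⊔ zpowers (x * y) :=
      mul_mem (mem_sup_left (inv_mem (mem_zpowers x))) (mem_sup_right (mem_zpowers _))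
    rwa [inv_mul_cancel_left] at h1
  have hgen3 : L ≤ zpowers y ⊔ zpowers (x * y) := by
    refine hgen.trans (sup_le ?_ le_sup_left)
    rw [zpowers_le]
    have h1 : (x * y) * y⁻¹ ∈ zpowers y ⊔ zpowers (x * y) :=
      mul_mem (mem_sup_right (mem_zpowers _)) (mem_sup_left (inv_mem (mem_zpowers y)))
    rwa [mul_inv_cancel_right] at h1
  by_cases h1 : P x <;> by_cases h2 : P y <;> by_cases h3 : P (x * y)
  · exact Or.inl ⟨x, y, hx, hy, hx1, hy1, hgen, h1, h2⟩
  · exact Or.inl ⟨x, y, hx, hy, hx1, hy1, hgen, h1, h2⟩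
  · exact Or.inl ⟨x, x * y, hx, hxyL, hx1, hxy1, hgen2, h1, h3⟩
  · exact Or.inr ⟨y, x * y, hy, hxyL, hy1, hxy1, hgen3, h2, h3⟩
  · exact Or.inl ⟨y, x * y, hy, hxyL, hy1, hxy1, hgen3, h2, h3⟩
  · exact Or.inr ⟨x, x * y, hx, hxyL, hx1, hxy1, hgen2, h1, h3⟩
  · exact Or.inr ⟨x, y, hx, hy, hx1, hy1, hgen, h1, h2⟩
  · exact Or.inr ⟨x, y, hx, hy, hx1, hy1, hgen, h1, h2⟩

end geometry

section radical

variable {G : Type*} [Group G] [Finite G] {r : ℕ} [hr : Fact r.Prime] {A : Subgroup G}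
  {θ : G → Subgroup G} {π : Set ℕ}

/-- The set `π` misses a prime of the functor. -/
def Proper (π : Set ℕ) (A : Subgroup G) (θ : G → Subgroup G) : Prop :=
  ∃ a ∈ A, a ≠ 1 ∧ ¬ PiNum π (θ a)

theorem le_normalizer_piCoreOf_theta (hθ : Cfsg.IsSolvableSignalizerFunctor r A θ) {a : G}
    (ha : a ∈ A) (ha1 : a ≠ 1) : A ≤ normalizer (piCoreOf π (θ a) : Set G) :=
  (theta_le_normalizer hθ ha ha1).trans (normalizer_le_normalizer_piCoreOf _ _)

theorem le_normalizer_phi (hθ : Cfsg.IsSolvableSignalizerFunctor r A θ) {D : Subgroup G}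
    (hD : D ≤ A) : A ≤ normalizer (phi π θ D : Set G) :=
  le_normalizer_iInf _ fun d => le_normalizer_piCoreOf_theta hθ (hD d.2.1) d.2.2

theorem signalizerInf_le_normalizer_phi (D : Subgroup G) :
    Cfsg.signalizerInf D θ ≤ normalizer (phi π θ D : Set G) :=
  le_normalizer_iInf _ fun d => (signalizerInf_le d.2.1 d.2.2).trans (le_normalizer_piCoreOf _ _)

theorem le_normalizer_rad (hθ : Cfsg.IsSolvableSignalizerFunctor r A θ) :
    A ≤ normalizer (rad r π A θ : Set G) :=
  iSup_le_normalizer _ fun D => le_normalizer_phi hθ D.2.1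

theorem signalizerInf_mono {D L : Subgroup G} (h : D ≤ L) :
    Cfsg.signalizerInf L θ ≤ Cfsg.signalizerInf D θ :=
  le_iInf fun z => signalizerInf_le (h z.2.1) z.2.2

theorem signalizerInf_le_normalizer_rad :
    Cfsg.signalizerInf A θ ≤ normalizer (rad r π A θ : Set G) :=
  iSup_le_normalizer _ fun D => (signalizerInf_mono D.2.1).trans (signalizerInf_le_normalizer_phi _)

theorem rad_le_xl (hcard : Nat.card A = r ^ 3) {L : Subgroup G} (hL : L ≤ A)
    (hLr : L.relIndex A = r) : rad r π A θ ≤ xl π θ L := by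
  refine iSup_le fun D => ?_
  obtain ⟨z, hzL, hzD, hz1⟩ := exists_mem_inf hcard hLr D.2.2
  exact (phi_le hzD hz1).trans (le_xl hzL hz1)

theorem piCoreOf_theta_le_piClosure (hθ : Cfsg.IsSolvableSignalizerFunctor r A θ) {x : G}
    (hx : x ∈ A) (hx1 : x ≠ 1) : piCoreOf π (θ x) ≤ piClosure π A θ :=
  (le_piRad (piCoreOf_le π (θ x)) (le_normalizer_piCoreOf_theta hθ hx hx1)
    ((signalizerInf_le hx hx1).trans (le_normalizer_piCoreOf π _)) (piCoreOf_isPi π (θ x))).trans
    (hallFunctor_le_piClosure π hx hx1)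

theorem xl_le_piClosure (hθ : Cfsg.IsSolvableSignalizerFunctor r A θ) {L : Subgroup G}
    (hL : L ≤ A) : xl π θ L ≤ piClosure π A θ :=
  iSup_le fun x => piCoreOf_theta_le_piClosure hθ (hL x.2.1) x.2.2

theorem xl_le_normalizer (L : Subgroup G) : Cfsg.signalizerInf L θ ≤ normalizer (xl π θ L : Set G) :=
  iSup_le_normalizer _ fun x => (signalizerInf_le x.2.1 x.2.2).trans (le_normalizer_piCoreOf π _)

variable (h : MinCounter r A θ)
include h

theorem piNum_piClosure (hπ : Proper π A θ) : PiNum π (piClosure π A θ) :=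
  piClosure_piNum h.elem (MinCounter.pow_two_le h) h.func (HallFunctor.MinCounter.hall_complete h hπ)

theorem rad_le_piClosure : rad r π A θ ≤ piClosure π A θ := by
  refine iSup_le fun D => ?_
  have hD1 : D.1 ≠ ⊥ := by
    intro hbot
    have h1 := card_hyperplane h.card D.2.1 D.2.2
    rw [hbot, Subgroup.card_bot] at h1
    exact absurd h1.symm (Nat.one_lt_pow two_ne_zero hr.out.one_lt).ne'
  obtain ⟨d, hd, hd1⟩ := D.1.bot_or_exists_ne_one.resolve_left hD1
  exact (phi_le hd hd1).trans (piCoreOf_theta_le_piClosure h.func (D.2.1 hd) hd1)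

theorem rad_mem (hπ : Proper π A θ) : rad r π A θ ∈ Cfsg.signalizerFamily r A θ :=
  mem_of_le (piClosure_mem h.elem h.func (HallFunctor.MinCounter.hall_complete h hπ))
    (rad_le_piClosure h) (le_normalizer_rad h.func)

theorem rad_piNum (hπ : Proper π A θ) : PiNum π (rad r π A θ) :=
  (piNum_piClosure h hπ).mono (rad_le_piClosure h)

/-- (1): a subgroup of `W_π ∩ K` lies in `O_π(K)`, for every member `K`. -/
theorem le_piCoreOf_of_le_rad (hπ : Proper π A θ) {K X : Subgroup G}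
    (hK : K ∈ Cfsg.signalizerFamily r A θ) (hXK : X ≤ K) (hX : X ≤ rad r π A θ) :
    X ≤ piCoreOf π K := by
  have hXπ : PiNum π X := (rad_piNum h hπ).mono hX
  refine LocalGlobal.le_piCoreOf_of_forall hXK fun q hq hqπ hqK => ?_
  have : Fact q.Prime := ⟨hq⟩
  have h1 := Cfsg.Agent.S1288.result r A K h.elem (MinCounter.pow_two_le h) hK.2.1 hK.1
    (le_normalizer_of_mem hK) q hqK X hXK (fun hd => hqπ (hXπ q hq hd)) (by
    intro B hBA hBr hd
    have hle : ⁅X, K ⊓ centralizer (B : Set G)⁆ ≤ xl π θ B := by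
      refine (commutator_mono (hX.trans (rad_le_xl h.card hBA hBr)) (?_ :
        K ⊓ centralizer (B : Set G) ≤ Cfsg.signalizerInf B θ)).trans
        (commutator_le_left (xl_le_normalizer B))
      refine le_iInf fun z => ?_
      refine le_trans (inf_le_inf_left _ (centralizer_le ?_)) (hK.2.2.2 z.1 (hBA z.2.1) z.2.2)
      rintro _ rfl
      exact z.2.1
    exact hqπ (piNum_piClosure h hπ q hq (hd.trans (card_dvd_of_le (hle.trans
      (xl_le_piClosure h.func hBA))))))
  refine h1.trans ?_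
  refine le_piCoreOf (map_subtype_le _) le_normalizer_Opp ?_
  intro s hs hd
  show s ≠ q
  rintro rfl
  have h2 : (Nat.card ↥(Opp s K)).Coprime s := coprime_Opp
  exact hs.one_lt.ne' (Nat.dvd_one.mp (h2 ▸ Nat.dvd_gcd hd dvd_rfl))

/-- `C_{W_π}(D) = phi D`, one inclusion. -/
theorem rad_inf_centralizer_le (hπ : Proper π A θ) {D : Subgroup G} (hD : D ≤ A) :
    rad r π A θ ⊓ centralizer (D : Set G) ≤ phi π θ D := by
  refine le_iInf fun d => ?_
  have h1 : rad r π A θ ⊓ centralizer (D : Set G) ≤ θ d.1 := by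
    refine le_trans (inf_le_inf_left _ (centralizer_le ?_))
      ((rad_mem h hπ).2.2.2 d.1 (hD d.2.1) d.2.2)
    rintro _ rfl
    exact d.2.1
  exact le_piCoreOf_of_le_rad h hπ (SignalizerMax.theta_mem_family h.func (hD d.2.1) d.2.2) h1
    inf_le_left

/-- `θ(D)` normalises `C_{W_π}(D)`. -/
theorem signalizerInf_le_normalizer_rad_inf (hπ : Proper π A θ) {D : Subgroup G} (hD : D ≤ A)
    (hDr : D.relIndex A = r) :
    Cfsg.signalizerInf D θ ≤ normalizer ((rad r π A θ ⊓ centralizer (D : Set G) : Subgroup G) : Set G) := by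
  have h1 : rad r π A θ ⊓ centralizer (D : Set G) = phi π θ D := by
    refine le_antisymm (rad_inf_centralizer_le h hπ hD) (le_inf (phi_le_rad hD hDr) ?_)
    intro x hx
    rw [mem_centralizer_iff]
    intro d hd
    by_cases hd1 : d = 1
    · rw [hd1]; simp
    · exact mem_centralizer_singleton.mp (h.func.1.1 d (hD hd) hd1 (piCoreOf_le _ _ (phi_le hd hd1 hx)))
  rw [h1]
  exact signalizerInf_le_normalizer_phi D

/-- Radicals for disjoint sets of primes commute. -/
theorem rad_le_centralizer {σ : Set ℕ} (hdisj : ∀ q ∈ π, q ∉ σ) :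
    rad r π A θ ≤ centralizer (rad r σ A θ : Set G) := by
  refine iSup_le fun D => ?_
  rw [Subgroup.le_centralizer_iff]
  refine iSup_le fun D' => ?_
  rw [Subgroup.le_centralizer_iff]
  obtain ⟨z, hz, hz', hz1⟩ := exists_mem_inf h.card D.2.2 D'.2.2
  exact ((phi_le hz hz1).trans (piCoreOf_le_centralizer hdisj _)).trans
    (centralizer_le (phi_le hz' hz1))

/-- (2): `[O_π(K), a] ≤ W_π` for every member `K ≥ θ a`. -/
theorem commutator_piCoreOf_le_rad (hLG : LGHyp r G π) {K : Subgroup G}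
    (hK : K ∈ Cfsg.signalizerFamily r A θ) {a : G} (ha : a ∈ A) (ha1 : a ≠ 1) (haK : θ a ≤ K) :
    ⁅piCoreOf π K, zpowers a⁆ ≤ rad r π A θ := by
  have hA := h.elem
  have hcomm := comm_of_isElementaryAbelian hA
  have hAK := le_normalizer_of_mem hK
  have hPm : piCoreOf π K ∈ Cfsg.signalizerFamily r A θ :=
    mem_of_le hK (piCoreOf_le _ _) (hAK.trans (normalizer_le_normalizer_piCoreOf _ _))
  have haA : zpowers a ≤ A := by rwa [zpowers_le]
  refine (commutator_le_iSup_hyperplane hA (MinCounter.ne_bot h) haA hPm.1 hPm.2.1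
    (le_normalizer_of_mem hPm)).trans (iSup_le fun B => ?_)
  refine le_trans (le_iInf fun d => ?_) (phi_le_rad B.2.1 B.2.2)
  have hdA := B.2.1 d.2.1
  set H : Subgroup G := K ⊓ centralizer {d.1} with hH
  have hHθ : H ≤ θ d.1 := hK.2.2.2 d.1 hdA d.2.2
  have hP : piCoreOf π K ⊓ centralizer ((B.1 : Subgroup G) : Set G) ≤ piCoreOf π H := by
    refine le_trans ?_ (inf_piCoreOf_le (π := π) (X := K) (inf_le_left : H ≤ K))
    refine le_inf (le_inf (inf_le_left.trans (piCoreOf_le _ _)) (inf_le_right.trans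
      (centralizer_le ?_))) inf_le_left
    rintro _ rfl
    exact d.2.1
  refine (commutator_mono hP le_rfl).trans ?_
  have hAH : A ≤ normalizer (H : Set G) :=
    le_normalizer_inf_centralizer_singleton hA hAK hdA
  refine hLG (θ d.1) H a (h.func.2 d.1 hdA d.2.2) (h.func.1.2.1 d.1 hdA d.2.2) (hA.2 a ha)
    (theta_le_normalizer h.func hdA d.2.2 ha) hHθ (hAH ha) ?_
  intro x hx
  refine ⟨haK (h.func.1.2.2.2 d.1 hdA d.2.2 a ha ha1 hx), h.func.1.1 d.1 hdA d.2.2 hx.1⟩

omit h in
/-- `a` is `π`-good. -/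
def Good (r : ℕ) (π : Set ℕ) (A : Subgroup G) (θ : G → Subgroup G) (a : G) : Prop :=
  ∃ K ∈ Cfsg.signalizerFamily r A θ, θ a ≤ K ∧ rad r π A θ ≤ K

/-- (3): if `a` is good then `θ a` normalises `[W_π, a]`. -/
theorem Good.le_normalizer (hLG : LGHyp r G π) (hπ : Proper π A θ) {a : G} (ha : a ∈ A)
    (ha1 : a ≠ 1) (hg : Good r π A θ a) :
    θ a ≤ normalizer ((⁅rad r π A θ, zpowers a⁆ : Subgroup G) : Set G) := by
  obtain ⟨K, hK, haK, hWK⟩ := hg
  have hA := h.elem
  have haA : zpowers a ≤ A := by rwa [zpowers_le]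
  have h1 : rad r π A θ ≤ piCoreOf π K := le_piCoreOf_of_le_rad h hπ hK hWK le_rfl
  have hP : A ≤ normalizer (piCoreOf π K : Set G) :=
    (le_normalizer_of_mem hK).trans (normalizer_le_normalizer_piCoreOf _ _)
  have hcop : (Nat.card (zpowers a)).Coprime (Nat.card ↥(piCoreOf π K)) :=
    coprime_card_of_isPGroup ((isPGroup_of_isElementaryAbelian hA).to_le haA)
      (fun hd => hK.2.1 (hd.trans (card_dvd_of_le (piCoreOf_le _ _))))
  have h2 : ⁅rad r π A θ, zpowers a⁆ = ⁅piCoreOf π K, zpowers a⁆ := by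
    apply le_antisymm (commutator_mono h1 le_rfl)
    rw [← commutator_commutator_eq (zpowers a) (piCoreOf π K) (haA.trans hP) hcop]
    exact commutator_mono (commutator_piCoreOf_le_rad h hLG hK ha ha1 haK) le_rfl
  rw [h2]
  refine le_normalizer_commutator (haK.trans (le_normalizer_piCoreOf _ _)) ?_
  intro x hx b hb
  have h3 : x ∈ centralizer ((zpowers a : Subgroup G) : Set G) := by
    rw [centralizer_zpowers]
    exact h.func.1.1 a ha ha1 hx
  exact (mem_centralizer_iff.mp h3 b hb).symm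

/-- A hyperplane generated by two good points: `θ(L)` normalises `W_π`. -/
theorem signalizerInf_le_normalizer_of_good (hLG : LGHyp r G π) (hπ : Proper π A θ)
    {L : Subgroup G} (hLA : L ≤ A) (hLr : L.relIndex A = r) {c c' : G} (hc : c ∈ L) (hc' : c' ∈ L)
    (hc1 : c ≠ 1) (hc1' : c' ≠ 1) (hgen : L ≤ zpowers c ⊔ zpowers c')
    (hg : Good r π A θ c) (hg' : Good r π A θ c') :
    Cfsg.signalizerInf L θ ≤ normalizer (rad r π A θ : Set G) := by
  set W : Subgroup G := rad r π A θ with hW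
  have hA := h.elem
  have hcomm := comm_of_isElementaryAbelian hA
  have hWm : W ∈ Cfsg.signalizerFamily r A θ := rad_mem h hπ
  have hAW := le_normalizer_of_mem hWm
  have hcA : zpowers c ≤ A := by rw [zpowers_le]; exact hLA hc
  have hcA' : zpowers c' ≤ A := by rw [zpowers_le]; exact hLA hc'
  have hAp := isPGroup_of_isElementaryAbelian hA
  have h1 : ⁅W, zpowers c⁆ ⊔ ⁅W, zpowers c'⁆ ⊔ (W ⊓ centralizer (L : Set G)) = W := by
    apply le_antisymm
    · refine sup_le (sup_le (commutator_le_left (hcA.trans hAW)) (commutator_le_left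
        (hcA'.trans hAW))) inf_le_left
    · intro x hx
      obtain ⟨m, hm, y, hy, rfl⟩ := exists_commutator_mul_fixed_of_isPGroup r (zpowers c) W
        (hAp.to_le hcA) (hcA.trans hAW) hWm.2.1 x hx
      have hAR : A ≤ normalizer ((W ⊓ centralizer ((zpowers c : Subgroup G) : Set G) : Subgroup G) : Set G) :=
        GoldschmidtGen.le_normalizer_inf_centralizer hAW fun a ha b hb => hcomm a ha b (hcA hb)
      obtain ⟨m', hm', z, hz, rfl⟩ := exists_commutator_mul_fixed_of_isPGroup r (zpowers c')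
        (W ⊓ centralizer ((zpowers c : Subgroup G) : Set G)) (hAp.to_le hcA') (hcA'.trans hAR)
        (fun hd => hWm.2.1 (hd.trans (card_dvd_of_le inf_le_left))) y hy
      refine mul_mem (mem_sup_left (mem_sup_left hm)) (mul_mem (mem_sup_left (mem_sup_right
        (commutator_mono inf_le_left le_rfl hm'))) (mem_sup_right ⟨hz.1.1, ?_⟩))
      have h2 : z ∈ centralizer ((zpowers c ⊔ zpowers c' : Subgroup G) : Set G) := by
        rw [← Subgroup.zpowers_le, Subgroup.le_centralizer_iff]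
        refine sup_le ?_ ?_
        · rw [Subgroup.le_centralizer_iff, zpowers_le]; exact hz.1.2
        · rw [Subgroup.le_centralizer_iff, zpowers_le]; exact hz.2
      exact centralizer_le hgen h2
  rw [← h1]
  refine le_normalizer_sup (le_normalizer_sup ?_ ?_) ?_
  · exact (signalizerInf_le hc hc1).trans (Good.le_normalizer h hLG hπ (hLA hc) hc1 hg)
  · exact (signalizerInf_le hc' hc1').trans (Good.le_normalizer h hLG hπ (hLA hc') hc1' hg')
  · exact signalizerInf_le_normalizer_rad_inf h hπ hLA hLr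

/-- If all `θ(L)` normalise the member `W` then `W = 1`. -/
theorem eq_bot_of_forall_hyperplane {W : Subgroup G} (hW : W ∈ Cfsg.signalizerFamily r A θ)
    (hn : ∀ L ≤ A, L.relIndex A = r → Cfsg.signalizerInf L θ ≤ normalizer (W : Set G)) : W = ⊥ := by
  by_contra hne
  apply h.notComplete
  refine ⟨loc A θ W, MinCounter.loc_mem h hW hne, fun a ha ha1 => ?_⟩
  refine MinCounter.le_loc h (SignalizerMax.theta_mem_family h.func ha ha1) ?_
  exact theta_le_of_forall_hyperplane h.elem h.card h.func ha ha1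
    fun L hLA hLr _ => hn L hLA hLr

/-- If `W_π ≠ 1` there is a bad point. -/
theorem exists_bad (hLG : LGHyp r G π) (hπ : Proper π A θ) (hW : rad r π A θ ≠ ⊥) :
    ∃ a ∈ A, a ≠ 1 ∧ ¬ Good r π A θ a := by
  by_contra hcon
  apply hW
  refine eq_bot_of_forall_hyperplane h (rad_mem h hπ) fun L hLA hLr => ?_
  rcases exists_pair h.card h.elem hLA hLr (Good r π A θ) with
    ⟨c, c', hc, hc', hc1, hc1', hgen, hg, hg'⟩ | ⟨c, c', hc, hc', hc1, hc1', hgen, hg, hg'⟩
  · exact signalizerInf_le_normalizer_of_good h hLG hπ hLA hLr hc hc' hc1 hc1' hgen hg hg'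
  · exact absurd ⟨c, hLA hc, hc1, hg⟩ hcon

/-- The output of step (4). -/
def Step4 (r : ℕ) (A : Subgroup G) (θ : G → Subgroup G) : Prop :=
  ∀ a ∈ A, a ≠ 1 → ∃ q, q.Prime ∧ ∃ M ∈ Cfsg.signalizerFamily r A θ, θ a ≤ M ∧
    ¬ piCoreOf {q} M ≤ centralizer {a}

/-- (5a) If `a` is `π`-bad then `a` centralises `O_{π'}(K)` for all members `K ≥ θ a`. -/
theorem piCoreOf_compl_le_centralizer (hLG : LGHyp r G πᶜ) (hπ : Proper π A θ)
    {a : G} (ha : a ∈ A) (ha1 : a ≠ 1) (hbad : ¬ Good r π A θ a) {K : Subgroup G}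
    (hK : K ∈ Cfsg.signalizerFamily r A θ) (haK : θ a ≤ K) :
    piCoreOf πᶜ K ≤ centralizer {a} := by
  rw [← commutator_zpowers_eq_bot_iff]
  by_contra hne
  have hA := h.elem
  have hcomm := comm_of_isElementaryAbelian hA
  have haA : zpowers a ≤ A := by rwa [zpowers_le]
  set E : Subgroup G := ⁅piCoreOf πᶜ K, zpowers a⁆ with hE
  have hP : A ≤ normalizer (piCoreOf πᶜ K : Set G) :=
    (le_normalizer_of_mem hK).trans (normalizer_le_normalizer_piCoreOf _ _)
  have hAE : A ≤ normalizer (E : Set G) :=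
    le_normalizer_commutator hP fun x hx b hb => hcomm x hx b (haA hb)
  have hEm : E ∈ Cfsg.signalizerFamily r A θ :=
    mem_of_le hK ((commutator_le_left (haA.trans hP)).trans (piCoreOf_le _ _)) hAE
  have hθE : θ a ≤ normalizer (E : Set G) := by
    refine le_normalizer_commutator (haK.trans (le_normalizer_piCoreOf _ _)) ?_
    intro x hx b hb
    have h3 : x ∈ centralizer ((zpowers a : Subgroup G) : Set G) := by
      rw [centralizer_zpowers]
      exact h.func.1.1 a ha ha1 hx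
    exact (mem_centralizer_iff.mp h3 b hb).symm
  apply hbad
  refine ⟨loc A θ E, MinCounter.loc_mem h hEm hne,
    MinCounter.le_loc h (SignalizerMax.theta_mem_family h.func ha ha1) hθE,
    MinCounter.le_loc h (rad_mem h hπ) ?_⟩
  refine le_trans ?_ (centralizer_le_normalizer' E)
  exact (rad_le_centralizer h (σ := πᶜ) fun q hq => not_not.mpr hq).trans
    (centralizer_le (commutator_piCoreOf_le_rad h hLG hK ha ha1 haK))

/-- (5b) If `a` is `π`-bad, some member `M ≥ θ a` has `[O_π(M), a] ≠ 1`. -/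
theorem exists_commutator_ne_bot (hLG : LGHyp r G πᶜ) (hπ : Proper π A θ)
    (h4 : Step4 r A θ) {a : G} (ha : a ∈ A) (ha1 : a ≠ 1) (hbad : ¬ Good r π A θ a) :
    ∃ M ∈ Cfsg.signalizerFamily r A θ, θ a ≤ M ∧ ⁅piCoreOf π M, zpowers a⁆ ≠ ⊥ := by
  obtain ⟨q, hq, M, hM, haM, hne⟩ := h4 a ha ha1
  refine ⟨M, hM, haM, fun hbot => hne ?_⟩
  rw [commutator_zpowers_eq_bot_iff] at hbot
  by_cases hqπ : q ∈ π
  · exact (piCoreOf_mono_set (by rintro s rfl; exact hqπ) M).trans hbot
  · exact (piCoreOf_mono_set (by rintro s rfl; exact hqπ) M).trans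
      (piCoreOf_compl_le_centralizer h hLG hπ ha ha1 hbad hM haM)

/-- (5c) If `a` is `π`-bad then `a` centralises `W_{π'}`. -/
theorem rad_compl_le_centralizer (hLG : LGHyp r G π) (hLG' : LGHyp r G πᶜ) (hπ : Proper π A θ)
    (hπ' : Proper πᶜ A θ) (h4 : Step4 r A θ) {a : G} (ha : a ∈ A) (ha1 : a ≠ 1)
    (hbad : ¬ Good r π A θ a) : rad r πᶜ A θ ≤ centralizer {a} := by
  obtain ⟨M, hM, haM, hne⟩ := exists_commutator_ne_bot h hLG' hπ h4 ha ha1 hbad
  have hA := h.elem
  have hcomm := comm_of_isElementaryAbelian hA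
  have haA : zpowers a ≤ A := by rwa [zpowers_le]
  set E : Subgroup G := ⁅piCoreOf π M, zpowers a⁆ with hE
  have hP : A ≤ normalizer (piCoreOf π M : Set G) :=
    (le_normalizer_of_mem hM).trans (normalizer_le_normalizer_piCoreOf _ _)
  have hAE : A ≤ normalizer (E : Set G) :=
    le_normalizer_commutator hP fun x hx b hb => hcomm x hx b (haA hb)
  have hEm : E ∈ Cfsg.signalizerFamily r A θ :=
    mem_of_le hM ((commutator_le_left (haA.trans hP)).trans (piCoreOf_le _ _)) hAE
  have hθE : θ a ≤ normalizer (E : Set G) := by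
    refine le_normalizer_commutator (haM.trans (le_normalizer_piCoreOf _ _)) ?_
    intro x hx b hb
    have h3 : x ∈ centralizer ((zpowers a : Subgroup G) : Set G) := by
      rw [centralizer_zpowers]
      exact h.func.1.1 a ha ha1 hx
    exact (mem_centralizer_iff.mp h3 b hb).symm
  have hKm := MinCounter.loc_mem h hEm hne
  have haK : θ a ≤ loc A θ E :=
    MinCounter.le_loc h (SignalizerMax.theta_mem_family h.func ha ha1) hθE
  have hWK : rad r πᶜ A θ ≤ loc A θ E := by
    refine MinCounter.le_loc h (rad_mem h hπ') (le_trans ?_ (centralizer_le_normalizer' E))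
    exact (rad_le_centralizer h (σ := π) fun q hq => hq).trans
      (centralizer_le (commutator_piCoreOf_le_rad h hLG hM ha ha1 haM))
  exact (le_piCoreOf_of_le_rad h hπ' hKm hWK le_rfl).trans
    (piCoreOf_compl_le_centralizer h hLG' hπ ha ha1 hbad hKm haK)

/-- (5d) If `a` is `π`-bad then `a` does not centralise `W_π`. -/
theorem not_rad_le_centralizer (hLG : LGHyp r G π) (hLG' : LGHyp r G πᶜ) (hπ : Proper π A θ)
    (h4 : Step4 r A θ) {a : G} (ha : a ∈ A) (ha1 : a ≠ 1) (hbad : ¬ Good r π A θ a) :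
    ¬ rad r π A θ ≤ centralizer {a} := by
  obtain ⟨M, hM, haM, hne⟩ := exists_commutator_ne_bot h hLG' hπ h4 ha ha1 hbad
  intro hcen
  have hA := h.elem
  have haA : zpowers a ≤ A := by rwa [zpowers_le]
  have hP : A ≤ normalizer (piCoreOf π M : Set G) :=
    (le_normalizer_of_mem hM).trans (normalizer_le_normalizer_piCoreOf _ _)
  have hcop : (Nat.card (zpowers a)).Coprime (Nat.card ↥(piCoreOf π M)) :=
    coprime_card_of_isPGroup ((isPGroup_of_isElementaryAbelian hA).to_le haA)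
      (fun hd => hM.2.1 (hd.trans (card_dvd_of_le (piCoreOf_le _ _))))
  apply hne
  rw [← commutator_commutator_eq (zpowers a) (piCoreOf π M) (haA.trans hP) hcop, eq_bot_iff]
  refine (commutator_mono (commutator_piCoreOf_le_rad h hLG hM ha ha1 haM) le_rfl).trans ?_
  rw [commutator_zpowers_eq_bot_iff.mpr hcen]

/-- (6): `W_π = 1` or `W_{π'} = 1`. -/
theorem rad_eq_bot_or (hLG : LGHyp r G π) (hLG' : LGHyp r G πᶜ) (hπ : Proper π A θ)
    (hπ' : Proper πᶜ A θ) (h4 : Step4 r A θ) : rad r π A θ = ⊥ ∨ rad r πᶜ A θ = ⊥ := by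
  by_contra hcon
  rw [not_or] at hcon
  obtain ⟨hW, hW'⟩ := hcon
  obtain ⟨a, ha, ha1, hbad⟩ := exists_bad h hLG hπ hW
  have hnot := not_rad_le_centralizer h hLG hLG' hπ h4 ha ha1 hbad
  have hθW : θ a ≤ normalizer (rad r πᶜ A θ : Set G) := by
    refine theta_le_of_forall_hyperplane h.elem h.card h.func ha ha1 fun L hLA hLr haL => ?_
    rcases exists_pair h.card h.elem hLA hLr (Good r πᶜ A θ) with
      ⟨c, c', hc, hc', hc1, hc1', hgen, hg, hg'⟩ | ⟨c, c', hc, hc', hc1, hc1', hgen, hg, hg'⟩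
    · exact signalizerInf_le_normalizer_of_good h hLG' hπ' hLA hLr hc hc' hc1 hc1' hgen hg hg'
    · exfalso
      apply hnot
      have hcc : πᶜᶜ = π := compl_compl π
      have h1 := rad_compl_le_centralizer h (π := πᶜ) hLG' (by rwa [hcc]) hπ' (by rwa [hcc]) h4
        (hLA hc) hc1 hg
      have h2 := rad_compl_le_centralizer h (π := πᶜ) hLG' (by rwa [hcc]) hπ' (by rwa [hcc]) h4
        (hLA hc') hc1' hg'
      rw [hcc] at h1 h2
      have h3 : zpowers c ⊔ zpowers c' ≤ centralizer (rad r π A θ : Set G) := by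
        refine sup_le ?_ ?_
        · rwa [← Subgroup.le_centralizer_iff, centralizer_zpowers]
        · rwa [← Subgroup.le_centralizer_iff, centralizer_zpowers]
      have h4 : zpowers a ≤ centralizer (rad r π A θ : Set G) := by
        rw [zpowers_le]
        exact h3 (hgen haL)
      rwa [← Subgroup.le_centralizer_iff, centralizer_zpowers] at h4
  apply hbad
  refine ⟨loc A θ (rad r πᶜ A θ), MinCounter.loc_mem h (rad_mem h hπ') hW',
    MinCounter.le_loc h (SignalizerMax.theta_mem_family h.func ha ha1) hθW,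
    MinCounter.le_loc h (rad_mem h hπ) (le_trans ?_ (centralizer_le_normalizer' _))⟩
  exact rad_le_centralizer h (σ := πᶜ) fun q hq => not_not.mpr hq

end radical

end Cfsg.Agent.SignalizersComponents.Radical
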