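import Mathlib
import Cfsg.Prelude.Def_Balance
import Cfsg.Prelude.Def_OddOrderLocal
import Cfsg.Agent.SignalizersComponents.Radical
import Cfsg.Agent.SignalizersComponents.SylowFixed
import Cfsg.Agent.OddOrderLocal.SylIn

set_option autoImplicit false
set_option linter.unusedSectionVars false
set_option maxHeartbeats 400000

/-!
Step (4) of the radical proof of the solvable signalizer functor theorem: for every `a ∈ A#` some
member `M ≥ θ a` has an `O_q(M)` which is not centralised by `a`.
-/

namespace Cfsg.Agent.SignalizersComponents.StepFour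

open Subgroup
open scoped commutatorElement
open Cfsg (piCoreOf)
open Cfsg.Agent.OddOrderLocal.PiCoreOf
open Cfsg.Agent.SignalizersComponents.GoldschmidtGen (le_normalizer_of_conj_mem
  conj_mem_of_le_normalizer le_normalizer_commutator le_normalizer_sup)
open Cfsg.Agent.SignalizersComponents.CoprimeGen
open Cfsg.Agent.SignalizersComponents.FunctorTools
open Cfsg.Agent.SignalizersComponents.FunctorInduction
open Cfsg.Agent.SignalizersComponents.MinCounterBasic
open Cfsg.Agent.SignalizersComponents.InvariantHall (PiNum)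
open Cfsg.Agent.SignalizersComponents.HallFunctor
open Cfsg.Agent.SignalizersComponents.Radical
open Cfsg.Agent.Lib.CoprimeCommutator

section gen

variable {G : Type*} [Group G] [Finite G]

/-- `B` acts coprimely on the solvable group `K` and centralises all `O_q(K)`: it centralises `K`. -/
theorem le_centralizer_of_forall {B K : Subgroup G} (hKs : Group.IsSolvable K)
    (hBK : B ≤ normalizer (K : Set G)) (hcop : (Nat.card B).Coprime (Nat.card K))
    (h : ∀ q : ℕ, q.Prime → piCoreOf {q} K ≤ centralizer (B : Set G)) :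
    K ≤ centralizer (B : Set G) := by
  set F : Subgroup G := Cfsg.fittingOf K with hF
  have hFB : F ≤ centralizer (B : Set G) :=
    (Cfsg.Agent.OddOrderLocal.FitCores.fittingOf_le_iff).mpr h
  have hBF : B ≤ centralizer (F : Set G) := Subgroup.le_centralizer_iff.mp hFB
  have hKF : K ≤ normalizer (F : Set G) := Subgroup.le_normalizer.trans
    (normalizer_le_normalizer_map _ Cfsg.Agent.Lib.Cores.fittingSubgroup_characteristic)
  have h1 : ⁅K, B⁆ ≤ centralizer (F : Set G) := by
    rw [← commutator_eq_bot_iff_le_centralizer]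
    apply commutator_commutator_eq_bot_of_rotate
    · rw [commutator_eq_bot_iff_le_centralizer.mpr hBF, commutator_bot_left]
    · rw [eq_bot_iff]
      exact (commutator_mono (commutator_le_left hKF) le_rfl).trans
        (commutator_eq_bot_iff_le_centralizer.mpr hFB).le
  have h2 : ⁅K, B⁆ ≤ F := (le_inf (commutator_le_left hBK) h1).trans
    (Cfsg.Agent.OddOrderLocal.FitCores.inf_centralizer_fittingOf_le hKs)
  exact Subgroup.le_centralizer_iff.mp (le_centralizer_of_commutator_le B K F hBK hcop h2 hBF)

end gen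

variable {G : Type*} [Group G] [Finite G] {r : ℕ} [hr : Fact r.Prime] {A : Subgroup G}
  {θ : G → Subgroup G}

/-- If `a` centralises all `q`-members then the functor is complete. -/
theorem false_of_centralizes (h : MinCounter r A θ) {a : G} (ha : a ∈ A) (ha1 : a ≠ 1) {q : ℕ}
    [hq : Fact q.Prime] (hπ : Proper {q}ᶜ A θ)
    (hcen : ∀ Q ∈ Cfsg.signalizerFamily r A θ, IsPGroup q Q → Q ≤ centralizer {a}) : False := by
  have hA := h.elem
  have hAp := isPGroup_of_isElementaryAbelian hA
  have haA : zpowers a ≤ A := by rwa [zpowers_le]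
  have hM := piClosure_mem hA h.func (HallFunctor.MinCounter.hall_complete h hπ)
  apply h.notComplete
  refine solComplete_of_commutator_le hA h.card.ge h.func haA (by rwa [Ne, zpowers_eq_bot]) hM
    fun b hb hb1 => ?_
  have hθm := SignalizerMax.theta_mem_family h.func hb hb1
  obtain ⟨Q, ⟨T, hT⟩, hAQ⟩ := Cfsg.Agent.Lib.PGroupCoprimeAction.exists_invariant_sylow hAp hθm.2.1
    hθm.2.2.1 q
  have hQθ : Q ≤ θ b := by rw [← hT]; exact map_subtype_le _
  have hQp : IsPGroup q Q := by rw [← hT]; exact T.isPGroup'.map _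
  have hQm : Q ∈ Cfsg.signalizerFamily r A θ := mem_of_le hθm hQθ (le_normalizer_of_conj_mem hAQ)
  have hQi : ¬ q ∣ Q.relIndex (θ b) := by
    have h1 : Q.relIndex (θ b) = (T : Subgroup (θ b)).index := by
      rw [← hT, Subgroup.relIndex]
      congr 1
      exact Subgroup.comap_map_eq_self_of_injective (θ b).subtype_injective _
    rw [h1]
    exact T.not_dvd_index
  have h2 := SylowFixed.commutator_le_of_sylow (q := q) (K := θ b) hθm.1
    (haA.trans (theta_le_normalizer h.func hb hb1))
    (coprime_card_of_isPGroup (hAp.to_le haA) hθm.2.1) hQθ hQp hQi (by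
      rw [← Subgroup.le_centralizer_iff, centralizer_zpowers]
      exact hcen Q hQm hQp)
  refine h2.trans ((?_ : OPi.oPi {q}ᶜ (θ b) ≤ piCoreOf {q}ᶜ (θ b)).trans
    (piCoreOf_theta_le_piClosure h.func hb hb1))
  exact le_piCoreOf OPi.oPi_le OPi.le_normalizer_oPi OPi.piNum_oPi

/-- **Step (4)**. -/
theorem step4 (h : MinCounter r A θ) : Step4 r A θ := by
  intro a ha ha1
  by_contra hcon
  have hall : ∀ q : ℕ, q.Prime → ∀ M ∈ Cfsg.signalizerFamily r A θ, θ a ≤ M →
      piCoreOf {q} M ≤ centralizer {a} := by
    intro q hq M hM haM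
    by_contra hne
    exact hcon ⟨q, hq, M, hM, haM, hne⟩
  have hA := h.elem
  have hA3 : r ^ 3 ≤ Nat.card A := h.card.ge
  have hAp := isPGroup_of_isElementaryAbelian hA
  have hcomm := comm_of_isElementaryAbelian hA
  have haA : zpowers a ≤ A := by rwa [zpowers_le]
  have hθm := SignalizerMax.theta_mem_family h.func ha ha1
  have hcz : centralizer ((zpowers a : Subgroup G) : Set G) = centralizer {a} := centralizer_zpowers a
  -- members over `θ a` are centralised by `a`
  have hMc : ∀ M ∈ Cfsg.signalizerFamily r A θ, θ a ≤ M → M ≤ centralizer {a} := by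
    intro M hM haM
    rw [← hcz]
    exact le_centralizer_of_forall hM.1 (haA.trans (le_normalizer_of_mem hM))
      (coprime_card_of_isPGroup (hAp.to_le haA) hM.2.1)
      fun q hq => by rw [hcz]; exact hall q hq M hM haM
  have hMθ : ∀ M ∈ Cfsg.signalizerFamily r A θ, θ a ≤ M → M ≤ θ a := fun M hM haM =>
    (le_inf le_rfl (hMc M hM haM)).trans (hM.2.2.2 a ha ha1)
  have hθ1 : θ a ≠ ⊥ := by
    intro hbot
    apply h.notComplete
    refine ⟨θ a, hθm, fun b hb hb1 => ?_⟩
    exact hMθ _ (SignalizerMax.theta_mem_family h.func hb hb1) (by rw [hbot]; exact bot_le)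
  obtain ⟨q, hq, hT1⟩ := exists_Op_ne_bot hθm.1 hθ1
  have : Fact q.Prime := ⟨hq⟩
  set T : Subgroup G := Op q (θ a) with hT
  have hTm : T ∈ Cfsg.signalizerFamily r A θ := Op_mem hθm q
  have hTq : IsPGroup q T := isPGroup_Op
  -- members normalising `T` are centralised by `a`
  have hnT : ∀ U ∈ Cfsg.signalizerFamily r A θ, U ≤ normalizer (T : Set G) → U ≤ centralizer {a} := by
    intro U hU hUT
    exact (MinCounter.le_loc h hU hUT).trans (hMc _ (MinCounter.loc_mem h hTm hT1)
      (MinCounter.le_loc h hθm le_normalizer_Op))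
  obtain ⟨P, hP, hTP⟩ := SignalizerMax.exists_isMaxQ_ge hTm hTq
  have hAP := le_normalizer_of_mem hP.1
  have hPc : P ≤ centralizer {a} := by
    by_contra hne
    set R : Subgroup G := P ⊓ centralizer {a} with hR
    have hAR : A ≤ normalizer (R : Set G) := le_normalizer_inf_centralizer_singleton hA hAP ha
    have hlt : R < P := lt_of_le_of_ne inf_le_left fun heq => hne (inf_eq_left.mp heq)
    have hTR : T ≤ R := le_inf hTP (Op_le.trans (h.func.1.1 a ha ha1))
    have hgt := Cfsg.Agent.OddOrderLocal.SylIn.exists_normalizing_gt hP.2.1 hlt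
    set N : Subgroup G := P ⊓ normalizer (R : Set G) with hN
    have hNm : N ∈ Cfsg.signalizerFamily r A θ := inf_mem hP.1 (hAR.trans le_normalizer)
    have hAN := le_normalizer_of_mem hNm
    have hRc : R ≤ centralizer ((zpowers a : Subgroup G) : Set G) := by rw [hcz]; exact inf_le_right
    have h1 : ⁅N, zpowers a⁆ ≤ centralizer (R : Set G) := by
      rw [← commutator_eq_bot_iff_le_centralizer]
      apply commutator_commutator_eq_bot_of_rotate
      · rw [commutator_eq_bot_iff_le_centralizer.mpr (Subgroup.le_centralizer_iff.mp hRc),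
          commutator_bot_left]
      · rw [eq_bot_iff]
        exact (commutator_mono (commutator_le_left (inf_le_right : N ≤ normalizer (R : Set G))) le_rfl).trans
          (commutator_eq_bot_iff_le_centralizer.mpr hRc).le
    have hEm : ⁅N, zpowers a⁆ ∈ Cfsg.signalizerFamily r A θ :=
      mem_of_le hNm (commutator_le_left (haA.trans hAN))
        (le_normalizer_commutator hAN fun x hx b hb => hcomm x hx b (haA hb))
    have h2 : ⁅N, zpowers a⁆ ≤ centralizer {a} :=
      hnT _ hEm ((h1.trans (centralizer_le hTR)).trans (centralizer_le_normalizer' T))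
    have h3 : ⁅N, zpowers a⁆ = ⊥ := by
      rw [← commutator_commutator_eq (zpowers a) N (haA.trans hAN)
        (coprime_card_of_isPGroup (hAp.to_le haA) hNm.2.1)]
      exact commutator_zpowers_eq_bot_iff.mpr h2
    have h4 : N ≤ R := le_inf inf_le_left (commutator_zpowers_eq_bot_iff.mp h3)
    exact absurd hgt (not_lt_of_ge h4)
  refine false_of_centralizes h ha ha1 (q := q) ?_ ?_
  · refine ⟨a, ha, ha1, fun hpi => ?_⟩
    have h1 : q ∣ Nat.card T := by
      obtain ⟨n, hn⟩ := IsPGroup.iff_card.mp hTq
      rw [hn]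
      refine dvd_pow_self q fun h0 => hT1 ?_
      rw [h0, pow_zero] at hn
      exact Subgroup.card_eq_one.mp hn
    have h2 : q ∈ ({q}ᶜ : Set ℕ) := hpi q hq (h1.trans (card_dvd_of_le Op_le))
    exact h2 (Set.mem_singleton q)
  · intro Q hQ hQq
    obtain ⟨Q₁, hQ₁, hQQ₁⟩ := SignalizerMax.exists_isMaxQ_ge hQ hQq
    obtain ⟨c, hc, hcP⟩ := SignalizerMax.transitivity hA hA3 h.func hP hQ₁
    refine hQQ₁.trans ?_
    rw [← hcP]
    rintro _ ⟨x, hx, rfl⟩
    have hca : c ∈ centralizer ({a} : Set G) := h.func.1.1 a ha ha1 (signalizerInf_le ha ha1 hc)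
    exact mul_mem (mul_mem hca (hPc hx)) (inv_mem hca)

end Cfsg.Agent.SignalizersComponents.StepFour
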