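import Mathlib
import Cfsg.Prelude.Def_Local
import Cfsg.Agent.Lib.Cores
import Cfsg.Agent.SignalizersComponents.Components
import Cfsg.Agent.SignalizersComponents.ComponentExists
import Cfsg.Agent.SignalizersComponents.CompBasic

/-!
# Components and the core of the centralizer of an involutory automorphism

Let `H` be a finite group with `O(H) = 1`, `τ` an automorphism with `τ ^ 2 = 1` and `D` a
subgroup of odd order of `C_H(τ)`, normalized by `C_H(τ)`. Let `L` be a component of `H`.

* `commute_of_fixed`: if `τ` is trivial on `L` then `D` centralizes `L`;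
* `commute_of_smul_ne`: if `τ(L) ≠ L` then `D` centralizes `L`;
* `normalizes_of_smul_eq`: if `D` centralizes `O_2(H)` and `τ(L) = L` then `D` normalizes `L`;
* `exists_component`: the main result.
-/

set_option autoImplicit false

open Cfsg Subgroup

namespace Cfsg.Agent.SignalizersComponents.OddFixed

variable {H : Type*} [Group H]

/-- A `p`-element of a `p'`-subgroup is trivial. -/
theorem eq_one_of_mem_of_pow [Finite H] {D : Subgroup H} {p : ℕ} (hp : (Nat.card D).Coprime p)
    {x : H} (hx : x ∈ D) {n : ℕ} (hxn : x ^ p ^ n = 1) : x = 1 := by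
  have h1 : orderOf x ∣ p ^ n := orderOf_dvd_of_pow_eq_one hxn
  have h2 : orderOf x ∣ Nat.card D := by
    have := orderOf_dvd_natCard (⟨x, hx⟩ : D)
    rwa [Subgroup.orderOf_mk] at this
  have h3 : orderOf x ∣ 1 := by
    have h4 : (Nat.card D).Coprime (p ^ n) := Nat.Coprime.pow_right n hp
    rw [← h4]
    exact Nat.dvd_gcd h2 h1
  exact orderOf_eq_one_iff.mp (Nat.dvd_one.mp h3)

open scoped IsMulCommutative in
/-- If `d` normalizes the perfect subgroup `L` and acts trivially on `L / Z(L)`, then `d`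
centralizes `L`. -/
theorem centralizes_of_perfect {L : Subgroup H} (hL : Group.IsPerfect L) (d : H)
    (h1 : ∀ e ∈ L, d * e * d⁻¹ ∈ L)
    (h2 : ∀ e ∈ L, ∀ f ∈ L, Commute (e⁻¹ * (d * e * d⁻¹)) f) : ∀ e ∈ L, d * e = e * d := by
  have hm : ∀ e ∈ L, e⁻¹ * (d * e * d⁻¹) ∈ L := fun e he => mul_mem (inv_mem he) (h1 e he)
  let φ : L →* center L :=
    { toFun := fun e => ⟨⟨(e : H)⁻¹ * (d * e * d⁻¹), hm e e.2⟩, by
        rw [mem_center_iff]
        intro f
        ext
        exact (h2 e e.2 f f.2).symm⟩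
      map_one' := by
        ext
        simp
      map_mul' := fun e f => by
        ext
        have h := h2 e e.2 (f : H)⁻¹ (inv_mem f.2)
        change ((e : H) * f)⁻¹ * (d * (e * f) * d⁻¹) =
          ((e : H)⁻¹ * (d * e * d⁻¹)) * ((f : H)⁻¹ * (d * f * d⁻¹))
        calc ((e : H) * f)⁻¹ * (d * (e * f) * d⁻¹)
            = ((f : H)⁻¹ * ((e : H)⁻¹ * (d * e * d⁻¹))) * (d * f * d⁻¹) := by group
          _ = (((e : H)⁻¹ * (d * e * d⁻¹)) * (f : H)⁻¹) * (d * f * d⁻¹) := by rw [h.eq]
          _ = _ := by group }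
  intro e he
  have h3 := CompBasic.hom_eq_one_of_perfect hL φ ⟨e, he⟩
  have h4 : e⁻¹ * (d * e * d⁻¹) = 1 := congrArg (fun z : center L => ((z : L) : H)) h3
  have h5 : d * e * d⁻¹ = e := by
    rw [inv_mul_eq_one] at h4
    exact h4.symm
  calc d * e = (d * e * d⁻¹) * d := by group
    _ = e * d := by rw [h5]

/-- The common argument: `N : L → C_H(τ)` is a homomorphism with `e⁻¹ N(e)` centralizing `L`. -/
theorem core [Finite H] {p : ℕ} [Fact p.Prime] {L D : Subgroup H} (hL : IsQuasisimple L)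
    (hpL : p ∣ Nat.card L) (τ : MulAut H)
    (hDn : ∀ c : H, τ c = c → ∀ d ∈ D, c * d * c⁻¹ ∈ D) (hDp : (Nat.card D).Coprime p)
    (N : H → H)
    (n1 : ∀ e ∈ L, ∀ f ∈ L, N (e * f) = N e * N f)
    (n2 : ∀ e ∈ L, τ (N e) = N e)
    (n3 : ∀ e ∈ L, ∀ f ∈ L, Commute (e⁻¹ * N e) f)
    (n4 : ∀ d ∈ D, (∀ e ∈ L, d * e * d⁻¹ ∈ L) → ∀ e ∈ L, N (d * e * d⁻¹) = d * N e * d⁻¹)
    (n5 : ∀ d ∈ D, (∀ e ∈ L, d * e * d⁻¹ ∈ L) ∨
      ((∀ e ∈ L, ∀ f ∈ L, Commute (d * N e * d⁻¹) f) ∧
        (∀ e ∈ L, Commute (d * N e * d⁻¹) (N e)))) :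
    ∀ d ∈ D, ∀ e ∈ L, d * e = e * d := by
  -- `N` as a homomorphism
  let Nh : L →* H := MonoidHom.mk' (fun e => N e) (fun e f => n1 e e.2 f f.2)
  -- a noncentral `p`-element
  obtain ⟨x, hxL, ⟨n, hxn⟩, hxc⟩ : ∃ x ∈ L, (∃ n : ℕ, x ^ p ^ n = 1) ∧
      ¬ (∀ f ∈ L, Commute x f) := by
    let T : Sylow p L := default
    have h := CompBasic.sylow_not_le_center_of_perfect hL.1 p hpL T
    rw [SetLike.not_le_iff_exists] at h
    obtain ⟨x, hxT, hxc⟩ := h
    obtain ⟨n, hn⟩ := T.isPGroup' ⟨x, hxT⟩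
    refine ⟨x, x.2, ⟨n, ?_⟩, ?_⟩
    · have := congrArg (fun y : (T : Subgroup L) => ((y : L) : H)) hn
      simpa using this
    · intro hf
      apply hxc
      rw [mem_center_iff]
      intro f
      ext
      exact (hf f f.2).symm
  have hNx : (N x) ^ p ^ n = 1 := by
    have h1 : Nh ⟨x, hxL⟩ = N x := rfl
    rw [← h1, ← map_pow]
    have h2 : (⟨x, hxL⟩ : L) ^ p ^ n = 1 := by
      ext
      simpa using hxn
    rw [h2, map_one]
  -- commutators are in `D`
  have hcomm : ∀ e ∈ L, ∀ d ∈ D, (N e)⁻¹ * (d * N e * d⁻¹) ∈ D := by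
    intro e he d hd
    have h1 : τ ((N e)⁻¹) = (N e)⁻¹ := by rw [map_inv, n2 e he]
    have h2 := hDn _ h1 d hd
    have h3 := mul_mem h2 (inv_mem hd)
    have h4 : (N e)⁻¹ * d * (N e)⁻¹⁻¹ * d⁻¹ = (N e)⁻¹ * (d * N e * d⁻¹) := by group
    rwa [h4] at h3
  -- `D` normalizes `L`
  have hnorm : ∀ d ∈ D, ∀ e ∈ L, d * e * d⁻¹ ∈ L := by
    intro d hd
    rcases n5 d hd with h | ⟨h1, h2⟩
    · exact h
    · exfalso
      apply hxc
      have h3 : ((N x)⁻¹ * (d * N x * d⁻¹)) ^ p ^ n = 1 := by
        have h4 : Commute (N x)⁻¹ (d * N x * d⁻¹) := (h2 x hxL).symm.inv_left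
        rw [h4.mul_pow, inv_pow, hNx, conj_pow, hNx]
        simp
      have h5 := eq_one_of_mem_of_pow hDp (hcomm x hxL d hd) h3
      have h6 : d * N x * d⁻¹ = N x := by
        rw [inv_mul_eq_one] at h5
        exact h5.symm
      intro f hf
      have h7 : x = N x * (x⁻¹ * N x)⁻¹ := by group
      rw [h7]
      refine Commute.mul_left ?_ (n3 x hxL f hf).inv_left
      rw [← h6]
      exact h1 x hxL f hf
  -- the normal subgroup of elements with norm in `D`
  let M : Subgroup L := D.comap Nh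
  have hM : M.Normal := by
    constructor
    intro e he f
    change Nh (f * e * f⁻¹) ∈ D
    rw [map_mul, map_mul, map_inv]
    exact hDn _ (n2 f f.2) _ he
  have hMne : M ≠ ⊤ := by
    intro hM1
    apply hxc
    have h1 : (⟨x, hxL⟩ : L) ∈ M := by
      rw [hM1]
      exact mem_top _
    have h2 : N x ∈ D := h1
    have h3 := eq_one_of_mem_of_pow hDp h2 hNx
    intro f hf
    have h4 := n3 x hxL f hf
    rw [h3, mul_one] at h4
    simpa using h4.inv_left
  have hMc : M ≤ center L :=
    (Components.quasisimple_normal hL M hM).resolve_left hMne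
  intro d hd
  apply centralizes_of_perfect hL.1 d (hnorm d hd)
  intro e he f hf
  have he' : e⁻¹ * (d * e * d⁻¹) ∈ L := mul_mem (inv_mem he) (hnorm d hd e he)
  have h1 : (⟨_, he'⟩ : L) ∈ M := by
    change N (e⁻¹ * (d * e * d⁻¹)) ∈ D
    have h2 : N e⁻¹ = (N e)⁻¹ := by
      have := map_inv Nh ⟨e, he⟩
      exact this
    rw [n1 _ (inv_mem he) _ (hnorm d hd e he), h2, n4 d hd (hnorm d hd) e he]
    exact hcomm e he d hd
  have h3 := hMc h1
  rw [mem_center_iff] at h3
  have h4 := congrArg (Subtype.val) (h3 ⟨f, hf⟩)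
  exact h4.symm

open scoped Pointwise

/-- Images of components under automorphisms are components. -/
theorem isComponent_smul (σ : MulAut H) {L : Subgroup H} (hL : IsComponent L) :
    IsComponent (σ • L) :=
  Components.isComponent_map_equiv σ hL

/-- Elements of distinct components commute. -/
theorem commute_of_ne {K L : Subgroup H} (hK : IsComponent K) (hL : IsComponent L) (hne : K ≠ L)
    {x y : H} (hx : x ∈ K) (hy : y ∈ L) : Commute x y := by
  have h := Components.component_le_centralizer_of_ne hK hL hne hx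
  rw [mem_centralizer_iff] at h
  exact (h y hy).symm

theorem mem_smul_of_mem (σ : MulAut H) {L : Subgroup H} {x : H} (hx : x ∈ L) : σ x ∈ σ • L :=
  Subgroup.smul_mem_pointwise_smul x σ L hx

theorem conj_mem_smul (d : H) {L : Subgroup H} {x : H} (hx : x ∈ L) :
    d * x * d⁻¹ ∈ MulAut.conj d • L :=
  mem_smul_of_mem (MulAut.conj d) hx

/-- An odd power of an element of `S` in `S`, and the square in `S`. -/
theorem mem_of_sq_mem_of_odd {Γ : Type*} [Group Γ] {S : Subgroup Γ} {g : Γ} {m : ℕ}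
    (h2 : g ^ 2 ∈ S) (hm : g ^ m ∈ S) (hodd : Odd m) : g ∈ S := by
  obtain ⟨k, rfl⟩ := hodd
  rw [pow_add, pow_mul, pow_one] at hm
  exact (Subgroup.mul_mem_cancel_left S (pow_mem h2 k)).mp hm

section Main

variable [Finite H] {L D : Subgroup H}

theorem two_dvd_card_component (hO : oddCore H = ⊥) (hL : IsComponent L) : 2 ∣ Nat.card L := by
  by_contra h
  have h1 : (Nat.card L).Coprime 2 := by
    rw [Nat.coprime_comm]
    exact (Nat.Prime.coprime_iff_not_dvd Nat.prime_two).mpr h
  have h2 := CompBasic.subnormal_coprime_le_pPrimeCore hL.1 h1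
  have h3 : pPrimeCore 2 H = ⊥ := hO
  rw [h3, le_bot_iff] at h2
  exact Components.component_ne_bot hL h2

omit [Finite H] in
theorem conj_pow_card_mem {d : H} (hd : d ∈ D) : (MulAut.conj d) ^ Nat.card D = 1 := by
  have h1 : d ^ Nat.card D = 1 := by
    have := pow_card_eq_one' (G := D) (x := ⟨d, hd⟩)
    exact congrArg Subtype.val this
  rw [← map_pow, h1, map_one]

omit [Finite H] in
/-- If `d ∈ D` has odd order and `d²` normalizes `L` then `d` normalizes `L`. -/
theorem smul_eq_of_sq (hDp : (Nat.card D).Coprime 2) {d : H} (hd : d ∈ D)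
    (h : MulAut.conj d • MulAut.conj d • L = L) : MulAut.conj d • L = L := by
  have h1 : MulAut.conj d ∈ MulAction.stabilizer (MulAut H) L := by
    refine mem_of_sq_mem_of_odd (m := Nat.card D) ?_ ?_ ?_
    · rw [MulAction.mem_stabilizer_iff, pow_two, mul_smul, h]
    · rw [conj_pow_card_mem hd]
      exact one_mem _
    · exact Nat.coprime_two_right.mp hDp
  exact h1

/-- If `τ` is trivial on `L`, then `D` centralizes `L`. -/
theorem commute_of_fixed (hO : oddCore H = ⊥) (hL : IsComponent L) (τ : MulAut H)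
    (hDn : ∀ c : H, τ c = c → ∀ d ∈ D, c * d * c⁻¹ ∈ D) (hDp : (Nat.card D).Coprime 2)
    (hτL : ∀ e ∈ L, τ e = e) : ∀ d ∈ D, ∀ e ∈ L, d * e = e * d := by
  refine core (p := 2) hL.2 (two_dvd_card_component hO hL) τ hDn hDp (fun e => e)
    (fun _ _ _ _ => rfl) hτL (fun e _ f _ => by simp) (fun _ _ _ _ _ => rfl) ?_
  intro d hd
  by_cases h : MulAut.conj d • L = L
  · left
    intro e he
    rw [← h]
    exact conj_mem_smul d he
  · right
    have hc : ∀ e ∈ L, ∀ f ∈ L, Commute (d * e * d⁻¹) f := fun e he f hf =>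
      commute_of_ne (isComponent_smul _ hL) hL h (conj_mem_smul d he) hf
    exact ⟨hc, fun e he => hc e he e he⟩

/-- If `τ` does not normalize `L`, then `D` centralizes `L`. -/
theorem commute_of_smul_ne (hO : oddCore H = ⊥) (hL : IsComponent L) (τ : MulAut H)
    (hτ : ∀ x, τ (τ x) = x) (hDτ : ∀ d ∈ D, τ d = d)
    (hDn : ∀ c : H, τ c = c → ∀ d ∈ D, c * d * c⁻¹ ∈ D) (hDp : (Nat.card D).Coprime 2)
    (hτL : τ • L ≠ L) : ∀ d ∈ D, ∀ e ∈ L, d * e = e * d := by
  have hτL' := isComponent_smul τ hL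
  have hc : ∀ e ∈ L, ∀ f ∈ L, Commute (τ e) f := fun e he f hf =>
    commute_of_ne hτL' hL hτL (mem_smul_of_mem τ he) hf
  refine core (p := 2) hL.2 (two_dvd_card_component hO hL) τ hDn hDp (fun e => e * τ e)
    ?_ ?_ ?_ ?_ ?_
  · intro e he f hf
    rw [map_mul]
    calc e * f * (τ e * τ f) = e * (f * τ e) * τ f := by group
      _ = e * (τ e * f) * τ f := by rw [(hc e he f hf).eq]
      _ = _ := by group
  · intro e he
    rw [map_mul, hτ, (hc e he e he).eq]
  · intro e he f hf
    have : e⁻¹ * (e * τ e) = τ e := by group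
    change Commute (e⁻¹ * (e * τ e)) f
    rw [this]
    exact hc e he f hf
  · intro d hd _ e he
    rw [map_mul, map_mul, map_inv, hDτ d hd]
    group
  · intro d hd
    -- `d` and `τ` commute
    have hcomm : ∀ K : Subgroup H, τ • MulAut.conj d • K = MulAut.conj d • τ • K := by
      intro K
      rw [← mul_smul, ← mul_smul]
      congr 1
      ext x
      simp [hDτ d hd]
    have hτ2 : ∀ K : Subgroup H, τ • τ • K = K := by
      intro K
      rw [← mul_smul]
      have : τ * τ = 1 := by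
        ext x
        simp [hτ]
      rw [this, one_smul]
    by_cases h : MulAut.conj d • L = L
    · left
      intro e he
      rw [← h]
      exact conj_mem_smul d he
    · right
      have h2 : MulAut.conj d • L ≠ τ • L := by
        intro h3
        apply h
        apply smul_eq_of_sq hDp hd
        rw [h3, ← hcomm, h3, hτ2]
      have h3 : τ • MulAut.conj d • L ≠ L := by
        intro h3
        apply h2
        conv_rhs => rw [← h3]
        rw [hτ2]
      have h4 : τ • MulAut.conj d • L ≠ τ • L := by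
        intro h4
        apply h
        exact smul_left_cancel τ h4
      have hdL := isComponent_smul (MulAut.conj d) hL
      have hτdL := isComponent_smul τ hdL
      have e1 : ∀ e ∈ L, d * (e * τ e) * d⁻¹ = (d * e * d⁻¹) * (τ (d * e * d⁻¹)) := by
        intro e he
        rw [map_mul, map_mul, map_inv, hDτ d hd]
        group
      have hc1 : ∀ e ∈ L, ∀ f ∈ L, Commute (d * (e * τ e) * d⁻¹) f := by
        intro e he f hf
        rw [e1 e he]
        exact (commute_of_ne hdL hL h (conj_mem_smul d he) hf).mul_left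
          (commute_of_ne hτdL hL h3 (mem_smul_of_mem τ (conj_mem_smul d he)) hf)
      refine ⟨hc1, ?_⟩
      intro e he
      refine (hc1 e he e he).mul_right ?_
      rw [e1 e he]
      exact (commute_of_ne hdL hτL' h2 (conj_mem_smul d he) (mem_smul_of_mem τ he)).mul_left
        (commute_of_ne hτdL hτL' h4 (mem_smul_of_mem τ (conj_mem_smul d he))
          (mem_smul_of_mem τ he))

/-- If `D` centralizes `O_2(H)` and `τ` normalizes `L`, then `D` normalizes `L`. -/
theorem normalizes_of_smul_eq (hO : oddCore H = ⊥) (hL : IsComponent L) (τ : MulAut H)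
    (hτ : ∀ x, τ (τ x) = x) (hDτ : ∀ d ∈ D, τ d = d)
    (hDn : ∀ c : H, τ c = c → ∀ d ∈ D, c * d * c⁻¹ ∈ D) (hDp : (Nat.card D).Coprime 2)
    (hDU : ∀ d ∈ D, ∀ u ∈ pCore 2 H, Commute d u)
    (hτL : τ • L = L) : ∀ d ∈ D, MulAut.conj d • L = L := by
  have hτmem : ∀ x, τ x ∈ L ↔ x ∈ L := by
    intro x
    constructor
    · intro h
      rw [← hτL] at h
      exact (Subgroup.smul_mem_pointwise_smul_iff (a := τ) (S := L) (x := x)).mp h
    · intro h
      rw [← hτL]
      exact mem_smul_of_mem τ h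
  -- the automorphism of `L` induced by `τ`
  let τL : MulAut L :=
    { toFun := fun x => ⟨τ x, (hτmem x).mpr x.2⟩
      invFun := fun x => ⟨τ x, (hτmem x).mpr x.2⟩
      left_inv := fun x => by
        ext
        exact hτ x
      right_inv := fun x => by
        ext
        exact hτ x
      map_mul' := fun x y => by
        ext
        simp }
  have hτL2 : τL ^ 2 ^ 1 = 1 := by
    rw [pow_one, pow_two]
    ext x
    exact hτ x
  obtain ⟨x', hx'c, ⟨n, hn⟩, hzc, ⟨m, hm⟩⟩ :=
    CompBasic.exists_almost_fixed hL.2.1 2 (two_dvd_card_component hO hL) τL hτL2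
  -- elements of `H`
  obtain ⟨x, hxL, hxn, hxc, z, hz, hzL, hzcom, hzm⟩ : ∃ x ∈ L, x ^ 2 ^ n = 1 ∧
      ¬ (∀ f ∈ L, Commute x f) ∧ ∃ z : H, τ x = x * z ∧ z ∈ L ∧ (∀ f ∈ L, Commute z f) ∧
        z ^ 2 ^ m = 1 := by
    refine ⟨x', x'.2, ?_, ?_, (x' : H)⁻¹ * τ x', ?_, ?_, ?_, ?_⟩
    · exact congrArg Subtype.val hn
    · intro hf
      apply hx'c
      rw [mem_center_iff]
      intro f
      ext
      exact (hf f f.2).symm
    · group
    · exact mul_mem (inv_mem x'.2) ((hτmem _).mpr x'.2)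
    · intro f hf
      have h := mem_center_iff.mp hzc ⟨f, hf⟩
      exact (congrArg Subtype.val h).symm
    · exact congrArg Subtype.val hm
  -- `z ∈ O_2(H)`
  have hzU : z ∈ pCore 2 H := by
    have h1 : (zpowers z).IsSubnormal := by
      refine Subgroup.IsSubnormal.step (zpowers z) L ?_ hL.1 ?_
      · rw [zpowers_le]
        exact hzL
      · rw [normal_subgroupOf_iff_le_normalizer (by rw [zpowers_le]; exact hzL)]
        intro f hf
        rw [mem_normalizer_iff]
        intro g
        constructor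
        · intro hg
          obtain ⟨k, rfl⟩ := mem_zpowers_iff.mp hg
          have h2 : Commute f (z ^ k) := ((hzcom f hf).symm).zpow_right k
          rw [h2.eq, mul_inv_cancel_right]
          exact hg
        · intro hg
          obtain ⟨k, hk⟩ := mem_zpowers_iff.mp hg
          have h2 : Commute f (z ^ k) := ((hzcom f hf).symm).zpow_right k
          have h3 : g = z ^ k := by
            have h4 : g = f⁻¹ * (z ^ k) * f := by
              rw [hk]
              group
            rw [h4, mul_assoc, ← h2.eq]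
            group
          rw [h3]
          exact zpow_mem_zpowers z k
    have h2 : IsPGroup 2 (zpowers z) := by
      intro g
      refine ⟨m, ?_⟩
      obtain ⟨k, hk⟩ := mem_zpowers_iff.mp g.2
      ext
      rw [SubmonoidClass.coe_pow, ← hk, ← zpow_natCast, ← zpow_mul, mul_comm, zpow_mul,
        zpow_natCast, hzm]
      simp
    exact CompBasic.subnormal_pGroup_le_pCore h1 h2 (mem_zpowers z)
  intro d hd
  by_contra hne
  -- the second translate
  have hne2 : MulAut.conj d • MulAut.conj d • L ≠ L := fun h => hne (smul_eq_of_sq hDp hd h)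
  have hdL := isComponent_smul (MulAut.conj d) hL
  have hddL := isComponent_smul (MulAut.conj d) hdL
  have hne3 : MulAut.conj d • MulAut.conj d • L ≠ MulAut.conj d • L := by
    intro h
    exact hne (smul_left_cancel _ h)
  obtain ⟨b, hb⟩ : ∃ b, b = d * x * d⁻¹ := ⟨_, rfl⟩
  obtain ⟨c, hc⟩ : ∃ c, c = d * b * d⁻¹ := ⟨_, rfl⟩
  have hbm : b ∈ MulAut.conj d • L := by
    rw [hb]
    exact conj_mem_smul d hxL
  have hcm : c ∈ MulAut.conj d • MulAut.conj d • L := by
    rw [hc]
    exact conj_mem_smul d hbm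
  have hbf : ∀ f ∈ L, Commute b f := fun f hf => commute_of_ne hdL hL hne hbm hf
  have hcf : ∀ f ∈ L, Commute c f := fun f hf => commute_of_ne hddL hL hne2 hcm hf
  have hcb : Commute c b := commute_of_ne hddL hdL hne3 hcm hbm
  -- the fixed element
  have hy : τ (x⁻¹ * b) = x⁻¹ * b := by
    have h1 : d * z * d⁻¹ = z := by
      rw [(hDU d hd z hzU).eq]
      group
    have h2 : τ b = b * z := by
      rw [hb, map_mul, map_mul, map_inv, hDτ d hd, hz]
      calc d * (x * z) * d⁻¹ = (d * x * d⁻¹) * (d * z * d⁻¹) := by group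
        _ = _ := by rw [h1]
    rw [map_mul, map_inv, hz, h2]
    have h3 : Commute z b := (hbf z hzL).symm
    have h4 : Commute z x := hzcom x hxL
    calc (x * z)⁻¹ * (b * z) = (z⁻¹ * x⁻¹) * (b * z) := by group
      _ = (x⁻¹ * z⁻¹) * (b * z) := by rw [(h4.inv_inv).eq]
      _ = (x⁻¹ * z⁻¹) * (z * b) := by rw [h3.eq]
      _ = x⁻¹ * b := by group
  have hw : (x⁻¹ * b)⁻¹ * d * (x⁻¹ * b)⁻¹⁻¹ * d⁻¹ ∈ D := by
    refine mul_mem (hDn _ ?_ d hd) (inv_mem hd)
    rw [map_inv, hy]
  have hw1 : (x⁻¹ * b)⁻¹ * d * (x⁻¹ * b)⁻¹⁻¹ * d⁻¹ = b⁻¹ * x * (b⁻¹ * c) := by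
    have h1 : b⁻¹ * c = d * (x⁻¹ * b) * d⁻¹ := by
      rw [hc]
      conv_lhs => rw [hb]
      rw [hb]
      group
    rw [h1]
    group
  have hbx : Commute b x := hbf x hxL
  have hcx : Commute c x := hcf x hxL
  rw [hw1] at hw
  have hw2 : b⁻¹ * x * (b⁻¹ * c) = x * (b⁻¹ ^ 2 * c) := by
    rw [(hbx.inv_left).eq]
    group
  have hbn : b ^ 2 ^ n = 1 := by
    rw [hb, conj_pow, hxn]
    group
  have hcn : c ^ 2 ^ n = 1 := by
    rw [hc, conj_pow, hbn]
    group
  rw [hw2] at hw
  have hw3 : (x * (b⁻¹ ^ 2 * c)) ^ 2 ^ n = 1 := by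
    have h1 : Commute x (b⁻¹ ^ 2 * c) :=
      (((hbx.symm.inv_right).pow_right 2)).mul_right hcx.symm
    have h2 : Commute (b⁻¹ ^ 2) c := ((hcb.symm.inv_left).pow_left 2)
    rw [h1.mul_pow, h2.mul_pow, hxn, hcn, ← pow_mul, mul_comm 2, pow_mul, inv_pow, hbn]
    simp
  have hw4 := eq_one_of_mem_of_pow hDp hw hw3
  apply hxc
  intro f hf
  have h5 : x = (b⁻¹ ^ 2 * c)⁻¹ := mul_eq_one_iff_eq_inv.mp hw4
  rw [h5]
  exact (((hbf f hf).inv_left.pow_left 2).mul_left (hcf f hf)).inv_left

omit [Finite H] in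
/-- `O_2(H)` is the Fitting subgroup of `H` if `O(H) = 1`. -/
theorem fittingSubgroup_le_pCore_two [Finite H] (hO : oddCore H = ⊥) :
    fittingSubgroup H ≤ pCore 2 H := by
  rw [Lib.Cores.fittingSubgroup_eq_iSup_pCore, iSup_le_iff]
  rintro ⟨p, hp⟩
  have : Fact p.Prime := ⟨hp⟩
  change pCore p H ≤ pCore 2 H
  by_cases h2 : p = 2
  · rw [h2]
  · obtain ⟨n, hn⟩ := IsPGroup.iff_card.mp (Lib.Cores.pCore_isPGroup (G := H) p)
    have h1 : (Nat.card (pCore p H)).Coprime 2 := by
      rw [hn]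
      exact Nat.Coprime.pow_left n ((Nat.coprime_primes hp Nat.prime_two).mpr h2)
    have h3 := Lib.Cores.le_pPrimeCore (Lib.Cores.pCore_normal (G := H) p) h1
    have h4 : pPrimeCore 2 H = ⊥ := hO
    rw [h4, le_bot_iff] at h3
    rw [h3]
    exact bot_le

/-- A subgroup of odd order centralizing all components and `O_2(H)` is trivial if `O(H) = 1`. -/
theorem eq_bot_of_centralizes (hO : oddCore H = ⊥) {Y : Subgroup H}
    (hYp : (Nat.card Y).Coprime 2) (hYU : ∀ y ∈ Y, ∀ u ∈ pCore 2 H, Commute y u)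
    (hYL : ∀ L : Subgroup H, IsComponent L → ∀ y ∈ Y, ∀ e ∈ L, Commute y e) : Y = ⊥ := by
  -- the centralizer of `F*(H)`
  let C : Subgroup H := centralizer ((layer H ⊔ fittingSubgroup H : Subgroup H) : Set H)
  have hYC : Y ≤ C := by
    have h1 : layer H ⊔ fittingSubgroup H ≤ centralizer (Y : Set H) := by
      refine sup_le ?_ ?_
      · rw [Components.layer_le_iff]
        intro L hL e he
        rw [mem_centralizer_iff]
        intro y hy
        exact hYL L hL y hy e he
      · intro u hu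
        rw [mem_centralizer_iff]
        intro y hy
        exact hYU y hy u (fittingSubgroup_le_pCore_two hO hu)
    exact le_centralizer_iff.mp h1
  have hln := Components.layer_normal H
  have hCn : C.Normal := by
    have : (layer H ⊔ fittingSubgroup H).Normal := inferInstance
    infer_instance
  have hCF : C ≤ centralizer (fittingSubgroup H : Set H) :=
    centralizer_le (by exact_mod_cast (le_sup_right : fittingSubgroup H ≤ _))
  have hCs : Group.IsSolvable C := by
    by_contra hns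
    obtain ⟨K, hK, hKC⟩ := ComponentExists.exists_isComponent_le hCn.isSubnormal hns hCF
    have h1 : K ≤ layer H ⊔ fittingSubgroup H := (Components.component_le_layer hK).trans le_sup_left
    have h2 : IsMulCommutative K := by
      constructor
      constructor
      intro a b
      have ha : (a : H) ∈ C := hKC a.2
      have h3 := mem_centralizer_iff.mp ha (b : H) (h1 b.2)
      ext
      exact h3.symm
    exact Components.quasisimple_not_isMulCommutative hK.2 h2
  have h5 := ComponentExists.le_fitting_of_normal_of_isSolvable hCn hCs hCF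
  have h6 : Y ≤ pCore 2 H := hYC.trans (h5.trans (fittingSubgroup_le_pCore_two hO))
  have h7 : IsPGroup 2 Y := (Lib.Cores.pCore_isPGroup (G := H) 2).to_le h6
  obtain ⟨n, hn⟩ := IsPGroup.iff_card.mp h7
  rw [hn] at hYp
  have h8 : Nat.card Y = 1 := by
    rcases Nat.eq_zero_or_pos n with rfl | hpos
    · rw [hn, pow_zero]
    · exfalso
      rw [Nat.coprime_pow_left_iff hpos] at hYp
      norm_num at hYp
  exact Subgroup.card_eq_one.mp h8

/-- The main result, abstract form. -/
theorem exists_component (hO : oddCore H = ⊥) (τ : MulAut H)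
    (hτ : ∀ x, τ (τ x) = x) (hDτ : ∀ d ∈ D, τ d = d)
    (hDn : ∀ c : H, τ c = c → ∀ d ∈ D, c * d * c⁻¹ ∈ D) (hDp : (Nat.card D).Coprime 2)
    (hDU : ∀ d ∈ D, ∀ u ∈ pCore 2 H, Commute d u) {Y : Subgroup H} (hYD : Y ≤ D)
    (hY : Y ≠ ⊥) :
    ∃ L : Subgroup H, IsComponent L ∧ τ • L = L ∧ (∀ y ∈ Y, MulAut.conj y • L = L) ∧
      (∃ e ∈ L, τ e ≠ e) ∧ (∃ y ∈ Y, ∃ e ∈ L, y * e ≠ e * y) := by
  by_contra hcon
  apply hY
  have hYp : (Nat.card Y).Coprime 2 := hDp.coprime_dvd_left (card_dvd_of_le hYD)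
  refine eq_bot_of_centralizes hO hYp (fun y hy u hu => hDU y (hYD hy) u hu) ?_
  intro L hL
  by_contra hne
  push Not at hne
  obtain ⟨y, hy, e, he, hye⟩ := hne
  apply hcon
  have hτL : τ • L = L := by
    by_contra hτL
    exact hye (commute_of_smul_ne hO hL τ hτ hDτ hDn hDp hτL y (hYD hy) e he)
  refine ⟨L, hL, hτL, ?_, ?_, ⟨y, hy, e, he, hye⟩⟩
  · intro z hz
    exact normalizes_of_smul_eq hO hL τ hτ hDτ hDn hDp hDU hτL z (hYD hz)
  · by_contra hfix
    push Not at hfix
    exact hye (commute_of_fixed hO hL τ hDn hDp hfix y (hYD hy) e he)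

end Main

end Cfsg.Agent.SignalizersComponents.OddFixed
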