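import Cfsg.Agent.Lib.Cores
import Cfsg.Agent.Lib.ComponentSolvable
import Cfsg.Agent.Lib.ThompsonPQ
import Cfsg.Agent.SignalizersComponents.FStarPCore

/-!
# Groups of characteristic `p`: `C_X(O_p(X)) ≤ O_p(X)`

The equivalence with `F*(X) = O_p(X)` and the inheritance by `p`-local subgroups.
-/

set_option autoImplicit false

namespace Cfsg.Agent.SignalizersComponents.CharP

open Subgroup Cfsg
open Cfsg.Agent.Lib.Cores Cfsg.Agent.Lib.ComponentSolvable

universe u

/-- A subnormal nilpotent subgroup of a finite group lies in the Fitting subgroup. -/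
theorem subnormal_nilpotent_le_fitting_aux (n : ℕ) : ∀ (G : Type u) [Group G] [Finite G],
    Nat.card G = n → ∀ K : Subgroup G, K.IsSubnormal → Group.IsNilpotent K →
      K ≤ fittingSubgroup G := by
  induction n using Nat.strong_induction_on with
  | _ n ih =>
    intro G _ _ hn K hK hnil
    rcases hK.lt_normal with h | ⟨M, hM, hKM, hMt⟩
    · subst h
      exact le_fittingSubgroup inferInstance hnil
    · have hcard : Nat.card M < n := by
        rw [← hn]
        exact lt_of_le_of_ne (Subgroup.card_le_card_group M)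
          (fun h => hMt.ne (Subgroup.eq_top_of_card_eq M h))
      have hnil2 : Group.IsNilpotent (K.subgroupOf M) :=
        Group.isNilpotent_congr (subgroupOfEquivOfLe hKM) |>.mpr hnil
      have h1 := ih _ hcard M rfl (K.subgroupOf M) hK.subgroupOf hnil2
      have h2 : (K.subgroupOf M).map M.subtype ≤ (fittingSubgroup M).map M.subtype := map_mono h1
      rw [map_subgroupOf_eq_of_le hKM, map_subtype_fittingSubgroup hM] at h2
      exact h2.trans inf_le_right

/-- A subnormal nilpotent subgroup of a finite group lies in the Fitting subgroup. -/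
theorem subnormal_nilpotent_le_fitting {G : Type*} [Group G] [Finite G] {K : Subgroup G}
    (hK : K.IsSubnormal) (hnil : Group.IsNilpotent K) : K ≤ fittingSubgroup G :=
  subnormal_nilpotent_le_fitting_aux _ G rfl K hK hnil

/-- A group whose derived subgroup is central is nilpotent. -/
theorem isNilpotent_of_commutator_le_center {K : Type*} [Group K]
    (h : _root_.commutator K ≤ center K) : Group.IsNilpotent K := by
  rw [Subgroup.nilpotent_iff_lowerCentralSeries]
  refine ⟨2, Subgroup.lowerCentralSeries_succ_eq_bot ⊤ (n := 1) ?_⟩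
  rwa [top_lowerCentralSeries_one]

/-- A subnormal subgroup centralizing `F*(G)` lies in `F*(G)`. -/
theorem le_genFitting_of_le_centralizer {G : Type*} [Group G] [Finite G] {C : Subgroup G}
    (hC : C.IsSubnormal) (hc : C ≤ centralizer (generalizedFittingSubgroup G : Set G)) :
    C ≤ generalizedFittingSubgroup G := by
  by_contra hcon
  obtain ⟨K, hKmin⟩ : ∃ K : Subgroup G, Minimal
      (fun K : Subgroup G => K.IsSubnormal ∧ K ≤ C ∧ ¬ K ≤ generalizedFittingSubgroup G) K := by
    have hfin : (Set.univ : Set (Subgroup G)).Finite := Set.toFinite _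
    have := Set.Finite.exists_le_minimal
      (s := {K : Subgroup G | K.IsSubnormal ∧ K ≤ C ∧ ¬ K ≤ generalizedFittingSubgroup G})
      (Set.toFinite _) (a := C) ⟨hC, le_rfl, hcon⟩
    obtain ⟨K, _, hK⟩ := this
    exact ⟨K, hK⟩
  obtain ⟨⟨hKs, hKC, hKF⟩, hmin⟩ := hKmin
  -- proper normal subgroups of `K` are central
  have key : ∀ N : Subgroup K, N.Normal → N ≠ ⊤ → N ≤ center K := by
    intro N hN hNt
    have h1 : (N.map K.subtype).IsSubnormal := hN.isSubnormal.trans' hKs
    have h2 : N.map K.subtype ≤ K := map_subtype_le N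
    have h3 : N.map K.subtype ≤ generalizedFittingSubgroup G := by
      by_contra h4
      have h5 : K ≤ N.map K.subtype := hmin ⟨h1, h2.trans hKC, h4⟩ h2
      apply hNt
      rw [eq_top_iff]
      intro x _
      obtain ⟨y, hy, hyx⟩ := h5 x.2
      have : y = x := Subtype.ext hyx
      rwa [← this]
    intro x hx
    rw [mem_center_iff]
    intro g
    apply Subtype.ext
    have h6 : (g : G) ∈ centralizer (generalizedFittingSubgroup G : Set G) := hc (hKC g.2)
    exact (mem_centralizer_iff.mp h6 (x : G) (h3 ⟨x, hx, rfl⟩)).symm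
  by_cases hperf : _root_.commutator K = ⊤
  · -- `K` is a component
    have hKne : center K ≠ ⊤ := by
      intro h
      have h1 : _root_.commutator K = ⊥ := by
        rw [_root_.commutator_def, commutator_eq_bot_iff_le_centralizer]
        rw [coe_top, centralizer_univ, h]
      have h2 : (⊥ : Subgroup K) = ⊤ := h1.symm.trans hperf
      apply hKF
      intro x hx
      have h3 : (⟨x, hx⟩ : K) ∈ (⊥ : Subgroup K) := by rw [h2]; trivial
      rw [mem_bot] at h3
      have h4 : x = 1 := congrArg Subtype.val h3
      rw [h4]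
      exact one_mem _
    have hq : IsQuasisimple K := by
      refine ⟨⟨hperf⟩, ?_⟩
      have : Nontrivial (K ⧸ center K) := by
        rw [← not_subsingleton_iff_nontrivial, QuotientGroup.subsingleton_iff]
        exact hKne
      refine ⟨fun N hN => ?_⟩
      by_cases h : N.comap (QuotientGroup.mk' (center K)) = ⊤
      · right
        have := congrArg (Subgroup.map (QuotientGroup.mk' (center K))) h
        rwa [map_comap_eq_self_of_surjective (QuotientGroup.mk'_surjective _),
          map_top_of_surjective _ (QuotientGroup.mk'_surjective _)] at this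
      · left
        have h1 := key _ (hN.comap _) h
        have h2 : (N.comap (QuotientGroup.mk' (center K))).map (QuotientGroup.mk' (center K)) = ⊥ := by
          rw [Subgroup.map_eq_bot_iff, QuotientGroup.ker_mk']
          exact h1
        rwa [map_comap_eq_self_of_surjective (QuotientGroup.mk'_surjective _)] at h2
    have h1 : K ≤ layer G := le_sSup ⟨hKs, hq⟩
    exact hKF (h1.trans le_sup_left)
  · have h1 := key _ inferInstance hperf
    have h2 := isNilpotent_of_commutator_le_center h1
    exact hKF ((subnormal_nilpotent_le_fitting hKs h2).trans le_sup_right)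

/-- `F*(G) = O_p(G)` implies `C_G(O_p(G)) ≤ O_p(G)`. -/
theorem centralizer_pCore_le_of_genFitting_eq {G : Type*} [Group G] [Finite G] {p : ℕ}
    (h : generalizedFittingSubgroup G = pCore p G) :
    centralizer (pCore p G : Set G) ≤ pCore p G := by
  have := le_genFitting_of_le_centralizer (G := G) (C := centralizer (pCore p G : Set G))
    (Subgroup.Normal.isSubnormal inferInstance) (by rw [h])
  rwa [h] at this

/-- `F*(G) = O_p(G)` if and only if `C_G(O_p(G)) ≤ O_p(G)`. -/
theorem genFitting_eq_pCore_iff {G : Type*} [Group G] [Finite G] {p : ℕ} [Fact p.Prime] :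
    generalizedFittingSubgroup G = pCore p G ↔ centralizer (pCore p G : Set G) ≤ pCore p G :=
  ⟨centralizer_pCore_le_of_genFitting_eq, fun h =>
    FStarPCore.generalizedFitting_eq_pCore_of_centralizer_le (Lib.Cores.pCore_normal p)
      (pCore_isPGroup p) h⟩

/-- A normal subgroup all of whose `p'`-elements are trivial lies in `O_p`. -/
theorem le_pCore_of_forall {H : Type*} [Group H] [Finite H] {p : ℕ} [hp : Fact p.Prime]
    {C : Subgroup H} (hC : C.Normal) (h : ∀ x ∈ C, (orderOf x).Coprime p → x = 1) :
    C ≤ pCore p H := by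
  refine le_pCore hC ?_
  rintro ⟨x, hx⟩
  obtain ⟨n, m, hm, hnm⟩ := Nat.exists_eq_pow_mul_and_not_dvd (orderOf_pos x).ne' p hp.out.ne_one
  refine ⟨n, ?_⟩
  apply Subtype.ext
  have h1 : orderOf (x ^ p ^ n) = m := by
    rw [orderOf_pow_of_dvd (pow_ne_zero _ hp.out.ne_zero) ⟨m, hnm⟩, hnm,
      Nat.mul_div_cancel_left _ (pow_pos hp.out.pos n)]
  refine h (x ^ p ^ n) (pow_mem hx _) ?_
  rw [h1]
  exact ((Nat.Prime.coprime_iff_not_dvd hp.out).mpr hm).symm

/-- Inheritance of characteristic `p` by a `p`-local subgroup `N_G(T)`: it is enough to have a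
`p`-subgroup `R` and a subgroup `X` containing `T` and `C_G(T)` with `X ≤ N_G(R)` and
`C_X(R) ≤ R`. -/
theorem charP_normalizer {G : Type*} [Group G] [Finite G] {p : ℕ} [hp : Fact p.Prime]
    {R X T : Subgroup G} (hR : IsPGroup p R) (hX : X ≤ normalizer (R : Set G))
    (hRX : X ⊓ centralizer (R : Set G) ≤ R) (hT : IsPGroup p T) (hTX : T ≤ X)
    (hCX : centralizer (T : Set G) ≤ X) :
    centralizer (pCore p (normalizer (T : Set G)) : Set (normalizer (T : Set G))) ≤
      pCore p (normalizer (T : Set G)) := by
  refine le_pCore_of_forall inferInstance ?_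
  rintro ⟨x, hxH⟩ hx hxo
  apply Subtype.ext
  rw [Subgroup.orderOf_mk] at hxo
  change x = 1
  -- `x` commutes with all elements of `O_p(H)`
  have hcomm : ∀ y : G, ∀ hy : y ∈ normalizer (T : Set G),
      (⟨y, hy⟩ : normalizer (T : Set G)) ∈ pCore p (normalizer (T : Set G)) → y * x = x * y := by
    intro y hy hy2
    exact congrArg Subtype.val (mem_centralizer_iff.mp hx _ hy2)
  have hTH : T ≤ normalizer (T : Set G) := le_normalizer
  -- `x` centralizes `T`
  have hxT : x ∈ centralizer (T : Set G) := by
    rw [mem_centralizer_iff]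
    intro y hy
    refine hcomm y (hTH hy) ?_
    have h1 : T.subgroupOf (normalizer (T : Set G)) ≤ pCore p (normalizer (T : Set G)) := by
      refine le_pCore inferInstance ?_
      exact hT.comap_subtype
    exact h1 (mem_subgroupOf.mpr hy)
  have hCH : centralizer (T : Set G) ≤ normalizer (T : Set G) := centralizer_le_normalizer _
  -- `x` centralizes `C_R(T)`
  have hxR : R ⊓ centralizer (T : Set G) ≤ centralizer (zpowers x : Set G) := by
    intro y hy
    have hy2 : (⟨y, hCH hy.2⟩ : normalizer (T : Set G)) ∈ pCore p (normalizer (T : Set G)) := by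
      set C := (centralizer (T : Set G)).subgroupOf (normalizer (T : Set G)) with hC
      have hCn : C.Normal := inferInstance
      have h1 := map_subtype_pCore p hCn
      have h2 : ((R.subgroupOf (normalizer (T : Set G))).subgroupOf C) ≤ pCore p C := by
        refine le_pCore ?_ ?_
        · constructor
          intro n hn g
          rw [mem_subgroupOf, mem_subgroupOf] at hn ⊢
          have hgX : ((g : normalizer (T : Set G)) : G) ∈ X := hCX (mem_subgroupOf.mp g.2)
          exact (mem_normalizer_iff.mp (hX hgX) _).mp hn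
        · exact hR.comap_subtype.comap_subtype
      have h3 : (⟨⟨y, hCH hy.2⟩, mem_subgroupOf.mpr hy.2⟩ : C) ∈ pCore p C :=
        h2 (mem_subgroupOf.mpr (mem_subgroupOf.mpr hy.1))
      have h4 : (⟨y, hCH hy.2⟩ : normalizer (T : Set G)) ∈ (pCore p C).map C.subtype := ⟨_, h3, rfl⟩
      rw [h1] at h4
      exact h4.2
    have h5 : Commute y x := hcomm y _ hy2
    rw [mem_centralizer_iff]
    rintro z ⟨k, rfl⟩
    exact (h5.zpow_right k).eq.symm
  have hcard : Nat.card (zpowers x) = orderOf x := Nat.card_zpowers x
  have hxX : x ∈ X := hCX hxT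
  have hPQ := Lib.ThompsonPQ.thompson_p_times_q p T (zpowers x) R hT (by rwa [hcard]) hR
    (by
      intro y hy
      rw [mem_centralizer_iff]
      rintro z ⟨k, rfl⟩
      have h5 : Commute y x := (mem_centralizer_iff.mp hxT y hy)
      exact (h5.zpow_right k).eq.symm)
    (hTX.trans hX) ((zpowers_le.mpr hxX).trans hX) hxR
  have hxR2 : x ∈ R := hRX ⟨hxX, hPQ (mem_zpowers x)⟩
  obtain ⟨k, hk⟩ := hR ⟨x, hxR2⟩
  have hk2 : x ^ p ^ k = 1 := congrArg Subtype.val hk
  have h6 : orderOf x ∣ p ^ k := orderOf_dvd_of_pow_eq_one hk2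
  have h7 : orderOf x = 1 := Nat.Coprime.eq_one_of_dvd (hxo.pow_right k) h6
  exact orderOf_eq_one_iff.mp h7

end Cfsg.Agent.SignalizersComponents.CharP
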