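import Cfsg.Prelude.Def_Local
import Cfsg.Agent.Lib.Cores
import Cfsg.Agent.SignalizersComponents.ComponentExists
import Cfsg.Agent.SignalizersComponents.FStarPCore

/-!
# `p`-constraint and the `p`-layer in terms of the quotient by `O_{p'}(G)`
-/

set_option autoImplicit false

namespace Cfsg.Agent.SignalizersComponents.PConstrained

open Cfsg
open Cfsg.Agent.Lib.Cores
open Cfsg.Agent.SignalizersComponents.ComponentExists

section

variable {G : Type*} [Group G] [Finite G]

/-- If `O_{p'}(G) = 1` then `F(G) = O_p(G)`. -/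
theorem fittingSubgroup_eq_pCore_of_pPrimeCore_eq_bot (p : ℕ) [hp : Fact p.Prime]
    (h : pPrimeCore p G = ⊥) : fittingSubgroup G = pCore p G := by
  apply le_antisymm _ (pCore_le_fittingSubgroup p)
  rw [fittingSubgroup_eq_iSup_pCore]
  refine iSup_le fun r => ?_
  by_cases hr : (r : ℕ) = p
  · rw [hr]
  · have hrp : Fact (r : ℕ).Prime := ⟨r.2⟩
    have h1 : pCore (r : ℕ) G ≤ pPrimeCore p G := by
      apply le_pPrimeCore (Cfsg.Agent.Lib.Cores.pCore_normal (r : ℕ))
      obtain ⟨n, hn⟩ := IsPGroup.iff_card.mp (pCore_isPGroup (G := G) (r : ℕ))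
      rw [hn]
      exact Nat.Coprime.pow_left n ((Nat.coprime_primes r.2 hp.out).2 hr)
    rw [h, le_bot_iff] at h1
    rw [h1]
    exact bot_le

/-- If `O_{p'}(G) = 1`, then `C_G(O_p(G)) ≤ O_p(G)` if and only if `G` has trivial layer. -/
theorem centralizer_pCore_le_iff_layer_eq_bot (p : ℕ) [hp : Fact p.Prime]
    (h : pPrimeCore p G = ⊥) :
    Subgroup.centralizer (pCore p G : Set G) ≤ pCore p G ↔ layer G = ⊥ := by
  constructor
  · intro h1
    have := pCore_isNilpotent (G := G) p
    exact Cfsg.Agent.SignalizersComponents.FStarPCore.layer_eq_bot_of_centralizer_le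
      (Cfsg.Agent.Lib.Cores.pCore_normal p) inferInstance h1
  · intro h1
    have h2 := centralizer_fitting_le_of_layer_eq_bot h1
    rwa [fittingSubgroup_eq_pCore_of_pPrimeCore_eq_bot p h] at h2

omit [Finite G] in
theorem map_mk_pPrimePCore (p : ℕ) :
    (pPrimePCore p G).map (QuotientGroup.mk' (pPrimeCore p G)) =
      pCore p (G ⧸ pPrimeCore p G) :=
  Subgroup.map_comap_eq_self_of_surjective (QuotientGroup.mk'_surjective _) _

omit [Finite G] in
theorem pPrimePCore_def (p : ℕ) :
    pPrimePCore p G =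
      (pCore p (G ⧸ pPrimeCore p G)).comap (QuotientGroup.mk' (pPrimeCore p G)) := rfl

omit [Finite G] in
theorem pPrimeCore_le_pPrimePCore (p : ℕ) : pPrimeCore p G ≤ pPrimePCore p G := by
  intro x hx
  rw [pPrimePCore_def, Subgroup.mem_comap]
  have : QuotientGroup.mk' (pPrimeCore p G) x = 1 := by
    rwa [QuotientGroup.mk'_apply, QuotientGroup.eq_one_iff]
  rw [this]
  exact one_mem _

omit [Finite G] in
theorem pPrimePCore_normal (p : ℕ) : (pPrimePCore p G).Normal := by
  rw [pPrimePCore_def]
  infer_instance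

/-- A Sylow `p`-subgroup of `O_{p',p}(G)` maps onto `O_p(G/O_{p'}(G))`. -/
theorem map_sylow_pPrimePCore (p : ℕ) [hp : Fact p.Prime] (P : Sylow p ↥(pPrimePCore p G)) :
    ((P : Subgroup ↥(pPrimePCore p G)).map (pPrimePCore p G).subtype).map
      (QuotientGroup.mk' (pPrimeCore p G)) = pCore p (G ⧸ pPrimeCore p G) := by
  set π := QuotientGroup.mk' (pPrimeCore p G) with hπ
  have hMπ : (pPrimePCore p G).map π = pCore p (G ⧸ pPrimeCore p G) := map_mk_pPrimePCore p
  have hsurj : Function.Surjective (π.subgroupMap (pPrimePCore p G)) :=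
    π.subgroupMap_surjective (pPrimePCore p G)
  have hpg : IsPGroup p ((pPrimePCore p G).map π) := by
    rw [hMπ]
    exact pCore_isPGroup p
  have htop : (P.mapSurjective hsurj : Subgroup ↥((pPrimePCore p G).map π)) = ⊤ := by
    have h1 : IsPGroup p (⊤ : Subgroup ↥((pPrimePCore p G).map π)) :=
      hpg.of_equiv Subgroup.topEquiv.symm
    exact ((P.mapSurjective hsurj).is_maximal' h1 le_top).symm
  have h2 : (P.mapSurjective hsurj : Subgroup ↥((pPrimePCore p G).map π)) =
      (P : Subgroup ↥(pPrimePCore p G)).map (π.subgroupMap (pPrimePCore p G)) :=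
    Sylow.coe_mapSurjective hsurj P
  have h3 : ((P : Subgroup ↥(pPrimePCore p G)).map (π.subgroupMap (pPrimePCore p G))).map
      ((pPrimePCore p G).map π).subtype = (pPrimePCore p G).map π := by
    rw [← h2, htop, ← MonoidHom.range_eq_map, Subgroup.range_subtype]
  rw [← hMπ]
  conv_rhs => rw [← h3]
  rw [Subgroup.map_map, Subgroup.map_map]
  rfl

/-- `G` is `p`-constrained if and only if in `Q = G/O_{p'}(G)` one has `C_Q(O_p(Q)) ≤ O_p(Q)`. -/
theorem isPConstrained_iff_quotient (p : ℕ) [hp : Fact p.Prime] :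
    IsPConstrained p G ↔
      Subgroup.centralizer (pCore p (G ⧸ pPrimeCore p G) : Set (G ⧸ pPrimeCore p G)) ≤
        pCore p (G ⧸ pPrimeCore p G) := by
  set π := QuotientGroup.mk' (pPrimeCore p G) with hπ
  set M := pPrimePCore p G with hM
  have hMn : M.Normal := pPrimePCore_normal p
  constructor
  · intro h q hq
    obtain ⟨P⟩ := (inferInstance : Nonempty (Sylow p ↥M))
    have hPmap := map_sylow_pPrimePCore p P
    set P' : Subgroup G := (P : Subgroup M).map M.subtype with hP'
    have hP'M : P' ≤ M := Subgroup.map_subtype_le _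
    have hP'p : IsPGroup p P' := P.isPGroup'.map _
    -- the Frattini argument
    have hfrat : Subgroup.normalizer (P' : Set G) ⊔ M = ⊤ := Sylow.normalizer_sup_eq_top P
    have hMle : M ≤ P' ⊔ pPrimeCore p G := by
      have h1 : M.map π ≤ P'.map π := by
        rw [hPmap, hM, map_mk_pPrimePCore]
      rw [Subgroup.map_le_iff_le_comap, Subgroup.comap_map_eq, hπ, QuotientGroup.ker_mk'] at h1
      exact h1
    have htop : Subgroup.normalizer (P' : Set G) ⊔ pPrimeCore p G = ⊤ := by
      rw [eq_top_iff, ← hfrat]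
      refine sup_le le_sup_left (hMle.trans (sup_le ?_ le_sup_right))
      exact Subgroup.le_normalizer.trans le_sup_left
    obtain ⟨x, rfl⟩ := QuotientGroup.mk'_surjective (pPrimeCore p G) q
    have hx : x ∈ Subgroup.normalizer (P' : Set G) ⊔ pPrimeCore p G := by
      rw [htop]
      trivial
    obtain ⟨g, hg, n, hn, rfl⟩ := Subgroup.mem_sup_of_normal_right.1 hx
    have hπn : π n = 1 := by
      rw [hπ, QuotientGroup.mk'_apply, QuotientGroup.eq_one_iff]
      exact hn
    have hgn : π (g * n) = π g := by rw [map_mul, hπn, mul_one]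
    rw [← hπ, hgn] at hq ⊢
    have hgC : g ∈ Subgroup.centralizer (P' : Set G) := by
      rw [Subgroup.mem_centralizer_iff]
      intro y hy
      have hy1 : π y ∈ pCore p (G ⧸ pPrimeCore p G) := by
        rw [← hPmap]
        exact ⟨y, hy, rfl⟩
      have h1 : π y * π g = π g * π y := (Subgroup.mem_centralizer_iff.1 hq) _ hy1
      have h2 : g * y * g⁻¹ * y⁻¹ ∈ pPrimeCore p G := by
        rw [← QuotientGroup.eq_one_iff]
        change π (g * y * g⁻¹ * y⁻¹) = 1
        rw [map_mul, map_mul, map_mul, map_inv, map_inv, ← h1]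
        group
      have h3 : g * y * g⁻¹ * y⁻¹ ∈ P' :=
        mul_mem ((Subgroup.mem_normalizer_iff.1 hg y).1 hy) (inv_mem hy)
      have h4 : Disjoint P' (pPrimeCore p G) := by
        apply Subgroup.disjoint_of_coprime_natCard
        obtain ⟨m, hm⟩ := IsPGroup.iff_card.mp hP'p
        rw [hm]
        exact (Nat.Coprime.pow_right m (pPrimeCore_coprime p)).symm
      have h5 : g * y * g⁻¹ * y⁻¹ = 1 := by
        have := h4.le_bot ⟨h3, h2⟩
        simpa using this
      have h6 : g * y = y * g := by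
        calc g * y = (g * y * g⁻¹ * y⁻¹) * (y * g) := by group
          _ = y * g := by rw [h5, one_mul]
      exact h6.symm
    have hgM : g ∈ M := h P hgC
    rw [← map_mk_pPrimePCore]
    exact ⟨g, hgM, rfl⟩
  · intro h P
    have hPmap := map_sylow_pPrimePCore p P
    intro g hg
    rw [pPrimePCore_def, Subgroup.mem_comap]
    apply h
    rw [Subgroup.mem_centralizer_iff]
    intro q hq
    have hq' : q ∈ pCore p (G ⧸ pPrimeCore p G) := hq
    rw [← hPmap] at hq'
    obtain ⟨y, hy, rfl⟩ := hq'
    rw [← map_mul, ← map_mul, (Subgroup.mem_centralizer_iff.1 hg) y hy]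

/-- A `p`-component exists over every component of `G/O_{p'}(G)`. -/
theorem exists_isPComponent_map_eq (p : ℕ) {K : Subgroup (G ⧸ pPrimeCore p G)}
    (hK : IsComponent K) :
    ∃ L : Subgroup G, IsPComponent p L ∧ L.map (QuotientGroup.mk' (pPrimeCore p G)) = K := by
  obtain ⟨L, hL⟩ := Set.Finite.exists_minimal
    (s := {L : Subgroup G | L.IsSubnormal ∧
      L.map (QuotientGroup.mk' (pPrimeCore p G)) = K}) (Set.toFinite _)
    ⟨K.comap (QuotientGroup.mk' (pPrimeCore p G)), hK.1.comap _,
      Subgroup.map_comap_eq_self_of_surjective (QuotientGroup.mk'_surjective _) _⟩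
  refine ⟨L, ⟨hL.prop.1, ?_, ?_⟩, hL.prop.2⟩
  · rw [hL.prop.2]
    exact hK
  · intro H hH hHL hmap
    exact le_antisymm hHL (hL.le_of_le ⟨hH, hmap.trans hL.prop.2⟩ hHL)

/-- The `p`-layer of `G` is trivial if and only if the layer of `G/O_{p'}(G)` is trivial. -/
theorem pLayer_eq_bot_iff (p : ℕ) :
    pLayer p G = ⊥ ↔ layer (G ⧸ pPrimeCore p G) = ⊥ := by
  rw [layer_eq_bot_iff]
  constructor
  · intro h K hK
    obtain ⟨L, hL, hLK⟩ := exists_isPComponent_map_eq p hK
    have h1 : L ≤ pLayer p G := le_sSup hL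
    rw [h, le_bot_iff] at h1
    rw [h1, Subgroup.map_bot] at hLK
    rw [← hLK] at hK
    exact not_isComponent_of_isSolvable inferInstance hK
  · intro h
    apply le_antisymm _ bot_le
    exact sSup_le (fun L hL => absurd hL.2.1 (h _))

/-- A finite group is `p`-constrained if and only if its `p`-layer is trivial. -/
theorem isPConstrained_iff_pLayer_eq_bot (p : ℕ) [hp : Fact p.Prime] :
    IsPConstrained p G ↔ pLayer p G = ⊥ := by
  rw [isPConstrained_iff_quotient, pLayer_eq_bot_iff,
    centralizer_pCore_le_iff_layer_eq_bot p (pPrimeCore_quotient_pPrimeCore p)]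

end

end Cfsg.Agent.SignalizersComponents.PConstrained
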