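import Mathlib
import Cfsg.Prelude.Def_Involutions
import Cfsg.Agent.TwoFusion.StronglyEmbeddedBasic

/-!
# Bender's counting for strongly embedded subgroups

`H` strongly embedded in the finite group `G`, acting on the cosets `G ⧸ H`. For any two points
`x`, `y` the number of involutions moving `x` to `y` is the number `k` of involutions of `H`
(no use of the odd order theorem), and for `x ≠ y` the two-point stabilizer acts transitively by
conjugation on the involutions fixing `x`.
-/

set_option autoImplicit false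

namespace Cfsg.Agent.SignalizersComponents.BenderCount

open Cfsg Cfsg.Agent.TwoFusion.StronglyEmbeddedBasic

section Basic

variable {G : Type*} [Group G] {H : Subgroup G}

/-- The set of involutions moving `x` to `y`. -/
def invs (x y : G ⧸ H) : Set G := {v | orderOf v = 2 ∧ v • x = y}

theorem mem_invs {x y : G ⧸ H} {v : G} : v ∈ invs x y ↔ orderOf v = 2 ∧ v • x = y := Iff.rfl

theorem smul_of_mem_invs {x y : G ⧸ H} {v : G} (hv : v ∈ invs x y) : v • y = x := by
  rw [← hv.2, ← mul_smul, mul_self_of_orderOf hv.1, one_smul]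

/-- The key lemma: an element fixing `x` and `v • x ≠ x`, inverted by the involution `v` and
commuting with an involution fixing `x`, is trivial. -/
theorem eq_one_of_inverted [Finite G] (hH : IsStronglyEmbedded H) {x : G ⧸ H} {v r s : G}
    (hv : orderOf v = 2) (hvx : v • x ≠ x) (hrx : r • x = x) (hry : r • (v • x) = v • x)
    (hvr : v * r = r⁻¹ * v) (hs : orderOf s = 2) (hsx : s • x = x) (hsr : Commute s r) :
    r = 1 := by
  obtain ⟨z, hz⟩ := exists_smul_eq hH hv
  have hxz : x ≠ z := by
    rintro rfl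
    exact hvx hz
  obtain ⟨j, hj, -, hjs, -⟩ := exists_swap s v hs hv (odd_orderOf_mul_of_smul hH hs hv hxz hsx hz)
  have key : ∀ g ∈ Subgroup.closure ({s, v} : Set G), SemiconjBy g r r ∨ SemiconjBy g r r⁻¹ := by
    intro g hg
    induction hg using Subgroup.closure_induction with
    | mem g hg =>
      rcases hg with rfl | hg
      · left; exact hsr
      · right
        rw [Set.mem_singleton_iff] at hg
        rw [hg]; exact hvr
    | one => left; exact SemiconjBy.one_left r
    | mul a b _ _ ha hb =>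
      rcases ha with ha | ha <;> rcases hb with hb | hb
      · left; exact ha.mul_left hb
      · right; exact SemiconjBy.mul_left (SemiconjBy.inv_right ha) hb
      · right; exact ha.mul_left hb
      · left
        have := SemiconjBy.mul_left (SemiconjBy.inv_right ha) hb
        rwa [inv_inv] at this
    | inv a _ ha =>
      rcases ha with ha | ha
      · left; exact SemiconjBy.inv_symm_left ha
      · right
        have := SemiconjBy.inv_right (SemiconjBy.inv_symm_left ha)
        rwa [inv_inv] at this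
  have hvr' : Commute v r := by
    have h1 : Commute (j * s * j⁻¹) (j * r * j⁻¹) := by
      show j * s * j⁻¹ * (j * r * j⁻¹) = j * r * j⁻¹ * (j * s * j⁻¹)
      have e1 : j * s * j⁻¹ * (j * r * j⁻¹) = j * (s * r) * j⁻¹ := by group
      have e2 : j * r * j⁻¹ * (j * s * j⁻¹) = j * (r * s) * j⁻¹ := by group
      rw [e1, e2, hsr.eq]
    rw [hjs] at h1
    rcases key j hj with h | h
    · have : j * r * j⁻¹ = r := by rw [h.eq]; group
      rwa [this] at h1
    · have : j * r * j⁻¹ = r⁻¹ := by rw [h.eq]; group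
      rw [this] at h1
      simpa using h1
  have hrr : r * r = 1 := by
    have h1 : r * v = r⁻¹ * v := by rw [← hvr, hvr'.eq]
    have h2 : r = r⁻¹ := mul_right_cancel h1
    nth_rewrite 1 [h2]; simp
  by_contra hr1
  have h2 : orderOf r = 2 := orderOf_eq_two_of_mul_self hrr hr1
  exact hvx (eq_of_smul_eq hH h2 hry hrx)

/-- The two-point stabilizers have odd order. -/
theorem odd_of_fixes_two [Finite G] (hH : IsStronglyEmbedded H) {x y : G ⧸ H} (hxy : x ≠ y)
    (D : Subgroup G) (hD : ∀ d ∈ D, d • x = x ∧ d • y = y) : Odd (Nat.card D) := by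
  by_contra hodd
  rw [Nat.not_odd_iff_even] at hodd
  obtain ⟨⟨t, ht⟩, h2⟩ := exists_prime_orderOf_dvd_card' (G := D) 2 (even_iff_two_dvd.mp hodd)
  rw [Subgroup.orderOf_mk] at h2
  exact hxy (eq_of_smul_eq hH h2 (hD t ht).1 (hD t ht).2)

/-- The map `w ↦ (v w) s (v w)⁻¹` from the involutions moving `x` to `y` into the involutions
fixing `x`. -/
theorem conj_mem_invs [Finite G] {x y : G ⧸ H} {v w s : G} (hv : v ∈ invs x y)
    (hw : w ∈ invs x y) (hs : s ∈ invs x x) : (v * w) * s * (v * w)⁻¹ ∈ invs x x := by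
  refine ⟨?_, ?_⟩
  · rw [orderOf_conj]; exact hs.1
  · have h1 : (v * w) • x = x := by rw [mul_smul, hw.2, smul_of_mem_invs hv]
    have h2 : (v * w)⁻¹ • x = x := by rw [inv_smul_eq_iff, h1]
    rw [mul_smul, mul_smul, h2, hs.2, h1]

theorem conj_injOn [Finite G] (hH : IsStronglyEmbedded H) {x y : G ⧸ H} (hxy : x ≠ y) {v s : G}
    (hv : v ∈ invs x y) (hs : s ∈ invs x x) :
    Set.InjOn (fun w => (v * w) * s * (v * w)⁻¹) (invs x y) := by
  intro w hw w' hw' h
  simp only at h
  -- `r = w' * w`
  have hwi := inv_eq_self_of_orderOf hw.1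
  have hwi' := inv_eq_self_of_orderOf hw'.1
  have hvi := inv_eq_self_of_orderOf hv.1
  have hcomm : Commute s (w' * w) := by
    have h2 : (v * w) * s * (v * w)⁻¹ * (v * w') = (v * w') * s := by rw [h]; group
    have h3 : w' * w * s = s * (w' * w) := by
      have e1 : (v * w')⁻¹ * ((v * w) * s * (v * w)⁻¹ * (v * w')) = w'⁻¹ * w * s * (w⁻¹ * w') := by
        group
      have e2 : (v * w')⁻¹ * ((v * w') * s) = s := by group
      rw [h2, e2] at e1
      have e3 : s * (w'⁻¹ * w) = w'⁻¹ * w * s := by
        calc s * (w'⁻¹ * w) = w'⁻¹ * w * s * (w⁻¹ * w') * (w'⁻¹ * w) := by rw [← e1]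
          _ = w'⁻¹ * w * s := by group
      rw [hwi'] at e3
      exact e3.symm
    exact h3.symm
  have hr1 : w' * w = 1 := by
    refine eq_one_of_inverted hH (x := x) (v := w) (s := s) hw.1 ?_ ?_ ?_ ?_ hs.1 hs.2 hcomm
    · rw [hw.2]; exact hxy.symm
    · rw [mul_smul, hw.2, smul_of_mem_invs hw']
    · rw [hw.2, mul_smul, smul_of_mem_invs hw, hw'.2]
    · rw [mul_inv_rev, hwi, hwi']; group
  have h3 : w = w'⁻¹ := eq_inv_of_mul_eq_one_right hr1
  rw [h3, hwi']

theorem invs_finite [Finite G] (x y : G ⧸ H) : (invs x y).Finite := Set.toFinite _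

/-- The number of involutions fixing a point. -/
theorem ncard_invs_self_eq [Finite G] (x y : G ⧸ H) : (invs x x).ncard = (invs y y).ncard := by
  obtain ⟨g, hg⟩ := MulAction.exists_smul_eq G x y
  have : invs y y = (fun v => g * v * g⁻¹) '' invs x x := by
    ext v
    simp only [Set.mem_image, mem_invs]
    constructor
    · rintro ⟨h2, hv⟩
      refine ⟨g⁻¹ * v * g, ⟨?_, ?_⟩, by group⟩
      · have := orderOf_conj g⁻¹ v
        rw [inv_inv] at this; rw [this, h2]
      · rw [mul_smul, hg, mul_smul, hv, ← hg, inv_smul_smul]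
    · rintro ⟨w, ⟨h2, hw⟩, rfl⟩
      refine ⟨by rw [orderOf_conj, h2], ?_⟩
      rw [← hg, mul_smul, mul_smul, inv_smul_smul, hw]
  rw [this, Set.ncard_image_of_injective]
  intro a b h
  simpa using h

theorem exists_mem_invs_self [Finite G] (hH : IsStronglyEmbedded H) (x : G ⧸ H) :
    ∃ s, s ∈ invs x x := by
  obtain ⟨t, ht, h2⟩ := exists_involution hH
  have h1 : 0 < (invs ((1 : G) : G ⧸ H) ((1 : G) : G ⧸ H)).ncard := by
    rw [Set.ncard_pos]
    exact ⟨t, h2, (smul_one_eq_iff t).mpr ht⟩
  rw [ncard_invs_self_eq _ x, Set.ncard_pos] at h1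
  exact h1

theorem ncard_invs_le [Finite G] (hH : IsStronglyEmbedded H) {x y : G ⧸ H} (hxy : x ≠ y) :
    (invs x y).ncard ≤ (invs x x).ncard := by
  rcases (invs x y).eq_empty_or_nonempty with h | ⟨v, hv⟩
  · rw [h]; simp
  · obtain ⟨s, hs⟩ := exists_mem_invs_self hH x
    exact Set.ncard_le_ncard_of_injOn _ (fun w hw => conj_mem_invs hv hw hs)
      (conj_injOn hH hxy hv hs)

/-- Bender's counting theorem. -/
theorem ncard_invs_eq [Finite G] (hH : IsStronglyEmbedded H) (x y : G ⧸ H) :
    (invs x y).ncard = (invs x x).ncard := by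
  classical
  have : Fintype G := Fintype.ofFinite G
  have : Fintype (G ⧸ H) := Fintype.ofFinite _
  set k := (invs x x).ncard with hk
  -- the finset of all involutions
  let I : Finset G := Finset.univ.filter (fun v => orderOf v = 2)
  have h1 : I.card = ∑ y : G ⧸ H, (invs x y).ncard := by
    rw [Finset.card_eq_sum_card_fiberwise (f := fun v : G => v • x) (t := Finset.univ)
      (fun v _ => Finset.mem_coe.mpr (Finset.mem_univ _))]
    refine Finset.sum_congr rfl (fun y _ => ?_)
    rw [Set.ncard_eq_toFinset_card']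
    congr 1
    ext v
    simp [I, mem_invs]
  have h2 : I.card = ∑ z : G ⧸ H, (invs z z).ncard := by
    have hf : ∀ v : G, ∃ z : G ⧸ H, orderOf v = 2 → v • z = z := by
      intro v
      by_cases hv : orderOf v = 2
      · obtain ⟨z, hz⟩ := exists_smul_eq hH hv
        exact ⟨z, fun _ => hz⟩
      · exact ⟨x, fun h => absurd h hv⟩
    choose f hf using hf
    rw [Finset.card_eq_sum_card_fiberwise (f := f) (t := Finset.univ)
      (fun v _ => Finset.mem_coe.mpr (Finset.mem_univ _))]
    refine Finset.sum_congr rfl (fun z _ => ?_)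
    rw [Set.ncard_eq_toFinset_card']
    congr 1
    ext v
    simp only [I, Finset.mem_filter, Finset.mem_univ, true_and, Set.mem_toFinset, mem_invs]
    constructor
    · rintro ⟨hv, rfl⟩
      exact ⟨hv, hf v hv⟩
    · rintro ⟨hv, hz⟩
      exact ⟨hv, eq_of_smul_eq hH hv (hf v hv) hz⟩
  have h3 : ∑ z : G ⧸ H, (invs z z).ncard = ∑ z : G ⧸ H, k := by
    refine Finset.sum_congr rfl (fun z _ => ?_)
    rw [ncard_invs_self_eq z x]
  have h4 : ∑ y : G ⧸ H, (invs x y).ncard = ∑ z : G ⧸ H, k := by rw [← h1, h2, h3]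
  have h5 : ∀ y ∈ (Finset.univ : Finset (G ⧸ H)), (invs x y).ncard ≤ k := by
    intro y _
    by_cases hxy : x = y
    · rw [← hxy]
    · exact ncard_invs_le hH hxy
  exact (Finset.sum_eq_sum_iff_of_le h5).mp h4 y (Finset.mem_univ y)

/-- Any two points are swapped by an involution. -/
theorem exists_mem_invs [Finite G] (hH : IsStronglyEmbedded H) (x y : G ⧸ H) :
    ∃ v, v ∈ invs x y := by
  have h1 : 0 < (invs x x).ncard := by
    rw [Set.ncard_pos]; exact exists_mem_invs_self hH x
  rw [← ncard_invs_eq hH x y, Set.ncard_pos] at h1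
  exact h1

/-- For `x ≠ y` the two-point stabilizer is transitive by conjugation on the involutions
fixing `x`. -/
theorem exists_conj_of_fixes [Finite G] (hH : IsStronglyEmbedded H) {x y : G ⧸ H} (hxy : x ≠ y)
    {s s' : G} (hs : s ∈ invs x x) (hs' : s' ∈ invs x x) :
    ∃ d : G, d • x = x ∧ d • y = y ∧ d * s * d⁻¹ = s' := by
  obtain ⟨v, hv⟩ := exists_mem_invs hH x y
  have h1 : (fun w => (v * w) * s * (v * w)⁻¹) '' invs x y = invs x x := by
    refine Set.eq_of_subset_of_ncard_le ?_ ?_ (invs_finite x x)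
    · rintro _ ⟨w, hw, rfl⟩
      exact conj_mem_invs hv hw hs
    · rw [(conj_injOn hH hxy hv hs).ncard_image, ncard_invs_eq hH x y]
  rw [← h1] at hs'
  obtain ⟨w, hw, h⟩ := hs'
  refine ⟨v * w, ?_, ?_, h⟩
  · rw [mul_smul, hw.2, smul_of_mem_invs hv]
  · rw [mul_smul, smul_of_mem_invs hw, hv.2]

end Basic

end Cfsg.Agent.SignalizersComponents.BenderCount
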