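import Mathlib
import Cfsg.Prelude.Def_Involutions
import Cfsg.Agent.TwoFusion.StronglyEmbeddedBasic
import Cfsg.Agent.SignalizersComponents.BenderCount

/-!
# Perfect groups of automorphisms and strongly embedded subgroups

Let `H` be strongly embedded in the finite group `G`.

* `exists_two_point`: if `G` has two distinct commuting involutions, there are two points
  `x ≠ y` of `G ⧸ H` such that `x` and `y` are the only fixed points of the two-point
  stabilizer `D = G_x ∩ G_y` (for `D` of maximal order).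
* `eq_of_commute_of_perfect`: if a perfect group `A` acts on `G` with `C_G(A) = H`, then
  two commuting involutions of `G` are equal (`G` has 2-rank 1).
-/

set_option autoImplicit false

namespace Cfsg.Agent.SignalizersComponents.BenderPerfect

open Cfsg Cfsg.Agent.TwoFusion.StronglyEmbeddedBasic
open Cfsg.Agent.SignalizersComponents.BenderCount

variable {G : Type*} [Group G] {H : Subgroup G}

/-- The two-point stabilizer. -/
def stab2 (x y : G ⧸ H) : Subgroup G := MulAction.stabilizer G x ⊓ MulAction.stabilizer G y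

theorem mem_stab2 {x y : G ⧸ H} {g : G} : g ∈ stab2 x y ↔ g • x = x ∧ g • y = y := by
  simp [stab2, Subgroup.mem_inf, MulAction.mem_stabilizer_iff]

/-- The set of fixed points of a subgroup. -/
def fixp (H : Subgroup G) (D : Subgroup G) : Set (G ⧸ H) := {z | ∀ d ∈ D, d • z = z}

theorem mem_fixp {D : Subgroup G} {z : G ⧸ H} : z ∈ fixp H D ↔ ∀ d ∈ D, d • z = z := Iff.rfl

theorem stab2_conj_card [Finite G] (g : G) (x y : G ⧸ H) :
    Nat.card (stab2 (g • x) (g • y)) = Nat.card (stab2 x y) := by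
  have : stab2 (g • x) (g • y) = (stab2 x y).map (MulAut.conj g).toMonoidHom := by
    ext h
    rw [mem_stab2, Subgroup.mem_map]
    constructor
    · rintro ⟨h1, h2⟩
      refine ⟨g⁻¹ * h * g, ?_, by simp [mul_assoc]⟩
      rw [mem_stab2]
      constructor
      · rw [mul_smul, mul_smul, h1, inv_smul_smul]
      · rw [mul_smul, mul_smul, h2, inv_smul_smul]
    · rintro ⟨k, hk, rfl⟩
      rw [mem_stab2] at hk
      simp only [MulEquiv.coe_toMonoidHom, MulAut.conj_apply]
      constructor
      · rw [mul_smul, mul_smul, inv_smul_smul, hk.1]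
      · rw [mul_smul, mul_smul, inv_smul_smul, hk.2]
  rw [this]
  exact (Nat.card_congr ((stab2 x y).equivMapOfInjective _ (MulAut.conj g).injective).toEquiv).symm

/-- A pair of distinct points whose two-point stabilizer has maximal order. -/
def IsMaxPair (x y : G ⧸ H) : Prop :=
  x ≠ y ∧ ∀ z w : G ⧸ H, z ≠ w → Nat.card (stab2 z w) ≤ Nat.card (stab2 x y)

theorem exists_isMaxPair [Finite G] (hH : IsStronglyEmbedded H) (x : G ⧸ H) :
    ∃ y, IsMaxPair x y := by
  classical
  -- there is a second point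
  obtain ⟨y0, hy0⟩ : ∃ y0 : G ⧸ H, x ≠ y0 := by
    by_contra h
    push Not at h
    apply hH.1
    rw [Subgroup.eq_top_iff']
    intro g
    have h1 := h ((1 : G) : G ⧸ H)
    have h2 := h (g : G ⧸ H)
    rw [h1] at h2
    have := QuotientGroup.eq.mp h2
    simpa using this
  obtain ⟨y, hy, hmax⟩ := Set.exists_max_image {y : G ⧸ H | x ≠ y}
    (fun y => Nat.card (stab2 x y)) (Set.toFinite _) ⟨y0, hy0⟩
  refine ⟨y, hy, fun z w hzw => ?_⟩
  obtain ⟨g, hg⟩ := MulAction.exists_smul_eq G z x
  rw [← stab2_conj_card g z w, hg]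
  refine hmax (g • w) ?_
  intro h
  apply hzw
  rw [← hg] at h
  exact smul_left_cancel g h

theorem stab2_eq_of_mem_fixp [Finite G] {x y z w : G ⧸ H} (hxy : IsMaxPair x y) (hzw : z ≠ w)
    (hz : z ∈ fixp H (stab2 x y)) (hw : w ∈ fixp H (stab2 x y)) : stab2 z w = stab2 x y := by
  have hle : stab2 x y ≤ stab2 z w := by
    intro d hd
    rw [mem_stab2]
    exact ⟨hz d hd, hw d hd⟩
  exact (Subgroup.eq_of_le_of_card_ge hle (hxy.2 z w hzw)).symm

/-- An element moving two distinct fixed points of `D` to fixed points of `D` normalizes `D`. -/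
theorem conj_mem_of_fixp [Finite G] {x y z w : G ⧸ H} (hxy : IsMaxPair x y) (hzw : z ≠ w)
    (hz : z ∈ fixp H (stab2 x y)) (hw : w ∈ fixp H (stab2 x y)) {g : G}
    (hgz : g • z ∈ fixp H (stab2 x y)) (hgw : g • w ∈ fixp H (stab2 x y)) {d : G}
    (hd : d ∈ stab2 x y) : g * d * g⁻¹ ∈ stab2 x y := by
  have hne : g • z ≠ g • w := fun h => hzw (smul_left_cancel g h)
  rw [← stab2_eq_of_mem_fixp hxy hne hgz hgw, mem_stab2]
  constructor
  · rw [mul_smul, mul_smul, inv_smul_smul, hz d hd]
  · rw [mul_smul, mul_smul, inv_smul_smul, hw d hd]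

theorem smul_mem_fixp {D : Subgroup G} {g : G} (hg : ∀ d ∈ D, g⁻¹ * d * g ∈ D) {z : G ⧸ H}
    (hz : z ∈ fixp H D) : g • z ∈ fixp H D := by
  intro d hd
  have h1 := hz _ (hg d hd)
  rw [mul_smul, mul_smul, inv_smul_eq_iff] at h1
  exact h1


/-- Counting the elements without fixed points in a group acting transitively on the finite set
`F` with all two-point stabilizers equal to the kernel `D`. -/
theorem fpf_count {Ω : Type*} [Finite G] [MulAction G Ω] [DecidableEq Ω] (N D : Subgroup G)
    (F : Finset Ω) (hN : ∀ g ∈ N, ∀ z ∈ F, g • z ∈ F)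
    (htrans : ∀ z ∈ F, ∀ w ∈ F, ∃ t ∈ N, t • z = w) (hDN : D ≤ N)
    (hD : ∀ d ∈ D, ∀ z ∈ F, d • z = z)
    (h2 : ∀ g ∈ N, ∀ z ∈ F, ∀ w ∈ F, z ≠ w → g • z = z → g • w = w → g ∈ D) {x : Ω}
    (hx : x ∈ F) :
    {g : G | g ∈ N ∧ ∀ z ∈ F, g • z ≠ z}.ncard + Nat.card D = F.card * Nat.card D := by
  classical
  have : Fintype G := Fintype.ofFinite G
  let NN : Finset G := Finset.univ.filter (fun g => g ∈ N)
  have hmN : ∀ g, g ∈ NN ↔ g ∈ N := fun g => by simp [NN]
  -- first double counting
  have h1 : ∑ g ∈ NN, (F.filter (fun z => g • z = z)).card = NN.card := by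
    have e1 : ∑ g ∈ NN, (F.filter (fun z => g • z = z)).card =
        ∑ z ∈ F, (NN.filter (fun g => g • z = z)).card := by
      simp only [Finset.card_filter]
      exact Finset.sum_comm
    rw [e1, Finset.card_eq_sum_card_fiberwise (s := NN) (f := fun g : G => g • x) (t := F)
      (fun g hg => hN g ((hmN g).mp hg) x hx)]
    refine Finset.sum_congr rfl (fun z hz => ?_)
    obtain ⟨t, ht, htx⟩ := htrans x hx z hz
    refine Finset.card_nbij' (fun g => g * t) (fun g => g * t⁻¹) ?_ ?_ ?_ ?_
    · intro g hg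
      simp only [Finset.coe_filter, Set.mem_ofPred_eq, hmN] at hg ⊢
      refine ⟨mul_mem hg.1 ht, ?_⟩
      rw [mul_smul, htx, hg.2]
    · intro g hg
      simp only [Finset.coe_filter, Set.mem_ofPred_eq, hmN] at hg ⊢
      refine ⟨mul_mem hg.1 (inv_mem ht), ?_⟩
      rw [mul_smul]
      rw [inv_smul_eq_iff.mpr htx.symm, hg.2]
    · intro g _; simp
    · intro g _; simp
  -- pointwise identity
  have pt : ∀ g ∈ NN, (F.filter (fun z => g • z = z)).card +
      (if (∀ z ∈ F, g • z ≠ z) then 1 else 0) + (if g ∈ D then 1 else 0) =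
      1 + F.card * (if g ∈ D then 1 else 0) := by
    intro g hg
    have hgN := (hmN g).mp hg
    by_cases hgD : g ∈ D
    · have e1 : F.filter (fun z => g • z = z) = F :=
        Finset.filter_true_of_mem (fun z hz => hD g hgD z hz)
      have e2 : ¬ (∀ z ∈ F, g • z ≠ z) := fun h => h x hx (hD g hgD x hx)
      rw [e1, if_neg e2, if_pos hgD]; ring
    · rw [if_neg hgD]
      by_cases hz : ∀ z ∈ F, g • z ≠ z
      · have e1 : F.filter (fun z => g • z = z) = ∅ := Finset.filter_false_of_mem hz
        rw [e1, if_pos hz]; simp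
      · rw [if_neg hz]
        push Not at hz
        obtain ⟨z, hzF, hz⟩ := hz
        have e1 : F.filter (fun z => g • z = z) = {z} := by
          ext w
          simp only [Finset.mem_filter, Finset.mem_singleton]
          constructor
          · rintro ⟨hw, hgw⟩
            by_contra hne
            exact hgD (h2 g hgN w hw z hzF hne hgw hz)
          · rintro rfl
            exact ⟨hzF, hz⟩
        rw [e1]; simp
  have hs := Finset.sum_congr rfl pt
  rw [Finset.sum_add_distrib, Finset.sum_add_distrib, Finset.sum_add_distrib, ← Finset.mul_sum,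
    h1, ← Finset.card_filter, ← Finset.card_filter, Finset.sum_const, smul_eq_mul, mul_one] at hs
  have c1 : (NN.filter (fun g => g ∈ D)).card = Nat.card D := by
    rw [← Set.ncard_coe_finset, ← Nat.card_coe_set_eq]
    have : ((NN.filter (fun g => g ∈ D) : Finset G) : Set G) = (D : Set G) := by
      ext g
      simp only [Finset.coe_filter, Set.mem_ofPred_eq, hmN, SetLike.mem_coe]
      exact ⟨fun h => h.2, fun h => ⟨hDN h, h⟩⟩
    rw [this]; rfl
  have c2 : ∀ inst : DecidablePred (fun g : G => ∀ z ∈ F, g • z ≠ z),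
      (@Finset.filter G (fun g => ∀ z ∈ F, g • z ≠ z) inst NN).card =
      {g : G | g ∈ N ∧ ∀ z ∈ F, g • z ≠ z}.ncard := by
    intro inst
    rw [← Set.ncard_coe_finset]
    congr 1
    ext g
    simp only [Finset.coe_filter, Set.mem_ofPred_eq, hmN]
  rw [c1, c2] at hs
  omega

theorem mem_normalizer_of_involution {D : Subgroup G} {v : G} (hv : orderOf v = 2)
    (h : ∀ d ∈ D, v * d * v⁻¹ ∈ D) : v ∈ Subgroup.normalizer (D : Set G) := by
  rw [Subgroup.mem_normalizer_iff]
  intro g
  refine ⟨fun hg => h g hg, fun hg => ?_⟩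
  have h1 := h _ hg
  have hvi := inv_eq_self_of_orderOf hv
  have h2 : v * (v * g * v⁻¹) * v⁻¹ = g := by
    have e : v * (v * g * v⁻¹) * v⁻¹ = (v * v) * g * (v * v)⁻¹ := by group
    rw [e, mul_self_of_orderOf hv]; simp
  rwa [h2] at h1

theorem fixed_eq [Finite G] (hH : IsStronglyEmbedded H) {D : Subgroup G} {v w : G}
    (hv : orderOf v = 2) (hw : orderOf w = 2) (hsq : (v * w) * (v * w) ∈ D) (hn : v * w ∉ D)
    {a b : G ⧸ H} (ha : v • a = a) (hb : w • b = b) : a = b := by
  by_contra hab
  obtain ⟨k, hk⟩ := odd_orderOf_mul_of_smul hH hv hw hab ha hb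
  apply hn
  have h1 : v * w = ((v * w) * (v * w)) ^ (k + 1) := by
    rw [← pow_two, ← pow_mul]
    have h2 : 2 * (k + 1) = (2 * k + 1) + 1 := by ring
    rw [h2, pow_succ, ← hk, pow_orderOf_eq_one, one_mul]
  rw [h1]
  exact pow_mem hsq _

/-- If some involution normalizing the maximal two-point stabilizer `D` fixes a fixed point of
`D`, then commuting involutions are equal. -/
theorem eq_of_commute_of_fixp [Finite G] (hH : IsStronglyEmbedded H) {x y : G ⧸ H}
    (hxy : IsMaxPair x y) {v : G} {u : G ⧸ H} (hv : orderOf v = 2)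
    (hvD : ∀ d ∈ stab2 x y, v * d * v⁻¹ ∈ stab2 x y) (hu : u ∈ fixp H (stab2 x y))
    (hvu : v • u = u) {s t : G} (hs : orderOf s = 2) (ht : orderOf t = 2) (hst : Commute s t) :
    s = t := by
  have hx : x ∈ fixp H (stab2 x y) := fun d hd => (mem_stab2.mp hd).1
  have hy : y ∈ fixp H (stab2 x y) := fun d hd => (mem_stab2.mp hd).2
  -- a second point
  obtain ⟨z, hz, huz⟩ : ∃ z ∈ fixp H (stab2 x y), u ≠ z := by
    by_cases h : u = x
    · exact ⟨y, hy, by rw [h]; exact hxy.1⟩
    · exact ⟨x, hx, h⟩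
  have hDuz := stab2_eq_of_mem_fixp hxy huz hu hz
  -- involutions fixing `u` lie in `v D`
  have key : ∀ r : G, r ∈ invs u u → v * r ∈ stab2 x y := by
    intro r hr
    obtain ⟨d, hd1, hd2, hd⟩ := exists_conj_of_fixes hH huz (s := v) (s' := r) ⟨hv, hvu⟩ hr
    have hdD : d ∈ stab2 x y := by
      rw [← hDuz, mem_stab2]; exact ⟨hd1, hd2⟩
    have e : v * r = (v * d * v⁻¹) * d⁻¹ := by
      rw [← hd]
      have hvi := inv_eq_self_of_orderOf hv
      calc v * (d * v * d⁻¹) = v * d * v * d⁻¹ := by group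
        _ = v * d * v⁻¹ * d⁻¹ := by rw [hvi]
    rw [e]
    exact mul_mem (hvD d hdD) (inv_mem hdD)
  -- two commuting involutions fixing `u` are equal
  have key2 : ∀ a b : G, a ∈ invs u u → b ∈ invs u u → Commute a b → a = b := by
    intro a b ha hb hab
    have h1 : a * b ∈ stab2 x y := by
      have h2 := mul_mem (inv_mem (key a ha)) (key b hb)
      have h3 : (v * a)⁻¹ * (v * b) = a * b := by
        rw [mul_inv_rev, inv_eq_self_of_orderOf ha.1]; group
      rwa [h3] at h2
    by_contra hne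
    have h2 : (a * b) * (a * b) = 1 := by
      have : (a * b) * (a * b) = (a * a) * (b * b) := by
        calc (a * b) * (a * b) = a * (b * a) * b := by group
          _ = a * (a * b) * b := by rw [hab.eq]
          _ = (a * a) * (b * b) := by group
      rw [this, mul_self_of_orderOf ha.1, mul_self_of_orderOf hb.1, one_mul]
    have h3 : a * b ≠ 1 := by
      intro h
      apply hne
      have := eq_inv_of_mul_eq_one_left h
      rw [this, inv_eq_self_of_orderOf hb.1]
    have h4 : orderOf (a * b) = 2 := orderOf_eq_two_of_mul_self h2 h3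
    rw [mem_stab2] at h1
    exact hxy.1 (eq_of_smul_eq hH h4 h1.1 h1.2)
  -- move to `u`
  obtain ⟨p, hp⟩ := exists_smul_eq hH hs
  have hpt : t • p = p := by
    have h1 : s • (t • p) = t • p := by
      rw [← mul_smul, hst.eq, mul_smul, hp]
    exact eq_of_smul_eq hH hs h1 hp
  obtain ⟨g, hg⟩ := MulAction.exists_smul_eq G p u
  have hmem : ∀ r : G, orderOf r = 2 → r • p = p → g * r * g⁻¹ ∈ invs u u := by
    intro r hr hrp
    refine ⟨by rw [orderOf_conj, hr], ?_⟩
    rw [← hg, mul_smul, mul_smul, inv_smul_smul, hrp]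
  have h1 := key2 _ _ (hmem s hs hp) (hmem t ht hpt) (by
    show g * s * g⁻¹ * (g * t * g⁻¹) = g * t * g⁻¹ * (g * s * g⁻¹)
    have e1 : g * s * g⁻¹ * (g * t * g⁻¹) = g * (s * t) * g⁻¹ := by group
    have e2 : g * t * g⁻¹ * (g * s * g⁻¹) = g * (t * s) * g⁻¹ := by group
    rw [e1, e2, hst.eq])
  simpa using h1

/-- If no involution normalizing the maximal two-point stabilizer `D = G_x ∩ G_y` fixes a fixed
point of `D`, then `x` and `y` are the only fixed points of `D`. -/
theorem fixp_eq_pair [Finite G] (hH : IsStronglyEmbedded H) {x y : G ⧸ H}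
    (hxy : IsMaxPair x y)
    (hno : ∀ v : G, orderOf v = 2 → v ∈ Subgroup.normalizer (stab2 x y : Set G) →
      ∀ u ∈ fixp H (stab2 x y), v • u ≠ u) {w : G ⧸ H} (hw : w ∈ fixp H (stab2 x y)) :
    w = x ∨ w = y := by
  classical
  have : Fintype G := Fintype.ofFinite G
  have : Fintype (G ⧸ H) := Fintype.ofFinite _
  by_contra hcon
  push Not at hcon
  obtain ⟨hwx, hwy⟩ := hcon
  set D := stab2 x y with hDdef
  set N := Subgroup.normalizer (D : Set G) with hNdef
  have hx : x ∈ fixp H D := fun d hd => (mem_stab2.mp hd).1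
  have hy : y ∈ fixp H D := fun d hd => (mem_stab2.mp hd).2
  -- involutions swapping points of `fixp` normalize `D`
  have hvN : ∀ z ∈ fixp H D, ∀ z' ∈ fixp H D, z ≠ z' → ∀ v ∈ invs z z', v ∈ N := by
    intro z hz z' hz' hne v hv
    refine mem_normalizer_of_involution hv.1 (fun d hd => ?_)
    refine conj_mem_of_fixp hxy hne hz hz' ?_ ?_ hd
    · rw [hv.2]; exact hz'
    · rw [smul_of_mem_invs hv]; exact hz
  have hNfix : ∀ g ∈ N, ∀ z ∈ fixp H D, g • z ∈ fixp H D := by
    intro g hg z hz
    refine smul_mem_fixp (fun d hd => ?_) hz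
    have := (Subgroup.mem_normalizer_iff.mp (inv_mem hg) d).mp hd
    simpa using this
  obtain ⟨v1, hv1⟩ := exists_mem_invs hH x y
  obtain ⟨v2, hv2⟩ := exists_mem_invs hH x w
  have hv1N : v1 ∈ N := hvN x hx y hy hxy.1 v1 hv1
  have hv2N : v2 ∈ N := hvN x hx w hw (Ne.symm hwx) v2 hv2
  let F : Finset (G ⧸ H) := Finset.univ.filter (fun z => z ∈ fixp H D)
  have hF : ∀ z, z ∈ F ↔ z ∈ fixp H D := fun z => by simp [F]
  have hcount := fpf_count N D F (fun g hg z hz => (hF _).mpr (hNfix g hg z ((hF z).mp hz)))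
    (fun z hz z' hz' => by
      by_cases h : z = z'
      · exact ⟨1, one_mem _, by rw [h, one_smul]⟩
      · obtain ⟨v, hv⟩ := exists_mem_invs hH z z'
        exact ⟨v, hvN z ((hF z).mp hz) z' ((hF z').mp hz') h v hv, hv.2⟩)
    Subgroup.le_normalizer
    (fun d hd z hz => (hF z).mp hz d hd)
    (fun g _ z hz z' hz' hne h1 h2 => by
      rw [hDdef, ← stab2_eq_of_mem_fixp hxy hne ((hF z).mp hz) ((hF z').mp hz'), mem_stab2]
      exact ⟨h1, h2⟩)
    ((hF x).mpr hx)
  -- choice of involutions
  choose f hf using fun z : G ⧸ H => exists_mem_invs hH x z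
  let Z : Set G := {g : G | g ∈ N ∧ ∀ z ∈ F, g • z ≠ z}
  let P : Finset G := ((F.erase x) ×ˢ (Finset.univ.filter (fun g => g ∈ D))).image
    (fun p => f p.1 * p.2)
  have hfN : ∀ z ∈ F, x ≠ z → f z ∈ N := fun z hz hne =>
    hvN x hx z ((hF z).mp hz) hne (f z) (hf z)
  have hPZ : (P : Set G) ⊆ Z := by
    intro g hg
    simp only [P, Finset.coe_image, Set.mem_image, Finset.mem_coe, Finset.mem_product,
      Finset.mem_erase, Finset.mem_filter, Finset.mem_univ, true_and] at hg
    obtain ⟨⟨z, d⟩, ⟨⟨hzx, hz⟩, hd⟩, rfl⟩ := hg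
    simp only at hzx hz hd ⊢
    have hfz := hfN z hz (Ne.symm hzx)
    refine ⟨mul_mem hfz (Subgroup.le_normalizer hd), fun u hu => ?_⟩
    rw [mul_smul, (hF u).mp hu d hd]
    exact hno (f z) (hf z).1 hfz u ((hF u).mp hu)
  have hPcard : P.card = (F.card - 1) * Nat.card D := by
    rw [Finset.card_image_of_injOn, Finset.card_product, Finset.card_erase_of_mem ((hF x).mpr hx)]
    · congr 1
      rw [← Set.ncard_coe_finset, ← Nat.card_coe_set_eq]
      have : ((Finset.univ.filter (fun g => g ∈ D) : Finset G) : Set G) = (D : Set G) := by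
        ext g; simp
      rw [this]; rfl
    · rintro ⟨a, d⟩ had ⟨b, e⟩ hbe h
      simp only [Finset.coe_product, Set.mem_prod, Finset.mem_coe, Finset.mem_erase,
        Finset.mem_filter, Finset.mem_univ, true_and] at had hbe
      simp only at h
      have h1 : (f a * d) • x = a := by rw [mul_smul, hx d had.2, (hf a).2]
      have h2 : (f b * e) • x = b := by rw [mul_smul, hx e hbe.2, (hf b).2]
      have hab : a = b := by rw [← h1, h, h2]
      subst hab
      have hde : d = e := mul_left_cancel h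
      rw [hde]
  have hZcard : Z.ncard = (F.card - 1) * Nat.card D := by
    have h1 : 1 ≤ F.card := Finset.card_pos.mpr ⟨x, (hF x).mpr hx⟩
    have h2 : F.card * Nat.card D = (F.card - 1) * Nat.card D + Nat.card D := by
      nth_rewrite 1 [← Nat.sub_add_cancel h1]
      ring
    have h3 : Z.ncard + Nat.card D = F.card * Nat.card D := hcount
    omega
  have hPeq : (P : Set G) = Z := by
    refine Set.eq_of_subset_of_ncard_le hPZ ?_ (Set.toFinite _)
    rw [Set.ncard_coe_finset, hPcard, hZcard]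
  -- `v1 * v2` has no fixed point
  have hgN : v1 * v2 ∈ N := mul_mem hv1N hv2N
  have hgx : (v1 * v2) • x ≠ x := by
    intro h
    rw [mul_smul, hv2.2] at h
    have h1 : v1 • w = v1 • y := by rw [h, smul_of_mem_invs hv1]
    exact hwy (smul_left_cancel v1 h1)
  have hgD : v1 * v2 ∉ D := fun h => hgx (hx _ h)
  have hgZ : v1 * v2 ∈ Z := by
    refine ⟨hgN, fun z hz h => ?_⟩
    have hzf := (hF z).mp hz
    rw [mul_smul] at h
    have h1 : v2 • z = v1 • z := by
      have h2 : v1 • (v1 • (v2 • z)) = v1 • z := by rw [h]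
      rwa [← mul_smul, mul_self_of_orderOf hv1.1, one_smul] at h2
    have hne : z ≠ v1 • z := (hno v1 hv1.1 hv1N z hzf).symm
    apply hgD
    rw [hDdef, ← stab2_eq_of_mem_fixp hxy hne hzf (hNfix v1 hv1N z hzf), mem_stab2]
    refine ⟨by rw [mul_smul, h], ?_⟩
    rw [mul_smul, ← h1, ← mul_smul v2 v2, mul_self_of_orderOf hv2.1, one_smul, h1]
  -- hence its square lies in `D`
  have hsq : (v1 * v2) * (v1 * v2) ∈ D := by
    rw [← hPeq] at hgZ
    simp only [P, Finset.coe_image, Set.mem_image, Finset.mem_coe, Finset.mem_product,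
      Finset.mem_erase, Finset.mem_filter, Finset.mem_univ, true_and] at hgZ
    obtain ⟨⟨z, d⟩, ⟨⟨hzx, hz⟩, hd⟩, h⟩ := hgZ
    simp only at hzx hz hd h
    have hfz := hfN z hz (Ne.symm hzx)
    rw [← h]
    have e : f z * d * (f z * d) = (f z * d * (f z)⁻¹) * d := by
      rw [inv_eq_self_of_orderOf (hf z).1]
      group
    rw [e]
    exact mul_mem ((Subgroup.mem_normalizer_iff.mp hfz d).mp hd) hd
  -- the fixed points of `v1`, `v2`
  obtain ⟨u1, hu1⟩ := exists_smul_eq hH hv1.1
  obtain ⟨u2, hu2⟩ := exists_smul_eq hH hv2.1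
  have h12 : u1 = u2 := fixed_eq hH hv1.1 hv2.1 hsq hgD hu1 hu2
  have hfix : u2 ∈ fixp H D := by
    intro d hd
    have hdN : d ∈ N := Subgroup.le_normalizer hd
    have ho : orderOf (d * v2 * d⁻¹) = 2 := by rw [orderOf_conj, hv2.1]
    have hd' : (d * v2 * d⁻¹) • (d • u2) = d • u2 := by
      rw [mul_smul, inv_smul_smul, mul_smul, hu2]
    -- `v1 * (d v2 d⁻¹) = (v1 v2) * d'` with `d' ∈ D`
    have hd2 : v2⁻¹ * d * v2 * d⁻¹ ∈ D := by
      refine mul_mem ?_ (inv_mem hd)
      have := (Subgroup.mem_normalizer_iff.mp (inv_mem hv2N) d).mp hd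
      simpa using this
    set d2 := v2⁻¹ * d * v2 * d⁻¹ with hd2def
    have e1 : v1 * (d * v2 * d⁻¹) = (v1 * v2) * d2 := by rw [hd2def]; group
    have hn : v1 * (d * v2 * d⁻¹) ∉ D := by
      rw [e1]
      intro h
      apply hgD
      have := mul_mem h (inv_mem hd2)
      simpa using this
    have hs : v1 * (d * v2 * d⁻¹) * (v1 * (d * v2 * d⁻¹)) ∈ D := by
      rw [e1]
      have e2 : v1 * v2 * d2 * (v1 * v2 * d2) =
          (v1 * v2 * (v1 * v2)) * ((v1 * v2)⁻¹ * d2 * (v1 * v2)) * d2 := by group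
      rw [e2]
      refine mul_mem (mul_mem hsq ?_) hd2
      have := (Subgroup.mem_normalizer_iff.mp (inv_mem hgN) d2).mp hd2
      simpa using this
    have h3 := fixed_eq hH hv1.1 ho hs hn hu1 hd'
    rw [← h3, h12]
  exact hno v2 hv2.1 hv2N u2 hfix hu2

/-- If a finite group with a strongly embedded subgroup has two distinct commuting involutions,
then the fixed points of a maximal two-point stabilizer `G_x ∩ G_y` are `x` and `y` only. -/
theorem fixp_eq_pair_of_commute [Finite G] (hH : IsStronglyEmbedded H) {x y : G ⧸ H}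
    (hxy : IsMaxPair x y) {s t : G} (hs : orderOf s = 2) (ht : orderOf t = 2)
    (hst : Commute s t) (hne : s ≠ t) {w : G ⧸ H} (hw : w ∈ fixp H (stab2 x y)) :
    w = x ∨ w = y := by
  refine fixp_eq_pair hH hxy (fun v hv hvN u hu hvu => ?_) hw
  refine hne (eq_of_commute_of_fixp hH hxy hv (fun d hd => ?_) hu hvu hs ht hst)
  exact (Subgroup.mem_normalizer_iff.mp hvN d).mp hd

/-- If a perfect group `A` acts on the finite group `G` and the fixed point subgroup `C_G(A)` is
strongly embedded in `G`, then two commuting involutions of `G` are equal. -/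
theorem eq_of_commute_of_perfect [Finite G] {A : Type*} [Group A] (hA : Group.IsPerfect A)
    (φ : A →* MulAut G) (hH : IsStronglyEmbedded H) (hfix : ∀ g : G, g ∈ H ↔ ∀ a : A, φ a g = g)
    {s t : G} (hs : orderOf s = 2) (ht : orderOf t = 2) (hst : Commute s t) : s = t := by
  by_contra hne
  set x : G ⧸ H := ((1 : G) : G ⧸ H) with hxdef
  obtain ⟨y, hxy⟩ := exists_isMaxPair hH x
  obtain ⟨v, hv⟩ := exists_mem_invs hH x y
  have hxH : ∀ g : G, g • x = x ↔ g ∈ H := fun g => smul_one_eq_iff g
  have hvH : v ∉ H := by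
    intro h
    rw [← hxH, hv.2] at h
    exact hxy.1 h.symm
  have hdH : ∀ d ∈ stab2 x y, d ∈ H := fun d hd => (hxH d).mp (mem_stab2.mp hd).1
  -- the images of `v` under `A` map `x` to `y`
  have hav : ∀ a : A, (φ a v) • x = y := by
    intro a
    have hmem : (φ a v) • x ∈ fixp H (stab2 x y) := by
      intro d hd
      have h1 : v⁻¹ * d * v ∈ H := by
        rw [← hxH, mul_smul, hv.2, mul_smul, (mem_stab2.mp hd).2, inv_smul_eq_iff, hv.2]
      have h2 : (φ a v)⁻¹ * d * φ a v ∈ H := by
        have e1 : φ a (v⁻¹ * d * v) = (φ a v)⁻¹ * d * φ a v := by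
          rw [map_mul, map_mul, map_inv, (hfix d).mp (hdH d hd) a]
        rw [← e1, (hfix _).mp h1 a]
        exact h1
      rw [← hxH, mul_smul, mul_smul, inv_smul_eq_iff] at h2
      exact h2
    rcases fixp_eq_pair_of_commute hH hxy hs ht hst hne hmem with h | h
    · exfalso
      rw [hxH] at h
      have h1 := (hfix _).mp h a⁻¹
      rw [map_inv, MulAut.inv_apply_self] at h1
      exact hvH (h1 ▸ h)
    · exact h
  have hhH : ∀ a : A, v⁻¹ * φ a v ∈ H := by
    intro a
    rw [← hxH, mul_smul, hav a, inv_smul_eq_iff, hv.2]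
  -- the homomorphism
  let h : A →* G := MonoidHom.mk' (fun a => v⁻¹ * φ a v) (by
    intro a b
    have h1 : φ a (φ b v) = φ a v * (v⁻¹ * φ b v) := by
      have e : φ b v = v * (v⁻¹ * φ b v) := by group
      nth_rewrite 1 [e]
      rw [map_mul, (hfix _).mp (hhH b) a]
    rw [map_mul, MulAut.mul_apply, h1]
    group)
  have hh : ∀ a, h a = v⁻¹ * φ a v := fun a => rfl
  have hinv : ∀ a, v * h a * v⁻¹ = (h a)⁻¹ := by
    intro a
    have h1 : φ a v * φ a v = 1 := by rw [← map_mul, mul_self_of_orderOf hv.1, map_one]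
    have h2 : v * h a = φ a v := by rw [hh]; group
    rw [h2, hh, mul_inv_rev, inv_inv, inv_eq_of_mul_eq_one_right h1,
      inv_eq_self_of_orderOf hv.1]
  have hcomm : ∀ a b, h a * h b = h b * h a := by
    intro a b
    have h1 := hinv (a * b)
    rw [map_mul] at h1
    have h2 : v * (h a * h b) * v⁻¹ = (v * h a * v⁻¹) * (v * h b * v⁻¹) := by group
    rw [h2, hinv, hinv, ← mul_inv_rev] at h1
    exact (inv_injective h1).symm
  have hker : (⊤ : Subgroup A) ≤ h.ker := by
    rw [← hA.commutator_eq_top, commutator_def, Subgroup.commutator_le]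
    intro a _ b _
    rw [MonoidHom.mem_ker, map_commutatorElement, commutatorElement_eq_one_iff_mul_comm]
    exact hcomm a b
  apply hvH
  rw [hfix]
  intro a
  have h1 : h a = 1 := hker (Subgroup.mem_top a)
  rw [hh, inv_mul_eq_one] at h1
  exact h1.symm

end Cfsg.Agent.SignalizersComponents.BenderPerfect
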