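import Cfsg.Agent.Lib.Cores
import Cfsg.Agent.SignalizersComponents.Components

/-!
# Images of quasisimple groups, and components of quotients
-/

set_option autoImplicit false

namespace Cfsg.Agent.SignalizersComponents.QuasisimpleQuotient

open Subgroup Cfsg
open Cfsg.Agent.SignalizersComponents.Components

/-- A nontrivial homomorphic image of a quasisimple group is quasisimple. -/
theorem isQuasisimple_of_surjective {X Y : Type*} [Group X] [Group Y] [Nontrivial Y]
    (f : X →* Y) (hf : Function.Surjective f) (hX : IsQuasisimple X) : IsQuasisimple Y := by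
  have hp : Group.IsPerfect X := hX.1
  have hs : IsSimpleGroup (X ⧸ center X) := hX.2
  have hpY : Group.IsPerfect Y := Group.IsPerfect.ofSurjective hf
  refine ⟨hpY, ?_⟩
  have hle : center X ≤ (center Y).comap f := by
    intro x hx
    rw [mem_comap, mem_center_iff]
    intro y
    obtain ⟨x', rfl⟩ := hf y
    rw [← map_mul, ← map_mul, mem_center_iff.mp hx x']
  have hne : Nontrivial (Y ⧸ center Y) := by
    by_contra h
    rw [not_nontrivial_iff_subsingleton, QuotientGroup.subsingleton_iff] at h
    have hcomm : IsMulCommutative Y := ⟨⟨fun a b => by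
      have ha : b ∈ center Y := by rw [h]; exact mem_top b
      exact mem_center_iff.mp ha a⟩⟩
    exact Group.IsPerfect.not_isMulCommutative Y hcomm
  refine IsSimpleGroup.isSimpleGroup_of_surjective (QuotientGroup.map (center X) (center Y) f hle) ?_
  intro y
  obtain ⟨y, rfl⟩ := QuotientGroup.mk_surjective y
  obtain ⟨x, rfl⟩ := hf y
  exact ⟨(x : X ⧸ center X), rfl⟩

/-- The image of a component `K` in a quotient by a normal subgroup not containing `K` is a
component of the quotient. -/
theorem isComponent_map_mk' {C : Type*} [Group C] {N K : Subgroup C} [N.Normal]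
    (hK : IsComponent K) (h : ¬ K ≤ N) : IsComponent (K.map (QuotientGroup.mk' N)) := by
  refine ⟨hK.1.map (QuotientGroup.mk'_surjective N), ?_⟩
  have hnt : Nontrivial ↥(K.map (QuotientGroup.mk' N)) := by
    rw [Subgroup.nontrivial_iff_ne_bot]
    intro h0
    rw [Subgroup.map_eq_bot_iff, QuotientGroup.ker_mk'] at h0
    exact h h0
  exact isQuasisimple_of_surjective ((QuotientGroup.mk' N).subgroupMap K)
    ((QuotientGroup.mk' N).subgroupMap_surjective K) hK.2

/-- If `X` is a quasisimple group of even order embedded in the centralizer of `t` in such a way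
that its image is normal there, then `C(t)/O(C(t))` has a component. -/
theorem hasComponent_centralizer_quotient_core {G X : Type*} [Group G] [Finite G] [Group X]
    (hX : IsQuasisimple X) (heven : Even (Nat.card X)) (t : G) (f : X →* G)
    (hf : Function.Injective f) (hc : ∀ x, f x * t = t * f x)
    (hn : ∀ g : G, g * t = t * g → ∀ x, ∃ y, g * f x * g⁻¹ = f y) :
    HasComponent (↥(centralizer ({t} : Set G)) ⧸ oddCore ↥(centralizer ({t} : Set G))) := by
  have hle : f.range ≤ centralizer ({t} : Set G) := by
    rintro _ ⟨x, rfl⟩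
    rw [mem_centralizer_singleton_iff]
    exact hc x
  have hnormal : (f.range.subgroupOf (centralizer ({t} : Set G))).Normal := by
    constructor
    rintro ⟨a, ha⟩ haf ⟨g, hg⟩
    rw [mem_subgroupOf] at haf ⊢
    obtain ⟨x, hx⟩ := haf
    obtain ⟨y, hy⟩ := hn g (mem_centralizer_singleton_iff.mp hg) x
    refine ⟨y, ?_⟩
    rw [← hy, hx]
    rfl
  have e1 : X ≃* f.range := MonoidHom.ofInjective hf
  have e2 : f.range.subgroupOf (centralizer ({t} : Set G)) ≃* f.range :=
    Subgroup.subgroupOfEquivOfLe hle
  have hcomp : IsComponent (f.range.subgroupOf (centralizer ({t} : Set G))) :=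
    ⟨hnormal.isSubnormal, isQuasisimple_of_mulEquiv (e1.trans e2.symm) hX⟩
  have hcard : Nat.card (f.range.subgroupOf (centralizer ({t} : Set G))) = Nat.card X :=
    Nat.card_congr (e1.trans e2.symm).symm.toEquiv
  have hnot : ¬ f.range.subgroupOf (centralizer ({t} : Set G)) ≤
      oddCore ↥(centralizer ({t} : Set G)) := by
    intro h
    have h1 := card_dvd_of_le h
    have h2 := Cfsg.Agent.Lib.Cores.pPrimeCore_coprime (G := ↥(centralizer ({t} : Set G))) 2
    have h3 := Nat.Coprime.coprime_dvd_left h1 h2
    rw [hcard] at h3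
    have h4 : 2 ∣ Nat.gcd (Nat.card X) 2 := Nat.dvd_gcd heven.two_dvd dvd_rfl
    rw [h3.gcd_eq_one] at h4
    omega
  exact ⟨_, isComponent_map_mk' hcomp hnot⟩

end Cfsg.Agent.SignalizersComponents.QuasisimpleQuotient
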