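import Mathlib
import Cfsg.Agent.SignalizersComponents.RelSylow

/-!
A fusion argument: if a `p`-element `a`, central in a Sylow `p`-subgroup `P`, commutes with one of its conjugates
`b ≠ a`, then there is a subgroup `Q ≤ P` containing `a`, "centric", with an element of `N(Q)` moving `a`.
-/

set_option autoImplicit false

namespace Cfsg.Agent.SignalizersComponents.IsolatedFusion

open Subgroup
open scoped Pointwise
open Cfsg.Agent.SignalizersComponents.RelSylow

variable {H : Type*} [Group H]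

theorem mem_centralizer_conj {a g x : H} :
    x ∈ centralizer ({g * a * g⁻¹} : Set H) ↔ g⁻¹ * x * g ∈ centralizer ({a} : Set H) := by
  rw [mem_centralizer_singleton_iff, mem_centralizer_singleton_iff]
  constructor
  · intro h
    calc g⁻¹ * x * g * a = g⁻¹ * (x * (g * a * g⁻¹)) * g := by group
      _ = g⁻¹ * ((g * a * g⁻¹) * x) * g := by rw [h]
      _ = a * (g⁻¹ * x * g) := by group
  · intro h
    calc x * (g * a * g⁻¹) = g * (g⁻¹ * x * g * a) * g⁻¹ := by group
      _ = g * (a * (g⁻¹ * x * g)) * g⁻¹ := by rw [h]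
      _ = (g * a * g⁻¹) * x := by group

theorem map_conj_centralizer {a g : H} :
    (centralizer ({a} : Set H)).map (MulAut.conj g).toMonoidHom = centralizer ({g * a * g⁻¹} : Set H) := by
  ext x
  rw [mem_map_conj, mem_centralizer_conj]

theorem mem_normalizer_map_conj {Q : Subgroup H} {g x : H} :
    x ∈ normalizer ((Q.map (MulAut.conj g).toMonoidHom : Subgroup H) : Set H) ↔
      g⁻¹ * x * g ∈ normalizer (Q : Set H) := by
  rw [mem_normalizer_iff, mem_normalizer_iff]
  constructor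
  · intro h y
    have := h (g * y * g⁻¹)
    rw [mem_map_conj, mem_map_conj] at this
    simpa [mul_assoc] using this
  · intro h y
    rw [mem_map_conj, mem_map_conj]
    have := h (g⁻¹ * y * g)
    simpa [mul_assoc] using this

/-- If `N(Q) ≤ C(a)` for all `p`-subgroups `Q` with `a ∈ Q ≤ C(a)`, then `a` commutes with no other conjugate of
itself. -/
theorem isolated_of_normalizer_le [Finite H] {p : ℕ} [Fact p.Prime]
    (a : H) (ha : IsPGroup p (zpowers a))
    (h : ∀ Q : Subgroup H, IsPGroup p Q → a ∈ Q → Q ≤ centralizer ({a} : Set H) →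
      normalizer (Q : Set H) ≤ centralizer ({a} : Set H))
    (g : H) (hg : g * a * g⁻¹ ∈ centralizer ({a} : Set H)) : g * a * g⁻¹ = a := by
  set b := g * a * g⁻¹ with hb
  by_contra hab
  -- the hypothesis for b
  have hbQ : ∀ Q : Subgroup H, IsPGroup p Q → b ∈ Q → Q ≤ centralizer ({b} : Set H) →
      normalizer (Q : Set H) ≤ centralizer ({b} : Set H) := by
    intro Q hQ hbQ hQb x hx
    rw [hb, mem_centralizer_conj]
    refine h (Q.map (MulAut.conj g⁻¹).toMonoidHom) (hQ.map _) ?_ ?_ ?_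
    · rw [mem_map_conj]
      simpa [hb, mul_assoc] using hbQ
    · intro y hy
      rw [mem_map_conj] at hy
      have := hQb hy
      rw [hb, mem_centralizer_conj] at this
      simpa [mul_assoc] using this
    · rw [mem_normalizer_map_conj]
      simpa [mul_assoc] using hx
  have hbp : IsPGroup p (zpowers b) := by
    have h1 : zpowers b = (zpowers a).map (MulAut.conj g).toMonoidHom := by
      rw [MonoidHom.map_zpowers]; rfl
    rw [h1]
    exact ha.map _
  have hba : b * a = a * b := mem_centralizer_singleton_iff.mp hg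
  -- the p-group generated by a and b
  have haN : zpowers b ≤ normalizer (zpowers a : Set H) := by
    rw [zpowers_le]
    refine (centralizer_le_normalizer _) ?_
    rw [mem_centralizer_iff]
    rintro _ ⟨n, rfl⟩
    exact ((show Commute b a from hba).zpow_right n).symm
  have hW : IsPGroup p (zpowers b ⊔ zpowers a : Subgroup H) :=
    IsPGroup.to_sup_of_normal_right' hbp ha haN
  have hWa : zpowers b ⊔ zpowers a ≤ centralizer ({a} : Set H) := by
    rw [sup_le_iff, zpowers_le, zpowers_le]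
    exact ⟨hg, mem_centralizer_singleton_iff.mpr rfl⟩
  have hWb : zpowers b ⊔ zpowers a ≤ centralizer ({b} : Set H) := by
    rw [sup_le_iff, zpowers_le, zpowers_le]
    exact ⟨mem_centralizer_singleton_iff.mpr rfl, mem_centralizer_singleton_iff.mpr hba.symm⟩
  obtain ⟨R₁, hR₁, hWR₁⟩ := exists_isMaxP hW hWa
  obtain ⟨R₂, hR₂, hWR₂⟩ := exists_isMaxP hW hWb
  have haW : a ∈ zpowers b ⊔ zpowers a := (le_sup_right : zpowers a ≤ _) (mem_zpowers a)
  have hbW : b ∈ zpowers b ⊔ zpowers a := (le_sup_left : zpowers b ≤ _) (mem_zpowers b)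
  -- choose a pair with maximal intersection
  let T := {x : Subgroup H × Subgroup H // IsMaxP p (centralizer ({a} : Set H)) x.1 ∧
    IsMaxP p (centralizer ({b} : Set H)) x.2 ∧ a ∈ x.1 ⊓ x.2 ∧ b ∈ x.1 ⊓ x.2}
  have hTne : Nonempty T := ⟨⟨(R₁, R₂), hR₁, hR₂, ⟨hWR₁ haW, hWR₂ haW⟩, ⟨hWR₁ hbW, hWR₂ hbW⟩⟩⟩
  obtain ⟨⟨⟨S₁, S₂⟩, hS₁, hS₂, haS, hbS⟩, hmax⟩ :=
    Finite.exists_max (fun x : T => Nat.card (x.1.1 ⊓ x.1.2 : Subgroup H))
  simp only at hS₁ hS₂ haS hbS hmax
  set D := S₁ ⊓ S₂ with hD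
  have hDp : IsPGroup p D := hS₁.1.to_le inf_le_left
  have hDa : normalizer (D : Set H) ≤ centralizer ({a} : Set H) :=
    h D hDp haS (inf_le_left.trans hS₁.2.1)
  have hDb : normalizer (D : Set H) ≤ centralizer ({b} : Set H) :=
    hbQ D hDp hbS (inf_le_right.trans hS₂.2.1)
  have h1 : S₁ ≤ D := by
    by_contra hne
    obtain ⟨x, hxS, hxN, hxD⟩ := exists_mem_normalizer hS₁.1 (inf_le_left : D ≤ S₁) hne
    have hE : IsPGroup p (S₁ ⊓ normalizer (D : Set H) : Subgroup H) := hS₁.1.to_le inf_le_left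
    obtain ⟨R, hR, hER⟩ := exists_isMaxP hE (inf_le_right.trans hDb)
    have hDR : D ≤ R := (le_inf inf_le_left le_normalizer).trans hER
    have := hmax ⟨(S₁, R), hS₁, hR, ⟨haS.1, hDR haS⟩, ⟨hbS.1, hDR hbS⟩⟩
    simp only at this
    have hlt : D < S₁ ⊓ R := by
      refine lt_of_le_of_ne (le_inf inf_le_left hDR) ?_
      intro heq
      apply hxD
      rw [← hD, heq]
      exact ⟨hxS, hER ⟨hxS, hxN⟩⟩
    have := Set.ncard_lt_ncard (s := (D : Set H)) (t := ((S₁ ⊓ R : Subgroup H) : Set H)) hlt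
      (Set.toFinite _)
    simp only [← Nat.card_coe_set_eq] at this
    exact absurd ‹Nat.card ↥(S₁ ⊓ R : Subgroup H) ≤ _› (not_le.mpr this)
  have h2 : S₂ ≤ D := by
    by_contra hne
    obtain ⟨x, hxS, hxN, hxD⟩ := exists_mem_normalizer hS₂.1 (inf_le_right : D ≤ S₂) hne
    have hE : IsPGroup p (S₂ ⊓ normalizer (D : Set H) : Subgroup H) := hS₂.1.to_le inf_le_left
    obtain ⟨R, hR, hER⟩ := exists_isMaxP hE (inf_le_right.trans hDa)
    have hDR : D ≤ R := (le_inf inf_le_right le_normalizer).trans hER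
    have := hmax ⟨(R, S₂), hR, hS₂, ⟨hDR haS, haS.2⟩, ⟨hDR hbS, hbS.2⟩⟩
    simp only at this
    have hlt : D < R ⊓ S₂ := by
      refine lt_of_le_of_ne (le_inf hDR inf_le_right) ?_
      intro heq
      apply hxD
      rw [← hD, heq]
      exact ⟨hER ⟨hxS, hxN⟩, hxS⟩
    have := Set.ncard_lt_ncard (s := (D : Set H)) (t := ((R ⊓ S₂ : Subgroup H) : Set H)) hlt
      (Set.toFinite _)
    simp only [← Nat.card_coe_set_eq] at this
    exact absurd ‹Nat.card ↥(R ⊓ S₂ : Subgroup H) ≤ _› (not_le.mpr this)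
  have hS : S₁ = S₂ := le_antisymm (h1.trans inf_le_right) (h2.trans inf_le_left)
  subst hS
  -- conjugate
  have h3 := hS₁.map_conj g
  rw [map_conj_centralizer, ← hb] at h3
  obtain ⟨y, hy, hy'⟩ := h3.exists_conj hS₂
  have h4 : y * g ∈ normalizer (S₁ : Set H) := by
    rw [mem_normalizer_iff]
    intro x
    have key : ∀ z, z ∈ S₁ ↔ g⁻¹ * (y⁻¹ * z * y) * g ∈ S₁ := fun z => by
      conv_lhs => rw [← hy', mem_map_conj, mem_map_conj]
    rw [key (y * g * x * (y * g)⁻¹)]
    have : g⁻¹ * (y⁻¹ * (y * g * x * (y * g)⁻¹) * y) * g = x := by group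
    rw [this]
  have h5 := h S₁ hS₁.1 haS.1 hS₁.2.1 h4
  rw [mem_centralizer_singleton_iff] at h5 hy
  apply hab
  have h6 : y * b * y⁻¹ = b := by rw [hy]; group
  have h7 : (y * g) * a * (y * g)⁻¹ = a := by rw [h5]; group
  calc b = y * b * y⁻¹ := h6.symm
    _ = (y * g) * a * (y * g)⁻¹ := by rw [hb]; group
    _ = a := h7

theorem card_lt_of_le_of_not_le [Finite H] {A B : Subgroup H} (h : A ≤ B) (h' : ¬ B ≤ A) :
    Nat.card A < Nat.card B := by
  have h1 : A < B := lt_of_le_not_ge h h'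
  have := Set.ncard_lt_ncard (s := (A : Set H)) (t := (B : Set H)) h1 (Set.toFinite _)
  simp only [← Nat.card_coe_set_eq] at this
  exact this

theorem mem_normalizer_of_forall [Finite H] {Q : Subgroup H} {x : H} (h : ∀ q ∈ Q, x * q * x⁻¹ ∈ Q) :
    x ∈ normalizer (Q : Set H) := by
  apply mem_normalizer_fintype
  exact h

/-- Main fusion lemma. -/
theorem exists_centric_of_not_isolated [Finite H] {p : ℕ} [Fact p.Prime] (X : Subgroup H) [hX : X.Normal]
    (a : H) (P : Subgroup H) (hP : IsMaxP p ⊤ P) (haP : a ∈ P)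
    (hPa : P ≤ centralizer ({a} : Set H)) (hXa : ∀ h : H, ∃ k : ℤ, h * a ^ k ∈ X) (g : H)
    (hg : g * a * g⁻¹ ∈ centralizer ({a} : Set H)) (hne : g * a * g⁻¹ ≠ a) :
    ∃ V : Subgroup H, V ≤ X ⊓ P ∧
      (∀ U : Subgroup H, IsPGroup p U → U ≤ X → U ≤ centralizer (V : Set H) → U ≤ V) ∧
      ∃ h ∈ X, h ∈ normalizer (V : Set H) ∧ h * a * h⁻¹ * a⁻¹ ∈ V ∧ h * a ≠ a * h := by
  have hap : IsPGroup p (zpowers a) := hP.1.to_le (by rwa [zpowers_le])
  have hPC : IsMaxP p (centralizer ({a} : Set H)) P :=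
    ⟨hP.1, hPa, fun R' h1 _ h3 => hP.2.2 R' h1 le_top h3⟩
  -- the family
  have hex : ∃ Q : Subgroup H, IsPGroup p Q ∧ a ∈ Q ∧ Q ≤ centralizer ({a} : Set H) ∧
      ¬ normalizer (Q : Set H) ≤ centralizer ({a} : Set H) := by
    by_contra hcon
    push Not at hcon
    exact hne (isolated_of_normalizer_le a hap hcon g hg)
  let T := {Q : Subgroup H // IsPGroup p Q ∧ a ∈ Q ∧ Q ≤ centralizer ({a} : Set H) ∧
      ¬ normalizer (Q : Set H) ≤ centralizer ({a} : Set H)}
  have hT : Nonempty T := ⟨⟨hex.choose, hex.choose_spec⟩⟩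
  obtain ⟨⟨Q₀, hQ₀p, haQ₀, hQ₀a, hQ₀N⟩, hmax⟩ := Finite.exists_max (fun x : T => Nat.card x.1)
  simp only at hmax
  obtain ⟨c, hc, hcQ⟩ := hPC.exists_conj_le hQ₀p hQ₀a
  have hc' := mem_centralizer_singleton_iff.mp hc
  obtain ⟨Q, hQdef⟩ : ∃ Q, Q = Q₀.map (MulAut.conj c).toMonoidHom := ⟨_, rfl⟩
  rw [← hQdef] at hcQ
  have hQp : IsPGroup p Q := hP.1.to_le hcQ
  have haQ : a ∈ Q := by
    rw [hQdef, mem_map_conj]
    have : c⁻¹ * a * c = a := by rw [mul_assoc, ← hc']; group
    rwa [this]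
  have hQa : Q ≤ centralizer ({a} : Set H) := hcQ.trans hPa
  have hcard : Nat.card Q = Nat.card Q₀ := by rw [hQdef, card_map_conj]
  have hQN : ¬ normalizer (Q : Set H) ≤ centralizer ({a} : Set H) := by
    intro hcon
    apply hQ₀N
    intro x hx
    have h1 : c * x * c⁻¹ ∈ normalizer (Q : Set H) := by
      rw [hQdef, mem_normalizer_map_conj]
      simpa [mul_assoc] using hx
    have h2 := hcon h1
    have h3 := mul_mem (mul_mem (inv_mem hc) h2) hc
    simpa [mul_assoc] using h3
  have hmax' : ∀ Q' : Subgroup H, IsPGroup p Q' → a ∈ Q' → Q' ≤ centralizer ({a} : Set H) →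
      Nat.card Q < Nat.card Q' → normalizer (Q' : Set H) ≤ centralizer ({a} : Set H) := by
    intro Q' h1 h2 h3 h4
    by_contra h5
    have := hmax ⟨Q', h1, h2, h3, h5⟩
    simp only at this
    omega
  -- (i)
  obtain ⟨N, hN⟩ : ∃ N, N = normalizer (Q : Set H) := ⟨_, rfl⟩
  have hi : ∃ R, IsMaxP p N R ∧ R ≤ centralizer ({a} : Set H) := by
    obtain ⟨R, hR, hQR⟩ := exists_isMaxP (C := N ⊓ centralizer ({a} : Set H)) hQp
      (le_inf (hN ▸ le_normalizer) hQa)
    obtain ⟨R'', hR'', hRR''⟩ := exists_isMaxP (C := N) hR.1 (hR.2.1.trans inf_le_left)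
    have hRle : R'' ≤ R := by
      by_contra hcon
      by_cases hQR' : R ≤ Q
      · have hQeq : Q = R := le_antisymm hQR hQR'
        have hPQ : P ≤ Q := by
          by_contra hPQ
          obtain ⟨y, hy, hyN, hyQ⟩ := exists_mem_normalizer hP.1 hcQ hPQ
          have hE : IsPGroup p (P ⊓ normalizer (Q : Set H) : Subgroup H) := hP.1.to_le inf_le_left
          have := hR.2.2 _ hE (le_inf (hN ▸ inf_le_right) (inf_le_left.trans hPa))
            (hQeq ▸ le_inf hcQ le_normalizer)
          exact hyQ (hQR' (this ⟨hy, hyN⟩))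
        exact hcon ((hP.2.2 R'' hR''.1 le_top (hPQ.trans (hQR.trans hRR''))).trans (hPQ.trans hQR))
      · have hlt : Nat.card Q < Nat.card R := card_lt_of_le_of_not_le hQR hQR'
        have hNR := hmax' R hR.1 (hQR haQ) (hR.2.1.trans inf_le_right) hlt
        obtain ⟨y, hy, hyN, hyQ⟩ := exists_mem_normalizer hR''.1 hRR'' hcon
        have hE : IsPGroup p (R'' ⊓ normalizer (R : Set H) : Subgroup H) := hR''.1.to_le inf_le_left
        have := hR.2.2 _ hE (le_inf (inf_le_left.trans hR''.2.1) (inf_le_right.trans hNR))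
            (le_inf hRR'' le_normalizer)
        exact hyQ (this ⟨hy, hyN⟩)
    have : R'' = R := le_antisymm hRle hRR''
    subst this
    exact ⟨R'', hR'', hR.2.1.trans inf_le_right⟩
  -- (ii)
  have hCQ : centralizer (Q : Set H) ≤ centralizer ({a} : Set H) :=
    centralizer_le (by simpa using haQ)
  have hii : ∀ W : Subgroup H, IsPGroup p W → W ≤ centralizer (Q : Set H) → W ≤ Q := by
    intro W hW hWQ
    obtain ⟨F, hF⟩ : ∃ F, F = Q ⊔ centralizer (Q : Set H) := ⟨_, rfl⟩
    have hFa : F ≤ centralizer ({a} : Set H) := by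
      rw [hF]; exact sup_le hQa hCQ
    have hWp : IsPGroup p (W ⊔ Q : Subgroup H) :=
      IsPGroup.to_sup_of_normal_right' hW hQp (hWQ.trans (centralizer_le_normalizer _))
    obtain ⟨E, hE, hWE⟩ := exists_isMaxP (C := F) hWp
      (hF ▸ sup_le (hWQ.trans le_sup_right) le_sup_left)
    by_cases hEQ : E ≤ Q
    · exact (le_sup_left.trans hWE).trans hEQ
    exfalso
    have hQE : Q ≤ E := le_sup_right.trans hWE
    have hNE := hmax' E hE.1 (hQE haQ) (hE.2.1.trans hFa) (card_lt_of_le_of_not_le hQE hEQ)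
    apply hQN
    intro n hn
    have hnF : n ∈ normalizer (F : Set H) := by
      apply mem_normalizer_of_forall
      intro f hf
      have h1 : F.map (MulAut.conj n).toMonoidHom ≤ F := by
        rw [hF, Subgroup.map_sup]
        apply sup_le
        · refine le_trans ?_ le_sup_left
          rintro _ ⟨y, hy, rfl⟩
          exact (mem_normalizer_iff.mp hn y).mp hy
        · refine le_trans ?_ le_sup_right
          intro y hy
          rw [mem_map_conj] at hy
          rw [mem_centralizer_iff] at hy ⊢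
          intro q hq
          have h2 := hy (n⁻¹ * q * n) ((mem_normalizer_iff''.mp hn q).mp hq)
          have h3 : q * y = n * (n⁻¹ * q * n * (n⁻¹ * y * n)) * n⁻¹ := by group
          rw [h3, h2]; group
      exact h1 ⟨f, hf, rfl⟩
    obtain ⟨f, hf, hfE⟩ := (hE.map_conj_mem hnF).exists_conj hE
    have h4 : f * n ∈ normalizer (E : Set H) := by
      rw [mem_normalizer_iff]
      intro x
      have key : ∀ z, z ∈ E ↔ n⁻¹ * (f⁻¹ * z * f) * n ∈ E := fun z => by
        conv_lhs => rw [← hfE, mem_map_conj, mem_map_conj]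
      rw [key (f * n * x * (f * n)⁻¹)]
      have : n⁻¹ * (f⁻¹ * (f * n * x * (f * n)⁻¹) * f) * n = x := by group
      rw [this]
    have h5 := hNE h4
    have h6 := mul_mem (inv_mem (hFa hf)) h5
    simpa using h6
  -- (iii)
  have hNQ : ∀ n ∈ normalizer (Q : Set H), n ∈ normalizer ((Q ⊓ X : Subgroup H) : Set H) := by
    intro n hn
    apply mem_normalizer_of_forall
    intro q hq
    exact ⟨(mem_normalizer_iff.mp hn q).mp hq.1, hX.conj_mem q hq.2 n⟩
  have haZ : ∀ k : ℤ, a ^ k ∈ (Q ⊓ centralizer ((Q ⊓ X : Subgroup H) : Set H) : Subgroup H) := by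
    intro k
    apply zpow_mem
    refine ⟨haQ, ?_⟩
    show a ∈ centralizer ((Q ⊓ X : Subgroup H) : Set H)
    rw [mem_centralizer_iff]
    intro q hq
    exact mem_centralizer_singleton_iff.mp (hQa hq.1)
  have hZ : IsMaxP p (centralizer ((Q ⊓ X : Subgroup H) : Set H))
      (Q ⊓ centralizer ((Q ⊓ X : Subgroup H) : Set H)) := by
    obtain ⟨W, hW, hZW⟩ := exists_isMaxP (C := centralizer ((Q ⊓ X : Subgroup H) : Set H))
      (W := Q ⊓ centralizer ((Q ⊓ X : Subgroup H) : Set H)) (hQp.to_le inf_le_left) inf_le_right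
    have hWZ : W ≤ Q ⊓ centralizer ((Q ⊓ X : Subgroup H) : Set H) := by
      by_contra hcon
      obtain ⟨x, hxW, hxN, hxZ⟩ := exists_mem_normalizer hW.1 hZW hcon
      -- x normalizes Q
      have hxQ : x ∈ normalizer (Q : Set H) := by
        apply mem_normalizer_of_forall
        intro q hq
        obtain ⟨k, hk⟩ := hXa q
        have h1 : q * a ^ k ∈ Q ⊓ X := ⟨mul_mem hq (zpow_mem haQ k), hk⟩
        have h2 : x * (q * a ^ k) * x⁻¹ = q * a ^ k := by
          have := mem_centralizer_iff.mp (hW.2.1 hxW) _ h1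
          rw [← this]; group
        have h3 : x * a ^ (-k) * x⁻¹ ∈ Q := ((mem_normalizer_iff.mp hxN _).mp (haZ (-k))).1
        have h4 : x * q * x⁻¹ = (x * (q * a ^ k) * x⁻¹) * (x * a ^ (-k) * x⁻¹) := by
          simp [mul_assoc]
        rw [h4, h2]
        exact mul_mem h1.1 h3
      obtain ⟨R, hR, hRa⟩ := hi
      have hxp : IsPGroup p (zpowers x) := hW.1.to_le (by rwa [zpowers_le])
      obtain ⟨n, hn, hnR⟩ := hR.exists_conj_le hxp (by rw [zpowers_le, hN]; exact hxQ)
      rw [hN] at hn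
      have h1 : n * x * n⁻¹ ∈ centralizer ({a} : Set H) :=
        hRa (hnR ⟨x, mem_zpowers x, rfl⟩)
      have h2 : n * x * n⁻¹ ∈ centralizer (Q : Set H) := by
        rw [mem_centralizer_iff]
        intro q hq
        obtain ⟨k, hk⟩ := hXa q
        have h3 : q * a ^ k ∈ Q ⊓ X := ⟨mul_mem hq (zpow_mem haQ k), hk⟩
        have h4 : n⁻¹ * (q * a ^ k) * n ∈ Q ⊓ X := (mem_normalizer_iff''.mp (hNQ n hn) _).mp h3
        have h5 := mem_centralizer_iff.mp (hW.2.1 hxW) _ h4
        have h6 : Commute (q * a ^ k) (n * x * n⁻¹) := by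
          have h7 : (q * a ^ k) * (n * x * n⁻¹) = n * (n⁻¹ * (q * a ^ k) * n * x) * n⁻¹ := by group
          show _ = _
          rw [h7, h5]; group
        have h8 : Commute (a ^ k) (n * x * n⁻¹) := by
          have h9 : Commute (n * x * n⁻¹) a := mem_centralizer_singleton_iff.mp h1
          exact (h9.zpow_right k).symm
        have h10 : q = (q * a ^ k) * (a ^ k)⁻¹ := by group
        have h11 : Commute q (n * x * n⁻¹) := by
          rw [h10]
          exact h6.mul_left h8.inv_left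
        exact h11
      have h3 : IsPGroup p (zpowers (n * x * n⁻¹)) := by
        have h4 : zpowers (n * x * n⁻¹) = (zpowers x).map (MulAut.conj n).toMonoidHom := by
          rw [MonoidHom.map_zpowers]; rfl
        rw [h4]
        exact hxp.map _
      have h4 := hii _ h3 (by rwa [zpowers_le])
      have h5 : n * x * n⁻¹ ∈ Q := h4 (mem_zpowers _)
      have h6 : x ∈ Q := by
        rw [mem_normalizer_iff.mp hn x]
        exact h5
      exact hxZ ⟨h6, hW.2.1 hxW⟩
    have : W = Q ⊓ centralizer ((Q ⊓ X : Subgroup H) : Set H) := le_antisymm hWZ hZW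
    rwa [this] at hW
  refine ⟨Q ⊓ X, le_inf inf_le_right (inf_le_left.trans hcQ), ?_, ?_⟩
  · intro U hU hUX hUC
    obtain ⟨c, hc, hcU⟩ := hZ.exists_conj_le hU hUC
    intro u hu
    have h1 : c * u * c⁻¹ ∈ Q := (hcU ⟨u, hu, rfl⟩).1
    have h2 : c * u * c⁻¹ ∈ X := hX.conj_mem u (hUX hu) c
    have h3 := mem_centralizer_iff.mp hc (c * u * c⁻¹) ⟨h1, h2⟩
    have h4 : u = c * u * c⁻¹ := by
      have h5 : c * u = c * (c * u * c⁻¹) := by rw [← h3]; group
      exact mul_left_cancel h5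
    rw [h4]
    exact ⟨h1, h2⟩
  · obtain ⟨h', hh'N, hh'C⟩ := SetLike.not_le_iff_exists.mp hQN
    obtain ⟨k, hk⟩ := hXa h'
    have hN' : h' * a ^ k ∈ normalizer (Q : Set H) := mul_mem hh'N (le_normalizer (zpow_mem haQ k))
    refine ⟨h' * a ^ k, hk, hNQ _ hN', ?_, ?_⟩
    · refine ⟨?_, ?_⟩
      · exact Q.mul_mem ((mem_normalizer_iff.mp hN' a).mp haQ) (Q.inv_mem haQ)
      · have h1 : a * (h' * a ^ k)⁻¹ * a⁻¹ ∈ X := hX.conj_mem _ (inv_mem hk) a
        have h2 := mul_mem hk h1
        simpa [mul_assoc] using h2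
    · intro hcon
      apply hh'C
      rw [mem_centralizer_singleton_iff]
      have h1 : h' * a * a ^ k = a * h' * a ^ k := by
        calc h' * a * a ^ k = h' * a ^ k * a := by
              rw [mul_assoc, mul_assoc, (Commute.refl a).zpow_right k |>.eq]
          _ = a * (h' * a ^ k) := hcon
          _ = _ := by group
      exact mul_right_cancel h1

end Cfsg.Agent.SignalizersComponents.IsolatedFusion
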