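import Mathlib
import Cfsg.Agent.SignalizersComponents.RelSylow
import Cfsg.Agent.SignalizersComponents.IsolatedFusion

/-!
Automorphisms centralizing a Sylow 2-subgroup of a core-free group (Glauberman): the derived group of the group of
these automorphisms has odd order. The `Z*`-theorem enters as an explicit hypothesis `ZStar`.
-/

set_option autoImplicit false

namespace Cfsg.Agent.SignalizersComponents.AutSylow

open Subgroup
open scoped Pointwise commutatorElement
open Cfsg.Agent.SignalizersComponents.RelSylow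
open Cfsg.Agent.SignalizersComponents.IsolatedFusion

/-- The statement of the `Z*`-theorem (S0215) in a universe. -/
def ZStar.{u} : Prop :=
  ∀ (G : Type u) [Group G] [Finite G] (P : Sylow 2 G) (u : G), orderOf u = 2 → u ∈ P →
    (∀ g : G, g * u * g⁻¹ ∈ P → g * u * g⁻¹ = u) →
      ∃ N : Subgroup G, N.Normal ∧ Odd (Nat.card N) ∧ ∀ g : G, (u * g * u⁻¹ * g⁻¹) ∈ N

/-- A group with a central Sylow 2-subgroup `P`: the transfer `τ` to `P`. Its kernel consists of the elements of odd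
order, and `K = P × ker τ`. -/
theorem exists_hom_of_central_sylow {K : Type*} [Group K] [Finite K] (P : Sylow 2 K)
    (hP : ∀ x ∈ P, ∀ k : K, k * x = x * k) :
    ∃ τ : K →* ↥(P : Subgroup K), (∀ x : K, τ x = 1 ↔ Odd (orderOf x)) ∧
      ∀ k : K, ∃ v ∈ P, ∃ n : K, τ n = 1 ∧ k = v * n := by
  have : Fact (Nat.Prime 2) := ⟨Nat.prime_two⟩
  have hP' : normalizer (P : Set K) ≤ centralizer (P : Set K) := by
    intro x _
    rw [mem_centralizer_iff]
    intro y hy
    exact (hP y hy x).symm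
  have hcompl := MonoidHom.ker_transferSylow_isComplement' P hP'
  have hodd : Odd (Nat.card (MonoidHom.transferSylow P hP').ker) := by
    have h1 := hcompl.index_eq_card
    have h2 := P.not_dvd_index
    rw [h1] at h2
    exact Nat.not_even_iff_odd.mp (fun h => h2 h.two_dvd)
  refine ⟨MonoidHom.transferSylow P hP', ?_, ?_⟩
  · intro x
    constructor
    · intro hx
      have : orderOf x ∣ Nat.card (MonoidHom.transferSylow P hP').ker := by
        rw [← Nat.card_zpowers]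
        exact Subgroup.card_dvd_of_le (by rw [zpowers_le]; exact hx)
      exact Odd.of_dvd_nat hodd this
    · intro hx
      have h1 : orderOf ((MonoidHom.transferSylow P hP') x) ∣ orderOf x := orderOf_map_dvd _ x
      obtain ⟨n, hn⟩ := IsPGroup.iff_orderOf.mp P.2 ((MonoidHom.transferSylow P hP') x)
      rw [hn] at h1
      have h2 : Odd (2 ^ n) := Odd.of_dvd_nat hx h1
      have h3 : n = 0 := by
        rcases n with _ | n
        · rfl
        · exact absurd h2 (by rw [Nat.not_odd_iff_even, pow_succ]; exact even_two.mul_left _)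
      rw [h3, pow_zero, orderOf_eq_one_iff] at hn
      exact hn
  · intro k
    obtain ⟨⟨n, v⟩, hnv⟩ := hcompl.2 k
    simp only at hnv
    refine ⟨v, v.2, n, n.2, ?_⟩
    rw [← hnv]
    exact (hP v v.2 n)

/-- Transfer of `IsMaxP` to a subgroup type. -/
theorem isMaxP_subgroupOf {G : Type*} [Group G] {p : ℕ} {H R : Subgroup G} (h : IsMaxP p H R) :
    IsMaxP p (⊤ : Subgroup ↥H) (R.subgroupOf H) := by
  refine ⟨(h.toSylow).2, le_top, ?_⟩
  intro R' h1 _ h3
  exact (h.toSylow.3 h1 h3).le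

/-- Key lemma: an involution `a` in the derived group of `C` is isolated in `X⟨a⟩`, where `C` centralizes a Sylow
2-subgroup of the normal subgroup `X`. -/
theorem isolated_of_mem_commutator {Γ : Type*} [Group Γ] [Finite Γ] (X : Subgroup Γ) [hX : X.Normal]
    (S : Subgroup Γ) (hS : IsMaxP 2 X S) (C : Subgroup Γ) (hCS : C ≤ centralizer (S : Set Γ))
    (a : Γ) (ha : a ∈ ⁅C, C⁆) (h2 : orderOf a = 2) (H : Subgroup Γ) (hH : H = X ⊔ zpowers a)
    (P : Subgroup Γ) (hPdef : P = S ⊔ zpowers a) :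
    IsMaxP 2 H P ∧ ∀ g ∈ H, g * a * g⁻¹ ∈ centralizer ({a} : Set Γ) → g * a * g⁻¹ = a := by
  have : Fact (Nat.Prime 2) := ⟨Nat.prime_two⟩
  have haC : a ∈ C := by
    have : ⁅C, C⁆ ≤ C := by
      rw [commutator_le]
      intro x hx y hy
      exact mul_mem (mul_mem (mul_mem hx hy) (inv_mem hx)) (inv_mem hy)
    exact this ha
  have hSa : S ≤ centralizer ({a} : Set Γ) := by
    intro s hs
    rw [mem_centralizer_singleton_iff]
    exact (mem_centralizer_iff.mp (hCS haC) s hs)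
  have hap : IsPGroup 2 (zpowers a) := by
    rw [IsPGroup.iff_card]
    exact ⟨1, by rw [Nat.card_zpowers, h2, pow_one]⟩
  have haN : zpowers a ≤ normalizer (S : Set Γ) := by
    rw [zpowers_le]
    exact centralizer_le_normalizer _ (hCS haC)
  have hPp : IsPGroup 2 P := by
    rw [hPdef, sup_comm]
    exact IsPGroup.to_sup_of_normal_right' hap hS.1 haN
  have haP : a ∈ P := hPdef ▸ (le_sup_right : zpowers a ≤ _) (mem_zpowers a)
  have hSP : S ≤ P := hPdef ▸ le_sup_left
  have hPa : P ≤ centralizer ({a} : Set Γ) := by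
    rw [hPdef]
    refine sup_le hSa ?_
    rw [zpowers_le]
    exact mem_centralizer_singleton_iff.mpr rfl
  have haH : a ∈ H := hH ▸ (le_sup_right : zpowers a ≤ _) (mem_zpowers a)
  have hXH : X ≤ H := hH ▸ le_sup_left
  have hPH : P ≤ H := by
    rw [hPdef, hH]
    exact sup_le_sup_right hS.2.1 _
  have hHX : ∀ h ∈ H, ∃ k : ℤ, h * a ^ k ∈ X := by
    intro h hh
    rw [hH, ← SetLike.mem_coe, Subgroup.normal_mul] at hh
    obtain ⟨x, hx, y, hy, hxy⟩ := hh
    obtain ⟨k, hk⟩ := mem_zpowers_iff.mp hy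
    refine ⟨-k, ?_⟩
    rw [← hxy]
    simp only
    rw [← hk]
    simpa [mul_assoc] using hx
  have hPX : ∀ R : Subgroup Γ, IsPGroup 2 R → P ≤ R → R ⊓ X ≤ S := by
    intro R hR hPR
    exact hS.2.2 _ (hR.to_le inf_le_left) inf_le_right (le_inf (hSP.trans hPR) hS.2.1)
  have hmaxP : IsMaxP 2 H P := by
    refine ⟨hPp, hPH, ?_⟩
    intro R hR hRH hPR r hr
    obtain ⟨k, hk⟩ := hHX r (hRH hr)
    have h1 : r * a ^ k ∈ S := hPX R hR hPR ⟨mul_mem hr (zpow_mem (hPR haP) k), hk⟩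
    have h3 := mul_mem (hSP h1) (zpow_mem haP (-k))
    simpa [mul_assoc] using h3
  refine ⟨hmaxP, ?_⟩
  intro g hg hga
  by_contra hne
  -- apply the fusion lemma in ↥H
  obtain ⟨V', hV', hVmax', h', hh'X, hh'N, hh'V, hh'a⟩ := exists_centric_of_not_isolated (p := 2) (X.subgroupOf H)
    (⟨a, haH⟩ : ↥H) (P.subgroupOf H) (isMaxP_subgroupOf hmaxP) (by simpa [mem_subgroupOf] using haP)
    (by
      intro x hx
      rw [mem_subgroupOf] at hx
      have := mem_centralizer_singleton_iff.mp (hPa hx)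
      rw [mem_centralizer_singleton_iff]
      exact Subtype.ext this)
    (by
      intro h
      obtain ⟨k, hk⟩ := hHX h h.2
      refine ⟨k, ?_⟩
      rw [mem_subgroupOf]
      simpa using hk)
    (⟨g, hg⟩ : ↥H)
    (by
      rw [mem_centralizer_singleton_iff] at hga ⊢
      exact Subtype.ext hga)
    (by
      intro hcon
      exact hne (congrArg Subtype.val hcon))
  -- push down to Γ
  obtain ⟨V, hVdef⟩ : ∃ V, V = V'.map H.subtype := ⟨_, rfl⟩
  have hVX : V ≤ X := by
    rw [hVdef]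
    rintro _ ⟨y, hy, rfl⟩
    exact (hV' hy).1
  have hVS : V ≤ S := by
    refine le_trans ?_ (hPX P hPp le_rfl)
    rw [hVdef]
    rintro _ ⟨y, hy, rfl⟩
    exact ⟨(hV' hy).2, (hV' hy).1⟩
  have hVp : IsPGroup 2 V := hS.1.to_le hVS
  have hVmax : ∀ U : Subgroup Γ, IsPGroup 2 U → U ≤ X → U ≤ centralizer (V : Set Γ) → U ≤ V := by
    intro U hU hUX hUV
    have h1 := hVmax' (U.subgroupOf H) (hU.comap_subtype (K := H))
      (by
        intro x hx
        rw [mem_subgroupOf] at hx ⊢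
        exact hUX hx)
      (by
        intro x hx
        rw [mem_subgroupOf] at hx
        rw [mem_centralizer_iff]
        intro v hv
        have := mem_centralizer_iff.mp (hUV hx) v (by rw [hVdef]; exact ⟨v, hv, rfl⟩)
        exact Subtype.ext this)
    intro u hu
    rw [hVdef]
    exact ⟨⟨u, hXH (hUX hu)⟩, h1 (by rw [mem_subgroupOf]; exact hu), rfl⟩
  obtain ⟨h, hhdef⟩ : ∃ h : Γ, h = h' := ⟨_, rfl⟩
  have hhX : h ∈ X := by rw [hhdef]; exact hh'X
  have hhV : h * a * h⁻¹ * a⁻¹ ∈ V := by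
    rw [hVdef, hhdef]
    exact ⟨_, hh'V, rfl⟩
  have hha : h * a ≠ a * h := by
    intro hcon
    apply hh'a
    apply Subtype.ext
    rw [hhdef] at hcon
    exact hcon
  have hhN : h ∈ normalizer (V : Set Γ) := by
    apply mem_normalizer_of_forall
    intro v hv
    rw [hVdef] at hv ⊢
    obtain ⟨y, hy, rfl⟩ := hv
    refine ⟨h' * y * h'⁻¹, (mem_normalizer_iff.mp hh'N y).mp hy, ?_⟩
    rw [hhdef]
    rfl
  -- the centralizer of V in X
  obtain ⟨K, hK⟩ : ∃ K, K = X ⊓ centralizer (V : Set Γ) := ⟨_, rfl⟩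
  have hKX : K ≤ X := hK ▸ inf_le_left
  have hKV : K ≤ centralizer (V : Set Γ) := hK ▸ inf_le_right
  obtain ⟨PK⟩ : Nonempty (Sylow 2 ↥K) := inferInstance
  have hPKV : ∀ x ∈ PK, (x : Γ) ∈ V := by
    intro x hx
    have h1 : IsPGroup 2 ((PK : Subgroup ↥K).map K.subtype) := PK.2.map _
    have h3 : (PK : Subgroup ↥K).map K.subtype ≤ K := by
      rintro _ ⟨y, _, rfl⟩; exact y.2
    exact hVmax _ h1 (h3.trans hKX) (h3.trans hKV) ⟨x, hx, rfl⟩
  have hPKc : ∀ x ∈ PK, ∀ k : ↥K, k * x = x * k := by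
    intro x hx k
    apply Subtype.ext
    exact (mem_centralizer_iff.mp (hKV k.2) _ (hPKV x hx)).symm
  obtain ⟨τ, hτ1, hτ2⟩ := exists_hom_of_central_sylow PK hPKc
  -- C normalizes K and acts trivially on K / ker τ
  have hCV : ∀ c ∈ C, ∀ v ∈ V, c * v = v * c := by
    intro c hc v hv
    exact (mem_centralizer_iff.mp (hCS hc) v (hVS hv)).symm
  have hCK : ∀ c ∈ C, ∀ k ∈ K, c * k * c⁻¹ ∈ K := by
    intro c hc k hk
    rw [hK]
    refine ⟨hX.conj_mem k (hKX hk) c, ?_⟩
    show c * k * c⁻¹ ∈ centralizer (V : Set Γ)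
    rw [mem_centralizer_iff]
    intro v hv
    have h1 : Commute c v := hCV c hc v hv
    have h3 : Commute v k := mem_centralizer_iff.mp (hKV hk) v hv
    exact ((h1.symm.mul_right h3).mul_right h1.symm.inv_right)
  have hτC : ∀ (c : Γ) (hc : c ∈ C) (k : Γ) (hk : k ∈ K),
      τ ⟨c * k * c⁻¹, hCK c hc k hk⟩ = τ ⟨k, hk⟩ := by
    intro c hc k hk
    obtain ⟨v, hv, n, hn, hkn⟩ := hτ2 ⟨k, hk⟩
    have h1 : k = v * n := congrArg Subtype.val hkn
    have h3 : (⟨c * k * c⁻¹, hCK c hc k hk⟩ : ↥K) = v * ⟨c * n * c⁻¹, hCK c hc n n.2⟩ := by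
      apply Subtype.ext
      show c * k * c⁻¹ = v * (c * n * c⁻¹)
      rw [h1]
      have h4 : c * (v : Γ) = v * c := hCV c hc v (hPKV v hv)
      calc c * (v * n) * c⁻¹ = (c * v) * n * c⁻¹ := by group
        _ = _ := by rw [h4]; group
    rw [h3, hkn, map_mul, map_mul, hn]
    congr 1
    rw [hτ1]
    have h4 : orderOf (⟨c * n * c⁻¹, hCK c hc n n.2⟩ : ↥K) = orderOf n := by
      rw [← Subgroup.orderOf_coe, ← Subgroup.orderOf_coe]
      exact orderOf_injective (MulAut.conj c).toMonoidHom (MulAut.conj c).injective (n : Γ)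
    rw [h4, ← hτ1]
    exact hn
  -- κ c = g⁻¹ c g c⁻¹ with g = h⁻¹
  have hκ : ∀ c ∈ C, h * c * h⁻¹ * c⁻¹ ∈ K := by
    intro c hc
    rw [hK]
    refine ⟨?_, ?_⟩
    · have h1 : c * h⁻¹ * c⁻¹ ∈ X := hX.conj_mem _ (X.inv_mem hhX) c
      have h3 := X.mul_mem hhX h1
      simpa [mul_assoc] using h3
    · show h * c * h⁻¹ * c⁻¹ ∈ centralizer (V : Set Γ)
      rw [mem_centralizer_iff]
      intro v hv
      have h1 : h⁻¹ * v * h ∈ V := (mem_normalizer_iff''.mp hhN v).mp hv
      have h3 := hCV c hc _ h1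
      have h4 := hCV c hc _ hv
      calc v * (h * c * h⁻¹ * c⁻¹) = h * ((h⁻¹ * v * h) * c) * h⁻¹ * c⁻¹ := by group
        _ = h * (c * (h⁻¹ * v * h)) * h⁻¹ * c⁻¹ := by rw [h3]
        _ = h * c * h⁻¹ * c⁻¹ * (c * v) * c⁻¹ := by group
        _ = h * c * h⁻¹ * c⁻¹ * (v * c) * c⁻¹ := by rw [h4]
        _ = (h * c * h⁻¹ * c⁻¹) * v := by group
  let f : ↥C →* ↥(PK : Subgroup ↥K) :=
    { toFun := fun c => τ ⟨h * c * h⁻¹ * (c : Γ)⁻¹, hκ c c.2⟩
      map_one' := by
        have : (⟨h * ((1 : ↥C) : Γ) * h⁻¹ * ((1 : ↥C) : Γ)⁻¹, hκ _ (1 : ↥C).2⟩ : ↥K) = 1 := by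
          apply Subtype.ext
          simp
        rw [this, map_one]
      map_mul' := by
        intro c d
        have h1 : (⟨h * ((c * d : ↥C) : Γ) * h⁻¹ * ((c * d : ↥C) : Γ)⁻¹, hκ _ (c * d).2⟩ : ↥K) =
            ⟨h * c * h⁻¹ * (c : Γ)⁻¹, hκ c c.2⟩ *
              ⟨c * (h * d * h⁻¹ * (d : Γ)⁻¹) * (c : Γ)⁻¹, hCK c c.2 _ (hκ d d.2)⟩ := by
          apply Subtype.ext
          show h * (c * d) * h⁻¹ * ((c * d : ↥C) : Γ)⁻¹ =
            (h * c * h⁻¹ * (c : Γ)⁻¹) * (c * (h * d * h⁻¹ * (d : Γ)⁻¹) * (c : Γ)⁻¹)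
          rw [Subgroup.coe_mul]
          group
        rw [h1, map_mul, hτC c c.2 _ (hκ d d.2)] }
  have hcomm : ∀ x y : ↥(PK : Subgroup ↥K), x * y = y * x := by
    intro x y
    apply Subtype.ext
    exact hPKc y y.2 x
  have hle : ⁅C, C⁆ ≤ f.ker.map C.subtype := by
    rw [commutator_le]
    intro c hc d hd
    refine ⟨⁅(⟨c, hc⟩ : ↥C), ⟨d, hd⟩⁆, ?_, rfl⟩
    show f _ = 1
    rw [map_commutatorElement, commutatorElement_eq_one_iff_mul_comm]
    exact hcomm _ _
  obtain ⟨a', ha', haa'⟩ := hle ha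
  have h3 : τ ⟨h * a * h⁻¹ * a⁻¹, hκ a haC⟩ = 1 := by
    have h4 : f a' = 1 := ha'
    have h5 : a' = ⟨a, haC⟩ := Subtype.ext haa'
    rw [h5] at h4
    exact h4
  rw [hτ1, ← Subgroup.orderOf_coe] at h3
  simp only at h3
  obtain ⟨n, hn⟩ := IsPGroup.iff_orderOf.mp hVp ⟨_, hhV⟩
  rw [← Subgroup.orderOf_coe] at hn
  simp only at hn
  rw [hn] at h3
  have h4 : n = 0 := by
    rcases n with _ | n
    · rfl
    · exact absurd h3 (by rw [Nat.not_odd_iff_even, pow_succ]; exact even_two.mul_left _)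
  rw [h4, pow_zero, orderOf_eq_one_iff] at hn
  apply hha
  calc h * a = (h * a * h⁻¹ * a⁻¹) * (a * h) := by group
    _ = a * h := by rw [hn, one_mul]

theorem exists_orderOf_two_of_not_odd {G : Type*} [Group G] [Finite G] {D : Subgroup G}
    (h : ¬ Odd (Nat.card ↥D)) : ∃ x ∈ D, orderOf x = 2 := by
  have : Fact (Nat.Prime 2) := ⟨Nat.prime_two⟩
  obtain ⟨x, hx⟩ := exists_prime_orderOf_dvd_card' (G := ↥D) 2
    (Nat.not_odd_iff_even.mp h).two_dvd
  exact ⟨x, x.2, by rw [Subgroup.orderOf_coe]; exact hx⟩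

/-- **Glauberman**: let `X` be core-free, `S` a Sylow 2-subgroup and `C` a group of automorphisms of `X` fixing every
element of `S`. Then the derived group of `C` has odd order. -/
theorem odd_card_commutator.{u} (hZ : ZStar.{u}) {X : Type u} [Group X] [Finite X]
    (hO : ∀ N : Subgroup X, N.Normal → Odd (Nat.card N) → N = ⊥) (S : Sylow 2 X)
    (C : Subgroup (MulAut X)) (hC : ∀ φ ∈ C, ∀ s ∈ S, φ s = s) : Odd (Nat.card ↥⁅C, C⁆) := by
  by_contra hodd
  obtain ⟨φ, hφC, hφ2⟩ := exists_orderOf_two_of_not_odd hodd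
  let Γ := X ⋊[MonoidHom.id (MulAut X)] MulAut X
  have : Finite Γ := Finite.of_equiv _ SemidirectProduct.equivProd.symm
  let il : X →* Γ := SemidirectProduct.inl
  let ir : MulAut X →* Γ := SemidirectProduct.inr
  have hil : Function.Injective il := SemidirectProduct.inl_injective
  have hir : Function.Injective ir := SemidirectProduct.inr_injective
  have hconj : ∀ (ψ : MulAut X) (x : X), ir ψ * il x * (ir ψ)⁻¹ = il (ψ x) := by
    intro ψ x
    have := SemidirectProduct.inl_aut (φ := MonoidHom.id (MulAut X)) ψ x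
    rw [MonoidHom.id_apply] at this
    show SemidirectProduct.inr ψ * SemidirectProduct.inl x * (SemidirectProduct.inr ψ)⁻¹ =
      SemidirectProduct.inl (ψ x)
    rw [this, map_inv]
  have hXn : il.range.Normal := by
    have h1 : il.range = (SemidirectProduct.rightHom (φ := MonoidHom.id (MulAut X))).ker :=
      SemidirectProduct.range_inl_eq_ker_rightHom
    rw [h1]
    infer_instance
  have hS : IsMaxP 2 il.range ((S : Subgroup X).map il) := by
    refine ⟨S.2.map il, ?_, ?_⟩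
    · rintro _ ⟨y, _, rfl⟩; exact ⟨y, rfl⟩
    · intro R hR hRX hSR
      have h1 : IsPGroup 2 (R.comap il) := hR.comap_of_injective il hil
      have h2 : (S : Subgroup X) ≤ R.comap il := by
        intro s hs
        exact hSR ⟨s, hs, rfl⟩
      have h3 := S.3 h1 h2
      intro r hr
      obtain ⟨x, rfl⟩ := hRX hr
      refine ⟨x, ?_, rfl⟩
      rw [← h3]
      exact hr
  have hCS : C.map ir ≤ centralizer (((S : Subgroup X).map il : Subgroup Γ) : Set Γ) := by
    rintro _ ⟨ψ, hψ, rfl⟩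
    rw [mem_centralizer_iff]
    rintro _ ⟨s, hs, rfl⟩
    have h1 := hconj ψ s
    rw [hC ψ hψ s hs] at h1
    calc il s * ir ψ = (ir ψ * il s * (ir ψ)⁻¹) * ir ψ := by rw [h1]
      _ = ir ψ * il s := inv_mul_cancel_right _ _
  have haC : ir φ ∈ ⁅C.map ir, C.map ir⁆ := by
    rw [← map_commutator]
    exact ⟨φ, hφC, rfl⟩
  have ha2 : orderOf (ir φ) = 2 := by rw [orderOf_injective ir hir, hφ2]
  obtain ⟨H, hH⟩ : ∃ H, H = il.range ⊔ zpowers (ir φ) := ⟨_, rfl⟩
  obtain ⟨hP, hiso⟩ := isolated_of_mem_commutator il.range _ hS (C.map ir) hCS (ir φ) haC ha2 H hH _ rfl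
  have haP : ir φ ∈ (S : Subgroup X).map il ⊔ zpowers (ir φ) :=
    (le_sup_right : zpowers (ir φ) ≤ _) (mem_zpowers _)
  have hXH : il.range ≤ H := hH ▸ le_sup_left
  have haH : ir φ ∈ H := hP.2.1 haP
  have hPa : (S : Subgroup X).map il ⊔ zpowers (ir φ) ≤ centralizer ({ir φ} : Set Γ) := by
    refine sup_le ?_ ?_
    · intro s hs
      rw [mem_centralizer_singleton_iff]
      have h1 : ir φ ∈ C.map ir := by
        refine ⟨φ, ?_, rfl⟩
        have : ⁅C, C⁆ ≤ C := by
          rw [commutator_le]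
          intro x hx y hy
          exact mul_mem (mul_mem (mul_mem hx hy) (inv_mem hx)) (inv_mem hy)
        exact this hφC
      exact (mem_centralizer_iff.mp (hCS h1) s hs)
    · rw [zpowers_le]
      exact mem_centralizer_singleton_iff.mpr rfl
  obtain ⟨N, hN, hNodd, hNa⟩ := hZ ↥H hP.toSylow ⟨ir φ, haH⟩
    (by rw [← Subgroup.orderOf_coe]; exact ha2)
    (by
      show _ ∈ (hP.toSylow : Subgroup ↥H)
      rw [hP.coe_toSylow, mem_subgroupOf]
      exact haP)
    (by
      intro g hg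
      apply Subtype.ext
      have h1 : (g * ⟨ir φ, haH⟩ * g⁻¹ : ↥H) ∈ (hP.toSylow : Subgroup ↥H) := hg
      rw [hP.coe_toSylow, mem_subgroupOf] at h1
      exact hiso g g.2 (hPa h1))
  -- the trace of N on X
  obtain ⟨M, hM⟩ : ∃ M, M = (N.map H.subtype).comap il := ⟨_, rfl⟩
  have hMn : M.Normal := by
    refine ⟨?_⟩
    intro m hm x
    rw [hM, mem_comap] at hm ⊢
    obtain ⟨n, hn, hnm⟩ := hm
    have h1 := hN.conj_mem n hn ⟨il x, hXH ⟨x, rfl⟩⟩
    refine ⟨_, h1, ?_⟩
    show (il x * (n : Γ) * (il x)⁻¹ : Γ) = il (x * m * x⁻¹)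
    have h2 : (n : Γ) = il m := hnm
    rw [h2, map_mul, map_mul, map_inv]
  have hModd : Odd (Nat.card M) := by
    have h1 : Nat.card M ∣ Nat.card N := by
      have h2 : Nat.card M = Nat.card (M.map il) := by
        rw [Nat.card_congr (M.equivMapOfInjective il hil).toEquiv]
      have h3 : Nat.card (N.map H.subtype) = Nat.card N := by
        rw [← Nat.card_congr (N.equivMapOfInjective _ H.subtype_injective).toEquiv]
      rw [h2, ← h3]
      apply Subgroup.card_dvd_of_le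
      rw [hM]
      exact map_comap_le _ _
    exact Odd.of_dvd_nat hNodd h1
  have hMbot := hO M hMn hModd
  have hφ1 : φ = 1 := by
    ext x
    have h1 := hNa ⟨il x, hXH ⟨x, rfl⟩⟩
    have h2 : φ x * x⁻¹ ∈ M := by
      rw [hM, mem_comap]
      refine ⟨_, h1, ?_⟩
      show (ir φ * il x * (ir φ)⁻¹ * (il x)⁻¹ : Γ) = il (φ x * x⁻¹)
      rw [hconj, map_mul, map_inv]
    rw [hMbot, mem_bot] at h2
    rw [MulAut.one_apply]
    exact mul_inv_eq_one.mp h2
  rw [hφ1, orderOf_one] at hφ2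
  norm_num at hφ2

end Cfsg.Agent.SignalizersComponents.AutSylow
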