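import Mathlib
import Cfsg.Agent.Lib.Cores
import Cfsg.Agent.SignalizersComponents.CoprimeFix
import Cfsg.Agent.SignalizersComponents.CoprimeBasic

/-!
# Going up: perfect subgroups of centralizers of `p`-subgroups

Let `M` be a normal subgroup of the finite group `X` such that every perfect subgroup of `C_X(T)` has order
prime to `p`, for `T` a Sylow `p`-subgroup of `M`. Then, for every `p`-subgroup `R` of `X`, every perfect
subgroup `H` of `C_X(R)` with `[H, C_M(R)] ≤ O_{p'}(C_M(R))` has order prime to `p`.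
(Elementary part of the proof of L-balance; the route is due to helper762.)
-/

set_option autoImplicit false

open scoped commutatorElement

namespace Cfsg.Agent.SignalizersComponents.PerfectGoingUp

open Cfsg Cfsg.Agent.Lib Cfsg.Agent.SignalizersComponents

variable {G : Type*} [Group G]

/-! ### Commutators modulo a subgroup normalized by everything -/

/-- Elements `x` of `normalizer K` with `[x, z] ∈ K` for all `z ∈ S`. -/
def commMod (K : Subgroup G) (S : Set G) : Subgroup G where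
  carrier := {x | x ∈ Subgroup.normalizer (K : Set G) ∧ ∀ z ∈ S, ⁅x, z⁆ ∈ K}
  one_mem' := ⟨Subgroup.one_mem _, fun z _ => by rw [commutatorElement_one_left]; exact K.one_mem⟩
  mul_mem' := by
    rintro x y ⟨hx, hx'⟩ ⟨hy, hy'⟩
    refine ⟨Subgroup.mul_mem _ hx hy, fun z hz => ?_⟩
    have h1 : ⁅x * y, z⁆ = x * ⁅y, z⁆ * x⁻¹ * ⁅x, z⁆ := by
      simp only [commutatorElement_def]; group
    rw [h1]
    exact K.mul_mem ((Subgroup.mem_normalizer_iff.mp hx _).mp (hy' z hz)) (hx' z hz)
  inv_mem' := by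
    rintro x ⟨hx, hx'⟩
    refine ⟨Subgroup.inv_mem _ hx, fun z hz => ?_⟩
    have h1 : ⁅x⁻¹, z⁆ = x⁻¹ * ⁅x, z⁆⁻¹ * x⁻¹⁻¹ := by
      simp only [commutatorElement_def]; group
    rw [h1]
    exact (Subgroup.mem_normalizer_iff.mp (Subgroup.inv_mem _ hx) _).mp (K.inv_mem (hx' z hz))

theorem mem_commMod {K : Subgroup G} {S : Set G} {x : G} :
    x ∈ commMod K S ↔ x ∈ Subgroup.normalizer (K : Set G) ∧ ∀ z ∈ S, ⁅x, z⁆ ∈ K := Iff.rfl

theorem sup_commutator_le {A B C K : Subgroup G} (hA : A ≤ Subgroup.normalizer (K : Set G))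
    (hB : B ≤ Subgroup.normalizer (K : Set G)) (h1 : ⁅A, C⁆ ≤ K) (h2 : ⁅B, C⁆ ≤ K) :
    ⁅A ⊔ B, C⁆ ≤ K := by
  have h3 : A ⊔ B ≤ commMod K (C : Set G) := by
    refine sup_le ?_ ?_
    · intro a ha
      exact ⟨hA ha, fun z hz => h1 (Subgroup.commutator_mem_commutator ha hz)⟩
    · intro a ha
      exact ⟨hB ha, fun z hz => h2 (Subgroup.commutator_mem_commutator ha hz)⟩
  rw [Subgroup.commutator_le]
  intro x hx z hz
  exact (h3 hx).2 z hz

theorem commutator_sup_le {A B C K : Subgroup G} (hA : A ≤ Subgroup.normalizer (K : Set G))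
    (hB : B ≤ Subgroup.normalizer (K : Set G)) (h1 : ⁅C, A⁆ ≤ K) (h2 : ⁅C, B⁆ ≤ K) :
    ⁅C, A ⊔ B⁆ ≤ K := by
  rw [Subgroup.commutator_comm] at h1 h2 ⊢
  exact sup_commutator_le hA hB h1 h2

/-- **Three subgroups lemma** modulo a subgroup normalized by the three subgroups. -/
theorem three_subgroups_mod {A B C K : Subgroup G} (hA : A ≤ Subgroup.normalizer (K : Set G))
    (hB : B ≤ Subgroup.normalizer (K : Set G)) (hC : C ≤ Subgroup.normalizer (K : Set G))
    (h1 : ⁅⁅B, C⁆, A⁆ ≤ K) (h2 : ⁅⁅C, A⁆, B⁆ ≤ K) : ⁅⁅A, B⁆, C⁆ ≤ K := by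
  have h3 : ⁅A, B⁆ ≤ commMod K (C : Set G) := by
    rw [Subgroup.commutator_le]
    intro x hx y hy
    have hxn := hA hx
    have hyn := hB hy
    refine ⟨?_, ?_⟩
    · rw [commutatorElement_def]
      exact Subgroup.mul_mem _ (Subgroup.mul_mem _ (Subgroup.mul_mem _ hxn hyn)
        (Subgroup.inv_mem _ hxn)) (Subgroup.inv_mem _ hyn)
    · intro z hz
      have hzn := hC hz
      have e : ⁅⁅x, y⁆, z⁆ =
          (x * (z * ⁅⁅z⁻¹, x⁻¹⁆, y⁆ * z⁻¹) * (y * ⁅⁅y⁻¹, z⁆, x⁻¹⁆ * y⁻¹) * x⁻¹)⁻¹ := by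
        simp only [commutatorElement_def]; group
      have k1 : ⁅⁅z⁻¹, x⁻¹⁆, y⁆ ∈ K := h2 (Subgroup.commutator_mem_commutator
        (Subgroup.commutator_mem_commutator (C.inv_mem hz) (A.inv_mem hx)) hy)
      have k2 : ⁅⁅y⁻¹, z⁆, x⁻¹⁆ ∈ K := h1 (Subgroup.commutator_mem_commutator
        (Subgroup.commutator_mem_commutator (B.inv_mem hy) hz) (A.inv_mem hx))
      have k3 := (Subgroup.mem_normalizer_iff.mp hzn _).mp k1
      have k4 := (Subgroup.mem_normalizer_iff.mp hyn _).mp k2
      have k5 := (Subgroup.mem_normalizer_iff.mp hxn _).mp (K.mul_mem k3 k4)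
      rw [e]
      refine K.inv_mem ?_
      simpa only [mul_assoc] using k5
  rw [Subgroup.commutator_le]
  intro x hx z hz
  exact (h3 hx).2 z hz

theorem commutator_sup_sup_le {E O : Subgroup G} (hE : E ≤ Subgroup.normalizer (O : Set G)) :
    ⁅E ⊔ O, E ⊔ O⁆ ≤ ⁅E, E⁆ ⊔ O := by
  have hEE : E ≤ Subgroup.normalizer ((⁅E, E⁆ : Subgroup G) : Set G) :=
    Subgroup.normalizer_commutator_ge_left E E
  have hE' : E ≤ Subgroup.normalizer ((⁅E, E⁆ ⊔ O : Subgroup G) : Set G) := by
    rw [Subgroup.le_normalizer_iff_commutator_le_right]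
    have hK : (⁅E, E⁆ ⊔ O : Subgroup G) ≤ Subgroup.normalizer ((⁅E, E⁆ ⊔ O : Subgroup G) : Set G) :=
      Subgroup.le_normalizer
    refine commutator_sup_le (le_sup_left.trans hK) (le_sup_right.trans hK) ?_ ?_
    · exact (Subgroup.le_normalizer_iff_commutator_le_right.mp hEE).trans le_sup_left
    · exact (Subgroup.le_normalizer_iff_commutator_le_right.mp hE).trans le_sup_right
  have hO' : O ≤ Subgroup.normalizer ((⁅E, E⁆ ⊔ O : Subgroup G) : Set G) :=
    le_sup_right.trans Subgroup.le_normalizer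
  have hOE : ⁅O, E⁆ ≤ ⁅E, E⁆ ⊔ O :=
    (Subgroup.le_normalizer_iff_commutator_le_left.mp hE).trans le_sup_right
  have hEO : ⁅E, O⁆ ≤ ⁅E, E⁆ ⊔ O :=
    (Subgroup.le_normalizer_iff_commutator_le_right.mp hE).trans le_sup_right
  have hOO : ⁅O, O⁆ ≤ ⁅E, E⁆ ⊔ O := (Subgroup.commutator_le_self O).trans le_sup_right
  exact commutator_sup_le hE' hO'
    (sup_commutator_le hE' hO' le_sup_left hOE) (sup_commutator_le hE' hO' hEO hOO)

/-- A perfect subgroup of `EO` is covered by a perfect subgroup of `E`, modulo `O`. -/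
theorem exists_perfect_cover [Finite G] (O H : Subgroup G) (hH : ⁅H, H⁆ = H) (n : ℕ) :
    ∀ E : Subgroup G, Nat.card E ≤ n → E ≤ Subgroup.normalizer (O : Set G) → H ≤ E ⊔ O →
      ∃ H₁ : Subgroup G, H₁ ≤ E ∧ ⁅H₁, H₁⁆ = H₁ ∧ H ≤ H₁ ⊔ O := by
  induction n with
  | zero =>
    intro E hn
    exact absurd hn (Nat.not_le.mpr Nat.card_pos)
  | succ n ih =>
    intro E hn hE hHE
    rcases (Subgroup.commutator_le_self E).lt_or_eq with hlt | heq
    · have hcard : Nat.card (⁅E, E⁆ : Subgroup G) < Nat.card E := by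
        refine lt_of_le_of_ne (Subgroup.card_le_of_le hlt.le) ?_
        intro h
        exact hlt.ne (Subgroup.eq_of_le_of_card_ge hlt.le h.ge)
      obtain ⟨H₁, h1, h2, h3⟩ := ih ⁅E, E⁆ (by omega) (hlt.le.trans hE) (by
        calc H = ⁅H, H⁆ := hH.symm
          _ ≤ ⁅E ⊔ O, E ⊔ O⁆ := Subgroup.commutator_mono hHE hHE
          _ ≤ ⁅E, E⁆ ⊔ O := commutator_sup_sup_le hE)
      exact ⟨H₁, h1.trans hlt.le, h2, h3⟩
    · exact ⟨E, le_rfl, heq, hHE⟩

/-! ### Cores of subgroups -/

/-- `O_{p'}(N)` as a subgroup of the ambient group. -/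
def coreOf (p : ℕ) (N : Subgroup G) : Subgroup G := (pPrimeCore p N).map N.subtype

theorem coreOf_def (p : ℕ) (N : Subgroup G) : coreOf p N = (pPrimeCore p N).map N.subtype := rfl

theorem coreOf_le (p : ℕ) (N : Subgroup G) : coreOf p N ≤ N := Subgroup.map_subtype_le _

theorem card_coreOf [Finite G] (p : ℕ) (N : Subgroup G) : (Nat.card (coreOf p N)).Coprime p := by
  rw [coreOf_def, Nat.card_congr
    (Subgroup.equivMapOfInjective _ _ (Subgroup.subtype_injective _)).symm.toEquiv]
  exact Cores.pPrimeCore_coprime p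

theorem normalizer_le_normalizer_coreOf (p : ℕ) (N : Subgroup G) :
    Subgroup.normalizer (N : Set G) ≤ Subgroup.normalizer (coreOf p N : Set G) := by
  intro g hg
  rw [Subgroup.mem_normalizer_iff_map_conj_eq]
  have hchar : (pPrimeCore p N).Characteristic := Cores.pPrimeCore_characteristic p
  have h1 := Subgroup.characteristic_iff_map_eq.mp hchar (Subgroup.normalizerMonoidHom N ⟨g, hg⟩)
  rw [coreOf_def, Subgroup.map_map]
  conv_rhs => rw [← h1]
  rw [Subgroup.map_map]
  congr 1

theorem le_coreOf [Finite G] {p : ℕ} {N W : Subgroup G} (hWN : W ≤ N)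
    (hN : N ≤ Subgroup.normalizer (W : Set G)) (hW : (Nat.card W).Coprime p) : W ≤ coreOf p N := by
  have h1 : (W.subgroupOf N).Normal := Subgroup.normal_subgroupOf_of_le_normalizer hN
  have h2 : W.subgroupOf N ≤ pPrimeCore p N := by
    refine Cores.le_pPrimeCore h1 ?_
    rwa [Nat.card_congr (Subgroup.subgroupOfEquivOfLe hWN).toEquiv]
  intro x hx
  exact ⟨⟨x, hWN hx⟩, h2 hx, rfl⟩

/-! ### The inductive step -/

/-- The claim which goes up and down: perfect subgroups of `C_X(R)` centralizing `C_M(R)` modulo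
`O_{p'}(C_M(R))` have order prime to `p`. -/
def Claim (p : ℕ) (M R : Subgroup G) : Prop :=
  ∀ H : Subgroup G, H ≤ Subgroup.centralizer (R : Set G) → ⁅H, H⁆ = H →
    ⁅H, Subgroup.centralizer (R : Set G) ⊓ M⁆ ≤ coreOf p (Subgroup.centralizer (R : Set G) ⊓ M) →
      (Nat.card H).Coprime p

theorem normalizer_le_normalizer_centralizer (R : Subgroup G) :
    Subgroup.normalizer (R : Set G) ≤
      Subgroup.normalizer ((Subgroup.centralizer (R : Set G) : Subgroup G) : Set G) := by
  rw [Subgroup.le_normalizer_iff]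
  intro g hg c hc
  rw [Subgroup.mem_centralizer_iff] at hc ⊢
  intro r hr
  have h1 : g⁻¹ * r * g ∈ R := by
    have := (Subgroup.mem_normalizer_iff.mp (Subgroup.inv_mem _ hg) r).mp hr
    simpa using this
  have h2 := hc _ h1
  have h3 : g * ((g⁻¹ * r * g) * c) * g⁻¹ = g * (c * (g⁻¹ * r * g)) * g⁻¹ := by rw [h2]
  have h4 : g * ((g⁻¹ * r * g) * c) * g⁻¹ = r * (g * c * g⁻¹) := by group
  have h5 : g * (c * (g⁻¹ * r * g)) * g⁻¹ = (g * c * g⁻¹) * r := by group
  rw [← h4, h3, h5]

theorem claim_step [Finite G] {p : ℕ} [hp : Fact p.Prime] {M R Q : Subgroup G} (hM : M.Normal)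
    (hQp : IsPGroup p Q) (hRQ : R ≤ Q) (hQR : Q ≤ Subgroup.normalizer (R : Set G))
    (hQM : Q ≤ M ⊔ R) (hQ : Claim p M Q) : Claim p M R := by
  intro H hHC hHp hHN
  set C := Subgroup.centralizer (R : Set G) with hC
  set N := C ⊓ M with hN
  set O := coreOf p N with hO
  have hOcard : (Nat.card O).Coprime p := card_coreOf p N
  have hOp : ¬ p ∣ Nat.card O := (Nat.Prime.coprime_iff_not_dvd hp.out).mp hOcard.symm
  have hON : O ≤ N := coreOf_le p N
  have hQC : Q ≤ Subgroup.normalizer (C : Set G) := hQR.trans (normalizer_le_normalizer_centralizer R)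
  have hnN : ∀ B : Subgroup G, B ≤ Subgroup.normalizer (C : Set G) →
      B ≤ Subgroup.normalizer (N : Set G) := by
    intro B hB
    rw [Subgroup.le_normalizer_iff] at hB ⊢
    intro b hb n hn
    exact ⟨hB b hb n hn.1, hM.conj_mem n hn.2 b⟩
  have hQO : Q ≤ Subgroup.normalizer (O : Set G) :=
    (hnN Q hQC).trans (normalizer_le_normalizer_coreOf p N)
  have hCO : C ≤ Subgroup.normalizer (O : Set G) :=
    (hnN C Subgroup.le_normalizer).trans (normalizer_le_normalizer_coreOf p N)
  have hHO : H ≤ Subgroup.normalizer (O : Set G) := hHC.trans hCO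
  -- `[C, Q] ≤ N`
  have hCQ : ⁅C, Q⁆ ≤ N := by
    refine le_inf (Subgroup.le_normalizer_iff_commutator_le_left.mp hQC) ?_
    have h1 : ⁅C, M ⊔ R⁆ ≤ M := by
      have hMn : ∀ B : Subgroup G, B ≤ Subgroup.normalizer (M : Set G) := fun B =>
        Subgroup.le_normalizer_of_normal
      refine commutator_sup_le (hMn _) (hMn _) (Subgroup.commutator_le_right C M) ?_
      have h2 : ⁅C, R⁆ = ⊥ := Subgroup.commutator_eq_bot_iff_le_centralizer.mpr le_rfl
      rw [h2]; exact bot_le
    exact (Subgroup.commutator_mono le_rfl hQM).trans h1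
  -- `[H, Q] ≤ O`
  have hHQ : ⁅H, Q⁆ ≤ O := by
    have h1 : ⁅H, Q⁆ ≤ N := (Subgroup.commutator_mono hHC le_rfl).trans hCQ
    have h2 : ⁅N, H⁆ ≤ O := by rw [Subgroup.commutator_comm]; exact hHN
    have h3 := three_subgroups_mod (A := H) (B := H) (C := Q) (K := O) hHO hHO hQO
      ((Subgroup.commutator_mono h1 le_rfl).trans h2)
      ((Subgroup.commutator_mono ((Subgroup.commutator_comm Q H).le.trans h1) le_rfl).trans h2)
    rwa [hHp] at h3
  -- `H ≤ C_{HO}(Q) O`
  set E : Subgroup G := (H ⊔ O) ⊓ Subgroup.centralizer (Q : Set G) with hE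
  have hHE : H ≤ E ⊔ O := by
    intro h hh
    obtain ⟨y, hy1, hy2⟩ := CoprimeFix.exists_fixed_in_coset Q hQp O hOp
      (fun b hb w hw => (Subgroup.mem_normalizer_iff.mp (hQO hb) w).mp hw) h (by
        intro b hb
        have h1 : h⁻¹ * (b * h * b⁻¹) = ⁅h⁻¹, b⁆ := by
          simp only [commutatorElement_def]; group
        rw [h1]
        exact hHQ (Subgroup.commutator_mem_commutator (H.inv_mem hh) hb))
    have hyE : y ∈ E := by
      refine Subgroup.mem_inf.mpr ⟨?_, ?_⟩
      · have h1 : y = h * (h⁻¹ * y) := by group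
        rw [h1]
        exact Subgroup.mul_mem_sup hh hy1
      · rw [Subgroup.mem_centralizer_iff]
        intro b hb
        exact mul_inv_eq_iff_eq_mul.mp (hy2 b hb)
    have h1 : h = y * (h⁻¹ * y)⁻¹ := by group
    rw [h1]
    exact Subgroup.mul_mem_sup hyE (O.inv_mem hy1)
  have hEC : E ≤ C := by
    intro x hx
    exact Subgroup.centralizer_le hRQ hx.2
  obtain ⟨H₁, h1E, h1p, hcov⟩ := exists_perfect_cover O H hHp (Nat.card E) E le_rfl
    (hEC.trans hCO) hHE
  -- the claim for `Q`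
  have hCQC : Subgroup.centralizer (Q : Set G) ≤ C := Subgroup.centralizer_le hRQ
  have h1card : (Nat.card H₁).Coprime p := by
    refine hQ H₁ (h1E.trans inf_le_right) h1p ?_
    have k1 : ⁅H₁, Subgroup.centralizer (Q : Set G) ⊓ M⁆ ≤ O := by
      have h2 : ⁅H ⊔ O, N⁆ ≤ O := by
        refine sup_commutator_le hHO Subgroup.le_normalizer hHN ?_
        exact Subgroup.le_normalizer_iff_commutator_le_left.mp (inf_le_left.trans hCO)
      exact (Subgroup.commutator_mono (h1E.trans inf_le_left)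
        (inf_le_inf_right M hCQC)).trans h2
    have k2 : ⁅H₁, Subgroup.centralizer (Q : Set G) ⊓ M⁆ ≤ Subgroup.centralizer (Q : Set G) ⊓ M := by
      refine le_inf ?_ ((Subgroup.commutator_mono le_rfl inf_le_right).trans
        (Subgroup.commutator_le_right H₁ M))
      exact (Subgroup.commutator_mono (h1E.trans inf_le_right) inf_le_left).trans
        (Subgroup.commutator_le_self _)
    refine (le_inf k1 k2).trans (le_coreOf inf_le_right ?_ ?_)
    · have k3 : Subgroup.centralizer (Q : Set G) ⊓ M ≤ Subgroup.normalizer (O : Set G) :=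
        inf_le_left.trans (hCQC.trans hCO)
      refine le_trans ?_ Subgroup.inf_normalizer_le_normalizer_inf
      exact le_inf k3 Subgroup.le_normalizer
    · exact Nat.Coprime.coprime_dvd_left (Subgroup.card_dvd_of_le inf_le_left) hOcard
  -- conclusion
  have h1O : H₁ ≤ Subgroup.normalizer (O : Set G) := h1E.trans (hEC.trans hCO)
  have hcard : Nat.card (H₁ ⊔ O : Subgroup G) ∣ Nat.card H₁ * Nat.card O := by
    rw [sup_comm, mul_comm]
    exact CoprimeBasic.card_sup_dvd h1O
  exact Nat.Coprime.coprime_dvd_left ((Subgroup.card_dvd_of_le hcov).trans hcard)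
    (Nat.Coprime.mul_left h1card hOcard)

/-! ### The chain -/

/-- The intersection of a Sylow subgroup with a normal subgroup is a Sylow subgroup of it. -/
theorem not_dvd_relIndex_inf [Finite G] {p : ℕ} [hp : Fact p.Prime] (S : Sylow p G) {M : Subgroup G}
    (hM : M.Normal) : ¬ p ∣ ((S : Subgroup G) ⊓ M).relIndex M := by
  set T : Subgroup G := (S : Subgroup G) with hT
  have h1 : Nat.card T * T.relIndex (T ⊔ M) = Nat.card (T ⊔ M : Subgroup G) := by
    have := Subgroup.card_mul_index (T.subgroupOf (T ⊔ M))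
    rwa [Nat.card_congr (Subgroup.subgroupOfEquivOfLe (le_sup_left : T ≤ T ⊔ M)).toEquiv] at this
  have h2 : Nat.card M * M.relIndex (T ⊔ M) = Nat.card (T ⊔ M : Subgroup G) := by
    have := Subgroup.card_mul_index (M.subgroupOf (T ⊔ M))
    rwa [Nat.card_congr (Subgroup.subgroupOfEquivOfLe (le_sup_right : M ≤ T ⊔ M)).toEquiv] at this
  rw [Subgroup.relIndex_sup_right] at h2
  have h3 : Nat.card (T ⊓ M : Subgroup G) * M.relIndex T = Nat.card T := by
    have := Subgroup.card_mul_index (M.subgroupOf T)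
    rwa [← Subgroup.inf_subgroupOf_left,
      Nat.card_congr (Subgroup.subgroupOfEquivOfLe (inf_le_left : T ⊓ M ≤ T)).toEquiv,
      Subgroup.inf_subgroupOf_left] at this
  have h4 : Nat.card (T ⊓ M : Subgroup G) * (T ⊓ M).relIndex M = Nat.card M := by
    have := Subgroup.card_mul_index ((T ⊓ M).subgroupOf M)
    rwa [Nat.card_congr (Subgroup.subgroupOfEquivOfLe (inf_le_right : T ⊓ M ≤ M)).toEquiv] at this
  have h5 : T.relIndex (T ⊔ M) * (T ⊔ M).index = T.index := Subgroup.relIndex_mul_index le_sup_left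
  have h6 : ¬ p ∣ T.index := S.not_dvd_index
  have h7 : (T ⊓ M).relIndex M = T.relIndex (T ⊔ M) := by
    have hpos : 0 < Nat.card (T ⊓ M : Subgroup G) * M.relIndex T := by rw [h3]; exact Nat.card_pos
    apply Nat.eq_of_mul_eq_mul_left hpos
    calc Nat.card (T ⊓ M : Subgroup G) * M.relIndex T * (T ⊓ M).relIndex M
        = (Nat.card (T ⊓ M : Subgroup G) * (T ⊓ M).relIndex M) * M.relIndex T := by ring
      _ = Nat.card T * T.relIndex (T ⊔ M) := by rw [h4, h2, ← h1]
      _ = Nat.card (T ⊓ M : Subgroup G) * M.relIndex T * T.relIndex (T ⊔ M) := by rw [h3]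
  rw [h7]
  intro h
  exact h6 (h.trans (Dvd.intro _ h5))

/-- Normalizers grow in `p`-groups, ambient form. -/
theorem lt_inf_normalizer_of_lt [Finite G] {p : ℕ} [Fact p.Prime] {R S : Subgroup G}
    (hS : IsPGroup p S) (hRS : R < S) : R < S ⊓ Subgroup.normalizer (R : Set G) := by
  have hnil : Group.IsNilpotent S := hS.isNilpotent
  have h1 : R.subgroupOf S < ⊤ := by
    rw [lt_top_iff_ne_top, Ne, Subgroup.subgroupOf_eq_top]
    exact fun h => hRS.not_ge h
  have h2 := Group.normalizerCondition_of_isNilpotent (G := S) _ h1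
  obtain ⟨x, hx, hxR⟩ := SetLike.exists_of_lt h2
  refine lt_of_le_of_ne (le_inf hRS.le Subgroup.le_normalizer) ?_
  intro h
  apply hxR
  rw [Subgroup.mem_subgroupOf, h]
  refine Subgroup.mem_inf.mpr ⟨x.2, ?_⟩
  rw [Subgroup.mem_normalizer_iff]
  intro r
  have h3 := Subgroup.mem_normalizer_iff.mp hx
  constructor
  · intro hr
    exact (h3 ⟨r, hRS.le hr⟩).mp hr
  · intro hr
    have h4 : r ∈ S := by
      have h5 := S.mul_mem (S.mul_mem (S.inv_mem x.2) (hRS.le hr)) x.2
      have h6 : (x : G)⁻¹ * ((x : G) * r * (x : G)⁻¹) * x = r := by group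
      rwa [h6] at h5
    exact (h3 ⟨r, h4⟩).mpr hr

/-- The claim holds for every `p`-subgroup `R`, if perfect subgroups of `C_X(T)` have order prime to `p`,
for the Sylow `p`-subgroups `T` of `M`. -/
theorem claim_all [Finite G] {p : ℕ} [hp : Fact p.Prime] {M : Subgroup G} (hM : M.Normal)
    (hB : ∀ T : Subgroup G, T ≤ M → IsPGroup p T → ¬ p ∣ T.relIndex M →
      ∀ H : Subgroup G, H ≤ Subgroup.centralizer (T : Set G) → ⁅H, H⁆ = H → (Nat.card H).Coprime p)
    (R : Subgroup G) (hR : IsPGroup p R) : Claim p M R := by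
  obtain ⟨S, hRS⟩ := hR.exists_le_sylow
  have key : ∀ n : ℕ, ∀ R : Subgroup G, R ≤ (S : Subgroup G) →
      Nat.card (S : Subgroup G) ≤ Nat.card R + n → Claim p M R := by
    intro n
    induction n with
    | zero =>
      intro R hRS hn
      have hRS' : R = (S : Subgroup G) := Subgroup.eq_of_le_of_card_ge hRS (by simpa using hn)
      intro H hH hHp _
      refine hB ((S : Subgroup G) ⊓ M) inf_le_right (S.2.to_le inf_le_left)
        (not_dvd_relIndex_inf S hM) H ?_ hHp
      refine hH.trans (Subgroup.centralizer_le ?_)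
      rw [hRS']
      exact inf_le_left
    | succ n ih =>
      intro R hRS hn
      set U : Subgroup G := (S : Subgroup G) ⊓ M with hU
      by_cases hUR : U ≤ R
      · intro H hH hHp _
        exact hB U inf_le_right (S.2.to_le inf_le_left) (not_dvd_relIndex_inf S hM) H
          (hH.trans (Subgroup.centralizer_le hUR)) hHp
      · have hlt : R < U ⊔ R := by
          refine lt_of_le_of_ne le_sup_right ?_
          intro h
          exact hUR (le_sup_left.trans h.ge)
        have hURS : U ⊔ R ≤ (S : Subgroup G) := sup_le inf_le_left hRS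
        have h1 := lt_inf_normalizer_of_lt (S.2.to_le hURS) hlt
        set Q : Subgroup G := (U ⊔ R) ⊓ Subgroup.normalizer (R : Set G) with hQ
        have hQS : Q ≤ (S : Subgroup G) := inf_le_left.trans hURS
        refine claim_step hM (S.2.to_le hQS) h1.le inf_le_right
          (inf_le_left.trans (sup_le_sup_right inf_le_right R)) (ih Q hQS ?_)
        have hcard : Nat.card R < Nat.card Q := by
          refine lt_of_le_of_ne (Subgroup.card_le_of_le h1.le) ?_
          intro h
          exact h1.ne (Subgroup.eq_of_le_of_card_ge h1.le h.ge)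
        omega
  exact key (Nat.card (S : Subgroup G)) R hRS (Nat.le_add_left _ _)

end Cfsg.Agent.SignalizersComponents.PerfectGoingUp
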