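import Mathlib
import Cfsg.Prelude.Def_Local
import Cfsg.Agent.Lib.Cores
import Cfsg.Agent.Lib.PComponents
import Cfsg.Agent.Lib.GenFitting
import Cfsg.Agent.SignalizersComponents.CompBasic
import Cfsg.Agent.SignalizersComponents.PConstrained
import Cfsg.Agent.SignalizersComponents.LBalanceCore

/-!
# Perfect subgroups of the centralizer of a Sylow `p`-subgroup of `L_{p'}(X) O_{p',p}(X)`

Reduction to automorphism groups: if every perfect group of automorphisms of `F*(X/O_{p'}(X))` fixing a Sylow
`p`-subgroup pointwise has order prime to `p`, then `L_{p'}`-balance holds in `X`.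
-/

set_option autoImplicit false

open scoped commutatorElement

namespace Cfsg.Agent.SignalizersComponents.CentSylowPerfect

open Cfsg Cfsg.Agent.Lib Cfsg.Agent.SignalizersComponents

/-- The property that perfect groups of automorphisms fixing a Sylow `p`-subgroup of `F` pointwise have order
prime to `p`. -/
def AutProp (p : ℕ) (F : Type*) [Group F] : Prop :=
  ∀ (S : Sylow p F) (C : Subgroup (MulAut F)), (∀ φ ∈ C, ∀ s ∈ S, φ s = s) → ⁅C, C⁆ = C →
    (Nat.card C).Coprime p

theorem coprime_of_autProp {Y : Type*} [Group Y] [Finite Y] {p : ℕ} [hp : Fact p.Prime] {F : Subgroup Y}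
    (hFn : F.Normal) (hF : Subgroup.centralizer (F : Set Y) ≤ F) (hA : AutProp p F) {T : Subgroup Y}
    (hT : IsPGroup p T) (hTi : ¬ p ∣ T.relIndex F) {H : Subgroup Y}
    (hH : H ≤ Subgroup.centralizer (T : Set Y)) (hHp : ⁅H, H⁆ = H) : (Nat.card H).Coprime p := by
  -- the action of `H` on `F`
  let ρ : Y →* MulAut F := MulAut.conjNormal
  have hρ : ∀ (g : Y) (x : F), ((ρ g x : F) : Y) = g * x * g⁻¹ := fun g x => MulAut.conjNormal_apply g x
  let S : Sylow p F := (hT.comap_subtype (K := F)).toSylow (P := T.subgroupOf F) hTi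
  have hS : (S : Subgroup F) = T.subgroupOf F := rfl
  have hC : (Nat.card (H.map ρ)).Coprime p := by
    refine hA S (H.map ρ) ?_ ?_
    · rintro _ ⟨h, hh, rfl⟩ s hs
      apply Subtype.ext
      rw [hρ]
      have hs' : (s : Y) ∈ T := hs
      have h1 := Subgroup.mem_centralizer_iff.mp (hH hh) s hs'
      exact mul_inv_eq_of_eq_mul h1.symm
    · rw [← Subgroup.map_commutator, hHp]
  -- Sylow subgroups of `H` are central
  rw [Nat.coprime_comm, Nat.Prime.coprime_iff_not_dvd hp.out]
  intro hdvd
  obtain ⟨P⟩ : Nonempty (Sylow p H) := inferInstance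
  have hHperf : Group.IsPerfect H := by
    rw [Subgroup.isPerfect_iff]; exact hHp
  refine CompBasic.sylow_not_le_center_of_perfect hHperf p hdvd P ?_
  intro x hx
  -- `ρ x = 1`
  obtain ⟨k, hk⟩ := P.2 ⟨x, hx⟩
  have hk' : (x : Y) ^ p ^ k = 1 := congrArg (fun z : (P : Subgroup H) => ((z : H) : Y)) hk
  have h1 : ρ (x : Y) = 1 := by
    have e2 : orderOf (ρ (x : Y)) ∣ p ^ k := by
      apply orderOf_dvd_of_pow_eq_one
      rw [← map_pow, hk', map_one]
    have e3 : orderOf (ρ (x : Y)) ∣ Nat.card (H.map ρ) := by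
      rw [← Subgroup.orderOf_mk (ρ (x : Y)) (Subgroup.mem_map_of_mem ρ x.2)]
      exact orderOf_dvd_natCard _
    have e4 := Nat.dvd_gcd e3 e2
    rw [(hC.pow_right k : (Nat.card (H.map ρ)).gcd (p ^ k) = 1), Nat.dvd_one,
      orderOf_eq_one_iff] at e4
    exact e4
  have hxc : (x : Y) ∈ Subgroup.centralizer (F : Set Y) := by
    rw [Subgroup.mem_centralizer_iff]
    intro y hy
    have h2 := congrArg (fun φ : MulAut F => ((φ ⟨y, hy⟩ : F) : Y)) h1
    simp only [hρ, MulAut.one_apply] at h2
    exact (mul_inv_eq_iff_eq_mul.mp h2).symm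
  have hxF : (x : Y) ∈ F := hF hxc
  -- `x ∈ T`
  have hxT : (x : Y) ∈ T := by
    let Z : Subgroup F := Subgroup.zpowers (⟨x, hxF⟩ : F)
    have hZ : IsPGroup p Z := by
      apply IsPGroup.of_card_dvd_pow
      rw [Nat.card_zpowers]
      change orderOf (⟨x, hxF⟩ : F) ∣ p ^ k
      rw [Subgroup.orderOf_mk]
      exact orderOf_dvd_of_pow_eq_one hk'
    have hZn : Z.Normal := by
      constructor
      intro z hz g
      obtain ⟨m, rfl⟩ := hz
      have h3 : g * (⟨x, hxF⟩ : F) ^ m * g⁻¹ = (⟨x, hxF⟩ : F) ^ m := by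
        have h4 : Commute g (⟨x, hxF⟩ : F) := by
          apply Subtype.ext
          exact Subgroup.mem_centralizer_iff.mp hxc g g.2
        rw [(h4.zpow_right m).eq, mul_inv_cancel_right]
      change g * (⟨x, hxF⟩ : F) ^ m * g⁻¹ ∈ Z
      rw [h3]
      exact Z.zpow_mem (Subgroup.mem_zpowers _) m
    have h5 : Z ≤ (S : Subgroup F) := IsPGroup.le_sylow_of_normal hZ S
    exact h5 (Subgroup.mem_zpowers _)
  rw [Subgroup.mem_center_iff]
  intro g
  apply Subtype.ext
  exact (Subgroup.mem_centralizer_iff.mp (hH g.2) x hxT).symm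

/-- The image of `L_{p'}(X) O_{p',p}(X)` in `X/O_{p'}(X)` is the generalized Fitting subgroup. -/
theorem map_pLayer_sup_pPrimePCore {X : Type*} [Group X] [Finite X] {p : ℕ} [hp : Fact p.Prime] :
    (pLayer p X ⊔ pPrimePCore p X).map (QuotientGroup.mk' (pPrimeCore p X)) =
      generalizedFittingSubgroup (X ⧸ pPrimeCore p X) := by
  rw [Subgroup.map_sup, PComponents.map_pLayer, PConstrained.map_mk_pPrimePCore,
    GenFitting.genFitting_def, PConstrained.fittingSubgroup_eq_pCore_of_pPrimeCore_eq_bot p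
      (PComponents.pPrimeCore_quotient_eq_bot p)]

/-- Perfect subgroups of `C_X(T)`, `T` a Sylow `p`-subgroup of `L_{p'}(X) O_{p',p}(X)`. -/
theorem coprime_of_perfect {X : Type*} [Group X] [Finite X] {p : ℕ} [hp : Fact p.Prime]
    (hA : AutProp p (generalizedFittingSubgroup (X ⧸ pPrimeCore p X)))
    (T : Subgroup X) (hT : IsPGroup p T)
    (hTi : ¬ p ∣ T.relIndex (pLayer p X ⊔ pPrimePCore p X))
    (H : Subgroup X) (hH : H ≤ Subgroup.centralizer (T : Set X)) (hHp : ⁅H, H⁆ = H) :
    (Nat.card H).Coprime p := by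
  have hOn : (pPrimeCore p X).Normal := Cores.pPrimeCore_normal p
  set M : Subgroup X := pLayer p X ⊔ pPrimePCore p X with hM
  let π := QuotientGroup.mk' (pPrimeCore p X)
  have hMF : M.map π = generalizedFittingSubgroup (X ⧸ pPrimeCore p X) := map_pLayer_sup_pPrimePCore
  have hFn : (generalizedFittingSubgroup (X ⧸ pPrimeCore p X)).Normal := GenFitting.genFitting_normal
  have h1 : (Nat.card (H.map π)).Coprime p := by
    refine coprime_of_autProp hFn GenFitting.centralizer_genFitting_le hA (T := T.map π)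
      (hT.map π) ?_ ?_ ?_
    · rw [← hMF]
      intro h
      apply hTi
      refine h.trans ?_
      have hker : π.ker ≤ M := by
        rw [QuotientGroup.ker_mk']
        exact (PConstrained.pPrimeCore_le_pPrimePCore p).trans le_sup_right
      rw [Subgroup.relIndex_map_map, sup_eq_left.mpr hker]
      exact Subgroup.relIndex_dvd_of_le_left M le_sup_left
    · rintro _ ⟨h, hh, rfl⟩
      rw [Subgroup.mem_centralizer_iff]
      rintro _ ⟨t, ht, rfl⟩
      rw [← map_mul, ← map_mul, Subgroup.mem_centralizer_iff.mp (hH hh) t ht]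
    · rw [← Subgroup.map_commutator, hHp]
  have h2 : Nat.card (H.map π) * Nat.card ((pPrimeCore p X).subgroupOf H : Subgroup H) = Nat.card H := by
    have h3 := Subgroup.card_mul_index (π.ker.subgroupOf H)
    have h4 : (π.ker.subgroupOf H).index = Nat.card (H.map π) := Subgroup.relIndex_ker π (K := H)
    rw [h4, QuotientGroup.ker_mk', mul_comm] at h3
    exact h3
  rw [← h2]
  refine Nat.Coprime.mul_left h1 ?_
  exact Nat.Coprime.coprime_dvd_left (Subgroup.card_comap_dvd_of_injective _ H.subtype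
    (Subgroup.subtype_injective H)) (Cores.pPrimeCore_coprime p)

/-- **L-balance** from the property of automorphisms of `F*(X/O_{p'}(X))`. -/
theorem pLayer_centralizer_le_of_autProp {X : Type*} [Group X] [Finite X] {p : ℕ} [hp : Fact p.Prime]
    (hA : AutProp p (generalizedFittingSubgroup (X ⧸ pPrimeCore p X)))
    (R : Subgroup X) (hR : IsPGroup p R) :
    (pLayer p ↥(Subgroup.centralizer (R : Set X))).map (Subgroup.centralizer (R : Set X)).subtype ≤
      pLayer p X :=
  LBalanceCore.pLayer_centralizer_le (fun T _ hT hTi H hH hHp =>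
    coprime_of_perfect hA T hT hTi H hH hHp) R hR

end Cfsg.Agent.SignalizersComponents.CentSylowPerfect
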