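import Mathlib
import Cfsg.Prelude.Def_Local
import Cfsg.Agent.Lib.Cores
import Cfsg.Agent.Lib.PComponents
import Cfsg.Agent.Lib.GenFitting
import Cfsg.Agent.SignalizersComponents.CentSylowPerfect
import Cfsg.Agent.SignalizersComponents.AutSylow

/-!
# L-balance for the prime 2, from the `Z*`-theorem
-/

set_option autoImplicit false

open scoped commutatorElement

namespace Cfsg.Agent.SignalizersComponents.LBalanceTwo

open Cfsg Cfsg.Agent.Lib Cfsg.Agent.SignalizersComponents

/-- Perfect groups of automorphisms of a core-free group fixing a Sylow 2-subgroup pointwise have odd order. -/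
theorem autProp_two.{u} (hZ : AutSylow.ZStar.{u}) {F : Type u} [Group F] [Finite F]
    (hO : pPrimeCore 2 F = ⊥) : CentSylowPerfect.AutProp 2 F := by
  intro S C hC hCp
  have h1 := AutSylow.odd_card_commutator hZ (X := F) (fun N hN hodd => by
    rw [eq_bot_iff, ← hO]
    exact Cores.le_pPrimeCore hN (Nat.coprime_two_right.mpr hodd)) S C hC
  rw [hCp] at h1
  exact Nat.coprime_two_right.mpr h1

/-- A normal subgroup of a group with trivial `p'`-core has trivial `p'`-core. -/
theorem pPrimeCore_eq_bot_of_normal {Y : Type*} [Group Y] [Finite Y] {p : ℕ}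
    (hY : pPrimeCore p Y = ⊥) {F : Subgroup Y} (hF : F.Normal) : pPrimeCore p F = ⊥ := by
  have h1 := Cores.map_subtype_pPrimeCore (G := Y) p hF
  rw [hY, inf_bot_eq, Subgroup.map_eq_bot_iff, Subgroup.ker_subtype] at h1
  exact le_bot_iff.mp h1

theorem autProp_genFitting.{u} (hZ : AutSylow.ZStar.{u}) (X : Type u) [Group X] [Finite X] :
    CentSylowPerfect.AutProp 2 (generalizedFittingSubgroup (X ⧸ pPrimeCore 2 X)) := by
  have h2 : Fact (Nat.Prime 2) := ⟨Nat.prime_two⟩
  exact autProp_two hZ (pPrimeCore_eq_bot_of_normal (PComponents.pPrimeCore_quotient_eq_bot 2)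
    GenFitting.genFitting_normal)

/-- **L-balance** (`p = 2`): `L_{2'}(C_X(R)) ≤ L_{2'}(X)` for every 2-subgroup `R`. -/
theorem l_balance.{u} (hZ : AutSylow.ZStar.{u}) {X : Type u} [Group X] [Finite X]
    (R : Subgroup X) (hR : IsPGroup 2 R) :
    (pLayer 2 ↥(Subgroup.centralizer (R : Set X))).map (Subgroup.centralizer (R : Set X)).subtype ≤
      pLayer 2 X := by
  have h2 : Fact (Nat.Prime 2) := ⟨Nat.prime_two⟩
  exact CentSylowPerfect.pLayer_centralizer_le_of_autProp (autProp_genFitting hZ X) R hR

end Cfsg.Agent.SignalizersComponents.LBalanceTwo
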