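import Mathlib
import Cfsg.Prelude.Def_Local
import Cfsg.Agent.Lib.Cores
import Cfsg.Agent.Lib.PComponents
import Cfsg.Agent.SignalizersComponents.PLayerAut
import Cfsg.Agent.SignalizersComponents.PCompCore
import Cfsg.Agent.SignalizersComponents.PCompQuot
import Cfsg.Agent.SignalizersComponents.CompBasic

/-!
Relative 2-components: `TC X K` says that `K ≤ X` is a 2-component of the subgroup `X`.
`relCore 2 X` is `O(X)`; `cenMod X K` is the group of elements of `X` centralizing `K` modulo `O(X)`.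
-/

set_option autoImplicit false

namespace Cfsg.Agent.SignalizersComponents.IntrinsicBasic

open Subgroup Cfsg Cfsg.Agent.SignalizersComponents.PLayerAut

variable {G : Type*} [Group G]

/-! ### conjugates of subgroups -/

/-- `g K g⁻¹` -/
def cj (g : G) (K : Subgroup G) : Subgroup G := K.map (MulAut.conj g).toMonoidHom

theorem cj_def (g : G) (K : Subgroup G) : cj g K = K.map (MulAut.conj g).toMonoidHom := rfl

theorem mem_cj {g x : G} {K : Subgroup G} : x ∈ cj g K ↔ g⁻¹ * x * g ∈ K := by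
  constructor
  · rintro ⟨y, hy, rfl⟩
    have : g⁻¹ * (g * y * g⁻¹) * g = y := by group
    change g⁻¹ * (g * y * g⁻¹) * g ∈ K
    rwa [this]
  · intro h
    refine ⟨g⁻¹ * x * g, h, ?_⟩
    change g * (g⁻¹ * x * g) * g⁻¹ = x
    group

theorem conj_mem_cj {g x : G} {K : Subgroup G} (hx : x ∈ K) : g * x * g⁻¹ ∈ cj g K :=
  ⟨x, hx, rfl⟩

theorem cj_one (K : Subgroup G) : cj 1 K = K := by
  ext x; rw [mem_cj]; simp

theorem cj_mul (g h : G) (K : Subgroup G) : cj (g * h) K = cj g (cj h K) := by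
  ext x
  rw [mem_cj, mem_cj, mem_cj]
  have : (g * h)⁻¹ * x * (g * h) = h⁻¹ * (g⁻¹ * x * g) * h := by group
  rw [this]

theorem cj_inv_cj (g : G) (K : Subgroup G) : cj g⁻¹ (cj g K) = K := by
  rw [← cj_mul, inv_mul_cancel, cj_one]

theorem cj_cj_inv (g : G) (K : Subgroup G) : cj g (cj g⁻¹ K) = K := by
  rw [← cj_mul, mul_inv_cancel, cj_one]

theorem cj_injective (g : G) : Function.Injective (cj g) := by
  intro K L h
  have := congrArg (cj g⁻¹) h
  rwa [cj_inv_cj, cj_inv_cj] at this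

theorem cj_mono {g : G} {K L : Subgroup G} (h : K ≤ L) : cj g K ≤ cj g L :=
  Subgroup.map_mono h

theorem mem_normalizer_iff_cj {g : G} {K : Subgroup G} :
    g ∈ normalizer (K : Set G) ↔ cj g K = K := by
  rw [cj_def]
  exact mem_normalizer_iff_map_conj_eq

theorem cj_eq_self_of_mem {g : G} {K : Subgroup G} (h : g ∈ K) : cj g K = K :=
  mem_normalizer_iff_cj.mp (le_normalizer h)

theorem cj_centralizer (g z : G) :
    cj g (centralizer ({z} : Set G)) = centralizer ({g * z * g⁻¹} : Set G) := by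
  ext x
  rw [mem_cj, mem_centralizer_singleton_iff, mem_centralizer_singleton_iff]
  constructor
  · intro h
    have h' : g * (g⁻¹ * x * g * z) * g⁻¹ = g * (z * (g⁻¹ * x * g)) * g⁻¹ := by rw [h]
    calc x * (g * z * g⁻¹) = g * (g⁻¹ * x * g * z) * g⁻¹ := by group
      _ = g * (z * (g⁻¹ * x * g)) * g⁻¹ := h'
      _ = g * z * g⁻¹ * x := by group
  · intro h
    have h' : g⁻¹ * (x * (g * z * g⁻¹)) * g = g⁻¹ * (g * z * g⁻¹ * x) * g := by rw [h]
    calc g⁻¹ * x * g * z = g⁻¹ * (x * (g * z * g⁻¹)) * g := by group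
      _ = g⁻¹ * (g * z * g⁻¹ * x) * g := h'
      _ = z * (g⁻¹ * x * g) := by group

theorem cj_relCore (g : G) (X : Subgroup G) : cj g (relCore 2 X) = relCore 2 (cj g X) := by
  rw [cj_def, cj_def]
  exact (relCore_map_equiv 2 (MulAut.conj g) X).symm

/-! ### the relative core -/

theorem mem_relCore {X : Subgroup G} {x : G} :
    x ∈ relCore 2 X ↔ ∃ h : x ∈ X, (⟨x, h⟩ : ↥X) ∈ oddCore ↥X := by
  rw [relCore_def, Subgroup.mem_map]
  constructor
  · rintro ⟨y, hy, rfl⟩
    exact ⟨y.2, hy⟩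
  · rintro ⟨h, hx⟩
    exact ⟨⟨x, h⟩, hx, rfl⟩

theorem mem_relCore_iff {X : Subgroup G} {x : G} (hx : x ∈ X) :
    x ∈ relCore 2 X ↔ (QuotientGroup.mk' (oddCore ↥X)) ⟨x, hx⟩ = 1 := by
  rw [mem_relCore, QuotientGroup.mk'_apply, QuotientGroup.eq_one_iff]
  exact ⟨fun ⟨_, h⟩ => h, fun h => ⟨hx, h⟩⟩

theorem mk_eq_mk_iff {X : Subgroup G} {x y : ↥X} :
    (QuotientGroup.mk' (oddCore ↥X)) x = (QuotientGroup.mk' (oddCore ↥X)) y ↔
      (x : G)⁻¹ * y ∈ relCore 2 X := by
  rw [mem_relCore_iff (X.mul_mem (X.inv_mem x.2) y.2), QuotientGroup.mk'_apply,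
    QuotientGroup.mk'_apply, QuotientGroup.eq, QuotientGroup.mk'_apply, QuotientGroup.eq_one_iff]
  rfl

theorem relCore_subgroupOf_normal (X : Subgroup G) : ((relCore 2 X).subgroupOf X).Normal := by
  have : (relCore 2 X).subgroupOf X = oddCore ↥X := by
    rw [relCore_def]
    exact Subgroup.comap_map_eq_self_of_injective X.subtype_injective _
  rw [this]
  infer_instance

theorem conj_mem_relCore {X : Subgroup G} {x o : G} (hx : x ∈ normalizer (X : Set G))
    (ho : o ∈ relCore 2 X) : x * o * x⁻¹ ∈ relCore 2 X :=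
  (mem_normalizer_iff.mp (normalizer_le_normalizer_relCore 2 X hx) o).mp ho

theorem conj_mem_relCore' {X : Subgroup G} {x o : G} (hx : x ∈ X)
    (ho : o ∈ relCore 2 X) : x * o * x⁻¹ ∈ relCore 2 X :=
  conj_mem_relCore (le_normalizer hx) ho

variable [Finite G]

theorem odd_card_relCore (X : Subgroup G) : Odd (Nat.card (relCore 2 X)) :=
  Nat.coprime_two_right.mp (relCore_coprime 2 X)

omit [Finite G] in
theorem eq_one_of_mem_odd {N : Subgroup G} (hN : Odd (Nat.card N)) {x : G} (hx : x ∈ N) {n : ℕ}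
    (h : x ^ 2 ^ n = 1) : x = 1 := by
  have h1 : orderOf x ∣ 2 ^ n := orderOf_dvd_of_pow_eq_one h
  have h2 : orderOf x ∣ Nat.card N := by
    have := orderOf_dvd_natCard (⟨x, hx⟩ : N)
    rwa [← Subgroup.orderOf_coe] at this
  have h3 : Nat.Coprime (2 ^ n) (Nat.card N) :=
    Nat.Coprime.pow_left n (Nat.coprime_two_left.mpr hN)
  exact orderOf_eq_one_iff.mp (Nat.eq_one_of_dvd_coprimes h3 h1 h2)

theorem eq_one_of_mem_relCore {X : Subgroup G} {x : G} (hx : x ∈ relCore 2 X) {n : ℕ}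
    (h : x ^ 2 ^ n = 1) : x = 1 :=
  eq_one_of_mem_odd (odd_card_relCore X) hx h

theorem eq_one_of_sq {X : Subgroup G} {x : G} (hx : x ∈ relCore 2 X) (h : x * x = 1) : x = 1 :=
  eq_one_of_mem_relCore hx (n := 1) (by rw [pow_one, pow_two]; exact h)

omit [Finite G] in
/-- If `x` lies in an odd order group and `x²` in a subgroup then `x` is in the subgroup. -/
theorem mem_of_sq_mem {N : Subgroup G} (hN : Odd (Nat.card N)) {H : Subgroup G} {x : G}
    (hx : x ∈ N) (h : x * x ∈ H) : x ∈ H := by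
  obtain ⟨k, hk⟩ := hN
  have h1 : x ^ Nat.card N = 1 := by
    have := pow_card_eq_one' (x := (⟨x, hx⟩ : N))
    exact congrArg Subtype.val this
  have h2 : (x * x) ^ (k + 1) = x := by
    rw [← pow_two, ← pow_mul, show 2 * (k + 1) = Nat.card N + 1 by omega, pow_succ, h1, one_mul]
  rw [← h2]
  exact pow_mem h _

theorem le_relCore_of_subnormal {X N : Subgroup G} (hNX : N ≤ X)
    (hn : (N.subgroupOf X).IsSubnormal) (hodd : Odd (Nat.card N)) : N ≤ relCore 2 X := by
  have h1 : N.subgroupOf X ≤ oddCore ↥X := by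
    apply CompBasic.subnormal_coprime_le_pPrimeCore hn
    rw [Nat.card_congr (Subgroup.subgroupOfEquivOfLe hNX).toEquiv]
    exact Nat.coprime_two_right.mpr hodd
  intro x hx
  exact mem_relCore.mpr ⟨hNX hx, h1 hx⟩

theorem le_relCore {X N : Subgroup G} (hNX : N ≤ X)
    (hn : (N.subgroupOf X).Normal) (hodd : Odd (Nat.card N)) : N ≤ relCore 2 X :=
  le_relCore_of_subnormal hNX hn.isSubnormal hodd

/-! ### relative 2-components -/

omit [Finite G] in
/-- `K` is a 2-component of the subgroup `X`. -/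
structure TC (X K : Subgroup G) : Prop where
  le : K ≤ X
  comp : IsPComponent 2 (K.subgroupOf X)

omit [Finite G] in
theorem TC.cj {X K : Subgroup G} (h : TC X K) (g : G) : TC (cj g X) (cj g K) := by
  refine ⟨cj_mono h.le, ?_⟩
  have h1 := isPComponent_map_equiv 2 (X.equivMapOfInjective (MulAut.conj g).toMonoidHom
    (MulAut.conj g).injective) h.comp
  have e : (IntrinsicBasic.cj g K).subgroupOf (IntrinsicBasic.cj g X) =
      (K.subgroupOf X).map (X.equivMapOfInjective (MulAut.conj g).toMonoidHom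
        (MulAut.conj g).injective).toMonoidHom := by
    ext x
    constructor
    · intro hx
      obtain ⟨y, hy, hyx⟩ := (hx : (x : G) ∈ IntrinsicBasic.cj g K)
      refine ⟨⟨y, h.le hy⟩, hy, ?_⟩
      apply Subtype.ext
      exact hyx
    · rintro ⟨y, hy, rfl⟩
      exact ⟨(y : G), hy, rfl⟩
  rw [e]
  exact h1

omit [Finite G] in
theorem TC.cj_of_mem {X K : Subgroup G} (h : TC X K) {g : G} (hg : g ∈ normalizer (X : Set G)) :
    TC X (IntrinsicBasic.cj g K) := by
  have := h.cj g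
  rwa [mem_normalizer_iff_cj.mp hg] at this

/-- Elements of `X` centralizing `K` modulo `O(X)`. -/
def cenMod (X K : Subgroup G) : Subgroup G :=
  ((centralizer (((K.subgroupOf X).map (QuotientGroup.mk' (oddCore ↥X)) : Subgroup _) :
    Set (↥X ⧸ oddCore ↥X))).comap (QuotientGroup.mk' (oddCore ↥X))).map X.subtype

omit [Finite G] in
theorem mem_cenMod {X K : Subgroup G} (hKX : K ≤ X) {x : G} :
    x ∈ cenMod X K ↔ x ∈ X ∧ ∀ k ∈ K, k⁻¹ * (x * k * x⁻¹) ∈ relCore 2 X := by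
  constructor
  · rintro ⟨y, hy, rfl⟩
    refine ⟨y.2, fun k hk => ?_⟩
    have hy' : (QuotientGroup.mk' (oddCore ↥X)) y ∈ centralizer (((K.subgroupOf X).map
      (QuotientGroup.mk' (oddCore ↥X)) : Subgroup _) : Set (↥X ⧸ oddCore ↥X)) := hy
    rw [mem_centralizer_iff] at hy'
    have h1 := hy' ((QuotientGroup.mk' (oddCore ↥X)) ⟨k, hKX hk⟩) ⟨⟨k, hKX hk⟩, hk, rfl⟩
    have h2 : (QuotientGroup.mk' (oddCore ↥X)) ⟨k, hKX hk⟩ =
        (QuotientGroup.mk' (oddCore ↥X)) (y * ⟨k, hKX hk⟩ * y⁻¹) := by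
      rw [map_mul, map_mul, map_inv, ← h1]
      group
    exact mk_eq_mk_iff.mp h2
  · rintro ⟨hx, h⟩
    refine ⟨⟨x, hx⟩, ?_, rfl⟩
    change (QuotientGroup.mk' (oddCore ↥X)) ⟨x, hx⟩ ∈ centralizer (((K.subgroupOf X).map
      (QuotientGroup.mk' (oddCore ↥X)) : Subgroup _) : Set (↥X ⧸ oddCore ↥X))
    rw [mem_centralizer_iff]
    rintro _ ⟨k, hk, rfl⟩
    have h1 := h k hk
    have h2 : (QuotientGroup.mk' (oddCore ↥X)) k =
        (QuotientGroup.mk' (oddCore ↥X)) (⟨x, hx⟩ * k * ⟨x, hx⟩⁻¹) := mk_eq_mk_iff.mpr h1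
    rw [map_mul, map_mul, map_inv] at h2
    calc (QuotientGroup.mk' (oddCore ↥X)) k * (QuotientGroup.mk' (oddCore ↥X)) ⟨x, hx⟩
        = ((QuotientGroup.mk' (oddCore ↥X)) ⟨x, hx⟩ * (QuotientGroup.mk' (oddCore ↥X)) k *
          ((QuotientGroup.mk' (oddCore ↥X)) ⟨x, hx⟩)⁻¹) * (QuotientGroup.mk' (oddCore ↥X)) ⟨x, hx⟩ := by
            rw [← h2]
      _ = _ := by group

omit [Finite G] in
theorem cenMod_le (X K : Subgroup G) : cenMod X K ≤ X := map_subtype_le _

omit [Finite G] in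
theorem relCore_le_cenMod (X K : Subgroup G) : relCore 2 X ≤ cenMod X K := by
  intro x hx
  obtain ⟨h, hx'⟩ := mem_relCore.mp hx
  refine ⟨⟨x, h⟩, ?_, rfl⟩
  change (QuotientGroup.mk' (oddCore ↥X)) ⟨x, h⟩ ∈ centralizer (((K.subgroupOf X).map
      (QuotientGroup.mk' (oddCore ↥X)) : Subgroup _) : Set (↥X ⧸ oddCore ↥X))
  have : (QuotientGroup.mk' (oddCore ↥X)) (⟨x, h⟩ : ↥X) = 1 := (QuotientGroup.eq_one_iff _).mpr hx'
  rw [this]
  exact one_mem _

omit [Finite G] in
theorem cj_cenMod (g : G) {X K : Subgroup G} (hKX : K ≤ X) :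
    cj g (cenMod X K) = cenMod (cj g X) (cj g K) := by
  ext x
  rw [mem_cj, mem_cenMod hKX, mem_cenMod (cj_mono hKX), mem_cj]
  refine and_congr_right fun _ => ?_
  constructor
  · intro h k hk
    have h1 := h (g⁻¹ * k * g) (mem_cj.mp hk)
    rw [← cj_relCore, mem_cj]
    convert h1 using 1
    group
  · intro h k hk
    have h1 := h (g * k * g⁻¹) (conj_mem_cj hk)
    rw [← cj_relCore, mem_cj] at h1
    convert h1 using 1
    group

theorem TC.le_cenMod {X K L : Subgroup G} (hK : TC X K) (hL : TC X L) (hne : K ≠ L) :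
    L ≤ cenMod X K := by
  intro l hl
  refine ⟨⟨l, hL.le hl⟩, ?_, rfl⟩
  have hne' : L.subgroupOf X ≠ K.subgroupOf X := by
    intro h
    apply hne
    have := congrArg (Subgroup.map X.subtype) h
    rw [subgroupOf_map_subtype, subgroupOf_map_subtype, inf_of_le_left hL.le,
      inf_of_le_left hK.le] at this
    exact this.symm
  exact PCompCore.map_le_centralizer_of_ne hL.comp hK.comp hne' ⟨⟨l, hL.le hl⟩, hl, rfl⟩

omit [Finite G] in
theorem TC.perfect {X K : Subgroup G} (hK : TC X K) : ⁅K, K⁆ = K := by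
  have h1 := Lib.PComponents.pcomp_perfect hK.comp
  have h2 := congrArg (Subgroup.map X.subtype) h1
  rw [Subgroup.map_commutator, subgroupOf_map_subtype, inf_of_le_left hK.le] at h2
  exact h2

/-- 2-elements of `K O(X)` lie in `K`. -/
theorem TC.mem_of_two {X K : Subgroup G} (hK : TC X K) {x k : G} (hk : k ∈ K)
    (hx : k⁻¹ * x ∈ relCore 2 X) {n : ℕ} (hn : x ^ 2 ^ n = 1) : x ∈ K := by
  have hxX : x ∈ X := by
    have := X.mul_mem (hK.le hk) (relCore_le 2 X hx)
    rwa [mul_inv_cancel_left] at this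
  have h1 : (⟨x, hxX⟩ : ↥X) ∈ Lib.PComponents.pElem 2 (K.subgroupOf X ⊔ pPrimeCore 2 ↥X) := by
    refine Lib.PComponents.mem_pElem (n := n) ?_ (by ext; simpa using hn)
    have h2 : (⟨x, hxX⟩ : ↥X) = ⟨k, hK.le hk⟩ * ⟨k⁻¹ * x, relCore_le 2 X hx⟩ := by
      ext; simp
    rw [h2]
    refine mul_mem (mem_sup_left hk) (mem_sup_right ?_)
    obtain ⟨_, h⟩ := mem_relCore.mp hx
    exact h
  rw [← Lib.PComponents.pcomp_eq_pElem hK.comp] at h1
  exact h1

/-- An element of `X` centralizing `K` modulo `O(X)` normalizes `K`. -/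
theorem TC.cenMod_le_normalizer {X K : Subgroup G} (hK : TC X K) :
    cenMod X K ≤ normalizer (K : Set G) := by
  rintro _ ⟨y, hy, rfl⟩
  have h1 := PCompCore.mem_normalizer_of_mk_centralizes hK.comp (g := y) hy
  rw [mem_normalizer_iff] at h1 ⊢
  intro h
  constructor
  · intro hh
    exact (h1 ⟨h, hK.le hh⟩).mp hh
  · intro hh
    have hX : h ∈ X := by
      have h3 := hK.le hh
      have h4 : h = (y : G)⁻¹ * ((y : G) * h * (y : G)⁻¹) * y := by group
      rw [h4]
      exact X.mul_mem (X.mul_mem (X.inv_mem y.2) h3) y.2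
    exact (h1 ⟨h, hX⟩).mpr hh

theorem TC.relCore_le_normalizer {X K : Subgroup G} (hK : TC X K) :
    relCore 2 X ≤ normalizer (K : Set G) :=
  (relCore_le_cenMod X K).trans hK.cenMod_le_normalizer

/-- If `g ∈ X`, `x ∈ K ∩ g K g⁻¹` and `K` is not normalized by `g` then `x` centralizes `K`
modulo `O(X)`. -/
theorem TC.mem_cenMod_of_mem {X K L : Subgroup G} (hK : TC X K) (hL : TC X L) (hne : K ≠ L)
    {x : G} (hx : x ∈ L) : x ∈ cenMod X K :=
  hK.le_cenMod hL hne hx


end Cfsg.Agent.SignalizersComponents.IntrinsicBasic
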