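import Mathlib
import Cfsg.Prelude.Def_Local
import Cfsg.Agent.Lib.Cores
import Cfsg.Agent.Lib.SubnormalJoin
import Cfsg.Agent.Lib.PComponents
import Cfsg.Agent.SignalizersComponents.PCompCore
import Cfsg.Agent.SignalizersComponents.PCompQuot
import Cfsg.Agent.SignalizersComponents.CompBasic
import Cfsg.Agent.SignalizersComponents.LayerBasic
import Cfsg.Agent.SignalizersComponents.IntrinsicBasic
import Cfsg.Agent.SignalizersComponents.IntrinsicIntr
import Cfsg.Agent.S1314

/-!
The diagonal 2-component of `C_X(v)` for a 2-component `K` of `X` moved by the involution `v`.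
-/

set_option autoImplicit false

namespace Cfsg.Agent.SignalizersComponents.IntrinsicDiag

open scoped commutatorElement

open Subgroup Cfsg Cfsg.Agent.SignalizersComponents Cfsg.Agent.SignalizersComponents.IntrinsicBasic
  Cfsg.Agent.SignalizersComponents.PLayerAut Cfsg.Agent.SignalizersComponents.IntrinsicIntr

/-- A nonabelian simple group is quasisimple. -/
theorem quasisimple_of_simple {A : Type*} [Group A] (hs : IsSimpleGroup A)
    (hnc : ¬ IsMulCommutative A) : IsQuasisimple A := by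
  have hc : center A = ⊥ := by
    rcases hs.eq_bot_or_eq_top_of_normal (center A) inferInstance with h | h
    · exact h
    · exfalso
      apply hnc
      refine ⟨⟨fun a b => ?_⟩⟩
      have : b ∈ center A := by rw [h]; exact mem_top b
      exact (mem_center_iff.mp this a)
  refine ⟨?_, ?_⟩
  · rw [Group.isPerfect_def]
    rcases hs.eq_bot_or_eq_top_of_normal (commutator A) inferInstance with h | h
    · exfalso
      apply hnc
      refine ⟨⟨fun a b => ?_⟩⟩
      have : ⁅a, b⁆ ∈ commutator A := by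
        rw [_root_.commutator_def]; exact commutator_mem_commutator (mem_top a) (mem_top b)
      rw [h, mem_bot, commutatorElement_eq_one_iff_mul_comm] at this
      exact this
    · exact h
  · have e : A ⧸ center A ≃* A := (QuotientGroup.quotientMulEquivOfEq hc).trans QuotientGroup.quotientBot
    have : Nontrivial (A ⧸ center A) := e.toEquiv.nontrivial
    exact IsSimpleGroup.isSimpleGroup_of_surjective e.symm.toMonoidHom e.symm.surjective

theorem center_eq_bot {A : Type*} [Group A] (hs : IsSimpleGroup A)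
    (hnc : ¬ IsMulCommutative A) : center A = ⊥ := by
  rcases hs.eq_bot_or_eq_top_of_normal (center A) inferInstance with h | h
  · exact h
  · exfalso
    apply hnc
    refine ⟨⟨fun a b => ?_⟩⟩
    have : b ∈ center A := by rw [h]; exact mem_top b
    exact (mem_center_iff.mp this a)

theorem isMulCommutative_congr {A B : Type*} [Group A] [Group B] (e : A ≃* B)
    (h : IsMulCommutative A) : IsMulCommutative B := by
  refine ⟨⟨fun a b => ?_⟩⟩
  obtain ⟨a, rfl⟩ := e.surjective a
  obtain ⟨b, rfl⟩ := e.surjective b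
  rw [← map_mul, ← map_mul, h.is_comm.comm]

theorem isSimpleGroup_congr {A B : Type*} [Group A] [Group B] (e : A ≃* B)
    (h : IsSimpleGroup A) : IsSimpleGroup B := by
  have : Nontrivial B := e.symm.toEquiv.nontrivial
  exact IsSimpleGroup.isSimpleGroup_of_surjective e.toMonoidHom e.surjective

/-- The quotient of `D ≤ M` by its odd core does not depend on the ambient group. -/
noncomputable def quotSubgroupOf {G : Type*} [Group G] {M D : Subgroup G} (hDM : D ≤ M) :
    (↥(D.subgroupOf M) ⧸ oddCore ↥(D.subgroupOf M)) ≃* (↥D ⧸ oddCore ↥D) :=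
  QuotientGroup.congr _ _ (subgroupOfEquivOfLe hDM) (Lib.Cores.map_equiv_pPrimeCore _ 2)

theorem component_of_simple {G : Type*} [Group G] [Finite G] {M D : Subgroup G} (hDM : D ≤ M)
    (hsub : (D.subgroupOf M).IsSubnormal) (hs : IsSimpleGroup (↥D ⧸ oddCore ↥D))
    (hnc : ¬ IsMulCommutative (↥D ⧸ oddCore ↥D)) :
    IsComponent ((D.subgroupOf M).map (QuotientGroup.mk' (oddCore ↥M))) ∧
      (D ⊓ relCore 2 M = relCore 2 D) ∧ (∀ d ∈ D, d ∈ cenMod M D → d ∈ relCore 2 M) := by
  obtain ⟨e, he⟩ := PCompQuot.exists_quotient_equiv 2 hsub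
  have hs1 : IsSimpleGroup ↥((D.subgroupOf M).map (QuotientGroup.mk' (oddCore ↥M))) :=
    isSimpleGroup_congr ((quotSubgroupOf hDM).symm.trans e) hs
  have hnc1 : ¬ IsMulCommutative ↥((D.subgroupOf M).map (QuotientGroup.mk' (oddCore ↥M))) :=
    fun h => hnc (isMulCommutative_congr ((quotSubgroupOf hDM).symm.trans e).symm h)
  refine ⟨⟨hsub.map (QuotientGroup.mk'_surjective _), quasisimple_of_simple hs1 hnc1⟩, ?_, ?_⟩
  · have h1 := PCompQuot.map_subtype_pPrimeCore_subnormal 2 hsub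
    have h2 := congrArg (Subgroup.map M.subtype) h1
    rw [Subgroup.map_inf _ _ _ M.subtype_injective, subgroupOf_map_subtype, inf_of_le_left hDM] at h2
    rw [relCore_def, ← h2, relCore_def, ← Lib.Cores.map_equiv_pPrimeCore (subgroupOfEquivOfLe hDM) 2,
      Subgroup.map_map, Subgroup.map_map]
    rfl
  · intro d hd hdc
    have hc := center_eq_bot hs1 hnc1
    obtain ⟨y, hy, rfl⟩ := hdc
    have hy' : (QuotientGroup.mk' (oddCore ↥M)) y ∈ centralizer (((D.subgroupOf M).map
      (QuotientGroup.mk' (oddCore ↥M)) : Subgroup _) : Set (↥M ⧸ oddCore ↥M)) := hy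
    have h1 : (⟨(QuotientGroup.mk' (oddCore ↥M)) y, ⟨y, hd, rfl⟩⟩ :
        ↥((D.subgroupOf M).map (QuotientGroup.mk' (oddCore ↥M)))) ∈
        center ↥((D.subgroupOf M).map (QuotientGroup.mk' (oddCore ↥M))) := by
      rw [mem_center_iff]
      intro g
      apply Subtype.ext
      exact mem_centralizer_iff.mp hy' g g.2
    rw [hc, mem_bot, Subtype.ext_iff] at h1
    exact (mem_relCore_iff y.2).mpr h1

theorem exists_diag {G : Type*} [Group G] [Finite G] {X K : Subgroup G} {v u : G}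
    (hK : TC X K) (hvX : v ∈ X) (hv : v * v = 1) (hne : cj v K ≠ K) (huK : u ∈ K)
    (huX : ∀ x ∈ X, x * u = u * x) (hu : u * u = 1)
    (hctr : ∀ k ∈ K, k ∈ cenMod X K → k ∈ relCore 2 X ∨ k * u ∈ relCore 2 X) :
    ∃ D : Subgroup G,
      (∀ m, m ∈ D ↔ m ∈ X ∧ m * v = v * m ∧ ∃ k ∈ K, m⁻¹ * (k * (v * k * v⁻¹)) ∈ relCore 2 X) ∧
      D ≤ X ⊓ centralizer ({v} : Set G) ∧
      (D.subgroupOf (X ⊓ centralizer ({v} : Set G))).IsSubnormal ∧
      IsSimpleGroup (↥D ⧸ oddCore ↥D) ∧ ¬ IsMulCommutative (↥D ⧸ oddCore ↥D) ∧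
      relCore 2 D = D ⊓ relCore 2 X ∧
      Nat.card (↥D ⧸ oddCore ↥D) =
        Nat.card ((↥K ⧸ oddCore ↥K) ⧸ center (↥K ⧸ oddCore ↥K)) := by
  have hp2 : Fact (Nat.Prime 2) := ⟨Nat.prime_two⟩
  -- the quotient `Q = X / O(X)`
  set π := QuotientGroup.mk' (oddCore ↥X) with hπ
  set Kb : Subgroup (↥X ⧸ oddCore ↥X) := (K.subgroupOf X).map π with hKb
  set vb : ↥X ⧸ oddCore ↥X := π ⟨v, hvX⟩ with hvb
  have hvi : v⁻¹ = v := inv_eq_of_mul_eq_one_left hv
  have hcompK : IsComponent Kb := hK.comp.2.1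
  have hv1 : v ≠ 1 := fun h => hne (by rw [h, cj_one])
  have hvb2 : vb * vb = 1 := by
    rw [hvb, ← map_mul, ← map_one π]
    congr 1
    exact Subtype.ext hv
  have hvb1 : vb ≠ 1 := by
    intro h
    apply hv1
    exact eq_one_of_sq (X := X) ((mem_relCore_iff hvX).mpr h) hv
  have hovb : orderOf vb = 2 := orderOf_eq_prime (by rw [pow_two]; exact hvb2) hvb1
  have hperf : ⁅Kb, Kb⁆ = Kb := isPerfect_iff.mp hcompK.2.1
  -- the conjugate component
  have hK' : TC X (cj v K) := hK.cj_of_mem (le_normalizer hvX)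
  have hKb' : Kb.map (MulAut.conj vb).toMonoidHom = ((cj v K).subgroupOf X).map π := by
    ext q
    constructor
    · rintro ⟨_, ⟨k, hk, rfl⟩, rfl⟩
      have hk' : (k : G) ∈ K := hk
      exact ⟨⟨v, hvX⟩ * k * ⟨v, hvX⟩⁻¹, (conj_mem_cj hk' : v * (k : G) * v⁻¹ ∈ cj v K), rfl⟩
    · rintro ⟨k, hk, rfl⟩
      have h1 : v⁻¹ * (k : G) * v ∈ K := mem_cj.mp hk
      refine ⟨π (⟨v, hvX⟩⁻¹ * k * ⟨v, hvX⟩), ⟨⟨v, hvX⟩⁻¹ * k * ⟨v, hvX⟩, h1, rfl⟩, ?_⟩
      change vb * π (⟨v, hvX⟩⁻¹ * k * ⟨v, hvX⟩) * vb⁻¹ = π k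
      rw [map_mul, map_mul, map_inv, ← hvb]
      group
  have hne' : K.subgroupOf X ≠ (cj v K).subgroupOf X := by
    intro h
    apply hne
    have := congrArg (Subgroup.map X.subtype) h
    rw [subgroupOf_map_subtype, subgroupOf_map_subtype, inf_of_le_left hK.le,
      inf_of_le_left hK'.le] at this
    exact this.symm
  have hcomm : ⁅Kb, Kb.map (MulAut.conj vb).toMonoidHom⁆ = ⊥ := by
    rw [commutator_eq_bot_iff_le_centralizer, hKb']
    exact PCompCore.map_le_centralizer_of_ne hK.comp hK'.comp hne'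
  obtain ⟨φ, hφ, hker, hran, hder⟩ := S1314.result vb hovb Kb hperf hcomm
  have hcompK' : IsComponent (Kb.map (MulAut.conj vb).toMonoidHom) := by
    rw [hKb']; exact hK'.comp.2.1
  -- the image is subnormal in `C(vb)`
  set C := centralizer ({vb} : Set (↥X ⧸ oddCore ↥X)) with hC
  have hEsub : (Kb ⊔ Kb.map (MulAut.conj vb).toMonoidHom).IsSubnormal :=
    Lib.SubnormalJoin.isSubnormal_sup hcompK.1 hcompK'.1
  have hECsub : (((Kb ⊔ Kb.map (MulAut.conj vb).toMonoidHom) ⊓ C).subgroupOf C).IsSubnormal := by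
    rw [inf_subgroupOf_right]
    exact hEsub.subgroupOf
  have hRsub : (φ.range.subgroupOf C).IsSubnormal := by
    rw [← hder]
    have h1 : ⁅(Kb ⊔ Kb.map (MulAut.conj vb).toMonoidHom) ⊓ C,
        (Kb ⊔ Kb.map (MulAut.conj vb).toMonoidHom) ⊓ C⁆.subgroupOf C =
        ⁅((Kb ⊔ Kb.map (MulAut.conj vb).toMonoidHom) ⊓ C).subgroupOf C,
          ((Kb ⊔ Kb.map (MulAut.conj vb).toMonoidHom) ⊓ C).subgroupOf C⁆ := by
      apply Subgroup.map_injective C.subtype_injective
      rw [Subgroup.map_commutator, subgroupOf_map_subtype, subgroupOf_map_subtype,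
        inf_of_le_left (inf_le_right), inf_of_le_left]
      exact (commutator_le_self _).trans inf_le_right
    rw [h1]
    refine IsSubnormal.trans (commutator_le_self _) ?_ hECsub
    apply Normal.isSubnormal
    rw [normal_subgroupOf_iff_le_normalizer (commutator_le_self _),
      le_normalizer_iff_commutator_le_left]
    exact commutator_mono (commutator_le_self _) le_rfl
  -- the kernel is the centre
  have hkerc : φ.ker = center ↥Kb := by
    refine le_antisymm hker ?_
    rintro ⟨_, ⟨k, hk, rfl⟩⟩ hz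
    have hkc : (k : G) ∈ cenMod X K := by
      refine ⟨k, ?_, rfl⟩
      change π k ∈ centralizer (Kb : Set (↥X ⧸ oddCore ↥X))
      rw [mem_centralizer_iff]
      intro h hh
      have := mem_center_iff.mp hz ⟨h, hh⟩
      exact congrArg Subtype.val this
    have hub : ∀ w : G, ∀ hw : w ∈ X, w = u → (π ⟨w, hw⟩) * (vb * (π ⟨w, hw⟩) * vb⁻¹) = 1 := by
      rintro w hw rfl
      rw [hvb, ← map_inv, ← map_mul, ← map_mul, ← map_mul, ← map_one π]
      congr 1
      apply Subtype.ext
      change w * (v * w * v⁻¹) = 1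
      rw [huX v hvX, mul_assoc w v, mul_inv_cancel, mul_one, hu]
    rw [MonoidHom.mem_ker, hφ]
    change π k * (vb * π k * vb⁻¹) = 1
    rcases hctr k hk hkc with h | h
    · have h1 : π k = 1 := (mem_relCore_iff k.2).mp h
      rw [h1]; group
    · have hk1 : π k = π ⟨u, hK.le huK⟩ := by
        rw [hπ, mk_eq_mk_iff]
        have h2 : (k : G)⁻¹ * u = ((k : G) * u)⁻¹ * (u * u) := by
          rw [mul_inv_rev]
          rw [huX _ (X.inv_mem k.2)]
          have : u⁻¹ = u := inv_eq_of_mul_eq_one_left hu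
          rw [this]; simp only [hu, mul_one]
        rw [h2, hu, mul_one]
        exact inv_mem h
      rw [hk1]
      exact hub u (hK.le huK) rfl
  -- the image is simple nonabelian
  have eR : (↥Kb ⧸ center ↥Kb) ≃* ↥φ.range :=
    (QuotientGroup.quotientMulEquivOfEq hkerc.symm).trans (QuotientGroup.quotientKerEquivRange φ)
  have hsR : IsSimpleGroup ↥φ.range := isSimpleGroup_congr eR hcompK.2.2
  have hperfK : Group.IsPerfect ↥Kb := hcompK.2.1
  have hncR : ¬ IsMulCommutative ↥φ.range := by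
    have h1 : Group.IsPerfect ↥φ.range := by
      have := hperfK
      exact Group.IsPerfect.ofSurjective φ.rangeRestrict_surjective
    exact Group.IsPerfect.not_isMulCommutative _
  -- it has even order
  have heven : 2 ∣ Nat.card ↥φ.range := by
    have h1 : 2 ∣ Nat.card Kb := Lib.PComponents.prime_dvd_card_component
      (Lib.PComponents.pPrimeCore_quotient_eq_bot 2) hcompK
    by_contra h2
    obtain ⟨T⟩ : Nonempty (Sylow 2 ↥Kb) := inferInstance
    apply CompBasic.sylow_not_le_center_of_perfect hperfK 2 h1 T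
    intro t ht
    rw [← hkerc, MonoidHom.mem_ker]
    obtain ⟨n, hn⟩ := T.isPGroup' ⟨t, ht⟩
    have hn' : t ^ 2 ^ n = 1 := congrArg Subtype.val hn
    have h3 : (φ.rangeRestrict t) ^ 2 ^ n = 1 := by rw [← map_pow, hn', map_one]
    have h4 : orderOf (φ.rangeRestrict t) ∣ 2 ^ n := orderOf_dvd_of_pow_eq_one h3
    have h5 : orderOf (φ.rangeRestrict t) ∣ Nat.card ↥φ.range := orderOf_dvd_natCard _
    have h6 : Nat.Coprime (2 ^ n) (Nat.card ↥φ.range) :=
      Nat.Coprime.pow_left n ((Nat.Prime.coprime_iff_not_dvd Nat.prime_two).mpr h2)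
    have h7 := orderOf_eq_one_iff.mp (Nat.eq_one_of_dvd_coprimes h6 h4 h5)
    exact congrArg Subtype.val h7
  have hcoreR : oddCore ↥φ.range = ⊥ := by
    rcases hsR.eq_bot_or_eq_top_of_normal (oddCore ↥φ.range) inferInstance with h | h
    · exact h
    · exfalso
      have h1 : (Nat.card ↥φ.range).Coprime 2 := (Lib.Cores.pPrimeCore_eq_top_iff 2).1 h
      rw [Nat.coprime_comm, Nat.Prime.coprime_iff_not_dvd Nat.prime_two] at h1
      exact h1 heven
  -- the group `D`
  set M := X ⊓ centralizer ({v} : Set G) with hM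
  set f := centMap X v hvX with hf
  have hfsurj : Function.Surjective f := centMap_surjective X v hvX hv
  let D : Subgroup G := ((φ.range.subgroupOf C).comap f).map M.subtype
  have hDM : D ≤ M := map_subtype_le _
  have hmemD : ∀ m, m ∈ D ↔ ∃ h : m ∈ X, m * v = v * m ∧ π ⟨m, h⟩ ∈ φ.range := by
    intro m
    constructor
    · rintro ⟨m, hm, rfl⟩
      exact ⟨m.2.1, mem_centralizer_singleton_iff.mp m.2.2, hm⟩
    · rintro ⟨h1, h2, h3⟩
      exact ⟨⟨m, h1, mem_centralizer_singleton_iff.mpr h2⟩, h3, rfl⟩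
  have hDsub : D.subgroupOf M = (φ.range.subgroupOf C).comap f :=
    Subgroup.comap_map_eq_self_of_injective M.subtype_injective _
  -- the map `D → φ.range`
  let g : ↥D →* ↥φ.range :=
    { toFun := fun m => ⟨π ⟨m, ((hmemD m).mp m.2).1⟩, ((hmemD m).mp m.2).2.2⟩
      map_one' := rfl
      map_mul' := fun _ _ => rfl }
  have hg : ∀ m : ↥D, ((g m : ↥φ.range) : ↥X ⧸ oddCore ↥X) = π ⟨m, ((hmemD m).mp m.2).1⟩ :=
    fun _ => rfl
  have hgsurj : Function.Surjective g := by
    rintro ⟨q, hq⟩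
    have hqC : q ∈ C := hran hq
    obtain ⟨m, hm⟩ := hfsurj ⟨q, hqC⟩
    have hm' : π ⟨m, m.2.1⟩ = q := congrArg Subtype.val hm
    refine ⟨⟨m, (hmemD m).mpr ⟨m.2.1, mem_centralizer_singleton_iff.mp m.2.2, by rw [hm']; exact hq⟩⟩,
      ?_⟩
    apply Subtype.ext
    exact hm'
  have hgker : g.ker = (relCore 2 X).subgroupOf D := by
    ext m
    rw [MonoidHom.mem_ker, Subtype.ext_iff, hg, mem_subgroupOf]
    exact (mem_relCore_iff ((hmemD m).mp m.2).1).symm
  have hkodd : (Nat.card g.ker).Coprime 2 := by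
    rw [hgker]
    have h1 := odd_card_relCore X
    have h2 : Nat.card ((relCore 2 X).subgroupOf D) ∣ Nat.card (relCore 2 X) := by
      rw [← Subgroup.card_map_of_injective D.subtype_injective, subgroupOf_map_subtype]
      exact Subgroup.card_dvd_of_le inf_le_left
    exact Nat.Coprime.coprime_dvd_left h2 (Nat.coprime_two_right.mpr h1)
  have hcoreD : oddCore ↥D = g.ker := by
    apply le_antisymm
    · intro x hx
      rw [MonoidHom.mem_ker]
      have h1 : g x ∈ (oddCore ↥D).map g := ⟨x, hx, rfl⟩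
      have h2 : (oddCore ↥D).map g ≤ oddCore ↥φ.range := by
        refine Lib.Cores.le_pPrimeCore (Normal.map inferInstance g hgsurj) ?_
        exact Nat.Coprime.coprime_dvd_left (Subgroup.card_map_dvd _ g)
          (Lib.Cores.pPrimeCore_coprime 2)
      have h3 := h2 h1
      rw [hcoreR, mem_bot] at h3
      exact h3
    · exact Lib.Cores.le_pPrimeCore inferInstance hkodd
  have eD : (↥D ⧸ oddCore ↥D) ≃* ↥φ.range :=
    (QuotientGroup.quotientMulEquivOfEq hcoreD).trans
      (QuotientGroup.quotientKerEquivOfSurjective g hgsurj)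
  refine ⟨D, ?_, hDM, ?_, isSimpleGroup_congr eD.symm hsR,
    fun h => hncR (isMulCommutative_congr eD h), ?_, ?_⟩
  · intro m
    rw [hmemD]
    constructor
    · rintro ⟨h1, h2, ⟨⟨_, ⟨k, hk, rfl⟩⟩, hk'⟩⟩
      refine ⟨h1, h2, k, hk, ?_⟩
      rw [hφ] at hk'
      change π k * (vb * π k * vb⁻¹) = π ⟨m, h1⟩ at hk'
      rw [hvb, ← map_inv, ← map_mul, ← map_mul, ← map_mul] at hk'
      exact mk_eq_mk_iff.mp hk'.symm
    · rintro ⟨h1, h2, k, hk, hk'⟩
      refine ⟨h1, h2, ⟨⟨π ⟨k, hK.le hk⟩, ⟨⟨k, hK.le hk⟩, hk, rfl⟩⟩, ?_⟩⟩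
      rw [hφ]
      change π ⟨k, hK.le hk⟩ * (vb * π ⟨k, hK.le hk⟩ * vb⁻¹) = π ⟨m, h1⟩
      rw [hvb, ← map_inv, ← map_mul, ← map_mul, ← map_mul]
      exact (mk_eq_mk_iff.mpr hk').symm
  · rw [hDsub]
    exact hRsub.comap f
  · rw [relCore_def 2 D]
    change (oddCore ↥D).map D.subtype = _
    rw [hcoreD, hgker, subgroupOf_map_subtype, inf_comm]
  · rw [Nat.card_congr eD.toEquiv, ← Nat.card_congr eR.toEquiv]
    obtain ⟨e, _⟩ := PCompQuot.exists_quotient_equiv 2 hK.comp.1
    have e2 : (↥K ⧸ oddCore ↥K) ≃* ↥Kb := (quotSubgroupOf hK.le).symm.trans e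
    have hc : (center (↥K ⧸ oddCore ↥K)).map e2.toMonoidHom = center ↥Kb :=
      LayerBasic.map_center_equiv e2
    exact (Nat.card_congr (QuotientGroup.congr _ _ e2 hc).toEquiv).symm

end Cfsg.Agent.SignalizersComponents.IntrinsicDiag
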