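import Mathlib
import Cfsg.Agent.S1301
import Cfsg.Agent.SignalizersComponents.IntrinsicBasic
import Cfsg.Agent.SignalizersComponents.IntrinsicIntr
import Cfsg.Agent.SignalizersComponents.IntrinsicDiag

/-!
S1315: consequences of L-balance for relative 2-components.
-/

set_option autoImplicit false
set_option linter.unusedSectionVars false

namespace Cfsg.Agent.SignalizersComponents.IntrinsicBalance

open Subgroup Cfsg IntrinsicBasic IntrinsicIntr Cfsg.Agent.SignalizersComponents.PLayerAut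

variable {G : Type*} [Group G]

/-- `Y ∩ C(v)` as the centralizer in `Y` of `⟨v⟩`. -/
def centEquiv (Y : Subgroup G) (v : G) (hv : v ∈ Y) :
    ↥(Y ⊓ centralizer ({v} : Set G)) ≃*
      ↥(centralizer ((zpowers (⟨v, hv⟩ : ↥Y) : Subgroup ↥Y) : Set ↥Y)) where
  toFun m := ⟨⟨m, m.2.1⟩, by
    rw [mem_centralizer_iff]
    rintro _ ⟨n, rfl⟩
    have h1 : Commute (m : G) v := mem_centralizer_singleton_iff.mp m.2.2
    apply Subtype.ext
    have h2 := (h1.zpow_right n).eq
    simpa using h2.symm⟩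
  invFun m := ⟨m, m.1.2, by
    change ((m : ↥Y) : G) ∈ centralizer ({v} : Set G)
    rw [mem_centralizer_singleton_iff]
    have h1 := mem_centralizer_iff.mp m.2 ⟨v, hv⟩ (mem_zpowers _)
    exact (congrArg Subtype.val h1).symm⟩
  left_inv m := rfl
  right_inv m := rfl
  map_mul' _ _ := rfl

theorem cenMod_normal {Y K : Subgroup G} (hK : K ≤ Y) {g : G} (hgY : cj g Y = Y)
    (hgK : cj g K = K) : g ∈ normalizer (cenMod Y K : Set G) := by
  rw [mem_normalizer_iff_cj, cj_cenMod g hK, hgY, hgK]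

variable [Finite G]

theorem pLayer_le {Y K : Subgroup G} (hK : TC Y K) :
    (pLayer 2 ↥Y).map Y.subtype ≤ K ⊔ cenMod Y K := by
  rw [pLayer_def, Subgroup.map_le_iff_le_comap]
  refine sSup_le fun L hL => ?_
  rw [← Subgroup.map_le_iff_le_comap]
  have hL' : IsPComponent 2 L := hL
  have hTC : TC Y (L.map Y.subtype) := by
    refine ⟨map_subtype_le L, ?_⟩
    rw [show (L.map Y.subtype).subgroupOf Y = L from
      comap_map_eq_self_of_injective Y.subtype_injective L]
    exact hL'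
  by_cases h : K = L.map Y.subtype
  · rw [← h]; exact le_sup_left
  · exact (hK.le_cenMod hTC h).trans le_sup_right

/-- **L-balance**: a 2-component of `C_Y(v)`, `v ∈ Y` an involution, induces inner automorphisms
on every 2-component of `Y` (modulo cores). -/
theorem balance {Y K A : Subgroup G} {v : G} (hv : v ∈ Y) (hv2 : v * v = 1)
    (hA : TC (Y ⊓ centralizer ({v} : Set G)) A) (hK : TC Y K) : A ≤ K ⊔ cenMod Y K := by
  refine le_trans ?_ (pLayer_le hK)
  have hT : IsPGroup 2 ↥(zpowers (⟨v, hv⟩ : ↥Y)) := by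
    rintro ⟨_, n, rfl⟩
    refine ⟨1, ?_⟩
    apply Subtype.ext
    have h1 : (⟨v, hv⟩ : ↥Y) ^ 2 = 1 := by
      apply Subtype.ext
      simpa [pow_two] using hv2
    change ((⟨v, hv⟩ : ↥Y) ^ n) ^ (2 ^ 1) = 1
    rw [pow_one, ← zpow_natCast, ← zpow_mul, mul_comm, zpow_mul, zpow_natCast, h1, one_zpow]
  have h1 := Cfsg.Agent.S1301.result (X := ↥Y) (zpowers (⟨v, hv⟩ : ↥Y)) hT
  have h2 := isPComponent_map_equiv 2 (centEquiv Y v hv) hA.comp
  intro a ha
  have ha' : (⟨a, hA.le ha⟩ : ↥(Y ⊓ centralizer ({v} : Set G))) ∈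
      A.subgroupOf (Y ⊓ centralizer ({v} : Set G)) := ha
  have h3 : (centEquiv Y v hv) ⟨a, hA.le ha⟩ ∈
      pLayer 2 ↥(centralizer ((zpowers (⟨v, hv⟩ : ↥Y) : Subgroup ↥Y) : Set ↥Y)) :=
    (le_sSup (show _ ∈ {K | IsPComponent 2 K} from h2)) ⟨_, ha', rfl⟩
  have h4 := h1 ⟨_, h3, rfl⟩
  exact ⟨⟨a, (hA.le ha).1⟩, h4, rfl⟩

theorem sup_form {Y K : Subgroup G} (hK : TC Y K) {a : G} (ha : a ∈ K ⊔ cenMod Y K) :
    ∃ k ∈ K, k⁻¹ * a ∈ cenMod Y K := by
  have hle : K ≤ normalizer (cenMod Y K : Set G) := fun k hk =>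
    cenMod_normal hK.le (cj_eq_self_of_mem (hK.le hk)) (cj_eq_self_of_mem hk)
  have h1 : a ∈ ((K ⊔ cenMod Y K : Subgroup G) : Set G) := ha
  rw [Subgroup.coe_mul_of_left_le_normalizer_right _ _ hle] at h1
  obtain ⟨k, hk, c, hc, rfl⟩ := h1
  exact ⟨k, hk, by simpa using hc⟩

theorem sup_le_normalizer {Y K : Subgroup G} (hK : TC Y K) :
    K ⊔ cenMod Y K ≤ normalizer (K : Set G) :=
  sup_le le_normalizer hK.cenMod_le_normalizer

/-- abstract covering lemma -/
theorem relIndex_le_aux {R : Type*} [Group R] [Finite R] {C A K : Subgroup R} (hC : C.Normal)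
    (hKC : K ⊔ C = ⊤) : C.relIndex A ≤ C.relIndex K ∧
      (C.relIndex K ≤ C.relIndex A → ∀ k : R, ∃ a ∈ A, a⁻¹ * k ∈ C) := by
  have hmap : ∀ B : Subgroup R, C.relIndex B = Nat.card (B.map (QuotientGroup.mk' C)) := by
    intro B
    rw [← Subgroup.relIndex_ker, QuotientGroup.ker_mk']
  have htop : K.map (QuotientGroup.mk' C) = ⊤ := by
    have h1 : (K ⊔ C).map (QuotientGroup.mk' C) = ⊤ := by
      rw [hKC]; exact Subgroup.map_top_of_surjective _ (QuotientGroup.mk'_surjective C)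
    rw [Subgroup.map_sup] at h1
    have h2 : C.map (QuotientGroup.mk' C) = ⊥ := by
      rw [Subgroup.map_eq_bot_iff, QuotientGroup.ker_mk']
    rwa [h2, sup_bot_eq] at h1
  constructor
  · rw [hmap, hmap, htop]
    exact Subgroup.card_le_of_le le_top
  · intro h k
    rw [hmap, hmap, htop] at h
    have h1 : A.map (QuotientGroup.mk' C) = ⊤ :=
      Subgroup.eq_of_le_of_card_ge le_top h
    have h2 : (QuotientGroup.mk' C) k ∈ A.map (QuotientGroup.mk' C) := by rw [h1]; trivial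
    obtain ⟨a, ha, hak⟩ := h2
    refine ⟨a, ha, ?_⟩
    exact QuotientGroup.eq.mp hak

theorem cover {Y K A : Subgroup G} (hK : TC Y K) (hA : A ≤ K ⊔ cenMod Y K) :
    (cenMod Y K).relIndex A ≤ (cenMod Y K).relIndex K ∧
      ((cenMod Y K).relIndex K ≤ (cenMod Y K).relIndex A →
        ∀ k ∈ K, ∃ a ∈ A, a⁻¹ * k ∈ cenMod Y K) := by
  set R := K ⊔ cenMod Y K with hR
  have hC : ((cenMod Y K).subgroupOf R).Normal := by
    apply Subgroup.normal_subgroupOf_of_le_normalizer
    refine sup_le (fun k hk => ?_) le_normalizer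
    exact cenMod_normal hK.le (cj_eq_self_of_mem (hK.le hk)) (cj_eq_self_of_mem hk)
  have hsup : K.subgroupOf R ⊔ (cenMod Y K).subgroupOf R = ⊤ := by
    rw [← Subgroup.subgroupOf_sup le_sup_left le_sup_right]
    exact Subgroup.subgroupOf_self _
  have h := relIndex_le_aux (A := A.subgroupOf R) hC hsup
  rw [Subgroup.relIndex_subgroupOf hA, Subgroup.relIndex_subgroupOf (le_sup_left)] at h
  refine ⟨h.1, fun h1 k hk => ?_⟩
  obtain ⟨a, ha, hak⟩ := h.2 h1 ⟨k, mem_sup_left hk⟩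
  exact ⟨a, ha, hak⟩

end Cfsg.Agent.SignalizersComponents.IntrinsicBalance
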