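import Mathlib
import Cfsg.Agent.SignalizersComponents.IntrinsicBalance

/-!
S1315: the diagonal 2-component of `C_X(v)`.
-/

set_option autoImplicit false
set_option linter.unusedSectionVars false

namespace Cfsg.Agent.SignalizersComponents.IntrinsicGP

open Subgroup Cfsg IntrinsicBasic IntrinsicIntr Cfsg.Agent.SignalizersComponents.PLayerAut

variable {G : Type*} [Group G] [Finite G]

/-- For a 2-component `K` of `X = C(u)` moved by the involution `v ∈ X` there is a 2-component `L`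
of `C_X(v)` containing all 2-elements `m ≡ k k^v` modulo `O(X)`, and whose image modulo `O(X)` is
exactly `{k k^v}`. -/
theorem exists_comp {K : Subgroup G} {v u : G} (hK : Intr u K) (hvu : v * u = u * v)
    (hv : v * v = 1) (hne : cj v K ≠ K) :
    ∃ L : Subgroup G, TC (centralizer ({u} : Set G) ⊓ centralizer ({v} : Set G)) L ∧
      (∀ m : G, m * u = u * m → m * v = v * m → ∀ n : ℕ, m ^ 2 ^ n = 1 →
        (∃ k ∈ K, m⁻¹ * (k * (v * k * v⁻¹)) ∈ relCore 2 (centralizer ({u} : Set G))) → m ∈ L) ∧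
      (∀ l ∈ L, ∃ k ∈ K, l⁻¹ * (k * (v * k * v⁻¹)) ∈ relCore 2 (centralizer ({u} : Set G))) ∧
      (∀ k ∈ K, ∃ l ∈ L, l⁻¹ * (k * (v * k * v⁻¹)) ∈ relCore 2 (centralizer ({u} : Set G))) ∧
      (∀ l ∈ L, l ∈ cenMod (centralizer ({u} : Set G) ⊓ centralizer ({v} : Set G)) L →
        l ∈ relCore 2 (centralizer ({u} : Set G))) := by
  set X := centralizer ({u} : Set G) with hX
  have hvX : v ∈ X := mem_centralizer_singleton_iff.mpr hvu
  obtain ⟨D, hD, hDM, hsub, hs, hnc, hcore, -⟩ := IntrinsicDiag.exists_diag hK.tc hvX hv hne hK.mem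
    (fun x hx => mem_centralizer_singleton_iff.mp hx) hK.sq hK.ctr
  set M := X ⊓ centralizer ({v} : Set G) with hM
  obtain ⟨hcomp, hDcore, hDcen⟩ := IntrinsicDiag.component_of_simple hDM hsub hs hnc
  set C := (D.subgroupOf M).map (QuotientGroup.mk' (oddCore ↥M)) with hC
  have hpc := Lib.PComponents.isPComponent_pElem_comap (p := 2) (X := ↥M) hcomp
  have hle : Lib.PComponents.pElem 2 (C.comap (QuotientGroup.mk' (oddCore ↥M))) ≤
      D.subgroupOf M := Lib.PComponents.pElem_comap_le hsub rfl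
  refine ⟨(Lib.PComponents.pElem 2 (C.comap (QuotientGroup.mk' (oddCore ↥M)))).map M.subtype,
    ⟨map_subtype_le _, ?_⟩, ?_, ?_, ?_, ?_⟩
  · rw [show ((Lib.PComponents.pElem 2 (C.comap (QuotientGroup.mk' (oddCore ↥M)))).map
        M.subtype).subgroupOf M = Lib.PComponents.pElem 2 (C.comap (QuotientGroup.mk' (oddCore ↥M)))
      from comap_map_eq_self_of_injective M.subtype_injective _]
    exact hpc.1
  · intro m hmu hmv n hn hmk
    have hmX : m ∈ X := mem_centralizer_singleton_iff.mpr hmu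
    have hmM : m ∈ M := ⟨hmX, mem_centralizer_singleton_iff.mpr hmv⟩
    have hmD : m ∈ D := (hD m).mpr ⟨hmX, hmv, hmk⟩
    refine ⟨⟨m, hmM⟩, ?_, rfl⟩
    refine Lib.PComponents.mem_pElem (n := n) ?_ (by ext; simpa using hn)
    exact ⟨⟨m, hmM⟩, hmD, rfl⟩
  · rintro _ ⟨l, hl, rfl⟩
    exact ((hD l).mp (hle hl)).2.2
  · intro k hk
    have hkX : k ∈ X := hK.tc.le hk
    have hvkX : v * k * v⁻¹ ∈ X := X.mul_mem (X.mul_mem hvX hkX) (X.inv_mem hvX)
    have hTC : TC X (cj v K) := hK.tc.cj_of_mem (le_normalizer hvX)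
    have h1 := ((mem_cenMod hK.tc.le).mp (hK.tc.le_cenMod hTC hne.symm (conj_mem_cj hk))).2 k hk
    have h2 : (k * (v * k * v⁻¹))⁻¹ * (v * (k * (v * k * v⁻¹)) * v⁻¹) ∈ relCore 2 X := by
      have h3 := conj_mem_relCore' (X.inv_mem hvkX) h1
      convert h3 using 1
      have hvi : v⁻¹ = v := inv_eq_of_mul_eq_one_left hv
      have hvvk : v * (k * (v * k * v⁻¹)) * v⁻¹ = (v * k * v⁻¹) * k := by
        calc v * (k * (v * k * v⁻¹)) * v⁻¹ = v * k * v * k * (v⁻¹ * v⁻¹) := by group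
          _ = v * k * v⁻¹ * k * (v * v) := by rw [hvi, hv]
          _ = (v * k * v⁻¹) * k := by rw [hv, mul_one]
      rw [hvvk]
      group
    obtain ⟨m', hm'X, hm', hm'v⟩ := exists_lift hvX hv (X.mul_mem hkX hvkX) h2
    have hm'' : m'⁻¹ * (k * (v * k * v⁻¹)) ∈ relCore 2 X := by
      have := inv_mem hm'
      rwa [mul_inv_rev, inv_inv] at this
    have hm'M : m' ∈ M := ⟨hm'X, mem_centralizer_singleton_iff.mpr hm'v⟩
    have hm'D : m' ∈ D := (hD m').mpr ⟨hm'X, hm'v, k, hk, hm''⟩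
    have h4 : (QuotientGroup.mk' (oddCore ↥M)) ⟨m', hm'M⟩ ∈ C := ⟨⟨m', hm'M⟩, hm'D, rfl⟩
    have h5 : (QuotientGroup.mk' (oddCore ↥M)) ⟨m', hm'M⟩ ∈
      (Lib.PComponents.pElem 2 (C.comap (QuotientGroup.mk' (oddCore ↥M)))).map
        (QuotientGroup.mk' (oddCore ↥M)) := by
      have := hpc.2
      rw [← this] at h4
      exact h4
    obtain ⟨l, hl, hlm⟩ := h5
    have h6 : (l : G)⁻¹ * m' ∈ relCore 2 M := mk_eq_mk_iff.mp hlm
    have h7 : (l : G)⁻¹ * m' ∈ relCore 2 X := by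
      have h8 : (l : G)⁻¹ * m' ∈ D ⊓ relCore 2 M := ⟨D.mul_mem (D.inv_mem (hle hl)) hm'D, h6⟩
      rw [hDcore, hcore] at h8
      exact h8.2
    refine ⟨l, ⟨l, hl, rfl⟩, ?_⟩
    have h9 := mul_mem h7 hm''
    convert h9 using 1
    group
  · rintro l₀ ⟨l, hl, rfl⟩ hlc
    have hlD : (l : G) ∈ D := hle hl
    have hle' : (Lib.PComponents.pElem 2 (C.comap (QuotientGroup.mk' (oddCore ↥M)))).map M.subtype ≤
        M := map_subtype_le _
    have h3 : (l : G) ∈ cenMod M D := by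
      rw [mem_cenMod hDM]
      refine ⟨l.2, fun d hd => ?_⟩
      have h4 : (QuotientGroup.mk' (oddCore ↥M)) ⟨d, hDM hd⟩ ∈ C := ⟨⟨d, hDM hd⟩, hd, rfl⟩
      have h5 : (QuotientGroup.mk' (oddCore ↥M)) ⟨d, hDM hd⟩ ∈
        (Lib.PComponents.pElem 2 (C.comap (QuotientGroup.mk' (oddCore ↥M)))).map
          (QuotientGroup.mk' (oddCore ↥M)) := by
        have := hpc.2
        rw [← this] at h4
        exact h4
      obtain ⟨l', hl', hlm'⟩ := h5
      have h6 : (l' : G)⁻¹ * d ∈ relCore 2 M := mk_eq_mk_iff.mp hlm'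
      have h7 := ((mem_cenMod hle').mp hlc).2 (l' : G) ⟨l', hl', rfl⟩
      have h8 := mul_mem (mul_mem (inv_mem h6) h7) (conj_mem_relCore' l.2 h6)
      convert h8 using 1
      simp only [Subgroup.coe_subtype]
      group
    have h4 : (l : G) ∈ D ⊓ relCore 2 M := ⟨hlD, hDcen _ hlD h3⟩
    rw [hDcore, hcore] at h4
    exact h4.2

end Cfsg.Agent.SignalizersComponents.IntrinsicGP
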