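import Mathlib
import Cfsg.Agent.SignalizersComponents.IntrinsicGP
import Cfsg.Agent.SignalizersComponents.ComponentImage

/-!
S1315: components and epimorphisms with odd kernel; the 2-component of `C_X(v)` covering a
2-component `K` of `X` centralized by `v` modulo the core.
-/

set_option autoImplicit false
set_option linter.unusedSectionVars false

namespace Cfsg.Agent.SignalizersComponents.IntrinsicLift

open Subgroup Cfsg IntrinsicBasic IntrinsicIntr Cfsg.Agent.SignalizersComponents.PLayerAut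
open Lib.PComponents

section lift

variable {M Q : Type*} [Group M] [Finite M] [Group Q] [Finite Q]

theorem pElem_component {C : Subgroup Q} (hC : IsComponent C) (h2 : 2 ∣ Nat.card C) :
    pElem 2 C = C := by
  have : Fact (Nat.Prime 2) := ⟨Nat.prime_two⟩
  apply le_antisymm (pElem_le C)
  have h1 := quasisimple_pElem_top hC.2 h2
  have h2 : pElem 2 (⊤ : Subgroup C) ≤ (pElem 2 C).subgroupOf C := by
    refine (Subgroup.closure_le _).mpr ?_
    rintro y ⟨-, n, hn⟩
    change (y : Q) ∈ pElem 2 C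
    exact mem_pElem y.2 (n := n) (by simpa using congrArg Subtype.val hn)
  rw [h1, top_le_iff, Subgroup.subgroupOf_eq_top] at h2
  exact h2

theorem map_pElem_comap (f : M →* Q) (hf : Function.Surjective f) (hker : Odd (Nat.card f.ker))
    (C : Subgroup Q) : (pElem 2 (C.comap f)).map f = pElem 2 C := by
  apply le_antisymm
  · rw [Subgroup.map_le_iff_le_comap]
    refine (Subgroup.closure_le _).mpr ?_
    rintro y ⟨hyY, n, hn⟩
    change f y ∈ pElem 2 C
    exact mem_pElem hyY (n := n) (by rw [← map_pow, hn, map_one])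
  · refine (Subgroup.closure_le _).mpr ?_
    rintro c ⟨hc, n, hn⟩
    obtain ⟨y, rfl⟩ := hf c
    set m := Nat.card f.ker with hm
    have hcop : m.Coprime (2 ^ n) := Nat.Coprime.pow_right n (Nat.coprime_two_right.mpr hker)
    have hyW : y ^ 2 ^ n ∈ f.ker := by
      rw [MonoidHom.mem_ker, map_pow, hn]
    have h1 : (y ^ m) ^ 2 ^ n = 1 := by
      rw [← pow_mul, mul_comm, pow_mul]
      have := pow_card_eq_one' (x := (⟨y ^ 2 ^ n, hyW⟩ : f.ker))
      exact congrArg Subtype.val this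
    have h2 : y ^ m ∈ pElem 2 (C.comap f) :=
      mem_pElem (pow_mem (show y ∈ C.comap f from hc) m) (n := n) h1
    have h3 : (f y) ^ m ∈ (pElem 2 (C.comap f)).map f := ⟨y ^ m, h2, map_pow _ _ _⟩
    have h7 := Nat.gcd_eq_gcd_ab m (2 ^ n)
    rw [hcop] at h7
    have h8 : f y = ((f y) ^ m) ^ (Nat.gcdA m (2 ^ n)) *
        ((f y) ^ (2 ^ n)) ^ (Nat.gcdB m (2 ^ n)) := by
      rw [← zpow_natCast, ← zpow_natCast, ← zpow_mul, ← zpow_mul, ← zpow_add, ← h7]
      simp
    rw [h8, hn, one_zpow, mul_one]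
    exact zpow_mem h3 _

/-- `O^{2'}` of the preimage of a component under an epimorphism with odd kernel is a
2-component. -/
theorem lift_component (f : M →* Q) (hf : Function.Surjective f) (hker : Odd (Nat.card f.ker))
    {C : Subgroup Q} (hC : IsComponent C) (h2 : 2 ∣ Nat.card C) :
    IsPComponent 2 (pElem 2 (C.comap f)) ∧ (pElem 2 (C.comap f)).map f = C := by
  have hp2 : Fact (Nat.Prime 2) := ⟨Nat.prime_two⟩
  have hmap : (pElem 2 (C.comap f)).map f = C := by
    rw [map_pElem_comap f hf hker, pElem_component hC h2]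
  refine ⟨?_, hmap⟩
  have hkle : f.ker ≤ pPrimeCore 2 M :=
    le_pPrimeCore_of_isSubnormal (inferInstance : f.ker.Normal).isSubnormal
      (Nat.coprime_two_right.mpr hker)
  set π := QuotientGroup.mk' (pPrimeCore 2 M) with hπ
  have hkle' : f.ker ≤ π.ker := by rw [hπ, QuotientGroup.ker_mk']; exact hkle
  set g := f.liftOfSurjective hf ⟨π, hkle'⟩ with hg
  have hgf : ∀ m, g (f m) = π m := fun m => by
    rw [hg]; exact MonoidHom.liftOfRightInverse_comp_apply f _ _ ⟨π, hkle'⟩ m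
  have hgs : Function.Surjective g := by
    intro x
    obtain ⟨m, rfl⟩ := QuotientGroup.mk'_surjective (pPrimeCore 2 M) x
    exact ⟨f m, hgf m⟩
  have hLmap : (pElem 2 (C.comap f)).map π = C.map g := by
    rw [← hmap, Subgroup.map_map]
    congr 1
    · ext m; exact (hgf m).symm
    · rw [hmap]
  have hsub : (pElem 2 (C.comap f)).IsSubnormal := pElem_isSubnormal (hC.1.comap f)
  have hcomp : IsComponent (C.map g) := by
    refine (ComponentImage.map_eq_bot_or_isComponent hgs hC).resolve_left ?_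
    intro hbot
    have h3 : pElem 2 (C.comap f) ≤ pPrimeCore 2 M := by
      rw [← hLmap, Subgroup.map_eq_bot_iff, hπ, QuotientGroup.ker_mk'] at hbot
      exact hbot
    have h4 : 2 ∣ Nat.card (pElem 2 (C.comap f)) := by
      refine h2.trans ?_
      have h6 := Subgroup.card_map_dvd (H := pElem 2 (C.comap f)) f
      rwa [hmap] at h6
    have h5 := h4.trans (Subgroup.card_dvd_of_le h3)
    exact (Nat.Prime.coprime_iff_not_dvd Nat.prime_two).mp
      (Lib.Cores.pPrimeCore_coprime (G := M) 2).symm h5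
  have hpc := isPComponent_pElem_comap (p := 2) (X := M) hcomp
  have heq : pElem 2 ((C.map g).comap π) = pElem 2 (C.comap f) := by
    apply le_antisymm
    · exact pElem_comap_le hsub hLmap
    · refine (Subgroup.closure_le _).mpr ?_
      rintro y ⟨hy, n, hn⟩
      refine mem_pElem (n := n) ?_ hn
      exact ⟨f y, hy, hgf y⟩
  rw [← heq]
  exact hpc.1

end lift

variable {G : Type*} [Group G] [Finite G]

/-- The 2-component of `C_X(v)` covering a 2-component `K` of `X` centralized by `v` modulo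
`O(X)`. -/
theorem exists_comp_cen {X K : Subgroup G} {v : G} (hK : TC X K) (hvX : v ∈ X) (hvv : v * v = 1)
    (hc : v ∈ cenMod X K) :
    ∃ L, TC (X ⊓ centralizer ({v} : Set G)) L ∧ L ≤ K ∧
      (∀ k ∈ K, ∃ l ∈ L, l⁻¹ * k ∈ relCore 2 X) ∧
      (∀ m ∈ K, m * v = v * m → ∀ n : ℕ, m ^ 2 ^ n = 1 → m ∈ L) := by
  have hp2 : Fact (Nat.Prime 2) := ⟨Nat.prime_two⟩
  set π := QuotientGroup.mk' (oddCore ↥X) with hπ
  set M := X ⊓ centralizer ({v} : Set G) with hM
  set D := centralizer ({π ⟨v, hvX⟩} : Set (↥X ⧸ oddCore ↥X)) with hD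
  set K' := (K.subgroupOf X).map π with hK'
  have hK'D : K' ≤ D := by
    rintro _ ⟨k, hk, rfl⟩
    rw [hD, mem_centralizer_singleton_iff]
    have h1 := ((mem_cenMod hK.le).mp hc).2 k hk
    have h2 : π k = π (⟨v, hvX⟩ * k * ⟨v, hvX⟩⁻¹) := mk_eq_mk_iff.mpr h1
    simp only [map_mul, map_inv] at h2
    calc π k * π ⟨v, hvX⟩ = (π ⟨v, hvX⟩ * π k * (π ⟨v, hvX⟩)⁻¹) * π ⟨v, hvX⟩ := by rw [← h2]
      _ = π ⟨v, hvX⟩ * π k := by group
  have hcomp : IsComponent (K'.subgroupOf D) := by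
    refine ⟨hK.comp.2.1.1.subgroupOf, ?_⟩
    exact PCompQuot.quasisimple_congr (subgroupOfEquivOfLe hK'D).symm hK.comp.2.1.2
  have heven : 2 ∣ Nat.card (K'.subgroupOf D) := by
    rw [Nat.card_congr (subgroupOfEquivOfLe hK'D).toEquiv]
    exact prime_dvd_card_component (pPrimeCore_quotient_eq_bot 2) hK.comp.2.1
  have hf := centMap_surjective X v hvX hvv
  have hfc := centMap_coe X v hvX
  set f := centMap X v hvX with hfdef
  have hfker : ∀ m : ↥M, m ∈ f.ker ↔ (m : G) ∈ relCore 2 X := by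
    intro m
    rw [MonoidHom.mem_ker, Subtype.ext_iff]
    rw [mem_relCore_iff m.2.1]
    exact Iff.rfl
  have hker : Odd (Nat.card f.ker) := by
    have h1 : f.ker.map M.subtype ≤ relCore 2 X := by
      rintro _ ⟨m, hm, rfl⟩
      exact (hfker m).mp hm
    have h2 : Nat.card (f.ker.map M.subtype) ∣ Nat.card (relCore 2 X) :=
      Subgroup.card_dvd_of_le h1
    have h3 : Nat.card (f.ker.map M.subtype) = Nat.card f.ker :=
      Nat.card_congr (f.ker.equivMapOfInjective M.subtype M.subtype_injective).symm.toEquiv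
    rw [h3] at h2
    exact Odd.of_dvd_nat (odd_card_relCore X) h2
  obtain ⟨h1, h2⟩ := lift_component f hf hker hcomp heven
  have hmemC : ∀ m : ↥M, m ∈ (K'.subgroupOf D).comap f ↔ ∃ k ∈ K, k⁻¹ * (m : G) ∈ relCore 2 X := by
    intro m
    change π ⟨m, m.2.1⟩ ∈ K' ↔ _
    constructor
    · rintro ⟨k, hk, hkm⟩
      exact ⟨k, hk, mk_eq_mk_iff.mp hkm⟩
    · rintro ⟨k, hk, hkm⟩
      exact ⟨⟨k, hK.le hk⟩, hk, mk_eq_mk_iff.mpr hkm⟩
  refine ⟨(pElem 2 ((K'.subgroupOf D).comap f)).map M.subtype, ⟨map_subtype_le _, ?_⟩,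
    ?_, ?_, ?_⟩
  · rw [show ((pElem 2 ((K'.subgroupOf D).comap f)).map M.subtype).subgroupOf M =
      pElem 2 ((K'.subgroupOf D).comap f) from comap_map_eq_self_of_injective M.subtype_injective _]
    exact h1
  · rw [Subgroup.map_le_iff_le_comap]
    refine (Subgroup.closure_le _).mpr ?_
    rintro y ⟨hy, n, hn⟩
    obtain ⟨k, hk, hky⟩ := (hmemC y).mp hy
    change (y : G) ∈ K
    exact hK.mem_of_two hk hky (n := n) (by simpa using congrArg Subtype.val hn)
  · intro k hk
    have h3 : (⟨π ⟨k, hK.le hk⟩, hK'D ⟨⟨k, hK.le hk⟩, hk, rfl⟩⟩ : ↥D) ∈ K'.subgroupOf D :=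
      ⟨⟨k, hK.le hk⟩, hk, rfl⟩
    rw [← h2] at h3
    obtain ⟨l, hl, hlk⟩ := h3
    refine ⟨l, ⟨l, hl, rfl⟩, ?_⟩
    have h4 : π ⟨l, l.2.1⟩ = π ⟨k, hK.le hk⟩ := congrArg Subtype.val hlk
    exact mk_eq_mk_iff.mp h4
  · intro m hm hmv n hn
    have hmM : m ∈ M := ⟨hK.le hm, mem_centralizer_singleton_iff.mpr hmv⟩
    refine ⟨⟨m, hmM⟩, mem_pElem (n := n) ?_ (by ext; simpa using hn), rfl⟩
    rw [hmemC]
    exact ⟨m, hm, by simp⟩

end Cfsg.Agent.SignalizersComponents.IntrinsicLift
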