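import Mathlib
import Cfsg.Agent.SignalizersComponents.IntrinsicBasic
import Cfsg.Agent.S1314

/-!
First step for S1315: if a 2-element `y` of a subnormal subgroup `S` of `C(u)` with unique
involution `u` moves a component `J` (with a unique involution), then `u` normalizes `J` but does
not centralize it.
-/

set_option autoImplicit false

namespace Cfsg.Agent.SignalizersComponents.IntrinsicCaseA

open Subgroup Cfsg IntrinsicBasic

open scoped commutatorElement

/-- Let `S` be subnormal, `y ∈ S` and `E` a perfect subgroup commuting with `y E y⁻¹`.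
Then `E ≤ S`. -/
theorem le_of_isSubnormal {W : Type*} [Group W] {S E : Subgroup W} (hS : S.IsSubnormal) {y : W}
    (hE : ⁅E, E⁆ = E) (hc : ∀ e ∈ E, ∀ f ∈ E, e * (y * f * y⁻¹) = (y * f * y⁻¹) * e) (hy : y ∈ S) :
    E ≤ S := by
  induction hS with
  | top => exact le_top
  | step H K h_le hSubn hN ih =>
    have hEK := ih (h_le hy)
    rw [← hE, Subgroup.commutator_le]
    intro e he f hf
    have hconj : ∀ k ∈ K, ∀ h ∈ H, k * h * k⁻¹ ∈ H := by
      intro k hk h hh
      exact (hN.conj_mem ⟨h, h_le hh⟩ hh ⟨k, hk⟩)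
    have h1 : y * (e * y⁻¹ * e⁻¹) ∈ H := H.mul_mem hy (hconj e (hEK he) _ (H.inv_mem hy))
    have h2 := hconj f (hEK hf) _ h1
    have h3 := H.mul_mem (H.inv_mem h1) h2
    convert h3 using 1
    have h4 := hc f hf e he
    calc ⁅e, f⁆ = e * f * e⁻¹ * f⁻¹ := commutatorElement_def e f
      _ = e * (y * e * y⁻¹)⁻¹ * ((y * e * y⁻¹) * f) * e⁻¹ * f⁻¹ := by group
      _ = e * (y * e * y⁻¹)⁻¹ * (f * (y * e * y⁻¹)) * e⁻¹ * f⁻¹ := by rw [h4]
      _ = _ := by group

theorem comm_of_ne {X : Type*} [Group X] {J K : Subgroup X} (hJ : IsComponent J)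
    (hK : IsComponent K) (hne : J ≠ K) : ∀ j ∈ J, ∀ k ∈ K, j * k = k * j := by
  have h := Components.component_commutator_eq_bot_of_ne hJ hK hne
  intro j hj k hk
  have h1 : ⁅j, k⁆ ∈ (⊥ : Subgroup X) := h ▸ Subgroup.commutator_mem_commutator hj hk
  rw [Subgroup.mem_bot] at h1
  exact commutatorElement_eq_one_iff_mul_comm.mp h1

theorem isComponent_cj {X : Type*} [Group X] {J : Subgroup X} (hJ : IsComponent J) (g : X) :
    IsComponent (cj g J) := Components.isComponent_conj g hJ

theorem main {X : Type*} [Group X] [Finite X] {J : Subgroup X} {z u y : X} (hJ : IsComponent J)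
    (hzX : ∀ x, x * z = z * x) (hzJ : z ∈ J) (hz2 : z * z = 1) (hzne : z ≠ 1)
    (hctr : ∀ j ∈ J, (∀ k ∈ J, j * k = k * j) → j * j = 1)
    (h4 : ∃ h ∈ J, h * h = z)
    {S : Subgroup X} (hu2 : u * u = 1) (hune : u ≠ 1)
    (hSuniq : ∀ t ∈ S, t * t = 1 → t ≠ 1 → t = u) (hScomm : S ≤ centralizer ({u} : Set X))
    (hSsub : (S.subgroupOf (centralizer ({u} : Set X))).IsSubnormal) (hyS : y ∈ S)
    {n : ℕ} (hn : 2 ≤ n) (hy : orderOf y = 2 ^ n) (hyJ : cj y J ≠ J) :
    cj u J = J ∧ ∃ j ∈ J, u * j ≠ j * u := by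
  have hJp : ⁅J, J⁆ = J := Components.component_commutator_self hJ
  have hyu : y * u = u * y := by
    have := hScomm hyS
    rw [mem_centralizer_singleton_iff] at this
    exact this
  have hu1 : u⁻¹ = u := inv_eq_of_mul_eq_one_left hu2
  obtain ⟨h, hhJ, hhz⟩ := h4
  have hhctr : ¬ (∀ k ∈ J, h * k = k * h) := by
    intro hk
    have := hctr h hhJ hk
    rw [hhz] at this
    exact hzne this
  have hJy : IsComponent (cj y J) := isComponent_cj hJ y
  -- perfect subgroups of `C(u)` commuting with their conjugate under `y` lie in `S`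
  have hES : ∀ E : Subgroup X, E ≤ centralizer ({u} : Set X) → ⁅E, E⁆ = E →
      (∀ e ∈ E, ∀ f ∈ E, e * (y * f * y⁻¹) = (y * f * y⁻¹) * e) → E ≤ S := by
    intro E hEu hEp hEc
    have h1 : E.subgroupOf (centralizer ({u} : Set X)) ≤ S.subgroupOf (centralizer ({u} : Set X)) := by
      refine le_of_isSubnormal hSsub (y := ⟨y, hScomm hyS⟩) ?_ ?_ hyS
      · apply Subgroup.map_injective (centralizer ({u} : Set X)).subtype_injective
        rw [Subgroup.map_commutator, subgroupOf_map_subtype, inf_of_le_left hEu, hEp]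
      · intro e he f hf
        apply Subtype.ext
        exact hEc e he f hf
    intro e he
    exact h1 (x := ⟨e, hEu he⟩) he
  by_cases hcase : cj u J = J
  · refine ⟨hcase, ?_⟩
    by_contra hcon
    push Not at hcon
    have hJS : J ≤ S := by
      refine hES J ?_ hJp ?_
      · intro j hj
        rw [mem_centralizer_singleton_iff]
        exact (hcon j hj).symm
      · intro e he f hf
        exact comm_of_ne hJ hJy hyJ.symm e he _ (conj_mem_cj hf)
    have hzu : z = u := hSuniq z (hJS hzJ) hz2 hzne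
    set h' := y * h * y⁻¹ with hh'
    have hh'S : h' ∈ S := S.mul_mem (S.mul_mem hyS (hJS hhJ)) (S.inv_mem hyS)
    have hh'J : h' ∈ cj y J := conj_mem_cj hhJ
    have hcomm : h * h' = h' * h := comm_of_ne hJ hJy hyJ.symm h hhJ h' hh'J
    have hh'2 : h' * h' = z := by
      calc h' * h' = y * (h * h) * y⁻¹ := by rw [hh']; group
        _ = z := by rw [hhz, hzX y]; group
    have ht2 : (h * h') * (h * h') = 1 := by
      calc (h * h') * (h * h') = h * (h' * h) * h' := by group
        _ = h * (h * h') * h' := by rw [hcomm]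
        _ = (h * h) * (h' * h') := by group
        _ = 1 := by rw [hhz, hh'2, hz2]
    have hh'cen : ∀ k ∈ J, h' * k = k * h' := fun k hk =>
      (comm_of_ne hJ hJy hyJ.symm k hk h' hh'J).symm
    apply hhctr
    by_cases ht1 : h * h' = 1
    · have h5 : h = h'⁻¹ := eq_inv_of_mul_eq_one_left ht1
      intro k hk
      rw [h5]
      exact (Commute.inv_left (hh'cen k hk))
    · have ht3 := hSuniq _ (S.mul_mem (hJS hhJ) hh'S) ht2 ht1
      rw [← hzu] at ht3
      have h5 : h = z * h'⁻¹ := eq_mul_inv_of_mul_eq ht3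
      intro k hk
      rw [h5]
      have h6 : h'⁻¹ * k = k * h'⁻¹ := Commute.inv_left (hh'cen k hk)
      rw [mul_assoc, h6, ← mul_assoc, ← hzX k, mul_assoc]
  · exfalso
    have hJu : IsComponent (cj u J) := isComponent_cj hJ u
    have hJyu : IsComponent (cj y (cj u J)) := isComponent_cj hJu y
    -- `u` is a power of `y`
    have hyn : y ^ 2 ^ n = 1 := by rw [← hy]; exact pow_orderOf_eq_one y
    have hyu' : y ^ 2 ^ (n - 1) = u := by
      apply hSuniq _ (S.pow_mem hyS _)
      · rw [← pow_add, ← two_mul, ← pow_succ', Nat.sub_add_cancel (by omega), hyn]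
      · intro h1
        have h2 := orderOf_dvd_of_pow_eq_one h1
        rw [hy] at h2
        have h3 := Nat.le_of_dvd (by positivity) h2
        have h4 : 2 ^ (n - 1) < 2 ^ n := Nat.pow_lt_pow_right (by norm_num) (by omega)
        omega
    have hyuJ : cj (y * u) J ≠ J := by
      intro h1
      apply hyJ
      have h2 : ∀ k : ℕ, cj ((y * u) ^ k) J = J := by
        intro k
        induction k with
        | zero => rw [pow_zero, cj_one]
        | succ k ih => rw [pow_succ, cj_mul, h1, ih]
      have h3 : (y * u) ^ (1 + 2 ^ (n - 1)) = y := by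
        have h4 : (y * u) ^ (1 + 2 ^ (n - 1)) = y ^ (1 + 2 ^ (n - 1)) * u ^ (1 + 2 ^ (n - 1)) :=
          (Commute.mul_pow (show Commute y u from hyu) _)
        have h5 : u ^ (1 + 2 ^ (n - 1)) = u := by
          have h6 : 1 + 2 ^ (n - 1) = 2 * 2 ^ (n - 2) + 1 := by
            rw [← pow_succ']
            rw [show n - 2 + 1 = n - 1 by omega]; ring
          rw [h6, pow_succ, pow_mul, pow_two, hu2, one_pow, one_mul]
        rw [h4, h5, pow_add, pow_one, hyu', mul_assoc, hu2, mul_one]
      rw [← h3]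
      exact h2 _
    have ne1 : J ≠ cj y J := hyJ.symm
    have ne2 : J ≠ cj y (cj u J) := by rw [← cj_mul]; exact hyuJ.symm
    have ne3 : cj u J ≠ cj y J := by
      intro h1
      apply hyuJ
      have h2 := congrArg (cj u) h1
      rw [← cj_mul, hu2, cj_one, ← cj_mul, ← hyu] at h2
      exact h2.symm
    have ne4 : cj u J ≠ cj y (cj u J) := by
      intro h1
      apply hyJ
      have h2 := congrArg (cj u) h1
      rw [← cj_mul, hu2, cj_one, ← cj_mul, ← cj_mul, ← hyu, mul_assoc, hu2, mul_one] at h2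
      exact h2.symm
    have c1 := comm_of_ne hJ hJy ne1
    have c2 := comm_of_ne hJ hJyu ne2
    have c3 := comm_of_ne hJu hJy ne3
    have c4 := comm_of_ne hJu hJyu ne4
    have c0 := comm_of_ne hJ hJu (Ne.symm hcase)
    have hord : orderOf u = 2 := by
      apply orderOf_eq_prime
      · rw [pow_two, hu2]
      · exact hune
    obtain ⟨π, hπ1, _, hπ3, _⟩ := Cfsg.Agent.S1314.result u hord J hJp (by
      have := Components.component_commutator_eq_bot_of_ne hJ hJu (Ne.symm hcase)
      exact this)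
    have hperf : ⁅π.range, π.range⁆ = π.range := by
      have h2 : ⁅(⊤ : Subgroup ↥J), (⊤ : Subgroup ↥J)⁆ = ⊤ := by
        apply Subgroup.map_injective J.subtype_injective
        rw [Subgroup.map_commutator, ← MonoidHom.range_eq_map, Subgroup.range_subtype, hJp]
      rw [MonoidHom.range_eq_map, ← Subgroup.map_commutator, h2]
    have hErange : π.range ≤ S := by
      refine hES _ hπ3 hperf ?_
      rintro _ ⟨a, rfl⟩ _ ⟨b, rfl⟩
      rw [hπ1, hπ1]
      have hb1 : y * ((b : X) * (u * (b : X) * u⁻¹)) * y⁻¹ =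
          (y * b * y⁻¹) * (y * (u * b * u⁻¹) * y⁻¹) := by group
      rw [hb1]
      have e1 : y * (b : X) * y⁻¹ ∈ cj y J := conj_mem_cj b.2
      have e2 : y * (u * (b : X) * u⁻¹) * y⁻¹ ∈ cj y (cj u J) := conj_mem_cj (conj_mem_cj b.2)
      have e3 : u * (a : X) * u⁻¹ ∈ cj u J := conj_mem_cj a.2
      exact Commute.mul_left
        (Commute.mul_right (c1 _ a.2 _ e1) (c2 _ a.2 _ e2))
        (Commute.mul_right (c3 _ e3 _ e1) (c4 _ e3 _ e2))
    set h' := u * h * u⁻¹ with hh'
    have hh'J : h' ∈ cj u J := conj_mem_cj hhJ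
    have htS : h * h' ∈ S := hErange ⟨⟨h, hhJ⟩, hπ1 _⟩
    have hcomm : h * h' = h' * h := c0 h hhJ h' hh'J
    have hh'2 : h' * h' = z := by
      calc h' * h' = u * (h * h) * u⁻¹ := by rw [hh']; group
        _ = z := by rw [hhz, hzX u]; group
    have ht2 : (h * h') * (h * h') = 1 := by
      calc (h * h') * (h * h') = h * (h' * h) * h' := by group
        _ = h * (h * h') * h' := by rw [hcomm]
        _ = (h * h) * (h' * h') := by group
        _ = 1 := by rw [hhz, hh'2, hz2]
    have hh'cen : ∀ k ∈ J, h' * k = k * h' := fun k hk => (c0 k hk h' hh'J).symm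
    apply hhctr
    by_cases ht1 : h * h' = 1
    · have h5 : h = h'⁻¹ := eq_inv_of_mul_eq_one_left ht1
      intro k hk
      rw [h5]
      exact (Commute.inv_left (hh'cen k hk))
    · have ht3 := hSuniq _ htS ht2 ht1
      -- `t = u = y u y⁻¹` commutes with `J`
      have ht4 : h * h' = (y * h * y⁻¹) * (y * h' * y⁻¹) := by
        have : y * (h * h') * y⁻¹ = h * h' := by
          rw [ht3, hyu, mul_assoc, mul_inv_cancel, mul_one]
        rw [← this]; group
      have e1 : y * h * y⁻¹ ∈ cj y J := conj_mem_cj hhJ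
      have e2 : y * h' * y⁻¹ ∈ cj y (cj u J) := conj_mem_cj hh'J
      intro k hk
      have h6 : Commute k (h * h') := by
        rw [ht4]
        exact Commute.mul_right (c1 k hk _ e1) (c2 k hk _ e2)
      have h7 : Commute k h' := (hh'cen k hk).symm
      have h8 : h = (h * h') * h'⁻¹ := by group
      rw [h8]
      exact (Commute.mul_right h6 h7.inv_right).symm

end Cfsg.Agent.SignalizersComponents.IntrinsicCaseA
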