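import Mathlib
import Cfsg.Agent.SignalizersComponents.IntrinsicIntr
import Cfsg.Agent.SignalizersComponents.IntrinsicCaseA

/-!
S1315, step A: if a 2-element `y ∈ K` of order at least 4 centralizing `z(J)` does not normalize
`J` then `u = z(K)` normalizes `J` and acts nontrivially on `J / O(J)`.
-/

set_option autoImplicit false
set_option linter.unusedSectionVars false

namespace Cfsg.Agent.SignalizersComponents.IntrinsicLemmaA

open Subgroup Cfsg IntrinsicBasic IntrinsicIntr Cfsg.Agent.SignalizersComponents.PLayerAut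

variable {G : Type*} [Group G] [Finite G]

/-- facts about the image of `J` in `C(z)/O(C(z))` -/
theorem map_isComponent {X J : Subgroup G} (h : TC X J) :
    IsComponent ((J.subgroupOf X).map (QuotientGroup.mk' (oddCore ↥X))) := h.comp.2.1

theorem mem_map_iff {X J : Subgroup G} (hJX : J ≤ X) {x : ↥X} :
    (QuotientGroup.mk' (oddCore ↥X)) x ∈ (J.subgroupOf X).map (QuotientGroup.mk' (oddCore ↥X)) ↔
      ∃ j ∈ J, j⁻¹ * (x : G) ∈ relCore 2 X := by
  constructor
  · rintro ⟨j, hj, hjx⟩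
    exact ⟨j, hj, mk_eq_mk_iff.mp hjx⟩
  · rintro ⟨j, hj, hjx⟩
    exact ⟨⟨j, hJX hj⟩, hj, mk_eq_mk_iff.mpr hjx⟩

theorem cj_eq_of_map {X J : Subgroup G} (h : TC X J) {g : ↥X}
    (hg : cj ((QuotientGroup.mk' (oddCore ↥X)) g)
      ((J.subgroupOf X).map (QuotientGroup.mk' (oddCore ↥X))) =
        (J.subgroupOf X).map (QuotientGroup.mk' (oddCore ↥X))) : cj (g : G) J = J := by
  have h1 := PCompCore.mem_normalizer_of_mk_normalizes h.comp (g := g) hg
  rw [mem_normalizer_iff] at h1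
  rw [← mem_normalizer_iff_cj, mem_normalizer_iff]
  intro x
  constructor
  · intro hx
    exact (h1 ⟨x, h.le hx⟩).mp hx
  · intro hx
    have hX : x ∈ X := by
      have h3 := h.le hx
      have h4 : x = (g : G)⁻¹ * ((g : G) * x * (g : G)⁻¹) * g := by group
      rw [h4]
      exact X.mul_mem (X.mul_mem (X.inv_mem g.2) h3) g.2
    exact (h1 ⟨x, hX⟩).mpr hx

theorem orderOf_map {X : Subgroup G} {y : ↥X} {n : ℕ} (hy : orderOf (y : G) = 2 ^ n) :
    orderOf ((QuotientGroup.mk' (oddCore ↥X)) y) = 2 ^ n := by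
  have h1 : orderOf ((QuotientGroup.mk' (oddCore ↥X)) y) ∣ 2 ^ n := by
    rw [← hy, Subgroup.orderOf_coe]
    exact orderOf_map_dvd _ _
  refine Nat.dvd_antisymm h1 ?_
  set m := orderOf ((QuotientGroup.mk' (oddCore ↥X)) y) with hm
  have h2 : (QuotientGroup.mk' (oddCore ↥X)) (y ^ m) = 1 := by
    rw [map_pow, hm, pow_orderOf_eq_one]
  have h3 : ((y ^ m : ↥X) : G) ∈ relCore 2 X := (mem_relCore_iff (y ^ m).2).mpr h2
  have h4 : ((y ^ m : ↥X) : G) = 1 := by
    apply eq_one_of_mem_relCore h3 (n := n)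
    rw [Subgroup.coe_pow, ← pow_mul, mul_comm, pow_mul, ← hy, pow_orderOf_eq_one, one_pow]
  rw [Subgroup.coe_pow] at h4
  rw [← hy]
  exact orderOf_dvd_of_pow_eq_one h4

/-- `u` is a power of `y` -/
theorem pow_eq {u : G} {K : Subgroup G} (hK : Intr u K) {y : G} (hy : y ∈ K) {n : ℕ} (hn : 1 ≤ n)
    (hord : orderOf y = 2 ^ n) : y ^ 2 ^ (n - 1) = u := by
  have hyn : y ^ 2 ^ n = 1 := by rw [← hord]; exact pow_orderOf_eq_one y
  apply hK.uniq _ (K.pow_mem hy _)
  · rw [← pow_add, ← two_mul, ← pow_succ', Nat.sub_add_cancel (by omega), hyn]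
  · intro h1
    have h2 := orderOf_dvd_of_pow_eq_one h1
    rw [hord] at h2
    have h3 := Nat.le_of_dvd (by positivity) h2
    have h4 : 2 ^ (n - 1) < 2 ^ n := Nat.pow_lt_pow_right (by norm_num) (by omega)
    omega

theorem main {z u : G} {J K : Subgroup G} (hJ : Intr z J) (hK : Intr u K) {y : G} (hy : y ∈ K)
    (hyz : y * z = z * y) {n : ℕ} (hn : 2 ≤ n) (hord : orderOf y = 2 ^ n) (hne : cj y J ≠ J) :
    cj u J = J ∧ u ∉ cenMod (centralizer ({z} : Set G)) J := by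
  have hyu := pow_eq hK hy (by omega) hord
  have hyC : y ∈ centralizer ({z} : Set G) := mem_centralizer_singleton_iff.mpr hyz
  have huC : u ∈ centralizer ({z} : Set G) := hyu ▸ pow_mem hyC _
  have hzC : z ∈ centralizer ({z} : Set G) := hJ.tc.le hJ.mem
  set π := QuotientGroup.mk' (oddCore ↥(centralizer ({z} : Set G))) with hπ
  set Jb := (J.subgroupOf (centralizer ({z} : Set G))).map π with hJb
  have hsurj : Function.Surjective π := QuotientGroup.mk'_surjective _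
  obtain ⟨h4, h4J, h4z, _⟩ := hJ.exists_four
  -- the subgroup `S`
  let S : Subgroup ↥(centralizer ({z} : Set G)) := K.subgroupOf (centralizer ({z} : Set G))
  have key := IntrinsicCaseA.main (J := Jb) (z := π ⟨z, hzC⟩) (u := π ⟨u, huC⟩)
    (y := π ⟨y, hyC⟩) (map_isComponent hJ.tc) ?_ ⟨⟨z, hzC⟩, hJ.mem, rfl⟩ ?_ ?_ ?_
    ⟨π ⟨h4, hJ.tc.le h4J⟩, ⟨_, h4J, rfl⟩, ?_⟩ (S := S.map π) ?_ ?_ ?_ ?_ ?_
    ⟨⟨y, hyC⟩, hy, rfl⟩ hn (orderOf_map hord) ?_
  · obtain ⟨h1, j, hj, hju⟩ := key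
    refine ⟨cj_eq_of_map hJ.tc h1, ?_⟩
    intro hu
    rw [mem_cenMod hJ.tc.le] at hu
    obtain ⟨j, hj, rfl⟩ := hj
    apply hju
    have h2 := mk_eq_mk_iff.mpr (show (j : G)⁻¹ *
      ((⟨u, huC⟩ * j * ⟨u, huC⟩⁻¹ : ↥(centralizer ({z} : Set G))) : G) ∈
        relCore 2 (centralizer ({z} : Set G)) from hu.2 j hj)
    rw [map_mul, map_mul, map_inv] at h2
    calc π ⟨u, huC⟩ * π j = (π ⟨u, huC⟩ * π j * (π ⟨u, huC⟩)⁻¹) * π ⟨u, huC⟩ := by group
      _ = π j * π ⟨u, huC⟩ := by rw [← h2]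
  · intro x
    obtain ⟨x, rfl⟩ := hsurj x
    rw [← map_mul, ← map_mul]
    congr 1
    apply Subtype.ext
    exact mem_centralizer_singleton_iff.mp x.2
  · rw [← map_mul]
    have : (⟨z, hzC⟩ * ⟨z, hzC⟩ : ↥(centralizer ({z} : Set G))) = 1 := Subtype.ext hJ.sq
    rw [this, map_one]
  · intro h
    have := (mem_relCore_iff hzC).mpr h
    exact hJ.ne (eq_one_of_sq this hJ.sq)
  · rintro _ ⟨j, hj, rfl⟩ hcomm
    have hjc : (j : G) ∈ cenMod (centralizer ({z} : Set G)) J := by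
      rw [mem_cenMod hJ.tc.le]
      refine ⟨j.2, fun k hk => ?_⟩
      have h1 := hcomm (π ⟨k, hJ.tc.le hk⟩) ⟨⟨k, hJ.tc.le hk⟩, hk, rfl⟩
      have h2 : π ⟨k, hJ.tc.le hk⟩ = π (j * ⟨k, hJ.tc.le hk⟩ * j⁻¹) := by
        rw [map_mul, map_mul, map_inv, h1]; group
      exact mk_eq_mk_iff.mp h2
    have h1 := hJ.sq_mem hj hjc
    rw [← map_mul]
    exact (mem_relCore_iff (j * j).2).mp h1
  · rw [← map_mul]
    congr 1
    exact Subtype.ext h4z
  · rw [← map_mul]
    have : (⟨u, huC⟩ * ⟨u, huC⟩ : ↥(centralizer ({z} : Set G))) = 1 := Subtype.ext hK.sq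
    rw [this, map_one]
  · intro h
    have := (mem_relCore_iff huC).mpr h
    exact hK.ne (eq_one_of_sq this hK.sq)
  · rintro _ ⟨s, hs, rfl⟩ hs2 hs1
    rw [← map_mul] at hs2
    have h1 := (mem_relCore_iff (s * s).2).mpr hs2
    obtain ⟨s', hs'K, hs'2, hss', k, hk⟩ := exists_sq_eq_one
      (odd_card_relCore (centralizer ({z} : Set G))) (show (s : G) ∈ K from hs) h1
    have hs'C : s' ∈ centralizer ({z} : Set G) := by rw [hk]; exact pow_mem s.2 k
    have h3 : π s = π ⟨s', hs'C⟩ := mk_eq_mk_iff.mpr hss'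
    rw [h3]
    congr 1
    apply Subtype.ext
    apply hK.uniq s' hs'K hs'2
    rintro rfl
    apply hs1
    rw [h3]
    exact map_one π
  · rintro _ ⟨s, hs, rfl⟩
    rw [mem_centralizer_singleton_iff, ← map_mul, ← map_mul]
    congr 1
    apply Subtype.ext
    exact hK.comm hs
  · -- subnormality
    have h1 : (K.subgroupOf (centralizer ({u} : Set G))).IsSubnormal := hK.tc.comp.1
    let M : Subgroup G := centralizer ({z} : Set G) ⊓ centralizer ({u} : Set G)
    have h2 : ((K.subgroupOf (centralizer ({u} : Set G))).comap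
        (Subgroup.inclusion (inf_le_right : M ≤ centralizer ({u} : Set G)))).IsSubnormal :=
      h1.comap _
    have h3 := h2.map (centMap_surjective (centralizer ({z} : Set G)) u huC hK.sq)
    convert h3 using 1
    ext x
    constructor
    · rintro ⟨s, hs, hsx⟩
      have hsu : (s : G) ∈ centralizer ({u} : Set G) := hK.tc.le hs
      refine ⟨⟨s, s.2, hsu⟩, hs, ?_⟩
      apply Subtype.ext
      exact hsx
    · rintro ⟨s, hs, rfl⟩
      exact ⟨⟨s, s.2.1⟩, hs, rfl⟩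
  · intro h
    exact hne (cj_eq_of_map hJ.tc h)

end Cfsg.Agent.SignalizersComponents.IntrinsicLemmaA
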