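import Mathlib
import Cfsg.Agent.SignalizersComponents.IntrinsicIntr
import Cfsg.Agent.SignalizersComponents.IntrinsicLemmaA

/-!
S1315, step C: if a 2-element `y ∈ K` of order at least 4 centralizing `z = z(J)` does not
normalize `J`, then `y² = u = z(K)` and a suitable involution `w ∈ J J^y` inverts... the element
`y` is mapped to `z y` by `w`, and `w` does not normalize `K`.
-/

set_option autoImplicit false
set_option linter.unusedSectionVars false

namespace Cfsg.Agent.SignalizersComponents.IntrinsicLemmaC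

open Subgroup Cfsg IntrinsicBasic IntrinsicIntr Cfsg.Agent.SignalizersComponents.PLayerAut

variable {G : Type*} [Group G] [Finite G]

theorem eq_one_of_mem_T {X T : Subgroup G} (hT : IsPGroup 2 T) {x : G} (hx : x ∈ relCore 2 X)
    (hxT : x ∈ T) : x = 1 := by
  obtain ⟨k, hk⟩ := hT ⟨x, hxT⟩
  exact eq_one_of_mem_relCore hx (n := k) (by simpa using congrArg Subtype.val hk)

theorem comm_of_cenMod {X K T : Subgroup G} (hKX : K ≤ X) (hT : IsPGroup 2 T) {p q : G}
    (hp : p ∈ K) (hq : q ∈ cenMod X K) (hpT : p ∈ T) (hqT : q ∈ T) : p * q = q * p := by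
  have h1 := ((mem_cenMod hKX).mp hq).2 p hp
  have h2 : p⁻¹ * (q * p * q⁻¹) = 1 := eq_one_of_mem_T hT h1
    (T.mul_mem (T.inv_mem hpT) (T.mul_mem (T.mul_mem hqT hpT) (T.inv_mem hqT)))
  calc p * q = p * (p⁻¹ * (q * p * q⁻¹)) * q := by rw [h2, mul_one]
    _ = q * p := by group

theorem comm_of_T {X L₁ L₂ T : Subgroup G} (h₁ : TC X L₁) (h₂ : TC X L₂) (hne : L₁ ≠ L₂)
    (hT : IsPGroup 2 T) {p q : G} (hp : p ∈ L₁) (hq : q ∈ L₂) (hpT : p ∈ T) (hqT : q ∈ T) :
    p * q = q * p :=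
  comm_of_cenMod h₁.le hT hp (h₁.le_cenMod h₂ hne hq) hpT hqT

theorem main {z u : G} {J K : Subgroup G} (hJ : Intr z J) (hK : Intr u K) {y : G} (hy : y ∈ K)
    (hyz : y * z = z * y) {n : ℕ} (hn : 2 ≤ n) (hord : orderOf y = 2 ^ n) (hne : cj y J ≠ J)
    {T : Subgroup G} (hT : IsPGroup 2 T) (hyT : y ∈ T) {f : G}
    (hfT : f ∈ T) (hfJ : f ∈ J) (hf2 : f * f = z) (hfu : u * f * u⁻¹ = f * z) :
    y * y = u ∧ cj (y * y) J = J ∧
      (f * (y * f * y⁻¹)) * (f * (y * f * y⁻¹)) = 1 ∧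
      (f * (y * f * y⁻¹)) * u = u * (f * (y * f * y⁻¹)) ∧
      cj (f * (y * f * y⁻¹)) K ≠ K ∧
      (f * (y * f * y⁻¹))⁻¹ * y * (f * (y * f * y⁻¹)) = z * y := by
  set X := centralizer ({z} : Set G) with hX
  have hyu := IntrinsicLemmaA.pow_eq hK hy (by omega) hord
  have huy : u * y = y * u := by rw [← hyu]; exact (Commute.pow_self y _)
  have hyX : y ∈ X := mem_centralizer_singleton_iff.mpr hyz
  have huX : u ∈ X := hyu ▸ pow_mem hyX _
  have hcjX : ∀ g ∈ X, TC X (cj g J) := fun g hg => hJ.tc.cj_of_mem (le_normalizer hg)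
  have hzc : ∀ g ∈ X, g * z = z * g := fun g hg => mem_centralizer_singleton_iff.mp hg
  set f₂ := y * f * y⁻¹ with hf₂
  set f₃ := y * f₂ * y⁻¹ with hf₃
  set f₄ := y * f₃ * y⁻¹ with hf₄
  have hfX : f ∈ X := hJ.tc.le hfJ
  have hf₂X : f₂ ∈ X := X.mul_mem (X.mul_mem hyX hfX) (X.inv_mem hyX)
  have hf₃X : f₃ ∈ X := X.mul_mem (X.mul_mem hyX hf₂X) (X.inv_mem hyX)
  have hf₂T : f₂ ∈ T := T.mul_mem (T.mul_mem hyT hfT) (T.inv_mem hyT)
  have hf₃T : f₃ ∈ T := T.mul_mem (T.mul_mem hyT hf₂T) (T.inv_mem hyT)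
  have hf₄T : f₄ ∈ T := T.mul_mem (T.mul_mem hyT hf₃T) (T.inv_mem hyT)
  have hf₂J : f₂ ∈ cj y J := conj_mem_cj hfJ
  have hf₃J : f₃ ∈ cj (y * y) J := by rw [cj_mul]; exact conj_mem_cj hf₂J
  have hf₄J : f₄ ∈ cj (y * (y * y)) J := by rw [cj_mul]; exact conj_mem_cj hf₃J
  have hf₂2 : f₂ * f₂ = z := by
    calc f₂ * f₂ = y * (f * f) * y⁻¹ := by rw [hf₂]; group
      _ = z := by rw [hf2, hyz]; group
  have hf₃2 : f₃ * f₃ = z := by
    calc f₃ * f₃ = y * (f₂ * f₂) * y⁻¹ := by rw [hf₃]; group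
      _ = z := by rw [hf₂2, hyz]; group
  have hfzz : z * z = 1 := hJ.sq
  have hzi : z⁻¹ = z := hJ.inv_eq
  -- `f` is not in `cenMod`
  have hfnot : f ∉ cenMod X J := by
    intro h
    have h4 : f ^ 2 ^ 2 = 1 := by
      rw [show (2 : ℕ) ^ 2 = 2 * 2 by norm_num, pow_mul, pow_two, pow_two, hf2, hJ.sq]
    rcases hJ.eq_of_cenMod hfJ h h4 with h1 | h1
    · rw [h1, mul_one] at hf2; exact hJ.ne hf2.symm
    · rw [h1, hJ.sq] at hf2; exact hJ.ne hf2.symm
  have hc12 : f * f₂ = f₂ * f :=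
    comm_of_T hJ.tc (hcjX y hyX) hne.symm hT hfJ hf₂J hfT hf₂T
  obtain ⟨w, hw⟩ : ∃ w, w = f * f₂ := ⟨_, rfl⟩
  rw [← hw]
  have hwT : w ∈ T := hw ▸ T.mul_mem hfT hf₂T
  have hwX : w ∈ X := hw ▸ X.mul_mem hfX hf₂X
  have hw2 : w * w = 1 := by
    calc w * w = f * (f₂ * f) * f₂ := by rw [hw]; group
      _ = (f * f) * (f₂ * f₂) := by rw [← hc12]; group
      _ = 1 := by rw [hf2, hf₂2, hfzz]
  have hf₂u : u * f₂ * u⁻¹ = f₂ * z := by
    calc u * f₂ * u⁻¹ = (u * y) * f * (u * y)⁻¹ := by rw [hf₂]; group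
      _ = (y * u) * f * (y * u)⁻¹ := by rw [huy]
      _ = y * (u * f * u⁻¹) * y⁻¹ := by group
      _ = y * f * (z * y⁻¹) := by rw [hfu]; group
      _ = f₂ * z := by
        have : z * y⁻¹ = y⁻¹ * z := by
          rw [eq_inv_mul_iff_mul_eq, ← mul_assoc, hyz, mul_inv_cancel_right]
        rw [this, hf₂]; group
  have hwu : w * u = u * w := by
    have h1 : u * w * u⁻¹ = w := by
      calc u * w * u⁻¹ = (u * f * u⁻¹) * (u * f₂ * u⁻¹) := by rw [hw]; group
        _ = f * (z * f₂) * z := by rw [hfu, hf₂u]; group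
        _ = f * f₂ * (z * z) := by rw [← hzc f₂ hf₂X]; group
        _ = w := by rw [hfzz, mul_one, hw]
    calc w * u = (u * w * u⁻¹) * u := by rw [h1]
      _ = u * w := by group
  -- the element `c`
  set c := f⁻¹ * f₃ with hc
  have hcT : c ∈ T := T.mul_mem (T.inv_mem hfT) hf₃T
  have hyw : w⁻¹ * y * w = c * y := by
    calc w⁻¹ * y * w = (f₂⁻¹ * f⁻¹) * (y * f * y⁻¹) * (y * f₂ * y⁻¹) * y := by rw [hw]; group
      _ = (f₂⁻¹ * f⁻¹) * f₂ * f₃ * y := by rw [← hf₂, ← hf₃]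
      _ = (f₂⁻¹ * (f⁻¹ * f₂)) * f₃ * y := by group
      _ = (f₂⁻¹ * (f₂ * f⁻¹)) * f₃ * y := by
        have : f⁻¹ * f₂ = f₂ * f⁻¹ := by
          rw [inv_mul_eq_iff_eq_mul, ← mul_assoc, hc12, mul_inv_cancel_right]
        rw [this]
      _ = c * y := by rw [hc]; group
  have hyord2 : y * y ≠ 1 := by
    intro h
    have h1 : orderOf y ∣ 2 := orderOf_dvd_of_pow_eq_one (by rw [pow_two, h])
    rw [hord] at h1
    have h2 := Nat.le_of_dvd (by norm_num) h1
    have h3 : 2 ^ 2 ≤ 2 ^ n := Nat.pow_le_pow_right (by norm_num) hn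
    omega
  have hy1n : y ^ 2 ^ n = 1 := by rw [← hord]; exact pow_orderOf_eq_one y
  by_cases hwK : cj w K = K
  · exfalso
    have hcK : c ∈ K := by
      have h1 : w⁻¹ * y * w ∈ K := mem_cj.mp (hwK.symm ▸ hy)
      rw [hyw] at h1
      have h2 := K.mul_mem h1 (K.inv_mem hy)
      rwa [mul_inv_cancel_right] at h2
    by_cases hJ3 : cj (y * y) J = J
    · -- (a2)
      have hf₃J' : f₃ ∈ J := hJ3 ▸ hf₃J
      have hcJ : c ∈ J := J.mul_mem (J.inv_mem hfJ) hf₃J'
      have hind : ∀ i : ℕ, ∃ d ∈ J ⊓ K, (y * y) ^ i * f * ((y * y) ^ i)⁻¹ = f * d := by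
        intro i
        induction i with
        | zero => exact ⟨1, one_mem _, by simp⟩
        | succ i ih =>
          obtain ⟨d, hd, hdi⟩ := ih
          refine ⟨c * ((y * y) * d * (y * y)⁻¹), ?_, ?_⟩
          · refine mul_mem ⟨hcJ, hcK⟩ ⟨?_, ?_⟩
            · have := conj_mem_cj (g := y * y) hd.1
              rwa [hJ3] at this
            · exact K.mul_mem (K.mul_mem (K.mul_mem hy hy) hd.2) (K.inv_mem (K.mul_mem hy hy))
          · calc (y * y) ^ (i + 1) * f * ((y * y) ^ (i + 1))⁻¹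
                = (y * y) * ((y * y) ^ i * f * ((y * y) ^ i)⁻¹) * (y * y)⁻¹ := by
                  rw [pow_succ', mul_inv_rev]; simp only [mul_assoc]
              _ = (y * y) * (f * d) * (y * y)⁻¹ := by rw [hdi]
              _ = (y * (y * f * y⁻¹) * y⁻¹) * ((y * y) * d * (y * y)⁻¹) := by group
              _ = f₃ * ((y * y) * d * (y * y)⁻¹) := by rw [← hf₂, ← hf₃]
              _ = f * (c * ((y * y) * d * (y * y)⁻¹)) := by rw [hc]; group
      obtain ⟨d, hd, hdu⟩ := hind (2 ^ (n - 2))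
      have h5 : (y * y) ^ 2 ^ (n - 2) = u := by
        rw [← hyu, ← pow_two, ← pow_mul, ← pow_succ', show n - 2 + 1 = n - 1 by omega]
      rw [h5, hfu] at hdu
      have h6 : z = d := mul_left_cancel hdu
      have h7 : z = u := hK.uniq z (h6 ▸ hd.2) hJ.sq hJ.ne
      rw [← h7] at hfu
      have h8 : z * f * z⁻¹ = f := by rw [← hzc f hfX]; group
      rw [h8] at hfu
      apply hJ.ne
      exact (mul_eq_left.mp hfu.symm)
    · -- (a1)
      have hc13 : f * f₃ = f₃ * f :=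
        comm_of_T hJ.tc (hcjX _ (X.mul_mem hyX hyX)) (Ne.symm hJ3) hT hfJ hf₃J hfT hf₃T
      have hc23 : f₂ * f₃ = f₃ * f₂ := by
        refine comm_of_T (hcjX y hyX) (hcjX _ (X.mul_mem hyX hyX)) ?_ hT hf₂J hf₃J hf₂T hf₃T
        intro h
        rw [cj_mul] at h
        exact hne (cj_injective y h).symm
      have hc2 : c * c = 1 := by
        have h1 : f⁻¹ * f₃ = f₃ * f⁻¹ := by
          rw [inv_mul_eq_iff_eq_mul, ← mul_assoc, hc13, mul_inv_cancel_right]
        calc c * c = f⁻¹ * (f₃ * f⁻¹) * f₃ := by rw [hc]; group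
          _ = (f * f)⁻¹ * (f₃ * f₃) := by rw [← h1]; group
          _ = 1 := by rw [hf2, hf₃2, inv_mul_cancel]
      by_cases hc1 : c = 1
      · have h1 : f = f₃ := by
          have := inv_mul_eq_one.mp (hc ▸ hc1)
          exact this
        apply hfnot
        apply hJ.tc.le_cenMod (hcjX _ (X.mul_mem hyX hyX)) (Ne.symm hJ3)
        rw [h1]; exact hf₃J
      · have h1 := hK.uniq c hcK hc2 hc1
        have h2 : f₂ * c = c * f₂ := by
          calc f₂ * c = (f₂ * f⁻¹) * f₃ := by rw [hc]; group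
            _ = (f⁻¹ * f₂) * f₃ := by
              have : f⁻¹ * f₂ = f₂ * f⁻¹ := by
                rw [inv_mul_eq_iff_eq_mul, ← mul_assoc, hc12, mul_inv_cancel_right]
              rw [this]
            _ = f⁻¹ * (f₂ * f₃) := by group
            _ = c * f₂ := by rw [hc23, hc]; group
        rw [h1] at h2
        have h3 : u * f₂ * u⁻¹ = f₂ := by rw [← h2]; group
        rw [h3] at hf₂u
        exact hJ.ne (mul_eq_left.mp hf₂u.symm)
  · -- case (b)
    have hwuC : w ∈ centralizer ({u} : Set G) := mem_centralizer_singleton_iff.mpr hwu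
    have hKw : cj w⁻¹ K ≠ K := by
      intro h
      apply hwK
      rw [← h, cj_cj_inv]; exact h.symm ▸ rfl
    have hTCw : TC (centralizer ({u} : Set G)) (cj w⁻¹ K) :=
      hK.tc.cj_of_mem (le_normalizer (inv_mem hwuC))
    have hymem : w⁻¹ * y * w ∈ cj w⁻¹ K := by
      have := conj_mem_cj (g := w⁻¹) hy
      rwa [inv_inv] at this
    have hymem' : w⁻¹ * y * w ∈ cenMod (centralizer ({u} : Set G)) K :=
      hK.tc.le_cenMod hTCw hKw.symm hymem
    have hycomm : y * (w⁻¹ * y * w) = (w⁻¹ * y * w) * y :=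
      comm_of_cenMod hK.tc.le hT hy hymem' hyT
        (T.mul_mem (T.mul_mem (T.inv_mem hwT) hyT) hwT)
    have hyc : y * c = c * y := by
      rw [hyw] at hycomm
      have : y * (c * y) = (y * c) * y := by group
      rw [this] at hycomm
      exact mul_right_cancel hycomm
    have hycc : y * c * y⁻¹ = c := by rw [hyc]; group
    have hycc' : c = f₂⁻¹ * f₄ := by
      rw [← hycc, hc, hf₄]
      calc y * (f⁻¹ * f₃) * y⁻¹ = (y * f * y⁻¹)⁻¹ * (y * f₃ * y⁻¹) := by group
        _ = f₂⁻¹ * (y * f₃ * y⁻¹) := by rw [← hf₂]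
    by_cases hJ3 : cj (y * y) J = J
    · -- (b2)
      have hf₃J' : f₃ ∈ J := hJ3 ▸ hf₃J
      have hcJ : c ∈ J := J.mul_mem (J.inv_mem hfJ) hf₃J'
      have hcJ2 : c ∈ cj y J := by
        rw [← hycc]; exact conj_mem_cj hcJ
      have hccen : c ∈ cenMod X J := hJ.tc.le_cenMod (hcjX y hyX) hne.symm hcJ2
      obtain ⟨k, hk⟩ := hT ⟨c, hcT⟩
      have hk' : c ^ 2 ^ k = 1 := by simpa using congrArg Subtype.val hk
      rcases hJ.eq_of_cenMod hcJ hccen hk' with hc1 | hcz
      · exfalso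
        rw [hyw, hc1, one_mul] at hymem'
        rcases hK.eq_of_cenMod hy hymem' hy1n with h1 | h1
        · apply hyord2; rw [h1, mul_one]
        · apply hyord2; rw [h1, hK.sq]
      · rw [hcz] at hyw
        have hzycen : z * y ∈ cenMod (centralizer ({u} : Set G)) K := hyw ▸ hymem'
        have hy2cen : y * y ∈ cenMod (centralizer ({u} : Set G)) K := by
          have h1 := mul_mem hzycen hzycen
          have h2 : z * y * (z * y) = y * y := by
            calc z * y * (z * y) = z * (y * z) * y := by group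
              _ = (z * z) * (y * y) := by rw [hyz]; group
              _ = y * y := by rw [hfzz, one_mul]
          rwa [h2] at h1
        have hy2n : (y * y) ^ 2 ^ n = 1 := by
          rw [(Commute.refl y).mul_pow, hy1n, one_mul]
        have hyy : y * y = u := by
          rcases hK.eq_of_cenMod (K.mul_mem hy hy) hy2cen hy2n with h1 | h1
          · exact absurd h1 hyord2
          · exact h1
        exact ⟨hyy, hJ3, hw2, hwu, hwK, hyw⟩
    · -- (b1)
      exfalso
      have hJ4 : J ≠ cj (y * (y * y)) J := by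
        intro h
        apply hne
        have h1 : y * (y * y) = y ^ 3 := by rw [pow_three]
        rw [h1] at h
        have hcop : Nat.Coprime 3 (orderOf y) := by
          rw [hord]
          exact Nat.Coprime.pow_right n (by norm_num)
        obtain ⟨m, hm⟩ := exists_pow_eq_self_of_coprime hcop
        have h2 : ∀ k : ℕ, cj ((y ^ 3) ^ k) J = J := by
          intro k
          induction k with
          | zero => rw [pow_zero, cj_one]
          | succ k ih => rw [pow_succ, cj_mul, ← h, ih]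
        rw [← hm]
        exact h2 m
      apply hfnot
      have h1 : f⁻¹ = f₂⁻¹ * f₄ * f₃⁻¹ := by
        rw [← hycc', hc]; group
      have h2 : f⁻¹ ∈ cenMod X J := by
        rw [h1]
        refine mul_mem (mul_mem (inv_mem ?_) ?_) (inv_mem ?_)
        · exact hJ.tc.le_cenMod (hcjX y hyX) hne.symm hf₂J
        · exact hJ.tc.le_cenMod (hcjX _ (X.mul_mem hyX (X.mul_mem hyX hyX))) hJ4 hf₄J
        · exact hJ.tc.le_cenMod (hcjX _ (X.mul_mem hyX hyX)) (Ne.symm hJ3) hf₃J
      exact (inv_mem_iff).mp h2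

end Cfsg.Agent.SignalizersComponents.IntrinsicLemmaC
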