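import Mathlib
import Cfsg.Agent.SignalizersComponents.IntrinsicGP
import Cfsg.Agent.SignalizersComponents.IntrinsicLemmaC

/-!
S1315 (i): the end of the argument.
-/

set_option autoImplicit false
set_option linter.unusedSectionVars false

namespace Cfsg.Agent.SignalizersComponents.IntrinsicEnd

open Subgroup Cfsg IntrinsicBasic IntrinsicIntr Cfsg.Agent.SignalizersComponents.PLayerAut

/-! ### a computation in the quotient -/

section calc1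

variable {Q : Type*} [Group Q] {x u y f z x₂ f₂ : Q}

theorem calc_a (h1 : x⁻¹ * u * x = u * f) (hyu : y * u = u * y) (hx₂ : x₂ = y * x * y⁻¹)
    (hf₂ : f₂ = y * f * y⁻¹) (hfx₂ : f * x₂ = x₂ * f) (hff₂ : f * f₂ = f₂ * f) :
    (x * x₂)⁻¹ * u * (x * x₂) = u * (f * f₂) := by
  have h3 : x₂⁻¹ * u * x₂ = u * f₂ := by
    have h4 : y⁻¹ * u * y = u := by rw [mul_assoc, ← hyu]; group
    calc x₂⁻¹ * u * x₂ = y * (x⁻¹ * (y⁻¹ * u * y) * x) * y⁻¹ := by rw [hx₂]; group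
      _ = (y * u) * f * y⁻¹ := by rw [h4, h1]; group
      _ = u * f₂ := by rw [hyu, hf₂]; group
  calc (x * x₂)⁻¹ * u * (x * x₂) = x₂⁻¹ * (x⁻¹ * u * x) * x₂ := by group
    _ = x₂⁻¹ * u * (f * x₂) := by rw [h1]; group
    _ = (x₂⁻¹ * u * x₂) * f := by rw [hfx₂]; group
    _ = u * (f * f₂) := by rw [h3, mul_assoc, hff₂]

theorem calc_b (h1 : x⁻¹ * u * x = u * f) (hyu : y * u = u * y) (hyy : y * y = u)
    (hx₂ : x₂ = y * x * y⁻¹)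
    (hf₂ : f₂ = y * f * y⁻¹) (hfx₂ : f * x₂ = x₂ * f) (hff₂ : f * f₂ = f₂ * f)
    (hxf₂ : x * f₂ = f₂ * x) (hxx₂ : x * x₂ = x₂ * x) (hf : f * f = z) (hzx : z * x = x * z)
    (hzz : z * z = 1) (hfu : u * f * u⁻¹ = f * z) (hzu : z * u = u * z) :
    ((x * x₂) * u * (x * x₂)⁻¹)⁻¹ * y * ((x * x₂) * u * (x * x₂)⁻¹) * y⁻¹ = z := by
  have hzi : z⁻¹ = z := inv_eq_of_mul_eq_one_left hzz
  obtain ⟨f', hf'⟩ : ∃ f', f' = x * f * x⁻¹ := ⟨_, rfl⟩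
  obtain ⟨f₂', hf₂'⟩ : ∃ f₂', f₂' = y * f' * y⁻¹ := ⟨_, rfl⟩
  have h2 : x * u * x⁻¹ = u * f'⁻¹ := by
    have h3 : u = (x * u * x⁻¹) * f' := by
      calc u = x * (x⁻¹ * u * x) * x⁻¹ := by group
        _ = (x * u * x⁻¹) * f' := by rw [h1, hf']; group
    have h4 : x * u * x⁻¹ = u * f'⁻¹ := by
      rw [eq_mul_inv_iff_mul_eq]; exact h3.symm
    exact h4
  have hf₂'x : f₂' = x₂ * f₂ * x₂⁻¹ := by rw [hf₂', hf', hx₂, hf₂]; group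
  have hxf₂' : x * f₂' = f₂' * x := by
    have c1 : Commute x x₂ := hxx₂
    have c2 : Commute x f₂ := hxf₂
    rw [hf₂'x]
    exact ((c1.mul_right c2).mul_right c1.inv_right).eq
  have hff₂' : f * f₂' = f₂' * f := by
    have c1 : Commute f x₂ := hfx₂
    have c2 : Commute f f₂ := hff₂
    rw [hf₂'x]
    exact ((c1.mul_right c2).mul_right c1.inv_right).eq
  have hf'f₂' : Commute f' f₂' := by
    have c1 : Commute f₂' x := hxf₂'.symm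
    have c2 : Commute f₂' f := hff₂'.symm
    rw [hf']
    exact ((c1.mul_right c2).mul_right c1.inv_right).symm
  have hf'sq : f' * f' = z := by
    calc f' * f' = x * (f * f) * x⁻¹ := by rw [hf']; group
      _ = z := by rw [hf, ← hzx]; group
  have hcu : y * u * y⁻¹ = u := by rw [hyu]; group
  have h5 : x₂ * u * x₂⁻¹ = u * f₂'⁻¹ := by
    have h4 : y⁻¹ * u * y = u := by rw [mul_assoc, ← hyu]; group
    calc x₂ * u * x₂⁻¹ = y * (x * (y⁻¹ * u * y) * x⁻¹) * y⁻¹ := by rw [hx₂]; group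
      _ = (y * u * y⁻¹) * (y * f'⁻¹ * y⁻¹) := by rw [h4, h2]; group
      _ = u * f₂'⁻¹ := by rw [hcu, hf₂']; group
  have h6 : (x * x₂) * u * (x * x₂)⁻¹ = u * f'⁻¹ * f₂'⁻¹ := by
    calc (x * x₂) * u * (x * x₂)⁻¹ = x * (x₂ * u * x₂⁻¹) * x⁻¹ := by group
      _ = x * u * (x * f₂')⁻¹ := by rw [h5]; group
      _ = x * u * (f₂' * x)⁻¹ := by rw [hxf₂']
      _ = (x * u * x⁻¹) * f₂'⁻¹ := by group
      _ = u * f'⁻¹ * f₂'⁻¹ := by rw [h2]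
  have h7 : u * f' * u⁻¹ = f' * z := by
    have h8 : (x * u * x⁻¹) * f' * (x * u * x⁻¹)⁻¹ = f' * z := by
      calc (x * u * x⁻¹) * f' * (x * u * x⁻¹)⁻¹ = x * (u * f * u⁻¹) * x⁻¹ := by
            rw [hf']; group
        _ = x * f * (z * x⁻¹) := by rw [hfu]; group
        _ = f' * z := by
          have : z * x⁻¹ = x⁻¹ * z := by
            rw [eq_inv_mul_iff_mul_eq, ← mul_assoc, ← hzx]; group
          rw [this, hf']; group
    rw [h2] at h8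
    rw [← h8]
    group
  rw [h6]
  have h9 : y * (u * f'⁻¹ * f₂'⁻¹) * y⁻¹ = (u * f'⁻¹ * f₂'⁻¹) * z := by
    have h10 : y * f₂' * y⁻¹ = u * f' * u⁻¹ := by rw [hf₂', ← hyy]; group
    have hzf' : Commute z f' := by
      rw [← hf'sq]; exact (Commute.refl f').mul_left (Commute.refl f')
    have hzf₂' : Commute z f₂' := by
      rw [← hf'sq]; exact hf'f₂'.mul_left hf'f₂'
    calc y * (u * f'⁻¹ * f₂'⁻¹) * y⁻¹
        = (y * u * y⁻¹) * (y * f' * y⁻¹)⁻¹ * (y * f₂' * y⁻¹)⁻¹ := by group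
      _ = u * f₂'⁻¹ * (f' * z)⁻¹ := by rw [hcu, ← hf₂', h10, h7]
      _ = u * f₂'⁻¹ * (z * f'⁻¹) := by rw [mul_inv_rev, hzi]
      _ = u * (f₂'⁻¹ * f'⁻¹) * z := by
        rw [(hzf'.inv_right).eq]; group
      _ = u * (f'⁻¹ * f₂'⁻¹) * z := by
        rw [(hf'f₂'.inv_left.inv_right).eq]
      _ = (u * f'⁻¹ * f₂'⁻¹) * z := by group
  calc (u * f'⁻¹ * f₂'⁻¹)⁻¹ * y * (u * f'⁻¹ * f₂'⁻¹) * y⁻¹
      = (u * f'⁻¹ * f₂'⁻¹)⁻¹ * (y * (u * f'⁻¹ * f₂'⁻¹) * y⁻¹) := by group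
    _ = z := by rw [h9]; group

/-- two involutions congruent modulo an odd order group are conjugate under it -/
theorem exists_conj_of_odd {N : Subgroup Q} (hN : Odd (Nat.card N)) {a b : Q} (ha : a * a = 1)
    (hb : b * b = 1) (h : a⁻¹ * b ∈ N) : ∃ o ∈ N, o⁻¹ * a * o = b := by
  have hai : a⁻¹ = a := inv_eq_of_mul_eq_one_left ha
  have hbi : b⁻¹ = b := inv_eq_of_mul_eq_one_left hb
  obtain ⟨d, hd⟩ : ∃ d, d = a⁻¹ * b := ⟨_, rfl⟩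
  rw [← hd] at h
  obtain ⟨k, hk⟩ := hN
  have h1 : d ^ Nat.card N = 1 := by
    have := pow_card_eq_one' (x := (⟨d, h⟩ : N))
    exact congrArg Subtype.val this
  have hadi : a * d * a⁻¹ = d⁻¹ := by
    rw [hd, mul_inv_rev, inv_inv, hbi, hai]
    calc a * (a * b) * a = (a * a) * b * a := by group
      _ = b * a := by rw [ha, one_mul]
  refine ⟨d ^ (k + 1), pow_mem h _, ?_⟩
  have h2 : a * d ^ (k + 1) * a⁻¹ = (d ^ (k + 1))⁻¹ := by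
    rw [← conj_pow, hadi, inv_pow]
  have h3 : d ^ (k + 1) * d ^ (k + 1) = d := by
    rw [← pow_add, show k + 1 + (k + 1) = Nat.card N + 1 by omega, pow_succ, h1, one_mul]
  calc (d ^ (k + 1))⁻¹ * a * d ^ (k + 1) = (d ^ (k + 1))⁻¹ * (a * d ^ (k + 1) * a⁻¹) * a := by group
    _ = (d ^ (k + 1) * d ^ (k + 1))⁻¹ * a := by rw [h2]; group
    _ = b := by rw [h3, hd, mul_inv_rev, inv_inv, hbi, mul_assoc, ha, mul_one]

end calc1

variable {G : Type*} [Group G] [Finite G]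

/-- The end of the proof of (i). -/
theorem main {z u : G} {J K : Subgroup G} (hJ : Intr z J) (hK : Intr u K) (hJK : J ≠ K)
    {y : G} (hy : y ∈ K)
    (hyz : y * z = z * y) {n : ℕ} (hn : 2 ≤ n) (hord : orderOf y = 2 ^ n) (hne : cj y J ≠ J)
    {T : Subgroup G} (hT : IsPGroup 2 T) (hyT : y ∈ T) {f : G}
    (hfT : f ∈ T) (hfJ : f ∈ J) (hf2 : f * f = z) (hfu : u * f * u⁻¹ = f * z)
    {x₁ : G} (hx₁ : x₁ ∈ J)
    (hx₁u : (x₁⁻¹ * u * x₁)⁻¹ * (u * f) ∈ relCore 2 (centralizer ({z} : Set G))) : False := by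
  obtain ⟨hyy, hJ3, hw2, hwu, hwK, hyw⟩ :=
    IntrinsicLemmaC.main hJ hK hy hyz hn hord hne hT hyT hfT hfJ hf2 hfu
  set X := centralizer ({z} : Set G) with hX
  obtain ⟨f₂, hf₂⟩ : ∃ f₂, f₂ = y * f * y⁻¹ := ⟨_, rfl⟩
  obtain ⟨x₂, hx₂⟩ : ∃ x₂, x₂ = y * x₁ * y⁻¹ := ⟨_, rfl⟩
  obtain ⟨w, hw⟩ : ∃ w, w = f * f₂ := ⟨_, rfl⟩
  rw [← hf₂, ← hw] at hw2 hwu hwK hyw
  have hyX : y ∈ X := mem_centralizer_singleton_iff.mpr hyz
  have huX : u ∈ X := hyy ▸ X.mul_mem hyX hyX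
  have hfX : f ∈ X := hJ.tc.le hfJ
  have hx₁X : x₁ ∈ X := hJ.tc.le hx₁
  have hf₂X : f₂ ∈ X := hf₂ ▸ X.mul_mem (X.mul_mem hyX hfX) (X.inv_mem hyX)
  have hx₂X : x₂ ∈ X := hx₂ ▸ X.mul_mem (X.mul_mem hyX hx₁X) (X.inv_mem hyX)
  have hwX : w ∈ X := hw ▸ X.mul_mem hfX hf₂X
  have hzX : z ∈ X := hJ.tc.le hJ.mem
  have huu : u * u = 1 := hK.sq
  have hyu : y * u = u * y := hK.comm hy
  have hzc : ∀ g ∈ X, g * z = z * g := fun g hg => mem_centralizer_singleton_iff.mp hg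
  -- the quotient
  set π := QuotientGroup.mk' (oddCore ↥X) with hπ
  have hTC2 : TC X (cj y J) := hJ.tc.cj_of_mem (le_normalizer hyX)
  -- commutation in the quotient
  have hcomm : ∀ (p q : G) (hp : p ∈ J) (hq : q ∈ J) (hpX : p ∈ X) (hqX : y * q * y⁻¹ ∈ X),
      π ⟨p, hpX⟩ * π ⟨y * q * y⁻¹, hqX⟩ = π ⟨y * q * y⁻¹, hqX⟩ * π ⟨p, hpX⟩ := by
    intro p q hp hq hpX hqX
    have h1 := ((mem_cenMod hJ.tc.le).mp (hJ.tc.le_cenMod hTC2 hne.symm (conj_mem_cj hq))).2 p hp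
    have h2 : π ⟨p, hpX⟩ = π (⟨y * q * y⁻¹, hqX⟩ * ⟨p, hpX⟩ * ⟨y * q * y⁻¹, hqX⟩⁻¹) :=
      mk_eq_mk_iff.mpr h1
    rw [map_mul, map_mul, map_inv] at h2
    calc π ⟨p, hpX⟩ * π ⟨y * q * y⁻¹, hqX⟩ = (π ⟨y * q * y⁻¹, hqX⟩ * π ⟨p, hpX⟩ *
          (π ⟨y * q * y⁻¹, hqX⟩)⁻¹) * π ⟨y * q * y⁻¹, hqX⟩ := by rw [← h2]
      _ = _ := by group
  -- elements of the quotient
  have e1 : (π ⟨x₁, hx₁X⟩)⁻¹ * π ⟨u, huX⟩ * π ⟨x₁, hx₁X⟩ = π ⟨u, huX⟩ * π ⟨f, hfX⟩ := by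
    rw [← map_inv, ← map_mul, ← map_mul, ← map_mul]
    exact mk_eq_mk_iff.mpr hx₁u
  have e2 : π ⟨y, hyX⟩ * π ⟨u, huX⟩ = π ⟨u, huX⟩ * π ⟨y, hyX⟩ := by
    rw [← map_mul, ← map_mul]; congr 1; exact Subtype.ext hyu
  have e3 : π ⟨y, hyX⟩ * π ⟨y, hyX⟩ = π ⟨u, huX⟩ := by
    rw [← map_mul]; congr 1; exact Subtype.ext hyy
  have e4 : π ⟨x₂, hx₂X⟩ = π ⟨y, hyX⟩ * π ⟨x₁, hx₁X⟩ * (π ⟨y, hyX⟩)⁻¹ := by
    rw [← map_inv, ← map_mul, ← map_mul]; congr 1; exact Subtype.ext hx₂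
  have e5 : π ⟨f₂, hf₂X⟩ = π ⟨y, hyX⟩ * π ⟨f, hfX⟩ * (π ⟨y, hyX⟩)⁻¹ := by
    rw [← map_inv, ← map_mul, ← map_mul]; congr 1; exact Subtype.ext hf₂
  have e6 : π ⟨f, hfX⟩ * π ⟨x₂, hx₂X⟩ = π ⟨x₂, hx₂X⟩ * π ⟨f, hfX⟩ := by
    have := hcomm f x₁ hfJ hx₁ hfX (hx₂ ▸ hx₂X)
    simpa only [← hx₂] using this
  have e7 : π ⟨f, hfX⟩ * π ⟨f₂, hf₂X⟩ = π ⟨f₂, hf₂X⟩ * π ⟨f, hfX⟩ := by
    have := hcomm f f hfJ hfJ hfX (hf₂ ▸ hf₂X)
    simpa only [← hf₂] using this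
  have e8 : π ⟨x₁, hx₁X⟩ * π ⟨f₂, hf₂X⟩ = π ⟨f₂, hf₂X⟩ * π ⟨x₁, hx₁X⟩ := by
    have := hcomm x₁ f hx₁ hfJ hx₁X (hf₂ ▸ hf₂X)
    simpa only [← hf₂] using this
  have e9 : π ⟨x₁, hx₁X⟩ * π ⟨x₂, hx₂X⟩ = π ⟨x₂, hx₂X⟩ * π ⟨x₁, hx₁X⟩ := by
    have := hcomm x₁ x₁ hx₁ hx₁ hx₁X (hx₂ ▸ hx₂X)
    simpa only [← hx₂] using this
  have e10 : π ⟨f, hfX⟩ * π ⟨f, hfX⟩ = π ⟨z, hzX⟩ := by
    rw [← map_mul]; congr 1; exact Subtype.ext hf2
  have e11 : π ⟨z, hzX⟩ * π ⟨x₁, hx₁X⟩ = π ⟨x₁, hx₁X⟩ * π ⟨z, hzX⟩ := by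
    rw [← map_mul, ← map_mul]; congr 1; exact Subtype.ext (hzc x₁ hx₁X).symm
  have e12 : π ⟨z, hzX⟩ * π ⟨z, hzX⟩ = 1 := by
    rw [← map_mul, ← map_one π]; congr 1; exact Subtype.ext hJ.sq
  have e13 : π ⟨u, huX⟩ * π ⟨f, hfX⟩ * (π ⟨u, huX⟩)⁻¹ = π ⟨f, hfX⟩ * π ⟨z, hzX⟩ := by
    rw [← map_inv, ← map_mul, ← map_mul, ← map_mul]; congr 1; exact Subtype.ext hfu
  have e14 : π ⟨z, hzX⟩ * π ⟨u, huX⟩ = π ⟨u, huX⟩ * π ⟨z, hzX⟩ := by
    rw [← map_mul, ← map_mul]; congr 1; exact Subtype.ext (hzc u huX).symm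
  have ha := calc_a e1 e2 e4 e5 e6 e7
  have hb := calc_b e1 e2 e3 e4 e5 e6 e7 e8 e9 e10 e11 e12 e13 e14
  -- `x` with `x⁻¹ u x = u w`
  have hxxX : x₁ * x₂ ∈ X := X.mul_mem hx₁X hx₂X
  have ha' : ((x₁ * x₂)⁻¹ * u * (x₁ * x₂))⁻¹ * (u * w) ∈ relCore 2 X := by
    have h1 : π (⟨x₁ * x₂, hxxX⟩⁻¹ * ⟨u, huX⟩ * ⟨x₁ * x₂, hxxX⟩) = π (⟨u, huX⟩ * ⟨w, hwX⟩) := by
      have h2 : π ⟨x₁ * x₂, hxxX⟩ = π ⟨x₁, hx₁X⟩ * π ⟨x₂, hx₂X⟩ := by rw [← map_mul]; rfl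
      have h3 : π ⟨w, hwX⟩ = π ⟨f, hfX⟩ * π ⟨f₂, hf₂X⟩ := by
        rw [← map_mul]; congr 1; exact Subtype.ext hw
      rw [map_mul, map_mul, map_inv, map_mul, h2, h3]
      exact ha
    exact mk_eq_mk_iff.mp h1
  have hv2 : (u * w) * (u * w) = 1 := by
    calc (u * w) * (u * w) = u * (w * u) * w := by group
      _ = (u * u) * (w * w) := by rw [hwu]; group
      _ = 1 := by rw [huu, hw2, one_mul]
  have hxu2 : ((x₁ * x₂)⁻¹ * u * (x₁ * x₂)) * ((x₁ * x₂)⁻¹ * u * (x₁ * x₂)) = 1 := by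
    calc ((x₁ * x₂)⁻¹ * u * (x₁ * x₂)) * ((x₁ * x₂)⁻¹ * u * (x₁ * x₂))
        = (x₁ * x₂)⁻¹ * (u * u) * (x₁ * x₂) := by group
      _ = 1 := by rw [huu]; group
  obtain ⟨o, ho, hou⟩ := exists_conj_of_odd (odd_card_relCore X) hxu2 hv2 ha'
  obtain ⟨x, hx⟩ : ∃ x, x = x₁ * x₂ * o := ⟨_, rfl⟩
  have hoX : o ∈ X := relCore_le 2 X ho
  have hxX : x ∈ X := hx ▸ X.mul_mem hxxX hoX
  have hxu : x⁻¹ * u * x = u * w := by
    rw [← hou, hx]; group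
  have hπx : π ⟨x, hxX⟩ = π ⟨x₁, hx₁X⟩ * π ⟨x₂, hx₂X⟩ := by
    rw [← map_mul]
    symm
    apply mk_eq_mk_iff.mpr
    change (x₁ * x₂)⁻¹ * x ∈ relCore 2 X
    rw [hx, inv_mul_cancel_left]
    exact ho
  -- `z ≠ u`
  have hzu : z ≠ u := by
    intro h
    subst h
    apply hne
    exact mem_normalizer_iff_cj.mp (hJ.tc.cenMod_le_normalizer (hJ.tc.le_cenMod hK.tc hJK hy))
  -- D1
  have hD1 : cj u (cj x⁻¹ K) ≠ cj x⁻¹ K := by
    intro h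
    have h1 : cj (x * u * x⁻¹) K = K := by
      rw [cj_mul, cj_mul, h, cj_cj_inv]
    have h2 : (x * u * x⁻¹)⁻¹ * y * (x * u * x⁻¹) ∈ K := mem_cj.mp (h1.symm ▸ hy)
    have h3 := K.mul_mem h2 (K.inv_mem hy)
    have h4 : z⁻¹ * ((x * u * x⁻¹)⁻¹ * y * (x * u * x⁻¹) * y⁻¹) ∈ relCore 2 X := by
      have h5 : π ⟨z, hzX⟩ = π ((⟨x, hxX⟩ * ⟨u, huX⟩ * ⟨x, hxX⟩⁻¹)⁻¹ * ⟨y, hyX⟩ *
          (⟨x, hxX⟩ * ⟨u, huX⟩ * ⟨x, hxX⟩⁻¹) * ⟨y, hyX⟩⁻¹) := by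
        simp only [map_mul, map_inv]
        rw [hπx]
        exact hb.symm
      exact mk_eq_mk_iff.mp h5
    obtain ⟨e, he⟩ : ∃ e, e = (x * u * x⁻¹)⁻¹ * y * (x * u * x⁻¹) * y⁻¹ := ⟨_, rfl⟩
    rw [← he] at h3 h4
    have hzK : z ∈ K := by
      obtain ⟨m, hm⟩ := odd_card_relCore X
      have h6 : (z⁻¹ * e) ^ Nat.card (relCore 2 X) = 1 := by
        have := pow_card_eq_one' (x := (⟨z⁻¹ * e, h4⟩ : relCore 2 X))
        exact congrArg Subtype.val this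
      have heX : e ∈ X := by
        have := X.mul_mem hzX (relCore_le 2 X h4)
        rwa [mul_inv_cancel_left] at this
      have hcm : Commute z (z⁻¹ * e) := by
        have : Commute z e := (hzc e heX).symm
        exact (Commute.refl z).inv_right.mul_right this
      have h7 : e ^ Nat.card (relCore 2 X) = z := by
        calc e ^ Nat.card (relCore 2 X) = (z * (z⁻¹ * e)) ^ Nat.card (relCore 2 X) := by
              rw [mul_inv_cancel_left]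
          _ = z ^ Nat.card (relCore 2 X) := by rw [hcm.mul_pow, h6, mul_one]
          _ = z := by rw [hm, pow_succ, pow_mul, pow_two, hJ.sq, one_pow, one_mul]
      rw [← h7]
      exact pow_mem h3 _
    exact hzu (hK.uniq z hzK hJ.sq hJ.ne)
  -- the diagonal component
  have hvK : cj (u * w) K ≠ K := by
    intro h
    apply hwK
    have h1 := congrArg (cj u⁻¹) h
    rw [cj_mul, cj_inv_cj] at h1
    rw [h1]
    exact cj_eq_self_of_mem (K.inv_mem hK.mem)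
  have hvu : (u * w) * u = u * (u * w) := by rw [mul_assoc, hwu]
  obtain ⟨L, hL, hLm, -, -⟩ := IntrinsicGP.exists_comp hK hvu hv2 hvK
  have hzu' : z * u = u * z := (hzc u huX).symm
  have hwi : w⁻¹ = w := inv_eq_of_mul_eq_one_left hw2
  have hzuL : z * u ∈ L := by
    refine hLm (z * u) (by rw [mul_assoc, huu, mul_one, hzu', ← mul_assoc, huu, one_mul]) ?_ 1 ?_
      ⟨y, hy, ?_⟩
    · calc z * u * (u * w) = z * (u * u) * w := by group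
        _ = z * w := by rw [huu, mul_one]
        _ = w * z := (hzc w hwX).symm
        _ = w * (u * u) * z := by rw [huu, mul_one]
        _ = (w * u) * (u * z) := by group
        _ = (u * w) * (z * u) := by rw [hwu, hzu']
    · rw [pow_one, pow_two]
      calc z * u * (z * u) = z * (u * z) * u := by group
        _ = (z * z) * (u * u) := by rw [← hzu']; group
        _ = 1 := by rw [hJ.sq, huu, one_mul]
    · have h1 : (u * w) * y * (u * w)⁻¹ = z * y := by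
        calc (u * w) * y * (u * w)⁻¹ = u * (w * y * w⁻¹) * u⁻¹ := by group
          _ = u * (w⁻¹ * y * w) * u⁻¹ := by rw [hwi]
          _ = (u * z) * y * u⁻¹ := by rw [hyw]; group
          _ = z * (u * y) * u⁻¹ := by rw [← hzu']; group
          _ = z * y := by rw [← hyu]; group
      rw [h1]
      have h2 : (z * u)⁻¹ * (y * (z * y)) = 1 := by
        calc (z * u)⁻¹ * (y * (z * y)) = (z * u)⁻¹ * ((y * z) * y) := by group
          _ = (z * u)⁻¹ * (z * (y * y)) := by rw [hyz]; group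
          _ = 1 := by rw [hyy]; group
      rw [h2]
      exact one_mem _
  have hK' : Intr (u * w) (cj x⁻¹ K) := by
    have := hK.cj x⁻¹
    rwa [inv_inv, hxu] at this
  have hL' : TC (centralizer ({u * w} : Set G) ⊓ centralizer ({u} : Set G)) L := by
    rw [inf_comm]; exact hL
  have h1 := IntrinsicBalance.balance (Y := centralizer ({u * w} : Set G)) (v := u)
    (mem_centralizer_singleton_iff.mpr hvu.symm) huu hL' hK'.tc
  have h2 : cj (z * u) (cj x⁻¹ K) = cj x⁻¹ K :=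
    mem_normalizer_iff_cj.mp (IntrinsicBalance.sup_le_normalizer hK'.tc (h1 hzuL))
  -- `z` normalizes `K`
  have hwC : w ∈ centralizer ({u} : Set G) := mem_centralizer_singleton_iff.mpr hwu
  have hwK' : K ≠ cj w⁻¹ K := by
    intro h
    apply hwK
    rw [hwi] at h
    exact h.symm
  have h3 : z * y ∈ cenMod (centralizer ({u} : Set G)) K := by
    have hTCw : TC (centralizer ({u} : Set G)) (cj w⁻¹ K) :=
      hK.tc.cj_of_mem (le_normalizer (inv_mem hwC))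
    apply hK.tc.le_cenMod hTCw hwK'
    have := conj_mem_cj (g := w⁻¹) hy
    rwa [inv_inv, hyw] at this
  have h4 : cj z K = K := by
    have h5 := mem_normalizer_iff_cj.mp (hK.tc.cenMod_le_normalizer h3)
    rwa [cj_mul, cj_eq_self_of_mem hy] at h5
  have h5 : cj z (cj x⁻¹ K) = cj x⁻¹ K := by
    have h6 : z * x⁻¹ = x⁻¹ * z := (hzc _ (X.inv_mem hxX)).symm
    rw [← cj_mul, h6, cj_mul, h4]
  apply hD1
  rw [cj_mul] at h2
  apply cj_injective z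
  rw [h2, h5]

end Cfsg.Agent.SignalizersComponents.IntrinsicEnd
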