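import Mathlib
import Cfsg.Agent.S0215
import Cfsg.Agent.SignalizersComponents.IntrinsicTools

/-!
S1315: the use of the `Z*`-theorem.
-/

set_option autoImplicit false
set_option linter.unusedSectionVars false

namespace Cfsg.Agent.SignalizersComponents.IntrinsicZ

open Subgroup Cfsg IntrinsicBasic IntrinsicIntr Cfsg.Agent.SignalizersComponents.PLayerAut
open RelSylow IntrinsicTools
open scoped commutatorElement

variable {G : Type*} [Group G] [Finite G]

/-- If the involution `u` acts nontrivially on `J` modulo the core, and `T` is a 2-subgroup with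
`T ∩ J` Sylow in `J`, then there is `f ∈ T ∩ J` with `f² = z`, inverted by `u`, such that `uf` is
conjugate to `u` under `J`. -/
theorem main {z u : G} {J T : Subgroup G} (hJ : Intr z J) (huu : u * u = 1)
    (huz : u * z = z * u) (hT : IsPGroup 2 T) (huT : u ∈ T) (hzT : z ∈ T)
    (hTJ : IsMaxP 2 J (T ⊓ J)) (huJ : cj u J = J)
    (hact : u ∉ cenMod (centralizer ({z} : Set G)) J) :
    ∃ f ∈ T, f ∈ J ∧ f * f = z ∧ u * f * u⁻¹ = f * z ∧ ∃ x₁ ∈ J, x₁⁻¹ * u * x₁ = u * f := by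
  have hp2 : Fact (Nat.Prime 2) := ⟨Nat.prime_two⟩
  have hui : u⁻¹ = u := inv_eq_of_mul_eq_one_left huu
  set X := centralizer ({z} : Set G) with hX
  have huX : u ∈ X := mem_centralizer_singleton_iff.mpr huz
  have hzi := hJ.inv_eq
  obtain ⟨H, hH⟩ : ∃ H, H = J ⊔ zpowers u := ⟨_, rfl⟩
  have hJH : J ≤ H := hH ▸ le_sup_left
  have huH : u ∈ H := hH ▸ (le_sup_right : zpowers u ≤ J ⊔ zpowers u) (mem_zpowers u)
  have hzH : z ∈ H := hJH hJ.mem
  have huN : zpowers u ≤ normalizer (J : Set G) :=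
    (zpowers_le).mpr (mem_normalizer_iff_cj.mpr huJ)
  have hHX : H ≤ X := by
    rw [hH]; exact sup_le hJ.tc.le ((zpowers_le).mpr huX)
  have hHform : ∀ h ∈ H, ∃ j ∈ J, ∃ n : ℤ, h = j * u ^ n := by
    intro h hh
    have h1 : h ∈ ((J ⊔ zpowers u : Subgroup G) : Set G) := hH ▸ hh
    rw [Subgroup.coe_mul_of_right_le_normalizer_left _ _ huN] at h1
    obtain ⟨j, hj, _, ⟨n, rfl⟩, rfl⟩ := h1
    exact ⟨j, hj, n, rfl⟩
  -- the Sylow subgroup of `H`
  have hmax : IsMaxP 2 H (T ⊓ H) := by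
    refine ⟨hT.to_inf_left, inf_le_right, fun R' hR' hR'H hle => ?_⟩
    have huR' : u ∈ R' := hle ⟨huT, huH⟩
    have h1 : R' ⊓ J ≤ T ⊓ J := by
      refine hTJ.2.2 _ hR'.to_inf_left inf_le_right ?_
      intro x hx
      exact ⟨hle ⟨hx.1, hJH hx.2⟩, hx.2⟩
    intro r hr
    obtain ⟨j, hj, n, rfl⟩ := hHform r (hR'H hr)
    have h2 : j ∈ R' := by
      have := R'.mul_mem hr (R'.inv_mem (R'.zpow_mem huR' n))
      rwa [mul_inv_cancel_right] at this
    exact ⟨T.mul_mem (h1 ⟨h2, hj⟩).1 (T.zpow_mem huT n), hR'H hr⟩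
  -- the quotient by `⟨z⟩`
  obtain ⟨Z, hZ⟩ : ∃ Z : Subgroup ↥H, Z = zpowers (⟨z, hzH⟩ : ↥H) := ⟨_, rfl⟩
  have hZmem : ∀ h : ↥H, h ∈ Z ↔ (h : G) = 1 ∨ (h : G) = z := by
    intro h
    rw [hZ]
    constructor
    · rintro ⟨n, rfl⟩
      rcases Int.even_or_odd n with ⟨k, hk⟩ | ⟨k, hk⟩
      · left
        have h1 : (z * z) ^ k = z ^ n := by
          rw [hk, zpow_add, (Commute.refl z).mul_zpow]
        simpa [hJ.sq] using h1.symm
      · right
        have h1 : (z * z) ^ k * z = z ^ n := by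
          rw [hk, zpow_add, zpow_one, two_mul, zpow_add, (Commute.refl z).mul_zpow]
        simpa [hJ.sq] using h1.symm
    · rintro (h1 | h1)
      · have : h = 1 := Subtype.ext h1
        rw [this]; exact one_mem _
      · have : h = ⟨z, hzH⟩ := Subtype.ext h1
        rw [this]; exact mem_zpowers _
  have hZn : Z.Normal := by
    constructor
    intro n hn g
    rw [hZmem] at hn ⊢
    have hgz : (g : G) * z = z * g := mem_centralizer_singleton_iff.mp (hHX g.2)
    rcases hn with h1 | h1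
    · left; change (g : G) * n * (g : G)⁻¹ = 1; rw [h1]; group
    · right; change (g : G) * n * (g : G)⁻¹ = z; rw [h1, hgz]; group
  set q := QuotientGroup.mk' Z with hq
  have hqeq : ∀ a b : ↥H, q a = q b ↔ (a : G)⁻¹ * b = 1 ∨ (a : G)⁻¹ * b = z := by
    intro a b
    rw [hq, QuotientGroup.mk'_apply, QuotientGroup.mk'_apply, QuotientGroup.eq, hZmem]
    rfl
  have hz1c : (1 : G) ∈ cenMod X J := one_mem _
  have hzc : z ∈ cenMod X J := by
    rw [mem_cenMod hJ.tc.le]
    refine ⟨hJ.tc.le hJ.mem, fun k hk => ?_⟩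
    have : k⁻¹ * (z * k * z⁻¹) = 1 := by rw [← hJ.comm hk]; group
    rw [this]; exact one_mem _
  have hqu1 : q ⟨u, huH⟩ ≠ 1 := by
    intro h
    rw [← map_one q, hqeq] at h
    change u⁻¹ * 1 = 1 ∨ u⁻¹ * 1 = z at h
    rw [mul_one, hui] at h
    rcases h with h | h
    · exact hact (h ▸ hz1c)
    · exact hact (h ▸ hzc)
  have hqu2 : orderOf (q ⟨u, huH⟩) = 2 := by
    apply orderOf_eq_prime _ hqu1
    rw [pow_two, ← map_mul, ← map_one q]
    congr 1
    exact Subtype.ext huu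
  have hqsurj : Function.Surjective q := QuotientGroup.mk'_surjective Z
  set P := hmax.toSylow.mapSurjective hqsurj with hP
  have hPmem : ∀ h : ↥H, q h ∈ P → (h : G) ∈ T := by
    intro h hh
    have hh' : q h ∈ ((P : Subgroup (↥H ⧸ Z))) := hh
    rw [hP, Sylow.coe_mapSurjective] at hh'
    obtain ⟨t, ht, hth⟩ := hh'
    have ht' : (t : G) ∈ T := by
      have : (t : G) ∈ T ⊓ H := ht
      exact this.1
    rcases (hqeq t h).mp hth with h1 | h1
    · have : (h : G) = t := (inv_mul_eq_one.mp h1).symm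
      rw [this]; exact ht'
    · have : (h : G) = t * z := by rw [← h1]; group
      rw [this]; exact T.mul_mem ht' hzT
  have huP : q ⟨u, huH⟩ ∈ P := by
    have : q ⟨u, huH⟩ ∈ (P : Subgroup (↥H ⧸ Z)) := by
      rw [hP, Sylow.coe_mapSurjective]
      exact ⟨⟨u, huH⟩, ⟨huT, huH⟩, rfl⟩
    exact this
  -- the `Z*`-theorem
  have hnot : ¬ ∀ g : ↥H ⧸ Z, g * q ⟨u, huH⟩ * g⁻¹ ∈ P → g * q ⟨u, huH⟩ * g⁻¹ = q ⟨u, huH⟩ := by
    intro hiso
    obtain ⟨N, hNn, hNodd, hN⟩ := Cfsg.Agent.S0215.result P (q ⟨u, huH⟩) hqu2 huP hiso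
    apply hact
    -- the subgroup `A = {j ∈ J | q j ∈ N}`
    let A : Subgroup G :=
      { carrier := {x | x ∈ J ∧ ∃ h : x ∈ H, q ⟨x, h⟩ ∈ N}
        one_mem' := ⟨one_mem _, one_mem _, by
          have : q ⟨1, one_mem _⟩ = 1 := map_one q
          rw [this]; exact one_mem _⟩
        mul_mem' := by
          rintro a b ⟨ha, ha', haN⟩ ⟨hb, hb', hbN⟩
          exact ⟨mul_mem ha hb, mul_mem ha' hb', by
            have : q ⟨a * b, mul_mem ha' hb'⟩ = q ⟨a, ha'⟩ * q ⟨b, hb'⟩ := by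
              rw [← map_mul]; rfl
            rw [this]; exact mul_mem haN hbN⟩
        inv_mem' := by
          rintro a ⟨ha, ha', haN⟩
          exact ⟨inv_mem ha, inv_mem ha', by
            have : q ⟨a⁻¹, inv_mem ha'⟩ = (q ⟨a, ha'⟩)⁻¹ := by
              rw [← map_inv]; rfl
            rw [this]; exact inv_mem haN⟩ }
    have hAmem : ∀ x, x ∈ A ↔ x ∈ J ∧ ∃ h : x ∈ H, q ⟨x, h⟩ ∈ N := fun x => Iff.rfl
    have hA : A ≤ cenMod X J := by
      refine (normal_cases (N := A) hJ.tc (fun x (hx : x ∈ A) => hx.1) ?_).resolve_left ?_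
      · rintro k hk n ⟨hn, hn', hnN⟩
        refine ⟨J.mul_mem (J.mul_mem hk hn) (J.inv_mem hk),
          H.mul_mem (H.mul_mem (hJH hk) hn') (H.inv_mem (hJH hk)), ?_⟩
        have h1 := hNn.conj_mem _ hnN (q ⟨k, hJH hk⟩)
        rw [← map_inv, ← map_mul, ← map_mul] at h1
        exact h1
      · intro hAJ
        obtain ⟨k, hk, hkk, -⟩ := hJ.exists_four
        have hkA : k ∈ A := by rw [hAJ]; exact hk
        obtain ⟨-, hkH, hkN⟩ := hkA
        have h1 : q ⟨k, hkH⟩ = 1 := by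
          refine eq_one_of_mem_odd hNodd hkN (n := 1) ?_
          rw [pow_one, pow_two, ← map_mul, ← map_one q]
          symm
          rw [hqeq]
          right
          change (1 : G)⁻¹ * (k * k) = z
          rw [hkk]; group
        rw [← map_one q, hqeq] at h1
        have h2 : k = 1 ∨ k = z := by
          rcases h1 with h1 | h1
          · left
            change k⁻¹ * 1 = 1 at h1
            rwa [mul_one, inv_eq_one] at h1
          · right
            change k⁻¹ * 1 = z at h1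
            rw [mul_one, inv_eq_iff_eq_inv, hzi] at h1
            exact h1
        rcases h2 with h2 | h2
        · rw [h2, mul_one] at hkk; exact hJ.ne hkk.symm
        · rw [h2, hJ.sq] at hkk; exact hJ.ne hkk.symm
    refine mem_cenMod_of_commutator hJ.tc huX huJ (fun k hk => hA ?_)
    have hukJ : u * k * u⁻¹ ∈ J := by
      have := conj_mem_cj (g := u) hk
      rwa [huJ] at this
    refine ⟨J.mul_mem hukJ (J.inv_mem hk), H.mul_mem (hJH hukJ) (H.inv_mem (hJH hk)), ?_⟩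
    have h1 := hN (q ⟨k, hJH hk⟩)
    rw [← map_inv, ← map_inv, ← map_mul, ← map_mul, ← map_mul] at h1
    exact h1
  push Not at hnot
  obtain ⟨g, hg, hgne⟩ := hnot
  obtain ⟨x, hxP, hxne, hxc⟩ := exists_commuting_conj P.2 huP hg hgne
  obtain ⟨x, rfl⟩ := hqsurj x
  obtain ⟨j, hj, n, hjn⟩ := hHform x x.2
  obtain ⟨v, hv⟩ : ∃ v, v = j * u * j⁻¹ := ⟨_, rfl⟩
  have hvx : (x : G) * u * (x : G)⁻¹ = v := by
    rw [hjn, hv]
    have : u ^ n * u * (u ^ n)⁻¹ = u := by
      rw [((Commute.refl u).zpow_left n).eq]; group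
    calc j * u ^ n * u * (j * u ^ n)⁻¹ = j * (u ^ n * u * (u ^ n)⁻¹) * j⁻¹ := by group
      _ = j * u * j⁻¹ := by rw [this]
  have hvH : v ∈ H := hvx ▸ H.mul_mem (H.mul_mem x.2 huH) (H.inv_mem x.2)
  have hqv : q x * q ⟨u, huH⟩ * (q x)⁻¹ = q ⟨v, hvH⟩ := by
    rw [← map_inv, ← map_mul, ← map_mul]
    congr 1
    exact Subtype.ext hvx
  rw [hqv] at hxP hxne hxc
  have hvT : v ∈ T := hPmem _ hxP
  obtain ⟨f, hf⟩ : ∃ f, f = u⁻¹ * v := ⟨_, rfl⟩
  have hfT : f ∈ T := hf ▸ T.mul_mem (T.inv_mem huT) hvT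
  have hfJ : f ∈ J := by
    have h1 : u⁻¹ * j * u⁻¹⁻¹ ∈ J := by
      have h2 : cj u⁻¹ J = J := by
        have := congrArg (cj u⁻¹) huJ
        rwa [cj_inv_cj, eq_comm] at this
      have := conj_mem_cj (g := u⁻¹) hj
      rwa [h2] at this
    have h2 : f = (u⁻¹ * j * u⁻¹⁻¹) * j⁻¹ := by rw [hf, hv]; group
    rw [h2]
    exact J.mul_mem h1 (J.inv_mem hj)
  have hvv : v * v = 1 := by
    calc v * v = j * (u * u) * j⁻¹ := by rw [hv]; group
      _ = 1 := by rw [huu]; group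
  have huf : u * f = v := by rw [hf]; group
  have hfinv : u * f * u⁻¹ = f⁻¹ := by
    have h1 : (u * f) * (u * f) = 1 := by rw [huf, hvv]
    have h2 : (u * f * u) * f = 1 := by
      calc (u * f * u) * f = (u * f) * (u * f) := by group
        _ = 1 := h1
    rw [hui]
    exact eq_inv_of_mul_eq_one_left h2
  have hf1 : f ≠ 1 := by
    intro h
    apply hxne
    congr 1
    apply Subtype.ext
    change v = u
    rw [← huf, h, mul_one]
  have hfz : f ≠ z := by
    intro h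
    apply hxne
    rw [hqeq]
    right
    change v⁻¹ * u = z
    have hvi : v⁻¹ = v := inv_eq_of_mul_eq_one_left hvv
    rw [hvi, ← huf, h]
    calc u * z * u = z * (u * u) := by rw [huz]; group
      _ = z := by rw [huu, mul_one]
  have hff : f * f = 1 ∨ f * f = z := by
    have h1 : q (⟨v, hvH⟩ * ⟨u, huH⟩) = q (⟨u, huH⟩ * ⟨v, hvH⟩) := by
      rw [map_mul, map_mul]; exact hxc.symm
    rw [hqeq] at h1
    have h2 : (v * u)⁻¹ * (u * v) = f * f := by
      have hvi : v⁻¹ = v := inv_eq_of_mul_eq_one_left hvv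
      rw [hf, mul_inv_rev, hvi, hui]
    rw [← h2]
    exact h1
  have hffz : f * f = z := by
    rcases hff with h | h
    · exact absurd (hJ.uniq f hfJ h hf1) hfz
    · exact h
  refine ⟨f, hfT, hfJ, hffz, ?_, j⁻¹, J.inv_mem hj, ?_⟩
  · rw [hfinv, inv_eq_iff_mul_eq_one, ← hffz]
    calc f * (f * (f * f)) = (f * f) * (f * f) := by group
      _ = 1 := by rw [hffz, hJ.sq]
  · rw [inv_inv, ← hv, huf]

end Cfsg.Agent.SignalizersComponents.IntrinsicZ
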