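import Mathlib
import Cfsg.Agent.SignalizersComponents.IntrinsicEnd
import Cfsg.Agent.SignalizersComponents.IntrinsicZ

/-!
S1315 (i).
-/

set_option autoImplicit false
set_option linter.unusedSectionVars false

namespace Cfsg.Agent.SignalizersComponents.IntrinsicPartI

open Subgroup Cfsg IntrinsicBasic IntrinsicIntr Cfsg.Agent.SignalizersComponents.PLayerAut
open RelSylow IntrinsicTools

variable {G : Type*} [Group G] [Finite G]

theorem isPGroup_zpowers {y : G} {n : ℕ} (h : orderOf y = 2 ^ n) : IsPGroup 2 (zpowers y) := by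
  apply IsPGroup.of_card (n := n)
  rw [Nat.card_zpowers, h]

theorem mem_of_central {X T : Subgroup G} (hT : IsMaxP 2 X T) {z : G} (hzX : z ∈ X)
    (hzz : z * z = 1) (hc : ∀ x ∈ X, x * z = z * x) : z ∈ T := by
  have hz : IsPGroup 2 (zpowers z) := by
    rintro ⟨_, n, rfl⟩
    refine ⟨1, ?_⟩
    apply Subtype.ext
    change (z ^ n) ^ (2 ^ 1) = 1
    rw [pow_one, ← zpow_natCast, ← zpow_mul, mul_comm, zpow_mul, zpow_natCast, pow_two, hzz,
      one_zpow]
  have hle : T ≤ normalizer (zpowers z : Set G) := by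
    intro t ht
    rw [mem_normalizer_iff_cj]
    have h1 := hc t (hT.2.1 ht)
    have h2 : t * z * t⁻¹ = z := by rw [h1]; group
    rw [cj_def, MonoidHom.map_zpowers]
    change zpowers (t * z * t⁻¹) = zpowers z
    rw [h2]
  have h1 : IsPGroup 2 (T ⊔ zpowers z : Subgroup G) := hT.1.to_sup_of_normal_right' hz hle
  exact hT.2.2 _ h1 (sup_le hT.2.1 ((zpowers_le).mpr hzX)) le_sup_left
    ((le_sup_right : zpowers z ≤ T ⊔ zpowers z) (mem_zpowers z))

/-- **S1315 (i)** for `Intr` pairs. -/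
theorem part_i {z u : G} {J K : Subgroup G} (hJ : Intr z J) (hK : Intr u K) (hJK : J ≠ K)
    {y : G} (hy : y ∈ K) (hyz : y * z = z * y) {n : ℕ} (hn : 2 ≤ n) (hord : orderOf y = 2 ^ n) :
    cj y J = J := by
  by_contra hne
  obtain ⟨huJ, hact⟩ := IntrinsicLemmaA.main hJ hK hy hyz hn hord hne
  have hyu := IntrinsicLemmaA.pow_eq hK hy (by omega) hord
  have hyX : y ∈ centralizer ({z} : Set G) := mem_centralizer_singleton_iff.mpr hyz
  have huX : u ∈ centralizer ({z} : Set G) := hyu ▸ pow_mem hyX _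
  obtain ⟨T, hT, hyT⟩ := exists_isMaxP (isPGroup_zpowers hord) ((zpowers_le).mpr hyX)
  have hyT' : y ∈ T := hyT (mem_zpowers y)
  have huT : u ∈ T := hyu ▸ pow_mem hyT' _
  have hzT : z ∈ T := mem_of_central hT (hJ.tc.le hJ.mem) hJ.sq
    (fun x hx => mem_centralizer_singleton_iff.mp hx)
  obtain ⟨f, hfT, hfJ, hf2, hfu, x₁, hx₁, hx₁u⟩ := IntrinsicZ.main hJ hK.sq
    (mem_centralizer_singleton_iff.mp huX) hT.1 huT hzT (isMaxP_inf hJ.tc hT) huJ hact
  refine IntrinsicEnd.main hJ hK hJK hy hyz hn hord hne hT.1 hyT' hfT hfJ hf2 hfu hx₁ ?_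
  rw [hx₁u, inv_mul_cancel]
  exact one_mem _

end Cfsg.Agent.SignalizersComponents.IntrinsicPartI
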