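import Mathlib
import Cfsg.Agent.SignalizersComponents.IntrinsicPartI
import Cfsg.Agent.SignalizersComponents.IntrinsicLift

/-!
S1315 (ii): counting lemmas.
-/

set_option autoImplicit false
set_option linter.unusedSectionVars false

namespace Cfsg.Agent.SignalizersComponents.IntrinsicCount

open Subgroup Cfsg IntrinsicBasic IntrinsicIntr Cfsg.Agent.SignalizersComponents.PLayerAut
open RelSylow IntrinsicTools

variable {G : Type*} [Group G]

theorem relIndex_cj (g : G) (A B : Subgroup G) : (cj g A).relIndex (cj g B) = A.relIndex B := by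
  rw [cj_def, cj_def]
  exact Subgroup.relIndex_map_map_of_injective A B (MulAut.conj g).injective

variable [Finite G]

theorem relIndex_le_of_choice {A B C D : Subgroup G} (R : G → G → Prop)
    (h1 : ∀ a ∈ A, ∃ b ∈ B, R a b)
    (h2 : ∀ a₁ ∈ A, ∀ a₂ ∈ A, ∀ b₁ ∈ B, ∀ b₂ ∈ B, R a₁ b₁ → R a₂ b₂ → b₁⁻¹ * b₂ ∈ D →
      a₁⁻¹ * a₂ ∈ C) : C.relIndex A ≤ D.relIndex B := by
  classical
  choose! f hfB hfR using h1
  let φ : (↥A ⧸ C.subgroupOf A) → (↥B ⧸ D.subgroupOf B) :=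
    fun a => QuotientGroup.mk ⟨f (a.out : ↥A), hfB _ (a.out : ↥A).2⟩
  have hφ : Function.Injective φ := by
    intro a₁ a₂ h
    have h3 : (⟨f (a₁.out : ↥A), hfB _ (a₁.out : ↥A).2⟩ : ↥B)⁻¹ *
        ⟨f (a₂.out : ↥A), hfB _ (a₂.out : ↥A).2⟩ ∈ D.subgroupOf B := QuotientGroup.eq.mp h
    have h4 := h2 _ (a₁.out : ↥A).2 _ (a₂.out : ↥A).2 _ (hfB _ (a₁.out : ↥A).2) _
      (hfB _ (a₂.out : ↥A).2) (hfR _ (a₁.out : ↥A).2) (hfR _ (a₂.out : ↥A).2) h3
    have h5 : (QuotientGroup.mk (a₁.out : ↥A) : ↥A ⧸ C.subgroupOf A) =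
        QuotientGroup.mk (a₂.out : ↥A) := QuotientGroup.eq.mpr h4
    rwa [QuotientGroup.out_eq', QuotientGroup.out_eq'] at h5
  exact Nat.card_le_card_of_injective φ hφ

theorem relIndex_pos (A B : Subgroup G) : 0 < A.relIndex B :=
  Nat.pos_of_ne_zero Subgroup.index_ne_zero_of_finite

/-- strict monotonicity of the relative index -/
theorem relIndex_lt {A B K : Subgroup G} (hAB : A ≤ B) {x : G} (hxK : x ∈ K) (hxB : x ∈ B)
    (hxA : x ∉ A) : B.relIndex K < A.relIndex K := by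
  have h1 : (A ⊓ K).relIndex (B ⊓ K) * (B ⊓ K).relIndex K = (A ⊓ K).relIndex K :=
    Subgroup.relIndex_mul_relIndex _ _ _ (inf_le_inf_right K hAB) inf_le_right
  rw [Subgroup.inf_relIndex_right, Subgroup.inf_relIndex_right] at h1
  have h2 : (A ⊓ K).relIndex (B ⊓ K) ≠ 1 := by
    intro h
    rw [Subgroup.relIndex_eq_one] at h
    exact hxA (h ⟨hxB, hxK⟩).1
  have h3 := relIndex_pos (A ⊓ K) (B ⊓ K)
  have h4 := relIndex_pos B K
  have h5 : 2 ≤ (A ⊓ K).relIndex (B ⊓ K) := by omega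
  calc B.relIndex K < 2 * B.relIndex K := by omega
    _ ≤ (A ⊓ K).relIndex (B ⊓ K) * B.relIndex K := Nat.mul_le_mul_right _ h5
    _ = A.relIndex K := h1

/-- the diagonal has order `|J / (J ∩ C(J mod O))|` -/
theorem diag_le {X J L : Subgroup G} {u : G} (hJ : TC X J) (huX : u ∈ X) (hne : cj u J ≠ J)
    (h1 : ∀ k ∈ J, ∃ l ∈ L, l⁻¹ * (k * (u * k * u⁻¹)) ∈ relCore 2 X) :
    (cenMod X J).relIndex J ≤ (relCore 2 X).relIndex L := by
  have hTC : TC X (cj u J) := hJ.cj_of_mem (le_normalizer huX)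
  refine relIndex_le_of_choice (fun k l => l⁻¹ * (k * (u * k * u⁻¹)) ∈ relCore 2 X) h1 ?_
  intro a₁ ha₁ a₂ ha₂ b₁ _ b₂ _ h₁ h₂ h
  have h3 : (a₁ * (u * a₁ * u⁻¹))⁻¹ * (a₂ * (u * a₂ * u⁻¹)) ∈ relCore 2 X := by
    have := mul_mem (mul_mem (inv_mem h₁) h) h₂
    convert this using 1
    group
  have h4 : u * a₁ * u⁻¹ ∈ cenMod X J := hJ.le_cenMod hTC hne.symm (conj_mem_cj ha₁)
  have h5 : u * a₂ * u⁻¹ ∈ cenMod X J := hJ.le_cenMod hTC hne.symm (conj_mem_cj ha₂)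
  have h6 := mul_mem (mul_mem h4 (relCore_le_cenMod X J h3)) (inv_mem h5)
  convert h6 using 1
  group

theorem cover_le {X K L : Subgroup G} (h1 : ∀ k ∈ K, ∃ l ∈ L, l⁻¹ * k ∈ relCore 2 X) :
    (relCore 2 X).relIndex K ≤ (relCore 2 X).relIndex L := by
  refine relIndex_le_of_choice (fun k l => l⁻¹ * k ∈ relCore 2 X) h1 ?_
  intro a₁ _ a₂ _ b₁ _ b₂ _ h₁ h₂ h
  have := mul_mem (mul_mem (inv_mem h₁) h) h₂
  convert this using 1
  group

theorem exists_four_comm {z u : G} {K : Subgroup G} (hK : Intr u K)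
    (hz : z ∈ cenMod (centralizer ({u} : Set G)) K) (hzz : z * z = 1) (hzK : cj z K = K) :
    ∃ g ∈ K, g * g = u ∧ g * z = z * g := by
  have hp2 : Fact (Nat.Prime 2) := ⟨Nat.prime_two⟩
  obtain ⟨k, hk, hkk, -⟩ := hK.exists_four
  set X := centralizer ({u} : Set G) with hX
  have hzX : z ∈ X := cenMod_le _ _ hz
  have hcard : ¬ 2 ∣ Nat.card (K ⊓ relCore 2 X : Subgroup G) := by
    intro h
    have h1 := h.trans (Subgroup.card_dvd_of_le (inf_le_right : K ⊓ relCore 2 X ≤ relCore 2 X))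
    have h2 := odd_card_relCore X
    rw [← Nat.not_even_iff_odd] at h2
    exact h2 (even_iff_two_dvd.mpr h1)
  have hzconj : ∀ k ∈ K, z * k * z⁻¹ ∈ K := by
    intro k hk
    have := conj_mem_cj (g := z) hk
    rwa [hzK] at this
  obtain ⟨d, hd, hdz⟩ := CoprimeBasic.exists_fixed_in_coset_of_pow (p := 2) z 1
    (by rw [pow_one, pow_two, hzz]) (K ⊓ relCore 2 X) hcard
    (fun d hd => ⟨hzconj d hd.1, conj_mem_relCore' hzX hd.2⟩) k
    ⟨K.mul_mem (K.inv_mem hk) (hzconj k hk), ((mem_cenMod hK.tc.le).mp hz).2 k hk⟩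
  obtain ⟨m, hm⟩ : ∃ m, m = k * d := ⟨_, rfl⟩
  rw [← hm] at hdz
  have hmK : m ∈ K := hm ▸ K.mul_mem hk hd.1
  obtain ⟨r, hr⟩ : ∃ r, r = u⁻¹ * (m * m) := ⟨_, rfl⟩
  have hrO : r ∈ relCore 2 X := by
    have h1 : r = (k⁻¹ * d * k⁻¹⁻¹) * d := by
      rw [hr, hm, ← hkk]; group
    rw [h1]
    exact mul_mem (conj_mem_relCore' (X.inv_mem (hK.tc.le hk)) hd.2) hd.2
  have hmm : m * m = u * r := by rw [hr]; group
  have hur : Commute u r := by
    have h1 : Commute u m := (hK.comm hmK).symm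
    rw [hr]
    exact (Commute.refl u).inv_right.mul_right (h1.mul_right h1)
  refine ⟨m ^ Nat.card (relCore 2 X), pow_mem hmK _, ?_, ?_⟩
  · have h1 : r ^ Nat.card (relCore 2 X) = 1 := by
      have := pow_card_eq_one' (x := (⟨r, hrO⟩ : relCore 2 X))
      exact congrArg Subtype.val this
    rw [← (Commute.refl m).mul_pow, hmm, hur.mul_pow, h1, mul_one]
    obtain ⟨n, hn⟩ := odd_card_relCore X
    rw [hn, pow_succ, pow_mul, pow_two, hK.sq, one_pow, one_mul]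
  · have h1 : Commute m z := hdz.symm
    exact (h1.pow_left _).eq

end Cfsg.Agent.SignalizersComponents.IntrinsicCount
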