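import Mathlib
import Cfsg.Agent.SignalizersComponents.IntrinsicCount

/-!
S1315 (ii).
-/

set_option autoImplicit false
set_option linter.unusedSectionVars false

namespace Cfsg.Agent.SignalizersComponents.IntrinsicPartII

open Subgroup Cfsg IntrinsicBasic IntrinsicIntr Cfsg.Agent.SignalizersComponents.PLayerAut
open RelSylow IntrinsicTools IntrinsicCount

variable {G : Type*} [Group G] [Finite G]

theorem orderOf_four {u : G} {K : Subgroup G} (hK : Intr u K) {g : G} (hg : g * g = u) :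
    orderOf g = 2 ^ 2 := by
  have hp2 : Fact (Nat.Prime 2) := ⟨Nat.prime_two⟩
  apply orderOf_eq_prime_pow
  · rw [pow_one, pow_two, hg]
    exact hK.ne
  · rw [show (2 : ℕ) ^ (1 + 1) = 2 * 2 by norm_num, pow_mul, pow_two, pow_two, hg, hK.sq]

/-- no square root of `u` in `K` commutes with `z` -/
theorem no_four {z u : G} {J K : Subgroup G} (hJ : Intr z J) (hK : Intr u K) (hJK : J ≠ K)
    (hne : cj u J ≠ J) : ∀ g ∈ K, g * g = u → g * z ≠ z * g := by
  intro g hg hgg hgz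
  apply hne
  have h1 := IntrinsicPartI.part_i hJ hK hJK hg hgz le_rfl (orderOf_four hK hgg)
  rw [← hgg, cj_mul, h1, h1]

/-- The diagonal component centralizes `K` modulo the core. -/
theorem diag_le_cenMod {z u : G} {J K L : Subgroup G} (hJ : Intr z J) (hK : Intr u K)
    (hq : (cenMod (centralizer ({z} : Set G)) J).relIndex J =
      (cenMod (centralizer ({u} : Set G)) K).relIndex K)
    (huz : u * z = z * u) (hzK : cj z K = K) (hne : cj u J ≠ J)
    (hno : ∀ g ∈ K, g * g = u → g * z ≠ z * g)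
    (hL : TC (centralizer ({z} : Set G) ⊓ centralizer ({u} : Set G)) L)
    (hL2 : ∀ k ∈ J, ∃ l ∈ L, l⁻¹ * (k * (u * k * u⁻¹)) ∈ relCore 2 (centralizer ({z} : Set G)))
    (hL3 : ∀ l ∈ L, l ∈ cenMod (centralizer ({z} : Set G) ⊓ centralizer ({u} : Set G)) L →
        l ∈ relCore 2 (centralizer ({z} : Set G))) :
    L ≤ cenMod (centralizer ({u} : Set G)) K := by
  set X := centralizer ({z} : Set G) with hX
  set Y := centralizer ({u} : Set G) with hY
  have huX : u ∈ X := mem_centralizer_singleton_iff.mpr huz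
  have hzY : z ∈ Y := mem_centralizer_singleton_iff.mpr huz.symm
  have hLY : L ≤ Y := fun l hl => (hL.le hl).2
  have hbal : L ≤ K ⊔ cenMod Y K := by
    refine IntrinsicBalance.balance (v := z) hzY hJ.sq ?_ hK.tc
    rw [← hX, inf_comm]; exact hL
  have hLn : ∀ l ∈ L, cj l K = K := fun l hl =>
    mem_normalizer_iff_cj.mp (IntrinsicBalance.sup_le_normalizer hK.tc (hbal hl))
  have hYn : ∀ y ∈ Y, cj y Y = Y := fun y hy => cj_eq_self_of_mem hy
  have hcn : ∀ y ∈ Y, cj y K = K → ∀ c ∈ cenMod Y K, y * c * y⁻¹ ∈ cenMod Y K := by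
    intro y hy hyK c hc
    have h1 := IntrinsicBalance.cenMod_normal hK.tc.le (hYn y hy) hyK
    exact (mem_normalizer_iff.mp h1 c).mp hc
  rcases normal_cases (N := L ⊓ cenMod Y K) hL inf_le_left (by
    rintro k hk n ⟨hn, hn'⟩
    exact ⟨L.mul_mem (L.mul_mem hk hn) (L.inv_mem hk), hcn k (hLY hk) (hLn k hk) n hn'⟩) with h | h
  · rw [← h]; exact inf_le_right
  · exfalso
    have h1 : L ⊓ cenMod Y K ≤ relCore 2 X := fun n hn => hL3 n hn.1 (h hn)
    have h2 : (cenMod Y K).relIndex K ≤ (cenMod Y K).relIndex L := by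
      calc (cenMod Y K).relIndex K = (cenMod X J).relIndex J := hq.symm
        _ ≤ (relCore 2 X).relIndex L := diag_le hJ.tc huX hne hL2
        _ ≤ (L ⊓ cenMod Y K).relIndex L :=
          Subgroup.relIndex_le_of_le_left h1 (relIndex_pos _ _).ne'
        _ = (cenMod Y K).relIndex L := Subgroup.inf_relIndex_left _ _
    have h3 := (IntrinsicBalance.cover hK.tc hbal).2 h2
    have h4 : z ∈ cenMod Y K := by
      refine mem_cenMod_of_commutator hK.tc hzY hzK (fun k hk => ?_)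
      obtain ⟨a, ha, hak⟩ := h3 k hk
      obtain ⟨c, hc⟩ : ∃ c, c = a⁻¹ * k := ⟨_, rfl⟩
      rw [← hc] at hak
      have hkac : k = a * c := by rw [hc]; group
      have haz : a * z = z * a := mem_centralizer_singleton_iff.mp (hL.le ha).1
      have h5 : z * k * z⁻¹ * k⁻¹ = a * ((z * c * z⁻¹) * c⁻¹) * a⁻¹ := by
        rw [hkac, mul_inv_rev]
        calc z * (a * c) * z⁻¹ * (c⁻¹ * a⁻¹) = (z * a) * c * z⁻¹ * c⁻¹ * a⁻¹ := by group
          _ = a * ((z * c * z⁻¹) * c⁻¹) * a⁻¹ := by rw [← haz]; group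
      rw [h5]
      exact hcn a (hLY ha) (hLn a ha) _ (mul_mem (hcn z hzY hzK c hak) (inv_mem hak))
    obtain ⟨g, hg, hgg, hgz⟩ := exists_four_comm hK h4 hJ.sq hzK
    exact hno g hg hgg hgz

/-- `T ∩ J` contains a square root of `z` -/
theorem exists_four_sylow {z : G} {J T : Subgroup G} (hJ : Intr z J) (hT : IsMaxP 2 J T) :
    ∃ h ∈ T, h * h = z := by
  have hp2 : Fact (Nat.Prime 2) := ⟨Nat.prime_two⟩
  obtain ⟨k, hk, hkk, -⟩ := hJ.exists_four
  have hord := orderOf_four hJ hkk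
  have h1 : IsPGroup 2 (zpowers (⟨k, hk⟩ : ↥J)) := by
    apply IsPGroup.of_card (n := 2)
    rw [Nat.card_zpowers, Subgroup.orderOf_mk, hord]
  obtain ⟨Q, hQ⟩ := h1.exists_le_sylow
  obtain ⟨g, hg⟩ := MulAction.exists_smul_eq (↥J) Q hT.toSylow
  have h2 : g * ⟨k, hk⟩ * g⁻¹ ∈ (hT.toSylow : Subgroup ↥J) := by
    rw [← hg, Sylow.coe_subgroup_smul]
    exact ⟨⟨k, hk⟩, hQ (mem_zpowers _), rfl⟩
  have h3 : (g : G) * k * (g : G)⁻¹ ∈ T := h2
  refine ⟨_, h3, ?_⟩
  calc (g : G) * k * (g : G)⁻¹ * ((g : G) * k * (g : G)⁻¹) = g * (k * k) * (g : G)⁻¹ := by group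
    _ = z := by rw [hkk, hJ.comm g.2]; group

/-- In the 2-group `P` with the unique involution `u`, normalized by the involution `z` which
commutes with no square root of `u`, there is `g` with `g² = u`, `z g z⁻¹ = u g`. -/
theorem exists_g {z u : G} {K T : Subgroup G} (hK : Intr u K) (hT : IsPGroup 2 T)
    (hzT : z ∈ T) (hzz : z * z = 1) (hmax : IsMaxP 2 K (T ⊓ K)) (hzK : cj z K = K)
    (huz : u * z = z * u)
    (hno : ∀ g ∈ K, g * g = u → g * z ≠ z * g) :
    ∃ g ∈ T ⊓ K, g * g = u ∧ g * z * g⁻¹ = z * u := by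
  have hp2 : Fact (Nat.Prime 2) := ⟨Nat.prime_two⟩
  have hzi : z⁻¹ = z := inv_eq_of_mul_eq_one_left hzz
  -- `C_P(z) = {1, u}`
  have hcen : ∀ c ∈ T ⊓ K, c * z = z * c → c = 1 ∨ c = u := by
    intro c hc hcz
    by_contra hcon
    push Not at hcon
    obtain ⟨k, hk⟩ := (IsPGroup.iff_orderOf.mp hT) ⟨c, hc.1⟩
    rw [Subgroup.orderOf_mk] at hk
    have hc1 : c ^ 2 ^ k = 1 := by rw [← hk]; exact pow_orderOf_eq_one c
    have hk2 : 2 ≤ k := by
      by_contra hlt
      have : k = 0 ∨ k = 1 := by omega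
      rcases this with rfl | rfl
      · rw [pow_zero, pow_one] at hc1; exact hcon.1 hc1
      · rw [pow_one, pow_two] at hc1
        exact hcon.2 (hK.uniq c hc.2 hc1 hcon.1)
    have h1 := IntrinsicLemmaA.pow_eq hK hc.2 (by omega) hk
    refine hno (c ^ 2 ^ (k - 2)) (pow_mem hc.2 _) ?_ ?_
    · rw [← pow_add, ← two_mul, ← pow_succ', show k - 2 + 1 = k - 1 by omega, h1]
    · have h2 : Commute c z := hcz
      exact (h2.pow_left _).eq
  -- the 2-group `W = P ⟨z⟩`
  obtain ⟨W, hW⟩ : ∃ W, W = (T ⊓ K) ⊔ zpowers z := ⟨_, rfl⟩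
  have hWT : W ≤ T := by rw [hW]; exact sup_le inf_le_left ((zpowers_le).mpr hzT)
  have hW2 : IsPGroup 2 W := hT.to_le hWT
  have hPW : T ⊓ K ≤ W := hW ▸ le_sup_left
  have hzW : z ∈ W := hW ▸ (le_sup_right : zpowers z ≤ (T ⊓ K) ⊔ zpowers z) (mem_zpowers z)
  have hzP : ∀ p ∈ T ⊓ K, z * p * z⁻¹ ∈ T ⊓ K := by
    intro p hp
    refine ⟨T.mul_mem (T.mul_mem hzT hp.1) (T.inv_mem hzT), ?_⟩
    have := conj_mem_cj (g := z) hp.2
    rwa [hzK] at this
  obtain ⟨p₀, hp₀, hp₀u⟩ := exists_four_sylow hK hmax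
  have hp₀z : p₀ * z * p₀⁻¹ ≠ z := by
    intro h
    apply hno p₀ hp₀.2 hp₀u
    calc p₀ * z = (p₀ * z * p₀⁻¹) * p₀ := by group
      _ = z * p₀ := by rw [h]
  obtain ⟨x, -, hxne, hxc⟩ := exists_commuting_conj (G := ↥W) (P := ⊤)
    (hW2.to_subgroup ⊤) (u := ⟨z, hzW⟩) (g := ⟨p₀, hPW hp₀⟩) (mem_top _) (mem_top _)
    (fun h => hp₀z (congrArg Subtype.val h))
  have hzN : zpowers z ≤ normalizer ((T ⊓ K : Subgroup G) : Set G) := by
    rw [zpowers_le, mem_normalizer_iff]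
    intro p
    constructor
    · exact hzP p
    · intro hp
      have h1 := hzP _ hp
      have h2 : z * (z * p * z⁻¹) * z⁻¹ = p := by
        calc z * (z * p * z⁻¹) * z⁻¹ = (z * z) * p * (z⁻¹ * z⁻¹) := by group
          _ = p := by rw [hzi, hzz]; group
      rwa [h2] at h1
  have hxW : (x : G) ∈ (((T ⊓ K) ⊔ zpowers z : Subgroup G) : Set G) := hW ▸ x.2
  rw [Subgroup.coe_mul_of_right_le_normalizer_left _ _ hzN] at hxW
  obtain ⟨p, hp, _, ⟨n, rfl⟩, hpx⟩ := hxW
  have hp' : p ∈ T ⊓ K := hp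
  have hxz : (x : G) * z * (x : G)⁻¹ = p * z * p⁻¹ := by
    rw [← hpx]
    have h1 : z ^ n * z * (z ^ n)⁻¹ = z := by
      rw [((Commute.refl z).zpow_left n).eq]; group
    calc p * z ^ n * z * (p * z ^ n)⁻¹ = p * (z ^ n * z * (z ^ n)⁻¹) * p⁻¹ := by group
      _ = p * z * p⁻¹ := by rw [h1]
  have hne' : p * z * p⁻¹ ≠ z := by
    intro h
    apply hxne
    apply Subtype.ext
    change (x : G) * z * (x : G)⁻¹ = z
    rw [hxz, h]
  have hcomm : Commute z (p * z * p⁻¹) := by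
    have h1 : z * ((x : G) * z * (x : G)⁻¹) = ((x : G) * z * (x : G)⁻¹) * z :=
      congrArg Subtype.val hxc
    rw [hxz] at h1
    exact h1
  obtain ⟨e, he⟩ : ∃ e, e = z * p * z⁻¹ * p⁻¹ := ⟨_, rfl⟩
  have heP : e ∈ T ⊓ K := he ▸ mul_mem (hzP p hp') (inv_mem hp')
  have he2 : e = z * (p * z * p⁻¹) := by rw [he, hzi]; group
  have hez : e * z = z * e := by
    rw [he2]
    exact (((Commute.refl z).mul_right hcomm).symm).eq
  rcases hcen e heP hez with h1 | h1
  · exfalso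
    apply hne'
    rw [he2] at h1
    rw [← hzi]
    rw [hzi]
    exact (eq_inv_of_mul_eq_one_right h1).trans hzi
  · have hpz : p * z * p⁻¹ = z * u := by
      rw [← h1, he2, ← mul_assoc, hzz, one_mul]
    have hzp : z * p * z⁻¹ = u * p := by
      rw [← h1, he]; group
    have hup : u * p = p * u := (hK.comm hp'.2).symm
    have hpp : (p * p) * z = z * (p * p) := by
      have h2 : z * (p * p) * z⁻¹ = p * p := by
        calc z * (p * p) * z⁻¹ = (z * p * z⁻¹) * (z * p * z⁻¹) := by group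
          _ = u * (p * u) * p := by rw [hzp]; group
          _ = (u * u) * (p * p) := by rw [← hup]; group
          _ = p * p := by rw [hK.sq, one_mul]
      calc (p * p) * z = (z * (p * p) * z⁻¹) * z := by rw [h2]
        _ = z * (p * p) := by group
    refine ⟨p, hp', ?_, hpz⟩
    rcases hcen _ (mul_mem hp' hp') hpp with h2 | h2
    · exfalso
      by_cases hp1 : p = 1
      · apply hne'; rw [hp1]; group
      · apply hne'
        rw [hK.uniq p hp'.2 h2 hp1, huz]; group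
    · exact h2

/-- An odd order normal subgroup of a subgroup `L` covering `K / O(K)` lies in `O(X)`. -/
theorem odd_normal_le {X K L N : Subgroup G} (hK : TC X K) (hLK : L ≤ K)
    (hcov : ∀ k ∈ K, ∃ l ∈ L, l⁻¹ * k ∈ relCore 2 X) (hN : N ≤ L)
    (hn : ∀ l ∈ L, ∀ n ∈ N, l * n * l⁻¹ ∈ N) (hodd : Odd (Nat.card N)) : N ≤ relCore 2 X := by
  have hp2 : Fact (Nat.Prime 2) := ⟨Nat.prime_two⟩
  set π := QuotientGroup.mk' (oddCore ↥X) with hπ
  have hNX : N ≤ X := hN.trans (hLK.trans hK.le)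
  have hle : (N.subgroupOf X).map π ≤ (K.subgroupOf X).map π :=
    Subgroup.map_mono (fun x hx => hLK (hN hx))
  have hnorm : (((N.subgroupOf X).map π).subgroupOf ((K.subgroupOf X).map π)).Normal := by
    constructor
    rintro ⟨_, k', hk', rfl⟩ ⟨n', hn', hnk⟩ ⟨_, k, hk, rfl⟩
    obtain ⟨l, hl, hlk⟩ := hcov k hk
    have hlX : l ∈ X := hK.le (hLK hl)
    refine ⟨⟨l, hlX⟩ * n' * ⟨l, hlX⟩⁻¹, ?_, ?_⟩
    · change l * (n' : G) * l⁻¹ ∈ N
      exact hn l hl n' hn'
    · have h1 : π ⟨l, hlX⟩ = π k := mk_eq_mk_iff.mpr hlk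
      have h2 : π n' = π k' := hnk
      simp only [map_mul, map_inv]
      rw [h1, h2]; rfl
  have hsub : ((N.subgroupOf X).map π).IsSubnormal :=
    Subgroup.IsSubnormal.step _ _ hle hK.comp.2.1.1 hnorm
  have hcard : (Nat.card ((N.subgroupOf X).map π)).Coprime 2 := by
    have h1 := Subgroup.card_map_dvd (H := N.subgroupOf X) π
    rw [Nat.card_congr (subgroupOfEquivOfLe hNX).toEquiv] at h1
    exact Nat.coprime_two_right.mpr (Odd.of_dvd_nat hodd h1)
  have h3 := Lib.PComponents.le_pPrimeCore_of_isSubnormal hsub hcard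
  have h4 : pPrimeCore 2 (↥X ⧸ oddCore ↥X) = ⊥ := Lib.PComponents.pPrimeCore_quotient_eq_bot 2
  rw [h4, le_bot_iff] at h3
  intro n hn'
  have h5 : π ⟨n, hNX hn'⟩ ∈ (N.subgroupOf X).map π := ⟨⟨n, hNX hn'⟩, hn', rfl⟩
  rw [h3, mem_bot] at h5
  exact (mem_relCore_iff (hNX hn')).mpr h5

/-- **S1315 (ii)** for `Intr` pairs. -/
theorem part_ii {z u : G} {J K : Subgroup G} (hJ : Intr z J) (hK : Intr u K)
    (hq : (cenMod (centralizer ({z} : Set G)) J).relIndex J =
      (cenMod (centralizer ({u} : Set G)) K).relIndex K)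
    (hJK : J ≠ K) (hzK : cj z K = K) : cj u J = J := by
  have hp2 : Fact (Nat.Prime 2) := ⟨Nat.prime_two⟩
  by_contra hne
  have hzi := hJ.inv_eq
  have hui := hK.inv_eq
  have huu := hK.sq
  have hzz := hJ.sq
  -- `z` and `u` commute
  have hzu : z * u = u * z := by
    have h1 : z * u * z⁻¹ ∈ K := by
      have := conj_mem_cj (g := z) hK.mem
      rwa [hzK] at this
    have h2 : z * u * z⁻¹ = u := by
      apply hK.uniq _ h1
      · calc z * u * z⁻¹ * (z * u * z⁻¹) = z * (u * u) * z⁻¹ := by group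
          _ = 1 := by rw [huu]; group
      · intro h
        apply hK.ne
        calc u = z⁻¹ * (z * u * z⁻¹) * z := by group
          _ = 1 := by rw [h]; group
    calc z * u = (z * u * z⁻¹) * z := by group
      _ = u * z := by rw [h2]
  have huz := hzu.symm
  have hno := no_four hJ hK hJK hne
  obtain ⟨L, hL, hLm, -, hL2, hL3⟩ := IntrinsicGP.exists_comp hJ huz huu hne
  have hLc := diag_le_cenMod hJ hK hq huz hzK hne hno hL hL2 hL3
  set X := centralizer ({z} : Set G) with hX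
  set Y := centralizer ({u} : Set G) with hY
  have huX : u ∈ X := mem_centralizer_singleton_iff.mpr huz
  have hzX : z ∈ X := hJ.tc.le hJ.mem
  -- `h` and `t`
  have hu2 : IsPGroup 2 (zpowers u) := by
    apply IsPGroup.of_card (n := 1)
    rw [Nat.card_zpowers, pow_one]
    exact orderOf_eq_prime (by rw [pow_two, huu]) hK.ne
  obtain ⟨T, hT, huT⟩ := exists_isMaxP hu2 ((zpowers_le).mpr huX)
  have huT' : u ∈ T := huT (mem_zpowers u)
  have hzT : z ∈ T := IntrinsicPartI.mem_of_central hT hzX hzz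
    (fun x hx => mem_centralizer_singleton_iff.mp hx)
  obtain ⟨h, hh, hhh⟩ := exists_four_sylow hJ (isMaxP_inf hJ.tc hT)
  obtain ⟨h₂, hh₂⟩ : ∃ h₂, h₂ = u * h * u⁻¹ := ⟨_, rfl⟩
  have hh₂T : h₂ ∈ T := hh₂ ▸ T.mul_mem (T.mul_mem huT' hh.1) (T.inv_mem huT')
  have hh₂J : h₂ ∈ cj u J := hh₂ ▸ conj_mem_cj hh.2
  have hTCu : TC X (cj u J) := hJ.tc.cj_of_mem (le_normalizer huX)
  have hch : h * h₂ = h₂ * h :=
    IntrinsicLemmaC.comm_of_T hJ.tc hTCu (Ne.symm hne) hT.1 hh.2 hh₂J hh.1 hh₂T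
  have hhz : h * z = z * h := hJ.comm hh.2
  have hhX : h ∈ X := hJ.tc.le hh.2
  have hh₂X : h₂ ∈ X := hTCu.le hh₂J
  have hh₂z : h₂ * z = z * h₂ := mem_centralizer_singleton_iff.mp hh₂X
  have hh₂2 : h₂ * h₂ = z := by
    calc h₂ * h₂ = u * (h * h) * u⁻¹ := by rw [hh₂]; group
      _ = z := by rw [hhh, huz]; group
  have huh₂ : u * h₂ * u⁻¹ = h := by
    rw [hh₂]
    calc u * (u * h * u⁻¹) * u⁻¹ = (u * u) * h * (u⁻¹ * u⁻¹) := by group
      _ = h := by rw [hui, huu]; group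
  obtain ⟨t, ht⟩ : ∃ t, t = h * h₂ := ⟨_, rfl⟩
  have htt : t * t = 1 := by
    calc t * t = h * (h₂ * h) * h₂ := by rw [ht]; group
      _ = (h * h) * (h₂ * h₂) := by rw [← hch]; group
      _ = 1 := by rw [hhh, hh₂2, hzz]
  have htz : t * z = z * t := by
    rw [ht, mul_assoc, hh₂z, ← mul_assoc, hhz, mul_assoc]
  have htu : t * u = u * t := by
    have h1 : u * t * u⁻¹ = t := by
      calc u * t * u⁻¹ = (u * h * u⁻¹) * (u * h₂ * u⁻¹) := by rw [ht]; group
        _ = t := by rw [← hh₂, huh₂, ← hch, ht]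
    calc t * u = (u * t * u⁻¹) * u := by rw [h1]
      _ = u * t := by group
  have htT : t ∈ T := ht ▸ T.mul_mem hh.1 hh₂T
  have htL : t ∈ L := by
    refine hLm t htz htu 1 (by rw [pow_one, pow_two, htt]) ⟨h, hh.2, ?_⟩
    rw [← hh₂, ← ht, inv_mul_cancel]
    exact one_mem _
  have htc : t ∈ cenMod Y K := hLc htL
  have hht : h * t = t * h := by
    rw [ht, mul_assoc, ← hch]
  -- `g`
  obtain ⟨T₂, hT₂, hTT₂⟩ := exists_isMaxP (p := 2) (W := T ⊓ Y) (C := Y) hT.1.to_inf_left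
    inf_le_right
  have hzT₂ : z ∈ T₂ := hTT₂ ⟨hzT, mem_centralizer_singleton_iff.mpr hzu⟩
  have htT₂ : t ∈ T₂ := hTT₂ ⟨htT, mem_centralizer_singleton_iff.mpr htu⟩
  obtain ⟨g, hg, hgg, hgz⟩ := exists_g hK hT₂.1 hzT₂ hzz (isMaxP_inf hK.tc hT₂) hzK huz hno
  have hgt : g * t = t * g :=
    IntrinsicLemmaC.comm_of_cenMod hK.tc.le hT₂.1 hg.2 htc hg.1 htT₂
  have hgu : g * u = u * g := hK.comm hg.2
  -- conjugates
  have ct : Commute u t := htu.symm
  have cz : Commute u z := huz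
  have ctz : Commute t z := htz
  have hti : t⁻¹ = t := inv_eq_of_mul_eq_one_left htt
  have hhi : h⁻¹ = h * z := by
    rw [inv_eq_iff_mul_eq_one]
    calc h * (h * z) = (h * h) * z := by group
      _ = 1 := by rw [hhh, hzz]
  have hhu : h * u * h⁻¹ = u * t * z := by
    have h1 : h * u = u * h₂ := by
      rw [hh₂]
      calc h * u = (u * u) * h * u := by rw [huu, one_mul]
        _ = u * (u * h * u⁻¹) := by rw [hui]; group
    calc h * u * h⁻¹ = u * h₂ * (h * z) := by rw [h1, hhi]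
      _ = u * (h₂ * h) * z := by group
      _ = u * t * z := by rw [← hch, ← ht]
  have hhu' : h⁻¹ * u * h = u * t * z := by
    have h1 : u = (h⁻¹ * u * h) * t * z := by
      calc u = h⁻¹ * (h * u * h⁻¹) * h := by group
        _ = h⁻¹ * u * (t * (z * h)) := by rw [hhu]; group
        _ = h⁻¹ * u * ((t * h) * z) := by rw [← hhz]; group
        _ = (h⁻¹ * u * h) * t * z := by rw [← hht]; group
    calc h⁻¹ * u * h = ((h⁻¹ * u * h) * t * z) * (z⁻¹ * t⁻¹) := by group
      _ = u * (z⁻¹ * t⁻¹) := by rw [← h1]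
      _ = u * (z * t) := by rw [hzi, hti]
      _ = u * t * z := by rw [← ctz.eq]; group
  obtain ⟨g₁, hg₁⟩ : ∃ g₁, g₁ = h * g * h⁻¹ := ⟨_, rfl⟩
  have hg₁u : g₁ * u * g₁⁻¹ = t * z := by
    calc g₁ * u * g₁⁻¹ = h * (g * (h⁻¹ * u * h) * g⁻¹) * h⁻¹ := by rw [hg₁]; group
      _ = h * ((g * u) * t * z * g⁻¹) * h⁻¹ := by rw [hhu']; group
      _ = h * (u * (g * t) * z * g⁻¹) * h⁻¹ := by rw [hgu]; group
      _ = h * (u * t * (g * z * g⁻¹)) * h⁻¹ := by rw [hgt]; group
      _ = h * (u * t * (z * u)) * h⁻¹ := by rw [hgz]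
      _ = h * (t * z) * h⁻¹ := by
        have h1 : u * t * (z * u) = t * z := by
          calc u * t * (z * u) = (u * t) * (u * z) := by rw [hzu]
            _ = (t * u) * (u * z) := by rw [htu]
            _ = t * (u * u) * z := by group
            _ = t * z := by rw [huu, mul_one]
        rw [h1]
      _ = (t * h) * z * h⁻¹ := by rw [← hht]; group
      _ = t * z := by rw [mul_assoc t h z, hhz]; group
  have hg₁z : g₁⁻¹ * z * g₁ = u * t := by
    have h1 : g⁻¹ * z * g = z * u := by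
      have h2 : z = (g⁻¹ * z * g) * u := by
        calc z = g⁻¹ * (g * z * g⁻¹) * g := by group
          _ = g⁻¹ * z * (u * g) := by rw [hgz]; group
          _ = (g⁻¹ * z * g) * u := by rw [← hgu]; group
      calc g⁻¹ * z * g = ((g⁻¹ * z * g) * u) * u⁻¹ := by group
        _ = z * u := by rw [← h2, hui]
    calc g₁⁻¹ * z * g₁ = h * (g⁻¹ * (h⁻¹ * (z * h)) * g) * h⁻¹ := by rw [hg₁]; group
      _ = h * (g⁻¹ * z * g) * h⁻¹ := by rw [← hhz]; group
      _ = (h * z) * u * h⁻¹ := by rw [h1]; group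
      _ = z * (h * u * h⁻¹) := by rw [hhz]; group
      _ = z * (u * t) * z := by rw [hhu]; group
      _ = (u * t) * (z * z) := by rw [((cz.mul_left ctz).symm).eq]; group
      _ = u * t := by rw [hzz, mul_one]
  have hK' : Intr (t * z) (cj g₁ K) := by
    have := hK.cj g₁
    rwa [hg₁u] at this
  have hYcj : cj g₁ Y = centralizer ({t * z} : Set G) := by
    rw [hY, cj_centralizer, hg₁u]
  have hucen : u ∈ cenMod Y K := by
    rw [mem_cenMod hK.tc.le]
    refine ⟨hK.tc.le hK.mem, fun k hk => ?_⟩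
    have : k⁻¹ * (u * k * u⁻¹) = 1 := by rw [← hK.comm hk]; group
    rw [this]; exact one_mem _
  have hzc' : z ∈ cenMod (centralizer ({t * z} : Set G)) (cj g₁ K) := by
    rw [← hYcj, ← cj_cenMod g₁ hK.tc.le, mem_cj, hg₁z]
    exact mul_mem hucen htc
  set X' := centralizer ({t * z} : Set G) with hX'
  have hzX' : z ∈ X' := cenMod_le _ _ hzc'
  obtain ⟨L', hL', hL'K, hL'cov, hL'm⟩ := IntrinsicLift.exists_comp_cen hK'.tc hzX' hzz hzc'
  have htzz : (t * z) * z = z * (t * z) := by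
    calc (t * z) * z = (z * t) * z := by rw [htz]
      _ = z * (t * z) := by group
  have htz2 : (t * z) * (t * z) = 1 := hK'.sq
  have htzL' : t * z ∈ L' := hL'm _ hK'.mem htzz 1 (by rw [pow_one, pow_two, htz2])
  have htzX : t * z ∈ X := mem_centralizer_singleton_iff.mpr htzz
  have hbal : L' ≤ J ⊔ cenMod X J := by
    refine IntrinsicBalance.balance (v := t * z) htzX htz2 ?_ hJ.tc
    rw [inf_comm]; exact hL'
  -- `tz` does not centralize `J`
  have htzc : t * z ∉ cenMod X J := by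
    intro h1
    have hzc : z ∈ cenMod X J := by
      rw [mem_cenMod hJ.tc.le]
      refine ⟨hzX, fun k hk => ?_⟩
      have : k⁻¹ * (z * k * z⁻¹) = 1 := by rw [← hJ.comm hk]; group
      rw [this]; exact one_mem _
    have hh₂c : h₂ ∈ cenMod X J := hJ.tc.le_cenMod hTCu (Ne.symm hne) hh₂J
    have h2 : h ∈ cenMod X J := by
      have h3 := mul_mem (mul_mem h1 (inv_mem hzc)) (inv_mem hh₂c)
      have h4 : t * z * z⁻¹ * h₂⁻¹ = h := by rw [ht]; group
      rwa [h4] at h3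
    rcases hJ.eq_of_cenMod hh.2 h2 (n := 2)
      (by rw [show (2 : ℕ) ^ 2 = 2 * 2 by norm_num, pow_mul, pow_two, pow_two, hhh, hzz]) with h3 | h3
    · rw [h3, mul_one] at hhh; exact hJ.ne hhh.symm
    · rw [h3, hzz] at hhh; exact hJ.ne hhh.symm
  -- `N' = L' ∩ C(J)` has odd order
  have hcX : ∀ l ∈ L', ∀ n ∈ cenMod X J, l * n * l⁻¹ ∈ cenMod X J := by
    intro l hl n hn
    have h1 := IntrinsicBalance.cenMod_normal hJ.tc.le (cj_eq_self_of_mem (hL'.le hl).2)
      (mem_normalizer_iff_cj.mp (IntrinsicBalance.sup_le_normalizer hJ.tc (hbal hl)))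
    exact (mem_normalizer_iff.mp h1 n).mp hn
  have hodd : Odd (Nat.card (L' ⊓ cenMod X J : Subgroup G)) := by
    rw [← Nat.not_even_iff_odd, even_iff_two_dvd]
    intro h1
    obtain ⟨x, hx⟩ := exists_prime_orderOf_dvd_card' 2 h1
    have hx2 : (x : G) * x = 1 := by
      have := pow_orderOf_eq_one x
      rw [hx, pow_two] at this
      exact congrArg Subtype.val this
    have hx1 : (x : G) ≠ 1 := by
      intro h2
      have : x = 1 := Subtype.ext h2
      rw [this, orderOf_one] at hx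
      norm_num at hx
    have h2 := hK'.uniq x (hL'K x.2.1) hx2 hx1
    exact htzc (h2 ▸ x.2.2)
  have hN' : L' ⊓ cenMod X J ≤ relCore 2 X' :=
    odd_normal_le hK'.tc hL'K hL'cov inf_le_left (fun l hl n hn =>
      ⟨L'.mul_mem (L'.mul_mem hl hn.1) (L'.inv_mem hl), hcX l hl n hn.2⟩) hodd
  have htzcen : t * z ∈ cenMod X' (cj g₁ K) := by
    rw [mem_cenMod hK'.tc.le]
    refine ⟨hK'.tc.le hK'.mem, fun k hk => ?_⟩
    have : k⁻¹ * (t * z * k * (t * z)⁻¹) = 1 := by rw [← hK'.comm hk]; group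
    rw [this]; exact one_mem _
  have htzcore : t * z ∉ relCore 2 X' := fun h1 => hK'.ne (eq_one_of_sq h1 htz2)
  have hlt := relIndex_lt (relCore_le_cenMod X' (cj g₁ K)) hK'.mem htzcen htzcore
  have hle : (relCore 2 X').relIndex (cj g₁ K) ≤ (cenMod X' (cj g₁ K)).relIndex (cj g₁ K) := by
    calc (relCore 2 X').relIndex (cj g₁ K) ≤ (relCore 2 X').relIndex L' := cover_le hL'cov
      _ ≤ (L' ⊓ cenMod X J).relIndex L' :=
        Subgroup.relIndex_le_of_le_left hN' (relIndex_pos _ _).ne'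
      _ = (cenMod X J).relIndex L' := Subgroup.inf_relIndex_left _ _
      _ ≤ (cenMod X J).relIndex J := (IntrinsicBalance.cover hJ.tc hbal).1
      _ = (cenMod Y K).relIndex K := hq
      _ = (cj g₁ (cenMod Y K)).relIndex (cj g₁ K) := (relIndex_cj _ _ _).symm
      _ = (cenMod X' (cj g₁ K)).relIndex (cj g₁ K) := by rw [cj_cenMod g₁ hK.tc.le, hYcj]
  omega

end Cfsg.Agent.SignalizersComponents.IntrinsicPartII
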