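import Mathlib
import Cfsg.Prelude.Def_SporadicB
import Cfsg.Agent.SignalizersComponents.IntrinsicPartII

/-!
S1315: from the hypotheses of the statement to `Intr`.
-/

set_option autoImplicit false
set_option linter.unusedSectionVars false

namespace Cfsg.Agent.SignalizersComponents.IntrinsicFinal

open Subgroup Cfsg IntrinsicBasic IntrinsicIntr Cfsg.Agent.SignalizersComponents.PLayerAut

variable {G : Type*} [Group G] [Finite G]

theorem mem_oddCore_iff {X J : Subgroup G} (hJ : TC X J) (x : ↥J) :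
    x ∈ oddCore ↥J ↔ (x : G) ∈ relCore 2 X := by
  have h1 := PCompQuot.mem_pPrimeCore_of_subnormal (p := 2) hJ.comp.1
    ((subgroupOfEquivOfLe hJ.le).symm x)
  have h2 : oddCore ↥J = (pPrimeCore 2 ↥(J.subgroupOf X)).map
      (subgroupOfEquivOfLe hJ.le).toMonoidHom :=
    (Lib.Cores.map_equiv_pPrimeCore (subgroupOfEquivOfLe hJ.le) 2).symm
  have h3 : x ∈ oddCore ↥J ↔ (subgroupOfEquivOfLe hJ.le).symm x ∈
      pPrimeCore 2 ↥(J.subgroupOf X) := by
    rw [h2]
    constructor
    · rintro ⟨y, hy, rfl⟩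
      have : (subgroupOfEquivOfLe hJ.le).symm
        ((subgroupOfEquivOfLe hJ.le).toMonoidHom y) = y := MulEquiv.symm_apply_apply _ y
      rw [this]; exact hy
    · intro hx
      exact ⟨_, hx, MulEquiv.apply_symm_apply _ x⟩
  rw [h3, h1, mem_relCore]
  constructor
  · intro h; exact ⟨hJ.le x.2, h⟩
  · rintro ⟨_, h⟩; exact h

theorem mk_mem_center_iff {X J : Subgroup G} (hJ : TC X J) (j : ↥J) :
    QuotientGroup.mk' (oddCore ↥J) j ∈ center (↥J ⧸ oddCore ↥J) ↔ (j : G) ∈ cenMod X J := by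
  rw [mem_center_iff, mem_cenMod hJ.le]
  have key : ∀ k : ↥J, (QuotientGroup.mk' (oddCore ↥J) k * QuotientGroup.mk' (oddCore ↥J) j =
      QuotientGroup.mk' (oddCore ↥J) j * QuotientGroup.mk' (oddCore ↥J) k) ↔
      (k : G)⁻¹ * ((j : G) * k * (j : G)⁻¹) ∈ relCore 2 X := by
    intro k
    rw [← map_mul, ← map_mul, QuotientGroup.mk'_apply, QuotientGroup.mk'_apply, QuotientGroup.eq,
      mem_oddCore_iff hJ]
    have e1 : (((k * j)⁻¹ * (j * k) : ↥J) : G) = (j : G)⁻¹ * ((k : G)⁻¹ * ((j : G) * k * (j : G)⁻¹)) *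
        (j : G)⁻¹⁻¹ := by
      push_cast
      group
    rw [e1]
    constructor
    · intro h
      have := conj_mem_relCore' (X := X) (hJ.le j.2) h
      convert this using 1
      group
    · intro h
      exact conj_mem_relCore' (X.inv_mem (hJ.le j.2)) h
  constructor
  · intro h
    exact ⟨hJ.le j.2, fun k hk => (key ⟨k, hk⟩).mp (h _)⟩
  · rintro ⟨-, h⟩ g
    obtain ⟨k, rfl⟩ := QuotientGroup.mk'_surjective (oddCore ↥J) g
    exact (key k).mpr (h k k.2)

theorem relIndex_eq {X J : Subgroup G} (hJ : TC X J) :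
    (cenMod X J).relIndex J = (center (↥J ⧸ oddCore ↥J)).index := by
  have h1 : (cenMod X J).subgroupOf J =
      (center (↥J ⧸ oddCore ↥J)).comap (QuotientGroup.mk' (oddCore ↥J)) := by
    ext j
    exact (mk_mem_center_iff hJ j).symm
  rw [relIndex, h1, Subgroup.index_comap_of_surjective _ (QuotientGroup.mk'_surjective _)]

theorem intr_of {z : G} {J : Subgroup G}
    (hzJ : z ∈ J ∧ orderOf z = 2 ∧ ∀ t ∈ J, orderOf t = 2 → t = z)
    (hJ : J ≤ centralizer ({z} : Set G) ∧
      IsPComponent 2 (J.subgroupOf (centralizer ({z} : Set G))))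
    (hc : ∀ a b : ↥J ⧸ oddCore ↥J, a ∈ center (↥J ⧸ oddCore ↥J) → b ∈ center (↥J ⧸ oddCore ↥J) →
      a ≠ 1 → b ≠ 1 → a = b) : Intr z J := by
  have hTC : TC (centralizer ({z} : Set G)) J := ⟨hJ.1, hJ.2⟩
  have hzz : z * z = 1 := by rw [← pow_two, ← hzJ.2.1, pow_orderOf_eq_one]
  have hz1 : z ≠ 1 := by
    intro h
    have := hzJ.2.1
    rw [h, orderOf_one] at this
    norm_num at this
  have hp2 : Fact (Nat.Prime 2) := ⟨Nat.prime_two⟩
  have hzcore : z ∉ relCore 2 (centralizer ({z} : Set G)) := fun h => hz1 (eq_one_of_sq h hzz)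
  refine ⟨hTC, hzJ.1, hzz, hz1, ?_, ?_⟩
  · intro t ht htt ht1
    exact hzJ.2.2 t ht (orderOf_eq_prime (by rw [pow_two, htt]) ht1)
  · intro j hj hjc
    by_cases h1 : QuotientGroup.mk' (oddCore ↥J) ⟨j, hj⟩ = 1
    · left
      rw [QuotientGroup.mk'_apply, QuotientGroup.eq_one_iff] at h1
      exact (mem_oddCore_iff hTC ⟨j, hj⟩).mp h1
    · right
      have hz2 : QuotientGroup.mk' (oddCore ↥J) ⟨z, hzJ.1⟩ ≠ 1 := by
        intro h
        rw [QuotientGroup.mk'_apply, QuotientGroup.eq_one_iff] at h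
        exact hzcore ((mem_oddCore_iff hTC ⟨z, hzJ.1⟩).mp h)
      have hzc : z ∈ cenMod (centralizer ({z} : Set G)) J := by
        rw [mem_cenMod hTC.le]
        refine ⟨hTC.le hzJ.1, fun k hk => ?_⟩
        have h2 : k * z = z * k := mem_centralizer_singleton_iff.mp (hTC.le hk)
        have : k⁻¹ * (z * k * z⁻¹) = 1 := by rw [← h2]; group
        rw [this]; exact one_mem _
      have h2 := hc _ _ ((mk_mem_center_iff hTC ⟨j, hj⟩).mpr hjc)
        ((mk_mem_center_iff hTC ⟨z, hzJ.1⟩).mpr hzc) h1 hz2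
      have h3 : QuotientGroup.mk' (oddCore ↥J) (⟨j, hj⟩ * ⟨z, hzJ.1⟩) = 1 := by
        rw [map_mul, h2, ← map_mul, ← map_one (QuotientGroup.mk' (oddCore ↥J))]
        congr 1
        exact Subtype.ext hzz
      rw [QuotientGroup.mk'_apply, QuotientGroup.eq_one_iff] at h3
      exact (mem_oddCore_iff hTC _).mp h3

theorem index_center_congr {A B : Type*} [Group A] [Group B] (e : A ≃* B) :
    (center A).index = (center B).index := by
  have h1 : (center B).comap e.toMonoidHom = center A := by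
    ext a
    rw [mem_comap, mem_center_iff, mem_center_iff]
    constructor
    · intro h g
      have := h (e g)
      apply e.injective
      rw [map_mul, map_mul]
      exact this
    · intro h g
      obtain ⟨g, rfl⟩ := e.surjective g
      have := congrArg e (h g)
      rwa [map_mul, map_mul] at this
  rw [← h1, Subgroup.index_comap_of_surjective _ e.surjective]

theorem center_eq_of_card {A : Type*} [Group A] (h : Nat.card (center A) = 2) :
    ∀ a b : A, a ∈ center A → b ∈ center A → a ≠ 1 → b ≠ 1 → a = b := by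
  classical
  intro a b ha hb ha1 hb1
  by_contra hab
  have hfin : Finite (center A) := Nat.finite_of_card_ne_zero (by rw [h]; norm_num)
  have : Fintype (center A) := Fintype.ofFinite _
  rw [Nat.card_eq_fintype_card] at h
  have h3 : ({1, ⟨a, ha⟩, ⟨b, hb⟩} : Finset (center A)).card ≤ 2 := by
    rw [← h]; exact Finset.card_le_univ _
  have h4 : ({1, ⟨a, ha⟩, ⟨b, hb⟩} : Finset (center A)).card = 3 := by
    rw [Finset.card_eq_three]
    exact ⟨1, ⟨a, ha⟩, ⟨b, hb⟩, fun h => ha1 (congrArg Subtype.val h).symm,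
      fun h => hb1 (congrArg Subtype.val h).symm, fun h => hab (congrArg Subtype.val h), rfl⟩
  omega

theorem center_sl2 {F : Type*} [Field F] :
    ∀ a b : Matrix.SpecialLinearGroup (Fin 2) F, a ∈ center _ → b ∈ center _ → a ≠ 1 → b ≠ 1 →
      a = b := by
  have key : ∀ a : Matrix.SpecialLinearGroup (Fin 2) F, a ∈ center _ → a ≠ 1 → a = -1 := by
    intro a ha ha1
    obtain ⟨r, hr, hra⟩ := Matrix.SpecialLinearGroup.mem_center_iff.mp ha
    rw [Fintype.card_fin, pow_two, mul_self_eq_one_iff] at hr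
    rcases hr with h | h
    · exfalso
      apply ha1
      ext i j
      rw [← hra, h]
      simp
    · ext i j
      rw [← hra, h]
      fin_cases i <;> fin_cases j <;> simp
  intro a b ha hb ha1 hb1
  rw [key a ha ha1, key b hb hb1]

end Cfsg.Agent.SignalizersComponents.IntrinsicFinal
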