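import Mathlib
import Cfsg.Prelude.Def_Balance
import Cfsg.Prelude.Def_Sz
import Cfsg.Agent.ThreePrime.SzDataExists
import Cfsg.Agent.WeakTI.PslTwo

/-!
# Cores of involution centralizers in `Sz(q)` and `PSL(2,q)`, `q` even

Centralizers of involutions are 2-groups in both, so their cores are trivial.
-/

set_option autoImplicit false

open scoped Pointwise

namespace Cfsg.Agent.SignalizersComponents.BalEndSz

theorem pPrimeCore_eq_bot_of_isPGroup {X : Type*} [Group X] [Finite X] (h : IsPGroup 2 X) :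
    Cfsg.pPrimeCore 2 X = ⊥ := by
  rw [Cfsg.pPrimeCore, sSup_eq_bot]
  rintro N ⟨-, hN⟩
  have : Fact (Nat.Prime 2) := ⟨Nat.prime_two⟩
  obtain ⟨k, hk⟩ := (IsPGroup.iff_card).1 (h.to_subgroup N)
  rw [hk] at hN
  have h1 : 2 ^ k = 1 := by
    have h2 : (2 ^ k).Coprime (2 ^ k) := hN.pow_right k
    rwa [Nat.coprime_self] at h2
  rw [← Subgroup.card_eq_one, hk, h1]

/-- the core of `C(x)` is trivial when `C(x)` is a 2-group -/
theorem core_eq_bot_of_isPGroup {L : Type*} [Group L] [Finite L] {x : L}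
    (h : IsPGroup 2 ↥(Subgroup.centralizer ({x} : Set L))) :
    Cfsg.centralizerPPrimeCore 2 x = ⊥ := by
  rw [Cfsg.centralizerPPrimeCore, pPrimeCore_eq_bot_of_isPGroup h, Subgroup.map_bot]

/-- the centralizer of an involution of a Suzuki group is a 2-group -/
theorem isPGroup_centralizer_suzuki {L : Type*} [Group L] [Finite L] (h : Cfsg.Lie.IsoSuzuki L)
    {x : L} (hx : orderOf x = 2) : IsPGroup 2 ↥(Subgroup.centralizer ({x} : Set L)) := by
  have : Fact (Nat.Prime 2) := ⟨Nat.prime_two⟩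
  obtain ⟨F, iF, iF', m, hm, hF, ⟨R⟩⟩ := ThreePrime.SzRel.exists_rel h
  obtain ⟨P, hP⟩ := R.exists_sylow_eq hm hF
  have hz : IsPGroup 2 (Subgroup.zpowers x) := by
    rw [IsPGroup.iff_card]
    exact ⟨1, by rw [Nat.card_zpowers, hx, pow_one]⟩
  obtain ⟨Q, hQ⟩ := hz.exists_le_sylow
  obtain ⟨g, hg⟩ := MulAction.exists_smul_eq L Q P
  -- `g x g⁻¹ ∈ T`
  have hgx : g * x * g⁻¹ ∈ R.T := by
    rw [← hP, ← hg]
    have h1 : x ∈ (Q : Subgroup L) := hQ (Subgroup.mem_zpowers x)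
    have h2 : MulAut.conj g • x ∈ MulAut.conj g • (Q : Subgroup L) :=
      Subgroup.smul_mem_pointwise_smul _ _ _ h1
    exact h2
  have hx1 : x ≠ 1 := by
    rintro rfl
    rw [orderOf_one] at hx
    omega
  have hgx1 : g * x * g⁻¹ ≠ 1 := by
    intro h1
    apply hx1
    have : x = g⁻¹ * (g * x * g⁻¹) * g := by group
    rw [this, h1]; group
  have hgx2 : (g * x * g⁻¹) * (g * x * g⁻¹) = 1 := by
    have : x * x = 1 := by rw [← pow_two, ← hx, pow_orderOf_eq_one]
    calc (g * x * g⁻¹) * (g * x * g⁻¹) = g * (x * x) * g⁻¹ := by group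
      _ = 1 := by rw [this]; group
  -- every element of the centralizer of `g x g⁻¹` lies in `T`
  have key : ∀ y : L, y * (g * x * g⁻¹) = (g * x * g⁻¹) * y → y ∈ R.T := by
    intro y hy
    have h1 : y * (g * x * g⁻¹) * y⁻¹ ∈ R.T := by
      rw [hy, mul_inv_cancel_right]; exact hgx
    obtain ⟨a, b, k, rfl⟩ := R.exists_ud hgx hgx1 h1
    obtain ⟨c, e, hce⟩ := hgx
    rw [hce] at hgx2 hgx1 hy
    have hc : c = 0 := (R.u_sq_iff c e).1 hgx2
    subst hc
    have h3 : R.u 0 e * R.u a b = R.u a b * R.u 0 e := by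
      rw [R.comm_iff]; simp
    have h4 : R.d k * R.u 0 e * (R.d k)⁻¹ = R.u 0 e := by
      rw [mul_assoc (R.u a b), ← mul_assoc (R.u 0 e), h3, mul_assoc (R.u a b)] at hy
      have h5 := mul_left_cancel hy
      rw [h5, mul_inv_cancel_right]
    rcases R.fpf h4 with rfl | ⟨-, h6⟩
    · rw [R.d_one, mul_one]; exact R.u_mem a b
    · exfalso
      apply hgx1
      rw [h6, R.u_zero]
  rintro ⟨y, hy⟩
  rw [Subgroup.mem_centralizer_singleton_iff] at hy
  have h1 : g * y * g⁻¹ ∈ R.T := by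
    apply key
    calc g * y * g⁻¹ * (g * x * g⁻¹) = g * (y * x) * g⁻¹ := by group
      _ = g * (x * y) * g⁻¹ := by rw [hy]
      _ = _ := by group
  refine ⟨2, ?_⟩
  apply Subtype.ext
  show y ^ 2 ^ 2 = 1
  have h2 := R.pow_four h1
  have h3 : y ^ 4 = g⁻¹ * ((g * y * g⁻¹) ^ 4) * g := by
    rw [conj_pow]; group
  show y ^ 4 = 1
  rw [h3, h2]; group

/-- the centralizer of an involution of `PSL(2,q)`, `q` even, is a 2-group -/
theorem isPGroup_centralizer_psl {L : Type*} [Group L] {F : Type*} [Field F] [Finite F] [CharP F 2]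
    (e : L ≃* Matrix.ProjectiveSpecialLinearGroup (Fin 2) F)
    {x : L} (hx : orderOf x = 2) : IsPGroup 2 ↥(Subgroup.centralizer ({x} : Set L)) := by
  rintro ⟨y, hy⟩
  rw [Subgroup.mem_centralizer_singleton_iff] at hy
  refine ⟨1, ?_⟩
  apply Subtype.ext
  show y ^ 2 ^ 1 = 1
  rw [pow_one, pow_two]
  have hx1 : x ≠ 1 := by
    rintro rfl
    rw [orderOf_one] at hx
    omega
  exact WeakTI.PslTwo.cent e (by rw [← pow_two, ← hx, pow_orderOf_eq_one]) hx1 hy.symm

theorem core_eq_bot_suzuki {L : Type*} [Group L] [Finite L] (h : Cfsg.Lie.IsoSuzuki L)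
    {x : L} (hx : orderOf x = 2) : Cfsg.centralizerPPrimeCore 2 x = ⊥ :=
  core_eq_bot_of_isPGroup (isPGroup_centralizer_suzuki h hx)

theorem core_eq_bot_psl {L : Type*} [Group L] [Finite L] {F : Type*} [Field F] [Finite F] [CharP F 2]
    (e : L ≃* Matrix.ProjectiveSpecialLinearGroup (Fin 2) F)
    {x : L} (hx : orderOf x = 2) : Cfsg.centralizerPPrimeCore 2 x = ⊥ :=
  core_eq_bot_of_isPGroup (isPGroup_centralizer_psl e hx)

end Cfsg.Agent.SignalizersComponents.BalEndSz
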