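import Mathlib
import Cfsg.Prelude.Def_Balance
import Cfsg.Prelude.Def_Spor_Mathieu
import Cfsg.Agent.S1603
import Cfsg.Agent.TwoGenCore.IsoMEleven
import Cfsg.Agent.SignalizersComponents.BalEndSz

/-!
# Cores of involution centralizers in `M₁₁`

They are isomorphic to `GL(2,3)`, which has no nontrivial normal subgroup of odd order.
-/

set_option autoImplicit false

namespace Cfsg.Agent.SignalizersComponents.BalEndM11

open Matrix
open scoped Pointwise

theorem aux : ∀ a b c d : ZMod 3, a * d - b * c = 1 →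
    (!![a, b; c, d] * !![a, b; c, d] * !![a, b; c, d] : Matrix (Fin 2) (Fin 2) (ZMod 3)) = 1 →
    ((!![1, 1; 0, 1] * !![a, b; c, d] * !![1, -1; 0, 1] * !![d, -b; -c, a]) *
      (!![1, 1; 0, 1] * !![a, b; c, d] * !![1, -1; 0, 1] * !![d, -b; -c, a]) *
      (!![1, 1; 0, 1] * !![a, b; c, d] * !![1, -1; 0, 1] * !![d, -b; -c, a]) :
      Matrix (Fin 2) (Fin 2) (ZMod 3)) = 1 →
    ((!![1, 0; 1, 1] * !![a, b; c, d] * !![1, 0; -1, 1] * !![d, -b; -c, a]) *
      (!![1, 0; 1, 1] * !![a, b; c, d] * !![1, 0; -1, 1] * !![d, -b; -c, a]) *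
      (!![1, 0; 1, 1] * !![a, b; c, d] * !![1, 0; -1, 1] * !![d, -b; -c, a]) :
      Matrix (Fin 2) (Fin 2) (ZMod 3)) = 1 →
    a = 1 ∧ b = 0 ∧ c = 0 ∧ d = 1 := by decide +kernel

theorem det_aux : ∀ d : ZMod 3, d * d * d = 1 → d = 1 := by decide

/-- an element of `GL(2,3)` all of whose commutators have order dividing 3 -/
theorem eq_one_of_comm (g : GL (Fin 2) (ZMod 3)) (hg : g * g * g = 1)
    (hh : ∀ h : GL (Fin 2) (ZMod 3), (h * g * h⁻¹ * g⁻¹) * (h * g * h⁻¹ * g⁻¹) *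
      (h * g * h⁻¹ * g⁻¹) = 1) : g = 1 := by
  have hval : ∀ A : GL (Fin 2) (ZMod 3), A = 1 ↔ (A : Matrix (Fin 2) (Fin 2) (ZMod 3)) = 1 := by
    intro A
    constructor
    · rintro rfl; rfl
    · intro h; exact Units.ext h
  have hdet : (g : Matrix (Fin 2) (Fin 2) (ZMod 3)).det = 1 := by
    apply det_aux
    rw [← Matrix.det_mul, ← Matrix.det_mul]
    have := (hval _).1 hg
    rw [Units.val_mul, Units.val_mul] at this
    rw [this, Matrix.det_one]
  set a := (g : Matrix (Fin 2) (Fin 2) (ZMod 3)) 0 0 with ha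
  set b := (g : Matrix (Fin 2) (Fin 2) (ZMod 3)) 0 1 with hb
  set c := (g : Matrix (Fin 2) (Fin 2) (ZMod 3)) 1 0 with hc
  set d := (g : Matrix (Fin 2) (Fin 2) (ZMod 3)) 1 1 with hd
  have hgm : (g : Matrix (Fin 2) (Fin 2) (ZMod 3)) = !![a, b; c, d] := by
    ext i j
    fin_cases i <;> fin_cases j <;> rfl
  rw [Matrix.det_fin_two] at hdet
  have hginv : ((g⁻¹ : GL (Fin 2) (ZMod 3)) : Matrix (Fin 2) (Fin 2) (ZMod 3)) = !![d, -b; -c, a] := by
    apply Units.inv_eq_of_mul_eq_one_right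
    rw [hgm]
    ext i j
    fin_cases i <;> fin_cases j <;> simp [Matrix.mul_apply, Fin.sum_univ_two] <;>
      first | linear_combination hdet | ring
  let h1 : GL (Fin 2) (ZMod 3) := ⟨!![1, 1; 0, 1], !![1, -1; 0, 1], by decide, by decide⟩
  let h2 : GL (Fin 2) (ZMod 3) := ⟨!![1, 0; 1, 1], !![1, 0; -1, 1], by decide, by decide⟩
  have k1 := (hval _).1 (hh h1)
  have k2 := (hval _).1 (hh h2)
  have k3 := (hval _).1 hg
  simp only [Units.val_mul, hginv] at k1 k2 k3
  rw [hgm] at k1 k2 k3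
  have h4 := aux a b c d hdet k3 k1 k2
  rw [hval, hgm, h4.1, h4.2.1, h4.2.2.1, h4.2.2.2]
  decide

theorem card_gl : Nat.card (GL (Fin 2) (ZMod 3)) = 48 := by
  rw [Matrix.card_GL_field]
  simp [Fin.prod_univ_two, ZMod.card]

/-- a group isomorphic to `GL(2,3)` has trivial core -/
theorem pPrimeCore_eq_bot {C : Type*} [Group C] (f : C ≃* GL (Fin 2) (ZMod 3)) :
    Cfsg.pPrimeCore 2 C = ⊥ := by
  rw [Cfsg.pPrimeCore, sSup_eq_bot]
  rintro N ⟨hN, hc⟩
  have hcard : Nat.card C = 48 := by rw [Nat.card_congr f.toEquiv, card_gl]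
  have hfin : Finite C := Nat.finite_of_card_ne_zero (by rw [hcard]; norm_num)
  have hN3 : Nat.card N ∣ 3 := by
    have h1 : Nat.card N ∣ 16 * 3 := by
      have := N.card_subgroup_dvd_card
      rwa [hcard] at this
    exact (Nat.Coprime.pow_right 4 hc : (Nat.card N).Coprime (2 ^ 4)).dvd_of_dvd_mul_left h1
  have hcube : ∀ x ∈ N, x * x * x = 1 := by
    intro x hx
    have h1 : orderOf x ∣ 3 := by
      rw [← Subgroup.orderOf_mk x hx]
      exact (orderOf_dvd_natCard _).trans hN3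
    have h2 := orderOf_dvd_iff_pow_eq_one.mp h1
    rw [← h2, pow_succ, pow_two]
  rw [Subgroup.eq_bot_iff_forall]
  intro x hx
  apply f.injective
  rw [map_one]
  apply eq_one_of_comm
  · rw [← map_mul, ← map_mul, hcube x hx, map_one]
  · intro h
    obtain ⟨y, rfl⟩ := f.surjective h
    have h1 : y * x * y⁻¹ * x⁻¹ ∈ N := mul_mem (hN.conj_mem x hx y) (inv_mem hx)
    have h2 := hcube _ h1
    rw [← map_inv, ← map_inv, ← map_mul, ← map_mul, ← map_mul, ← map_mul, ← map_mul, h2, map_one]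

/-- the core of the centralizer of an involution of `M₁₁` is trivial -/
theorem core_eq_bot_M11 {L : Type*} [Group L] (h : Cfsg.Spor.IsoM11 L) {x : L}
    (hx : orderOf x = 2) : Cfsg.centralizerPPrimeCore 2 x = ⊥ := by
  obtain ⟨e⟩ := h
  let f : Cfsg.Spor.M11 →* ↥(MulAction.stabilizer Cfsg.M24 Cfsg.Spor.squareDodecad ⊓
      MulAction.stabilizer Cfsg.M24 (some 0 : Cfsg.GolayPt)) :=
    { toFun := fun x => ⟨⟨(x : Equiv.Perm Cfsg.GolayPt),
          (Subgroup.mem_inf.1 (Subgroup.mem_inf.1 x.2).1).1⟩,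
        Subgroup.mem_inf.2 ⟨(Subgroup.mem_inf.1 (Subgroup.mem_inf.1 x.2).1).2,
          (Subgroup.mem_inf.1 x.2).2⟩⟩
      map_one' := rfl
      map_mul' := fun _ _ => rfl }
  have hf : Function.Injective f := by
    intro x y hxy
    apply Subtype.ext
    exact congrArg (fun z : ↥(MulAction.stabilizer Cfsg.M24 Cfsg.Spor.squareDodecad ⊓
      MulAction.stabilizer Cfsg.M24 (some 0 : Cfsg.GolayPt)) => ((z : Cfsg.M24) :
        Equiv.Perm Cfsg.GolayPt)) hxy
  have hfs : Function.Surjective f := by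
    rintro ⟨⟨g, hg⟩, hg'⟩
    exact ⟨⟨g, Subgroup.mem_inf.2 ⟨Subgroup.mem_inf.2 ⟨hg, (Subgroup.mem_inf.1 hg').1⟩,
      (Subgroup.mem_inf.1 hg').2⟩⟩, rfl⟩
  let φ := e.trans (MulEquiv.ofBijective f ⟨hf, hfs⟩)
  have hφx : orderOf (φ x) = 2 := by
    rw [← hx]; exact orderOf_injective φ.toMonoidHom φ.injective x
  obtain ⟨k⟩ := Cfsg.Agent.S1603.result _ TwoGenCore.IsoMEleven.squareDodecad_mem _
    TwoGenCore.IsoMEleven.zero_mem_squareDodecad (φ x) hφx
  -- the centralizers are isomorphic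
  have hmap : (Subgroup.centralizer ({x} : Set L)).map φ.toMonoidHom =
      Subgroup.centralizer {φ x} := by
    ext y
    constructor
    · rintro ⟨z, hz, rfl⟩
      have hz' : z * x = x * z := Subgroup.mem_centralizer_singleton_iff.mp hz
      rw [Subgroup.mem_centralizer_singleton_iff]
      show φ z * φ x = φ x * φ z
      rw [← map_mul, hz', map_mul]
    · intro hy
      rw [Subgroup.mem_centralizer_singleton_iff] at hy
      refine ⟨φ.symm y, ?_, φ.apply_symm_apply y⟩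
      show φ.symm y ∈ Subgroup.centralizer ({x} : Set L)
      rw [Subgroup.mem_centralizer_singleton_iff]
      apply φ.injective
      rw [map_mul, map_mul, φ.apply_symm_apply, hy]
  let k1 : ↥(Subgroup.centralizer ({x} : Set L)) ≃* ↥(Subgroup.centralizer {φ x}) :=
    ((Subgroup.centralizer ({x} : Set L)).equivMapOfInjective φ.toMonoidHom φ.injective).trans
      (MulEquiv.subgroupCongr hmap)
  rw [Cfsg.centralizerPPrimeCore, pPrimeCore_eq_bot (k1.trans k), Subgroup.map_bot]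

end Cfsg.Agent.SignalizersComponents.BalEndM11
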