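import Cfsg.Agent.SignalizersComponents.SolFunctorTwo

/-!
# S0217 for the prime `2`, in exactly the form of `S0217.result (p := 2)`

Replace `import Cfsg.Agent.S0217` by `import Cfsg.Agent.SignalizersComponents.SFTwo` and
`S0217.result (p := 2)` by `SignalizersComponents.SFTwo.result`.
-/

set_option autoImplicit false
open Cfsg

namespace Cfsg.Agent.SignalizersComponents.SFTwo

/-- The solvable signalizer functor theorem for the prime `2`: `S0217.result (p := 2)`. -/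
theorem result {G : Type*} [Group G] [Finite G] (A : Subgroup G)
    (hAcomm : ∀ a ∈ A, ∀ b ∈ A, a * b = b * a) (hAexp : ∀ a ∈ A, a ^ 2 = 1)
    (hArank : 2 ^ 3 ≤ Nat.card A) (θ : G → Subgroup G)
    (hθC : ∀ a ∈ A, a ≠ 1 → θ a ≤ Subgroup.centralizer {a})
    (hθp : ∀ a ∈ A, a ≠ 1 → ¬ 2 ∣ Nat.card (θ a))
    (hθinv : ∀ a ∈ A, a ≠ 1 → ∀ b ∈ A, ∀ x ∈ θ a, b * x * b⁻¹ ∈ θ a)
    (hθsolv : ∀ a ∈ A, a ≠ 1 → Group.IsSolvable (θ a))
    (hbal : ∀ a ∈ A, a ≠ 1 → ∀ b ∈ A, b ≠ 1 → θ a ⊓ Subgroup.centralizer {b} ≤ θ b) :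
    ¬ 2 ∣ Nat.card ↥(⨆ a : {a : G // a ∈ A ∧ a ≠ 1}, θ a) ∧
      ∀ a ∈ A, a ≠ 1 →
        (⨆ b : {a : G // a ∈ A ∧ a ≠ 1}, θ b) ⊓ Subgroup.centralizer {a} = θ a := by
  have h := SolFunctorTwo.solvable_signalizer_functor_two A hAcomm hAexp hArank θ hθC hθp hθinv
    hθsolv hbal
  exact ⟨h.1, h.2.1⟩

end Cfsg.Agent.SignalizersComponents.SFTwo
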