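import Mathlib
import Cfsg.Agent.OddOrderLocal.Thm34
import Cfsg.Agent.SignalizersComponents.FixedPointLemma

/-!
The abelian case of the fixed point theorem: an element `x` of prime order `r` acting without nontrivial
fixed points on a coprime module of an abelian group `K` normalised by `x` has `[K, x]` acting trivially.
Consequence: `NoFixedC r π True` for all primes `r`.
-/

set_option autoImplicit false
set_option linter.unusedSectionVars false

namespace Cfsg.Agent.SignalizersComponents.NoFixedAbelian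

open Module
open Cfsg.Agent.OddOrderLocal.Thm34Base Cfsg.Agent.OddOrderLocal.Thm34Weights
open Cfsg.Agent.OddOrderLocal.Thm34 (abelian_comm inv_conj_mem mem_normalizer_of_conj bc bc_apply bc_tmul
  eq_of_bc elemRep elemRep_apply commutator_zpowers_le)

open Cfsg.Agent.Lib.CoprimeCommutator
open scoped TensorProduct

universe u v

theorem core {F : Type*} [Field F] [IsAlgClosed F] {r : ℕ} (hr : r.Prime)
    (hrF : (r : F) ≠ 0) : ∀ n : ℕ, ∀ (G : Type u) [Group G] [Finite G] (V : Type v) [AddCommGroup V]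
    [Module F V] [FiniteDimensional F V] (ρ : Representation F G V) (K : Subgroup G) [K.Normal]
    (x : G), Nat.card K + finrank F V = n → Group.IsSolvable K → K ⊔ Subgroup.zpowers x = ⊤ →
    x ^ r = 1 → (∀ a ∈ K, ∀ b ∈ K, a * b = b * a) → ¬ r ∣ Nat.card K → (Nat.card K : F) ≠ 0 →
    (∀ v, ρ x v = v → v = 0) → ∀ k ∈ K, ρ (x * k) = ρ (k * x) := by
  intro n
  induction n using Nat.strong_induction_on with
  | _ n ih =>
  intro G _ _ V _ _ _ ρ K hKn x hn hsol hG hxr hab hrK hKF hfix
  classical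
  have hX : Nat.card (Subgroup.zpowers x) ∣ r := by
    rw [Nat.card_zpowers]; exact orderOf_dvd_of_pow_eq_one hxr
  -- invertibility of the order of G
  have hGF : (Nat.card G : F) ≠ 0 := by
    have h1 : K.index ∣ r := by
      have h2 : K.index = K.relIndex (Subgroup.zpowers x) := by
        rw [← Subgroup.relIndex_top_right, ← hG, Subgroup.relIndex_sup_left]
      rw [h2]
      exact (Subgroup.relIndex_dvd_card _ _).trans hX
    rw [← K.card_mul_index, Nat.cast_mul]
    apply mul_ne_zero hKF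
    rcases (Nat.dvd_prime hr).1 h1 with h2 | h2
    · rw [h2, Nat.cast_one]; exact one_ne_zero
    · rw [h2]; exact hrF
  have : NeZero (Nat.card G : F) := ⟨hGF⟩
  -- trivial space
  by_cases hV : Subsingleton V
  · intro k _
    exact LinearMap.ext fun v => Subsingleton.elim _ _
  rw [not_subsingleton_iff_nontrivial] at hV
  by_cases hirr : ρ.IsIrreducible
  swap
  · -- reducible case
    obtain ⟨S, hS1, hS2⟩ : ∃ S : Subrepresentation ρ, S ≠ ⊥ ∧ S ≠ ⊤ := by
      by_contra hcon
      push Not at hcon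
      apply hirr
      have : Nontrivial (Subrepresentation ρ) := by
        refine ⟨⊥, ⊤, ?_⟩
        intro h
        have h1 : (⊥ : Submodule F V) = ⊤ := congrArg Subrepresentation.toSubmodule h
        exact bot_ne_top h1
      exact { eq_bot_or_eq_top := fun S => by
                by_cases h : S = ⊥
                · exact Or.inl h
                · exact Or.inr (hcon S h) }
    obtain ⟨S', hS'⟩ := exists_isCompl S
    have hS1' : S.toSubmodule ≠ ⊥ := fun h => hS1 (Subrepresentation.toSubmodule_injective h)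
    have hS2' : S.toSubmodule ≠ ⊤ := fun h => hS2 (Subrepresentation.toSubmodule_injective h)
    have hS'2 : S'.toSubmodule ≠ ⊤ := by
      intro h
      have h1 : S' = ⊤ := Subrepresentation.toSubmodule_injective h
      rw [h1] at hS'
      exact hS1 (by simpa using hS'.inf_eq_bot)
    have hstep : ∀ S : Subrepresentation ρ, S.toSubmodule ≠ ⊤ → ∀ k ∈ K, ∀ v ∈ S.toSubmodule,
        ρ (x * k) v = ρ (k * x) v := by
      intro S hS k hk v hv
      have hlt : finrank F S.toSubmodule < finrank F V := Submodule.finrank_lt hS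
      have h1 := ih (Nat.card K + finrank F S.toSubmodule) (by omega) G S.toSubmodule
        S.toRepresentation K x rfl hsol hG hxr hab hrK hKF (by
          intro w hw
          apply Subtype.ext
          exact hfix w (congrArg Subtype.val hw)) k hk
      exact congrArg Subtype.val (LinearMap.congr_fun h1 ⟨v, hv⟩)
    intro k hk
    ext v
    have hv : v ∈ S.toSubmodule ⊔ S'.toSubmodule := by
      have h1 : S ⊔ S' = ⊤ := hS'.sup_eq_top
      have h2 : S.toSubmodule ⊔ S'.toSubmodule = ⊤ := congrArg Subrepresentation.toSubmodule h1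
      rw [h2]; trivial
    obtain ⟨a, ha, b, hb, rfl⟩ := Submodule.mem_sup.1 hv
    rw [map_add, map_add, hstep S hS2' k hk a ha, hstep S' hS'2 k hk b hb]
  -- irreducible case
  exact abelian_comm ρ K x hab hG hr hKF hxr hfix

/-- B&G Theorem 3.4 over an algebraically closed field -/
theorem comm_of_no_fixed_algClosed {F : Type*} [Field F] [IsAlgClosed F] {G : Type u} [Group G]
    [Finite G] {V : Type v} [AddCommGroup V] [Module F V] [FiniteDimensional F V]
    (ρ : Representation F G V) (K : Subgroup G) (x : G) {r : ℕ} (hr : r.Prime)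
    (hxr : x ^ r = 1) (hxK : ∀ k ∈ K, x * k * x⁻¹ ∈ K) (hsol : Group.IsSolvable K)
    (hab : ∀ a ∈ K, ∀ b ∈ K, a * b = b * a) (hrK : ¬ r ∣ Nat.card K) (hKF : (Nat.card K : F) ≠ 0)
    (hrF : (r : F) ≠ 0) (hfix : ∀ v, ρ x v = v → v = 0) : ∀ k ∈ K, ρ (x * k) = ρ (k * x) := by
  set G₁ : Subgroup G := K ⊔ Subgroup.zpowers x with hG₁
  have hHG₁ : K ≤ G₁ := le_sup_left
  have hxG₁ : x ∈ G₁ := (le_sup_right : Subgroup.zpowers x ≤ G₁) (Subgroup.mem_zpowers x)
  have hHn : (K.subgroupOf G₁).Normal := by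
    apply Subgroup.normal_subgroupOf_of_le_normalizer
    apply sup_le Subgroup.le_normalizer
    rw [Subgroup.zpowers_le]
    exact mem_normalizer_of_conj hr.pos hxr K hxK
  have hcard : Nat.card (K.subgroupOf G₁) = Nat.card K :=
    Nat.card_congr (Subgroup.subgroupOfEquivOfLe hHG₁).toEquiv
  intro k hk
  have h1 := core hr hrF (Nat.card (K.subgroupOf G₁) + finrank F V) G₁ V (ρ.comp G₁.subtype)
    (K.subgroupOf G₁) ⟨x, hxG₁⟩ rfl
    (Group.isSolvable_of_isSolvable_injective (f := (Subgroup.subgroupOfEquivOfLe hHG₁).toMonoidHom)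
      (Subgroup.subgroupOfEquivOfLe hHG₁).injective)
    (by
      rw [eq_top_iff]
      rintro ⟨g, hg⟩ _
      have h2 : G₁ ≤ ((K.subgroupOf G₁ ⊔ Subgroup.zpowers ⟨x, hxG₁⟩ : Subgroup G₁)).map G₁.subtype := by
        rw [Subgroup.map_sup, MonoidHom.map_zpowers]
        refine le_trans (le_of_eq hG₁) (sup_le_sup ?_ ?_)
        · intro h hh
          exact ⟨⟨h, hHG₁ hh⟩, hh, rfl⟩
        · exact le_rfl
      obtain ⟨g', hg', hgg⟩ := h2 hg
      have : g' = ⟨g, hg⟩ := Subtype.ext hgg
      rwa [this] at hg')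
    (Subtype.ext (by simpa using hxr))
    (by
      rintro ⟨a, ha⟩ ha' ⟨b, hb⟩ hb'
      exact Subtype.ext (hab a ha' b hb')) (by rw [hcard]; exact hrK)
    (by rw [hcard]; exact hKF)
    hfix ⟨k, hHG₁ hk⟩ hk
  exact h1

/-- B&G Theorem 3.4 over any field of coprime characteristic -/
theorem comm_of_no_fixed {F : Type*} [Field F] {G : Type u} [Group G]
    [Finite G] {V : Type v} [AddCommGroup V] [Module F V] [FiniteDimensional F V]
    (ρ : Representation F G V) (K : Subgroup G) (x : G) {r : ℕ} (hr : r.Prime)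
    (hxr : x ^ r = 1) (hxK : ∀ k ∈ K, x * k * x⁻¹ ∈ K) (hsol : Group.IsSolvable K)
    (hab : ∀ a ∈ K, ∀ b ∈ K, a * b = b * a) (hrK : ¬ r ∣ Nat.card K) (hKF : (Nat.card K : F) ≠ 0)
    (hrF : (r : F) ≠ 0) (hfix : ∀ v, ρ x v = v → v = 0) : ∀ k ∈ K, ρ (x * k) = ρ (k * x) := by
  have hcast : ∀ n : ℕ, (n : F) ≠ 0 → (n : AlgebraicClosure F) ≠ 0 := by
    intro n hn h
    apply hn
    have h1 : algebraMap F (AlgebraicClosure F) (n : F) = 0 := by rw [map_natCast, h]
    exact (map_eq_zero _).1 h1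
  have hsum : ∑ j ∈ Finset.range r, ρ x ^ j = 0 := by
    ext v
    rw [LinearMap.sum_apply]
    exact hfix _ (orb_fixed ρ x hxr v)
  have hsum' : ∑ j ∈ Finset.range r, bc (AlgebraicClosure F) ρ x ^ j = 0 := by
    have h1 := congrArg (Module.End.baseChangeHom F (AlgebraicClosure F) V) hsum
    rw [map_sum, map_zero] at h1
    simp only [map_pow] at h1
    exact h1
  intro k hk
  apply eq_of_bc (F' := AlgebraicClosure F)
  apply comm_of_no_fixed_algClosed (bc (AlgebraicClosure F) ρ) K x hr hxr hxK hsol hab hrK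
    (hcast _ hKF) (hcast _ hrF) _ k hk
  intro w hw
  have h1 := LinearMap.congr_fun hsum' w
  rw [LinearMap.sum_apply] at h1
  have h2 : ∀ j : ℕ, (bc (AlgebraicClosure F) ρ x ^ j) w = w := by
    intro j
    induction j with
    | zero => simp
    | succ j ih => rw [pow_succ', Module.End.mul_apply, ih, hw]
  simp only [h2, Finset.sum_const, Finset.card_range, LinearMap.zero_apply] at h1
  rw [← Nat.cast_smul_eq_nsmul (AlgebraicClosure F)] at h1
  rcases smul_eq_zero.1 h1 with h3 | h3
  · exact absurd h3 (hcast _ hrF)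
  · exact h3

theorem elem_version {G : Type u} [Group G] [Finite G] {A : Type v} [CommGroup A] [Finite A] (p : ℕ)
    [Fact p.Prime] (hA : ∀ a : A, a ^ p = 1) (φ : G →* MulAut A) (K : Subgroup G) (x : G) {r : ℕ}
    (hr : r.Prime) (hxr : x ^ r = 1) (hxK : ∀ k ∈ K, x * k * x⁻¹ ∈ K)
    (hsol : Group.IsSolvable K) (hab : ∀ a ∈ K, ∀ b ∈ K, a * b = b * a) (hrK : ¬ r ∣ Nat.card K)
    (hKp : ¬ p ∣ Nat.card K) (hrp : r ≠ p) (hfix : ∀ a, φ x a = a → a = 1) :
    ∀ k ∈ K, ∀ a, φ (x * k) a = φ (k * x) a := by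
  let _inst : Module (ZMod p) (Additive A) := AddCommGroup.zmodModule (by
    intro a
    exact hA a.toMul)
  have hfinA : Finite (Additive A) := inferInstanceAs (Finite A)
  have hfd : FiniteDimensional (ZMod p) (Additive A) := Module.Finite.of_finite
  have hpF : ∀ n : ℕ, ¬ p ∣ n → (n : ZMod p) ≠ 0 := by
    intro n hn h
    exact hn ((ZMod.natCast_eq_zero_iff n p).1 h)
  have hrp' : ¬ p ∣ r := by
    intro h
    exact hrp ((Nat.prime_dvd_prime_iff_eq (Fact.out : p.Prime) hr).1 h).symm
  intro k hk a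
  have h1 := @comm_of_no_fixed (ZMod p) _ G _ _ (Additive A) _ _inst hfd (elemRep p φ) K x r hr
    hxr hxK hsol hab hrK (hpF _ hKp) (hpF _ hrp') (fun v hv => hfix v.toMul hv) k hk
  exact LinearMap.congr_fun h1 (Additive.ofMul a)

open scoped commutatorElement

theorem group_core {r : ℕ} (hr : r.Prime) : ∀ n : ℕ, ∀ (G : Type u) [Group G]
    [Finite G] (V K : Subgroup G) [V.Normal] (x : G), Nat.card V = n → Group.IsSolvable K →
    Group.IsSolvable V → x ^ r = 1 → (∀ k ∈ K, x * k * x⁻¹ ∈ K) →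
    (∀ a ∈ K, ∀ b ∈ K, a * b = b * a) → ¬ r ∣ Nat.card K → (Nat.card V).Coprime (Nat.card K) → ¬ r ∣ Nat.card V →
    (∀ v ∈ V, x * v * x⁻¹ = v → v = 1) →
    ⁅K, Subgroup.zpowers x⁆ ≤ Subgroup.centralizer (V : Set G) := by
  intro n
  induction n using Nat.strong_induction_on with
  | _ n ih =>
  intro G _ _ V K hVn x hn hKs hVs hxr hxK hab hrK hVK hrV hfix
  classical
  by_cases hVb : V = ⊥
  · rw [hVb]
    intro g _
    rw [Subgroup.mem_centralizer_iff]
    intro v hv
    rw [SetLike.mem_coe, Subgroup.mem_bot] at hv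
    rw [hv, one_mul, mul_one]
  have hVnt : Nontrivial V := (Subgroup.nontrivial_iff_ne_bot V).2 hVb
  obtain ⟨p, hp, N, hNc, hNm, hNp, hN⟩ :=
    Cfsg.Agent.Lib.SolvableMinNormal.exists_characteristic_pgroup (G := V)
  have : Fact p.Prime := ⟨hp⟩
  -- the subgroup `W = Ω₁(N)`
  let W : Subgroup G :=
    { carrier := {g | g ∈ N.map V.subtype ∧ g ^ p = 1}
      one_mem' := ⟨Subgroup.one_mem _, one_pow _⟩
      mul_mem' := by
        rintro a b ⟨⟨a, ha, rfl⟩, hap⟩ ⟨⟨b, hb, rfl⟩, hbp⟩
        refine ⟨Subgroup.mul_mem _ ⟨a, ha, rfl⟩ ⟨b, hb, rfl⟩, ?_⟩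
        have hc : Commute a b := by
          have := hNm.is_comm.comm ⟨a, ha⟩ ⟨b, hb⟩
          exact congrArg Subtype.val this
        have hc' : Commute (V.subtype a) (V.subtype b) := hc.map V.subtype
        rw [hc'.mul_pow, hap, hbp, one_mul]
      inv_mem' := by
        rintro a ⟨ha, hap⟩
        exact ⟨Subgroup.inv_mem _ ha, by rw [inv_pow, hap, inv_one]⟩ }
  have hWmem : ∀ g, g ∈ W ↔ g ∈ N.map V.subtype ∧ g ^ p = 1 := fun g => Iff.rfl
  have hNn : (N.map V.subtype).Normal := ConjAct.normal_of_characteristic_of_normal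
  have hWn : W.Normal := by
    constructor
    intro a ha g
    rw [hWmem] at ha ⊢
    exact ⟨hNn.conj_mem a ha.1 g, by rw [conj_pow, ha.2, mul_one, mul_inv_cancel]⟩
  have hWV : W ≤ V := by
    rintro g ⟨⟨a, _, rfl⟩, _⟩
    exact a.2
  have hWc : ∀ a b : W, a * b = b * a := by
    rintro ⟨_, ⟨a, ha, rfl⟩, hap⟩ ⟨_, ⟨b, hb, rfl⟩, hbp⟩
    apply Subtype.ext
    show (a : G) * b = b * a
    have := hNm.is_comm.comm ⟨a, ha⟩ ⟨b, hb⟩
    exact congrArg (fun z => ((z : V) : G)) (congrArg Subtype.val this)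
  have hpN : p ∣ Nat.card N := by
    obtain ⟨m, hm⟩ := IsPGroup.iff_card.1 hNp
    rw [hm]
    apply dvd_pow_self
    rintro rfl
    rw [pow_zero] at hm
    exact hN (Subgroup.card_eq_one.1 hm)
  have hW : W ≠ ⊥ := by
    obtain ⟨a, ha⟩ := exists_prime_orderOf_dvd_card' p hpN
    intro h
    have h1 : ((a : V) : G) ∈ W := by
      refine ⟨⟨a, a.2, rfl⟩, ?_⟩
      have := pow_orderOf_eq_one a
      rw [ha] at this
      exact congrArg (fun z : N => ((z : V) : G)) this
    rw [h, Subgroup.mem_bot] at h1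
    have h2 : a = 1 := by
      apply Subtype.ext; apply Subtype.ext; exact h1
    rw [h2, orderOf_one] at ha
    exact hp.one_lt.ne ha
  have hWcard : Nat.card W ∣ Nat.card V := Subgroup.card_dvd_of_le hWV
  have hpV : p ∣ Nat.card V := hpN.trans (Subgroup.card_subgroup_dvd_card N)
  have hpK : ¬ p ∣ Nat.card K := fun h => hp.one_lt.ne' (Nat.dvd_one.1 (hVK ▸ Nat.dvd_gcd hpV h))
  have hrp : r ≠ p := by rintro rfl; exact hrV hpV
  have hgrp : ⁅K, Subgroup.zpowers x⁆ ≤ Subgroup.centralizer (W : Set G) := by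
    let _inst : CommGroup W := { (inferInstance : Group W) with mul_comm := hWc }
    have h1 := elem_version (G := G) (A := W) p (fun a => Subtype.ext a.2.2)
      (MulAut.conjNormal : G →* MulAut W) K x hr hxr hxK hKs hab hrK hpK hrp (by
        intro a ha
        apply Subtype.ext
        apply hfix _ (hWV a.2)
        exact congrArg Subtype.val ha)
    have : (Subgroup.centralizer (W : Set G)).Normal := Subgroup.normal_centralizer
    apply commutator_zpowers_le
    intro k hk
    rw [Subgroup.mem_centralizer_iff]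
    intro a ha
    have hxW : x⁻¹ * a * x ∈ W := by simpa using hWn.conj_mem a ha x⁻¹
    have hxW2 : k⁻¹ * (x⁻¹ * a * x) * k ∈ W := by simpa using hWn.conj_mem _ hxW k⁻¹
    have h2 := h1 k hk ⟨_, hxW2⟩
    have h3 : (x * k) * (k⁻¹ * (x⁻¹ * a * x) * k) * (x * k)⁻¹ =
      (k * x) * (k⁻¹ * (x⁻¹ * a * x) * k) * (k * x)⁻¹ := congrArg Subtype.val h2
    have h4 : (x * k) * (k⁻¹ * (x⁻¹ * a * x) * k) * (x * k)⁻¹ = a := by group
    rw [h4] at h3
    have h5 : (k * x) * (k⁻¹ * (x⁻¹ * a * x) * k) * (k * x)⁻¹ = ⁅k, x⁆ * a * ⁅k, x⁆⁻¹ := by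
      rw [commutatorElement_def]; group
    rw [h5] at h3
    rw [eq_mul_inv_iff_mul_eq] at h3
    exact h3
  -- the quotient by `W`
  have hKc : Nat.card (K.map (QuotientGroup.mk' W)) ∣ Nat.card K := Subgroup.card_map_dvd _ _
  have hVc : Nat.card (V.map (QuotientGroup.mk' W)) ∣ Nat.card V := Subgroup.card_map_dvd _ _
  have hlt : Nat.card (V.map (QuotientGroup.mk' W)) < n := by
    rw [← hn]
    refine lt_of_le_of_ne (Nat.le_of_dvd Nat.card_pos hVc) ?_
    intro h
    have h1 := Subgroup.card_mul_index (V.map (QuotientGroup.mk' W))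
    have h2 : (V.map (QuotientGroup.mk' W)).index = V.index := by
      rw [Subgroup.index_map_eq]
      · exact QuotientGroup.mk'_surjective _
      · rw [QuotientGroup.ker_mk']; exact hWV
    rw [h2, h, V.card_mul_index, Subgroup.card_eq_card_quotient_mul_card_subgroup W] at h1
    have h3 : Nat.card W = 1 := by
      have : 0 < Nat.card (G ⧸ W) := Nat.card_pos
      nlinarith [Nat.card_pos (α := G ⧸ W), Nat.card_pos (α := W)]
    exact hW (Subgroup.card_eq_one.1 h3)
  have hVn' : (V.map (QuotientGroup.mk' W)).Normal := hVn.map _ (QuotientGroup.mk'_surjective _)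
  have : Fact r.Prime := ⟨hr⟩
  have hxX : IsPGroup r (Subgroup.zpowers x) := by
    apply IsPGroup.of_card_dvd_pow (n := 1)
    rw [Nat.card_zpowers, pow_one]
    exact orderOf_dvd_of_pow_eq_one hxr
  have hcomm_zpow : ∀ v : G, Commute (QuotientGroup.mk' W v) (QuotientGroup.mk' W x) →
      ∀ a ∈ Subgroup.zpowers x, v⁻¹ * (a * v * a⁻¹) ∈ W := by
    intro v hv a ha
    obtain ⟨j, rfl⟩ := Subgroup.mem_zpowers_iff.1 ha
    have h2 : Commute (QuotientGroup.mk' W v) (QuotientGroup.mk' W (x ^ j)) := by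
      rw [map_zpow]
      exact hv.zpow_right j
    apply (QuotientGroup.eq_one_iff _).1
    show QuotientGroup.mk' W _ = 1
    rw [map_mul, map_mul, map_mul, map_inv, map_inv, ← h2.eq]
    group
  have h := ih _ hlt (G ⧸ W) (V.map (QuotientGroup.mk' W)) (K.map (QuotientGroup.mk' W))
    (QuotientGroup.mk' W x) rfl
    (Group.isSolvable_of_surjective (f := (QuotientGroup.mk' W).subgroupMap K)
      ((QuotientGroup.mk' W).subgroupMap_surjective K))
    (Group.isSolvable_of_surjective (f := (QuotientGroup.mk' W).subgroupMap V)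
      ((QuotientGroup.mk' W).subgroupMap_surjective V))
    (by rw [← map_pow, hxr, map_one])
    (by
      rintro _ ⟨k, hk, rfl⟩
      exact ⟨_, hxK k hk, by rw [map_mul, map_mul, map_inv]⟩)
    (by
      rintro _ ⟨a, ha, rfl⟩ _ ⟨b, hb, rfl⟩
      rw [← map_mul, hab a ha b hb, map_mul]) (fun h => hrK (h.trans hKc))
    (Nat.Coprime.coprime_dvd_left hVc (Nat.Coprime.coprime_dvd_right hKc hVK))
    (fun h => hrV (h.trans hVc))
    (by
      rintro _ ⟨v, hv, rfl⟩ hfixv
      have h1 : Commute (QuotientGroup.mk' W v) (QuotientGroup.mk' W x) := by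
        rw [mul_inv_eq_iff_eq_mul] at hfixv
        exact hfixv.symm
      obtain ⟨c, hc, hvc⟩ := exists_fixed_in_coset r (Subgroup.zpowers x) W hxX
        (by rw [Subgroup.normalizer_eq_top]; exact le_top)
        (fun h => hrV (h.trans hWcard)) v (hcomm_zpow v h1)
      have hcV : c ∈ V := by
        have := V.mul_mem hv (hWV hvc)
        rwa [mul_inv_cancel_left] at this
      have hc1 : c = 1 := by
        apply hfix c hcV
        have := Subgroup.mem_centralizer_iff.1 hc x (Subgroup.mem_zpowers x)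
        rw [this, mul_inv_cancel_right]
      rw [hc1, mul_one] at hvc
      have : v ∈ W := by simpa using W.inv_mem hvc
      exact (QuotientGroup.eq_one_iff _).2 this)
  have hHK : ⁅K, Subgroup.zpowers x⁆ ≤ K := by
    apply commutator_le_left
    rw [Subgroup.zpowers_le]
    exact mem_normalizer_of_conj hr.pos hxr K hxK
  apply le_centralizer_of_commutator_le _ V W
  · rw [Subgroup.normalizer_eq_top]; exact le_top
  · exact (Nat.Coprime.coprime_dvd_right (Subgroup.card_dvd_of_le hHK) hVK).symm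
  · rw [Subgroup.commutator_le]
    intro v hv g hg
    have h1 : QuotientGroup.mk' W g ∈ Subgroup.centralizer
        ((V.map (QuotientGroup.mk' W) : Subgroup (G ⧸ W)) : Set (G ⧸ W)) := by
      apply h
      have h2 : (⁅K, Subgroup.zpowers x⁆).map (QuotientGroup.mk' W) =
          ⁅K.map (QuotientGroup.mk' W), Subgroup.zpowers (QuotientGroup.mk' W x)⁆ := by
        rw [Subgroup.map_commutator, MonoidHom.map_zpowers]
      rw [← h2]
      exact ⟨g, hg, rfl⟩
    have h2 : Commute (QuotientGroup.mk' W v) (QuotientGroup.mk' W g) :=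
      Subgroup.mem_centralizer_iff.1 h1 _ ⟨v, hv, rfl⟩
    rw [← commutatorElement_eq_one_iff_commute, ← map_commutatorElement] at h2
    exact (QuotientGroup.eq_one_iff _).1 h2
  · exact hgrp

/-- B&G Theorem 3.4, group form (`R` of odd prime order acting without fixed points on `V`). -/
theorem commutator_le_centralizer_of_fixedFree {G : Type u} [Group G] [Finite G]
    (K R V : Subgroup G) (hK : Group.IsSolvable K) (hab : ∀ a ∈ K, ∀ b ∈ K, a * b = b * a)
    (hR : (Nat.card R).Prime) (hRK : R ≤ Subgroup.normalizer (K : Set G))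
    (hcop : (Nat.card K).Coprime (Nat.card R)) (hKV : K ≤ Subgroup.normalizer (V : Set G))
    (hRV : R ≤ Subgroup.normalizer (V : Set G)) (hV : Group.IsSolvable V)
    (hVK : (Nat.card V).Coprime (Nat.card K)) (hVR : (Nat.card V).Coprime (Nat.card R))
    (hfix : V ⊓ Subgroup.centralizer (R : Set G) = ⊥) :
    ⁅K, R⁆ ≤ Subgroup.centralizer (V : Set G) := by
  have : Fact (Nat.card R).Prime := ⟨hR⟩
  -- a generator of `R`
  have hcyc : IsCyclic R := isCyclic_of_prime_card rfl
  obtain ⟨⟨x, hxR⟩, hx⟩ := IsCyclic.exists_generator (α := R)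
  have hRx : R = Subgroup.zpowers x := by
    apply le_antisymm
    · intro g hg
      obtain ⟨j, hj⟩ := Subgroup.mem_zpowers_iff.1 (hx ⟨g, hg⟩)
      exact Subgroup.mem_zpowers_iff.2 ⟨j, congrArg Subtype.val hj⟩
    · rw [Subgroup.zpowers_le]; exact hxR
  have hxr : x ^ Nat.card R = 1 := by
    have := pow_card_eq_one' (x := (⟨x, hxR⟩ : R))
    exact congrArg Subtype.val this
  have hcop' : ∀ {m : ℕ}, m.Coprime (Nat.card R) → ¬ Nat.card R ∣ m := by
    intro m hm h
    exact hR.one_lt.ne' (Nat.dvd_one.1 (hm ▸ Nat.dvd_gcd h dvd_rfl))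
  -- pass to the normalizer of `V`
  set M : Subgroup G := Subgroup.normalizer (V : Set G) with hM
  have hVM : V ≤ M := Subgroup.le_normalizer
  have hVn : (V.subgroupOf M).Normal := Subgroup.normal_in_normalizer
  have hcard : ∀ H : Subgroup G, H ≤ M → Nat.card (H.subgroupOf M) = Nat.card H := fun H h =>
    Nat.card_congr (Subgroup.subgroupOfEquivOfLe h).toEquiv
  have hxM : x ∈ M := hRV hxR
  have h := group_core hR _ M (V.subgroupOf M) (K.subgroupOf M) ⟨x, hxM⟩ rfl
    (Group.isSolvable_of_isSolvable_injective (f := (Subgroup.subgroupOfEquivOfLe hKV).toMonoidHom)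
      (Subgroup.subgroupOfEquivOfLe hKV).injective)
    (Group.isSolvable_of_isSolvable_injective (f := (Subgroup.subgroupOfEquivOfLe hVM).toMonoidHom)
      (Subgroup.subgroupOfEquivOfLe hVM).injective)
    (Subtype.ext hxr)
    (by
      intro k hk
      rw [Subgroup.mem_subgroupOf] at hk ⊢
      exact (Subgroup.mem_normalizer_iff.1 (hRK hxR) _).1 hk)
    (by
      rintro ⟨a, ha⟩ ha' ⟨b, hb⟩ hb'
      exact Subtype.ext (hab a ha' b hb')) (by rw [hcard _ hKV]; exact hcop' hcop)
    (by rw [hcard _ hKV, hcard _ hVM]; exact hVK) (by rw [hcard _ hVM]; exact hcop' hVR)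
    (by
      intro v hv hxv
      rw [Subgroup.mem_subgroupOf] at hv
      have h1 : (v : G) ∈ V ⊓ Subgroup.centralizer (R : Set G) := by
        refine Subgroup.mem_inf.2 ⟨hv, ?_⟩
        have h2 : x * v * x⁻¹ = v := congrArg Subtype.val hxv
        rw [hRx, Subgroup.mem_centralizer_iff]
        intro y hy
        obtain ⟨j, rfl⟩ := Subgroup.mem_zpowers_iff.1 hy
        have h3 : Commute x (v : G) := by
          rw [mul_inv_eq_iff_eq_mul] at h2
          exact h2
        exact h3.zpow_left j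
      rw [hfix, Subgroup.mem_bot] at h1
      exact Subtype.ext h1)
  rw [Subgroup.commutator_le]
  intro k hk y hy
  have h1 := h (Subgroup.commutator_mem_commutator (g₁ := ⟨k, hKV hk⟩) (g₂ := ⟨y, hRV hy⟩)
    (Subgroup.mem_subgroupOf.2 hk) (by
      rw [hRx] at hy
      obtain ⟨j, rfl⟩ := Subgroup.mem_zpowers_iff.1 hy
      exact Subgroup.mem_zpowers_iff.2 ⟨j, Subtype.ext (by simp)⟩))
  rw [Subgroup.mem_centralizer_iff] at h1 ⊢
  intro v hv
  have h2 := h1 ⟨v, hVM hv⟩ (Subgroup.mem_subgroupOf.2 hv)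
  exact congrArg Subtype.val h2


open Subgroup
open Cfsg.Agent.SignalizersComponents.InvariantHall (PiNum)
open Cfsg.Agent.SignalizersComponents.LocalGlobal (centralizer_zpowers_eq coprime_of_piNum)
open Cfsg.Agent.SignalizersComponents.FixedPointLemma

/-- **`NoFixedC r π True` for all primes `r`.** -/
theorem noFixedC_true {r : ℕ} (hr : r.Prime) (π : Set ℕ) : NoFixedC.{u} r π True := by
  intro G _ _ V X a s hs hsπ hsr hV hXs hX hrX ha haV haX hXV hab hfree
  by_cases ha1 : a = 1
  · rw [ha1]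
    simp
  have : Fact s.Prime := ⟨hs⟩
  have : Fact r.Prime := ⟨hr⟩
  have hcard : Nat.card (zpowers a) = r := by
    rw [Nat.card_zpowers]
    exact orderOf_eq_prime ha ha1
  have hVr : ¬ r ∣ Nat.card V := by
    obtain ⟨n, hn⟩ := IsPGroup.iff_card.mp hV
    rw [hn]
    intro h
    exact hsr ((Nat.prime_dvd_prime_iff_eq hr hs).mp (hr.dvd_of_dvd_pow h)).symm
  refine commutator_le_centralizer_of_fixedFree X (zpowers a) V hXs (hab trivial)
    (by rw [hcard]; exact hr) (by rwa [zpowers_le]) ?_ hXV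
    (by rwa [zpowers_le]) ?_ ?_ ?_ ?_
  · rw [hcard, Nat.coprime_comm, hr.coprime_iff_not_dvd]
    exact hrX
  · have := hV.isNilpotent
    infer_instance
  · exact (coprime_of_piNum hs hsπ hX hV).symm
  · rw [hcard, Nat.coprime_comm, hr.coprime_iff_not_dvd]
    exact hVr
  · rw [centralizer_zpowers_eq]
    exact hfree

end Cfsg.Agent.SignalizersComponents.NoFixedAbelian
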