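import Mathlib
import Cfsg.Prelude.Def_Balance
import Cfsg.Agent.SignalizersComponents.FunctorTools
import Cfsg.Agent.SignalizersComponents.FunctorInduction
import Cfsg.Agent.S1287

set_option autoImplicit false

/-!
Colouring arguments for signalizer functors: two colours, factorisations, the permutable triple.
-/

namespace Cfsg.Agent.SignalizersComponents.PermTriple

open Subgroup
open scoped commutatorElement Pointwise
open Cfsg.Agent.SignalizersComponents.GoldschmidtGen (le_normalizer_of_conj_mem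
  conj_mem_of_le_normalizer le_normalizer_inf_centralizer)
open Cfsg.Agent.SignalizersComponents.CoprimeGen
open Cfsg.Agent.SignalizersComponents.FunctorTools
open Cfsg.Agent.SignalizersComponents.FunctorInduction

variable {G : Type*} [Group G] {p : ℕ} {A : Subgroup G} {θ : G → Subgroup G}

/-- **Two colours.** If every `θ a` lies in `X` or in `Y`, the functor is complete. -/
theorem solComplete_of_two_colours [Finite G] [hp : Fact p.Prime]
    (hA : Cfsg.IsElementaryAbelian p A) (hA3 : p ^ 3 ≤ Nat.card A)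
    (hθ : Cfsg.IsSolvableSignalizerFunctor p A θ) {X Y : Subgroup G}
    (hX : X ∈ Cfsg.signalizerFamily p A θ) (hY : Y ∈ Cfsg.signalizerFamily p A θ)
    (h : ∀ a ∈ A, a ≠ 1 → θ a ≤ X ∨ θ a ≤ Y) : SolComplete p A θ := by
  have hA1 : A ≠ ⊥ := ne_bot_of_pow_le three_ne_zero hA3
  by_cases hm : ∃ B ≤ A, B.relIndex A = p ∧ ∀ b ∈ B, b ≠ 1 → θ b ≤ Y
  · obtain ⟨B, hBA, hB, hBY⟩ := hm
    exact solComplete_of_noncyclic_le hA hθ hBA (hyperplane_pow_le hA3 hBA hB) hY hBY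
  · push Not at hm
    refine solComplete_of_hyperplane_le hA hA1 hθ hX fun B hBA hB => ?_
    obtain ⟨b, hb, hb1, hbY⟩ := hm B hBA hB
    exact (signalizerInf_le hb hb1).trans ((h b (hBA hb) hb1).resolve_right hbY)

theorem inf_centralizer_zpowers_le {K : Subgroup G} {B : Subgroup G} {a b : G}
    (h : B ≤ zpowers a ⊔ zpowers b) :
    (K ⊓ centralizer {a}) ⊓ centralizer {b} ≤ K ⊓ centralizer (B : Set G) := by
  rintro x ⟨⟨hxK, hxa⟩, hxb⟩
  refine ⟨hxK, ?_⟩
  have h1 : zpowers a ⊔ zpowers b ≤ centralizer ({x} : Set G) := by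
    rw [sup_le_iff, zpowers_le, zpowers_le]
    exact ⟨mem_centralizer_singleton.mpr (mem_centralizer_singleton.mp hxa).symm,
      mem_centralizer_singleton.mpr (mem_centralizer_singleton.mp hxb).symm⟩
  exact mem_centralizer_iff.mpr fun y hy => (mem_centralizer_singleton.mp (h1 (h hy))).symm

theorem card_sup_of_inf_eq_bot [Finite G] {X Y : Subgroup G} (hn : Y ≤ normalizer (X : Set G))
    (h : X ⊓ Y = ⊥) : Nat.card ↥(X ⊔ Y) = Nat.card X * Nat.card Y := by
  rw [← Nat.card_prod]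
  refine (Nat.card_congr (Equiv.ofBijective (fun z : X × Y =>
    (⟨(z.1 : G) * z.2, mul_mem (mem_sup_left z.1.2) (mem_sup_right z.2.2)⟩ : ↥(X ⊔ Y))) ⟨?_, ?_⟩)).symm
  · rintro ⟨x, y⟩ ⟨x', y'⟩ hxy
    have h1 : (x : G) * y = x' * y' := congrArg Subtype.val hxy
    have h2 : (x' : G)⁻¹ * x = y' * (y : G)⁻¹ := by
      calc (x' : G)⁻¹ * x = (x' : G)⁻¹ * (x * y) * (y : G)⁻¹ := by group
        _ = y' * (y : G)⁻¹ := by rw [h1]; group
    have h3 : (x' : G)⁻¹ * x ∈ X ⊓ Y :=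
      ⟨X.mul_mem (X.inv_mem x'.2) x.2, by rw [h2]; exact Y.mul_mem y'.2 (Y.inv_mem y.2)⟩
    rw [h, mem_bot] at h3
    have h4 : (x : G) = x' := by
      have := congrArg (fun g => (x' : G) * g) h3
      simpa using this
    have h5 : (y : G) = y' := by
      rw [h4] at h1
      exact mul_left_cancel h1
    exact Prod.ext (Subtype.ext h4) (Subtype.ext h5)
  · rintro ⟨g, hg⟩
    obtain ⟨x, hx, y, hy, rfl⟩ := (Cfsg.Agent.SignalizersComponents.CoprimeBasic.mem_sup_iff hn g).mp hg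
    exact ⟨(⟨x, hx⟩, ⟨y, hy⟩), rfl⟩

theorem card_zpowers_of_ne_one [hp : Fact p.Prime] (hA : Cfsg.IsElementaryAbelian p A) {a : G}
    (ha : a ∈ A) (ha1 : a ≠ 1) : Nat.card (zpowers a) = p := by
  rw [Nat.card_zpowers, orderOf_eq_prime (hA.2 a ha) ha1]

theorem relIndex_eq_of_card [Finite G] [hp : Fact p.Prime] {B : Subgroup G} {n : ℕ} (hBA : B ≤ A)
    (hA : Nat.card A = p ^ (n + 1)) (hB : Nat.card B = p ^ n) : B.relIndex A = p := by
  have h1 := Subgroup.relIndex_mul_relIndex ⊥ B A bot_le hBA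
  rw [Subgroup.relIndex_bot_left, Subgroup.relIndex_bot_left, hA, hB, pow_succ] at h1
  exact Nat.eq_of_mul_eq_mul_left (pow_pos hp.out.pos n) h1

theorem zpowers_inf_eq_bot [Finite G] [hp : Fact p.Prime] (hA : Cfsg.IsElementaryAbelian p A) {a : G}
    (ha : a ∈ A) (ha1 : a ≠ 1) {B : Subgroup G} (haB : a ∉ B) : B ⊓ zpowers a = ⊥ := by
  have hc := card_zpowers_of_ne_one hA ha ha1
  have h1 : Nat.card ↥(B ⊓ zpowers a) ∣ p := by
    rw [← hc]; exact card_dvd_of_le inf_le_right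
  rcases (Nat.dvd_prime hp.out).mp h1 with h | h
  · exact Subgroup.card_eq_one.mp h
  · exfalso
    apply haB
    have h2 : B ⊓ zpowers a = zpowers a :=
      Subgroup.eq_of_le_of_card_ge inf_le_right (by rw [hc, h])
    have h3 : a ∈ B ⊓ zpowers a := by rw [h2]; exact mem_zpowers a
    exact h3.1

/-- In an elementary abelian group of order `p ^ 3`: for `a ≠ 1` there is a complement `B` of `⟨a⟩`, of
order `p ^ 2`, and `⟨a, b⟩` is a hyperplane for `1 ≠ b ∈ B`. -/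
theorem exists_complement [Finite G] [hp : Fact p.Prime] (hA : Cfsg.IsElementaryAbelian p A)
    (hA3 : Nat.card A = p ^ 3) {a : G} (ha : a ∈ A) (ha1 : a ≠ 1) :
    ∃ B ≤ A, Nat.card B = p ^ 2 ∧ B ⊔ zpowers a = A ∧ ∀ b ∈ B, b ≠ 1 →
      zpowers a ⊔ zpowers b ≤ A ∧ (zpowers a ⊔ zpowers b).relIndex A = p := by
  have hcomm := comm_of_isElementaryAbelian hA
  have hnorm : ∀ {X Y : Subgroup G}, X ≤ A → Y ≤ A → Y ≤ normalizer (X : Set G) := by
    intro X Y hX hY
    apply le_normalizer_of_conj_mem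
    intro y hy x hx
    rw [hcomm y (hY hy) x (hX hx)]
    simpa using hx
  obtain ⟨B, ⟨hBA, haB⟩, hBmax⟩ := (Set.toFinite {B : Subgroup G | B ≤ A ∧ a ∉ B}).exists_maximal
    ⟨⊥, bot_le, by rwa [mem_bot]⟩
  have haA : zpowers a ≤ A := by rwa [zpowers_le]
  have hBa := zpowers_inf_eq_bot hA ha ha1 haB
  have hsup : B ⊔ zpowers a = A := by
    apply le_antisymm (sup_le hBA haA)
    intro x hx
    by_contra hxB
    have hxA : zpowers x ≤ A := by rwa [zpowers_le]
    have h1 : a ∈ B ⊔ zpowers x := by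
      by_contra h
      have h2 := hBmax (⟨sup_le hBA hxA, h⟩ : B ⊔ zpowers x ∈ {B : Subgroup G | B ≤ A ∧ a ∉ B}) le_sup_left
      exact hxB (mem_sup_left (h2 (mem_sup_right (mem_zpowers x))))
    obtain ⟨b, hb, z, hz, hbz⟩ :=
      (Cfsg.Agent.SignalizersComponents.CoprimeBasic.mem_sup_iff (hnorm hBA hxA) a).mp h1
    have hx1 : x ≠ 1 := by
      rintro rfl
      exact hxB (one_mem _)
    have hz1 : z ∉ B ⊔ zpowers a → False := by
      intro h
      apply h
      have h3 : z = b⁻¹ * a := by rw [← hbz]; group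
      rw [h3]
      exact mul_mem (mem_sup_left (inv_mem hb)) (mem_sup_right (mem_zpowers a))
    have hz2 : z ≠ 1 := by
      rintro rfl
      rw [mul_one] at hbz
      exact haB (hbz ▸ hb)
    -- `⟨z⟩ = ⟨x⟩`
    have h4 : zpowers z = zpowers x :=
      Subgroup.eq_of_le_of_card_ge (by rwa [zpowers_le]) (by
        rw [card_zpowers_of_ne_one hA hx hx1, card_zpowers_of_ne_one hA (hxA hz) hz2])
    apply hxB
    have h5 : zpowers x ≤ B ⊔ zpowers a := by
      rw [← h4, zpowers_le]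
      by_contra h
      exact hz1 h
    exact h5 (mem_zpowers x)
  have hBcard : Nat.card B = p ^ 2 := by
    have h1 := card_sup_of_inf_eq_bot (hnorm hBA haA) hBa
    rw [hsup, hA3, card_zpowers_of_ne_one hA ha ha1, pow_succ] at h1
    exact (Nat.eq_of_mul_eq_mul_right hp.out.pos h1).symm
  refine ⟨B, hBA, hBcard, hsup, fun b hb hb1 => ?_⟩
  have hbA : zpowers b ≤ A := by rw [zpowers_le]; exact hBA hb
  have hle : zpowers a ⊔ zpowers b ≤ A := sup_le haA hbA
  refine ⟨hle, relIndex_eq_of_card hle hA3 ?_⟩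
  have h1 : zpowers a ⊓ zpowers b = ⊥ := by
    rw [eq_bot_iff, ← hBa, inf_comm]
    exact inf_le_inf_right _ (by rwa [zpowers_le])
  rw [card_sup_of_inf_eq_bot (hnorm haA hbA) h1, card_zpowers_of_ne_one hA ha ha1,
    card_zpowers_of_ne_one hA (hBA hb) hb1, sq]

/-- **Factorisation lemma.** `|A| = p ^ 3`, `X`, `Y` members, `X` containing `⋂ θ`, every `θ(B)`,
`B` a hyperplane, lies in `X` or in `Y`. Then `K = (K ∩ X)(K ∩ Y)` for every member `K`. -/
theorem factor_of_hyperplane [Finite G] [hp : Fact p.Prime]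
    (hA : Cfsg.IsElementaryAbelian p A) (hA3 : Nat.card A = p ^ 3)
    {X Y K : Subgroup G}
    (hX : X ∈ Cfsg.signalizerFamily p A θ) (hY : Y ∈ Cfsg.signalizerFamily p A θ)
    (hCX : Cfsg.signalizerInf A θ ≤ X)
    (h : ∀ B ≤ A, B.relIndex A = p → Cfsg.signalizerInf B θ ≤ X ∨ Cfsg.signalizerInf B θ ≤ Y)
    (hK : K ∈ Cfsg.signalizerFamily p A θ) :
    (K : Set G) = ((K ⊓ X : Subgroup G) : Set G) * ((K ⊓ Y : Subgroup G) : Set G) := by
  have hcomm := comm_of_isElementaryAbelian hA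
  have hA2 : p ^ 2 ≤ Nat.card A := by
    rw [hA3]; exact Nat.pow_le_pow_right hp.out.pos (by norm_num)
  have hAK := le_normalizer_of_mem hK
  have hAX := le_normalizer_of_mem hX
  have hAY := le_normalizer_of_mem hY
  have hinf : ∀ {Z W : Subgroup G}, A ≤ normalizer (Z : Set G) → A ≤ normalizer (W : Set G) →
      A ≤ normalizer ((Z ⊓ W : Subgroup G) : Set G) := by
    intro Z W hZ hW
    exact le_normalizer_of_conj_mem fun a ha x hx =>
      ⟨conj_mem_of_le_normalizer hZ ha hx.1, conj_mem_of_le_normalizer hW ha hx.2⟩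
  have hcent : ∀ {a : G}, a ∈ A → A ≤ normalizer ((centralizer {a} : Subgroup G) : Set G) := by
    intro a ha
    apply le_normalizer_of_conj_mem
    intro b hb x hx
    have hb' : b ∈ centralizer ({a} : Set G) := mem_centralizer_singleton.mpr (hcomm a ha b hb)
    exact (centralizer {a}).mul_mem ((centralizer {a}).mul_mem hb' hx) ((centralizer {a}).inv_mem hb')
  have hKA : K ⊓ centralizer (A : Set G) ≤ X := (SignalizerMax.centralizer_inf_le hK).trans hCX
  -- general step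
  have step : ∀ (B K₁ : Subgroup G), B ≤ A → p ^ 2 ≤ Nat.card B → K₁ ≤ K → A ≤ normalizer (K₁ : Set G) →
      K₁ ⊓ centralizer (B : Set G) ≤ X →
      (∀ b ∈ B, b ≠ 1 → ((K₁ ⊓ centralizer {b} : Subgroup G) : Set G) =
        (((K₁ ⊓ X) ⊓ centralizer {b} : Subgroup G) : Set G) *
          (((K₁ ⊓ Y) ⊓ centralizer {b} : Subgroup G) : Set G)) →
      (K₁ : Set G) = ((K₁ ⊓ X : Subgroup G) : Set G) * ((K₁ ⊓ Y : Subgroup G) : Set G) := by
    intro B K₁ hBA hB2 hK₁ hAK₁ hC hfac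
    refine Cfsg.Agent.S1287.result p B K₁ (K₁ ⊓ X) (K₁ ⊓ Y) (isElementaryAbelian_mono hA hBA) hB2
      (fun hd => hK.2.1 (hd.trans (card_dvd_of_le hK₁))) (hBA.trans hAK₁) inf_le_left inf_le_left
      (hBA.trans (hinf hAK₁ hAX)) (hBA.trans (hinf hAK₁ hAY)) ?_ hfac
    exact (le_inf inf_le_left hC).trans Subgroup.le_normalizer
  -- the centralizers of points
  have hpoint : ∀ a ∈ A, a ≠ 1 → ((K ⊓ centralizer {a} : Subgroup G) : Set G) =
      (((K ⊓ centralizer {a}) ⊓ X : Subgroup G) : Set G) *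
        (((K ⊓ centralizer {a}) ⊓ Y : Subgroup G) : Set G) := by
    intro a ha ha1
    obtain ⟨B, hBA, hB2, hBsup, hBh⟩ := exists_complement hA hA3 ha ha1
    refine step B (K ⊓ centralizer {a}) hBA hB2.ge inf_le_left (hinf hAK (hcent ha)) ?_ ?_
    · refine le_trans ?_ hKA
      rintro x ⟨⟨hxK, hxa⟩, hxB⟩
      refine ⟨hxK, ?_⟩
      have h1 : A ≤ centralizer ({x} : Set G) := by
        rw [← hBsup, sup_le_iff, zpowers_le]
        refine ⟨fun y hy => mem_centralizer_singleton.mpr ?_, mem_centralizer_singleton.mpr ?_⟩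
        · exact (mem_centralizer_iff.mp hxB y hy).symm
        · exact (mem_centralizer_singleton.mp hxa).symm
      exact mem_centralizer_iff.mpr fun y hy => (mem_centralizer_singleton.mp (h1 hy)).symm
    · intro b hb hb1
      obtain ⟨hle, hidx⟩ := hBh b hb hb1
      have h1 : (K ⊓ centralizer {a}) ⊓ centralizer {b} ≤ Cfsg.signalizerInf (zpowers a ⊔ zpowers b) θ := by
        refine (inf_centralizer_zpowers_le le_rfl).trans ?_
        refine le_iInf fun z => ?_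
        refine le_trans (inf_le_inf_left _ (centralizer_le ?_)) (hK.2.2.2 z.1 (hle z.2.1) z.2.2)
        intro y hy
        rw [Set.mem_singleton_iff] at hy
        rw [hy]
        exact z.2.1
      have h2 := h _ hle hidx
      apply Set.Subset.antisymm
      · intro x hx
        rcases h2 with h2 | h2
        · exact ⟨x, ⟨⟨hx.1, h2 (h1 hx)⟩, hx.2⟩, 1, one_mem _, by simp⟩
        · exact ⟨1, one_mem _, x, ⟨⟨hx.1, h2 (h1 hx)⟩, hx.2⟩, by simp⟩
      · rintro _ ⟨x, hx, y, hy, rfl⟩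
        exact mul_mem (⟨hx.1.1, hx.2⟩ : x ∈ (K ⊓ centralizer {a}) ⊓ centralizer {b})
          (⟨hy.1.1, hy.2⟩ : y ∈ (K ⊓ centralizer {a}) ⊓ centralizer {b})
  refine step A K le_rfl hA2 le_rfl hAK hKA fun a ha ha1 => ?_
  have h1 : (K ⊓ X) ⊓ centralizer {a} = (K ⊓ centralizer {a}) ⊓ X := inf_right_comm _ _ _
  have h2 : (K ⊓ Y) ⊓ centralizer {a} = (K ⊓ centralizer {a}) ⊓ Y := inf_right_comm _ _ _
  rw [h1, h2]
  exact hpoint a ha ha1

/-- If a nontrivial member is normalised by all `θ(B)`, `B` a hyperplane, then a minimal counterexample is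
complete (contradiction). -/
theorem MinCounter.false_of_le_normalizer [Finite G] [hp : Fact p.Prime] (h : MinCounter p A θ)
    {U : Subgroup G} (hU : U ∈ Cfsg.signalizerFamily p A θ) (hU1 : U ≠ ⊥)
    (hn : ∀ B ≤ A, B.relIndex A = p → Cfsg.signalizerInf B θ ≤ normalizer (U : Set G)) : False := by
  obtain ⟨W, hW, -, hle⟩ := h.local_complete U hU hU1
  refine h.notComplete ⟨W, hW, fun a ha ha1 => ?_⟩
  have hA1 : A ≠ ⊥ := ne_bot_of_pow_le three_ne_zero h.card.ge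
  have h1 : θ a ≤ normalizer (U : Set G) :=
    (theta_le_iSup_hyperplane h.elem hA1 h.func ha ha1).trans (iSup_le fun B =>
      (theta_inf_centralizer_le_signalizerInf h.func B.2.1 ha ha1).trans (hn B.1 B.2.1 B.2.2))
  exact (le_inf le_rfl h1).trans (hle a ha ha1)

/-- **The permutable triple.** `X₁, X₂, X₃` members containing `⋂ θ` such that each `θ(B)`, `B` a
hyperplane, lies in two of them; `1 ≠ V ≤ X₂` a member normalised by `X₁`: impossible in a minimal
counterexample. -/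
theorem MinCounter.false_of_triple [Finite G] [hp : Fact p.Prime] (h : MinCounter p A θ)
    {X₁ X₂ X₃ V : Subgroup G} (hX₁ : X₁ ∈ Cfsg.signalizerFamily p A θ)
    (hX₂ : X₂ ∈ Cfsg.signalizerFamily p A θ) (hX₃ : X₃ ∈ Cfsg.signalizerFamily p A θ)
    (hC₁ : Cfsg.signalizerInf A θ ≤ X₁) (hC₂ : Cfsg.signalizerInf A θ ≤ X₂)
    (hcov : ∀ B ≤ A, B.relIndex A = p →
      (Cfsg.signalizerInf B θ ≤ X₁ ∧ Cfsg.signalizerInf B θ ≤ X₂) ∨
      (Cfsg.signalizerInf B θ ≤ X₁ ∧ Cfsg.signalizerInf B θ ≤ X₃) ∨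
      (Cfsg.signalizerInf B θ ≤ X₂ ∧ Cfsg.signalizerInf B θ ≤ X₃))
    (hV : V ∈ Cfsg.signalizerFamily p A θ) (hV1 : V ≠ ⊥) (hVX₂ : V ≤ X₂)
    (hX₁V : X₁ ≤ normalizer (V : Set G)) : False := by
  have f1 := factor_of_hyperplane h.elem h.card hX₂ hX₃ hC₂
    (fun B hB hBi => by rcases hcov B hB hBi with h | h | h <;> simp [h.1, h.2]) hX₁
  have f2 := factor_of_hyperplane h.elem h.card hX₁ hX₃ hC₁
    (fun B hB hBi => by rcases hcov B hB hBi with h | h | h <;> simp [h.1, h.2]) hX₂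
  have f3 := factor_of_hyperplane h.elem h.card hX₁ hX₂ hC₁
    (fun B hB hBi => by rcases hcov B hB hBi with h | h | h <;> simp [h.1, h.2]) hX₃
  -- inverse forms
  have inv_form : ∀ {K X Y : Subgroup G}, (K : Set G) = ((K ⊓ X : Subgroup G) : Set G) * ((K ⊓ Y : Subgroup G) : Set G) →
      ∀ g ∈ K, ∃ y ∈ K ⊓ Y, ∃ x ∈ K ⊓ X, y * x = g := by
    intro K X Y hK g hg
    have h1 : g⁻¹ ∈ (K : Set G) := K.inv_mem hg
    rw [hK] at h1
    obtain ⟨x, hx, y, hy, hxy⟩ := h1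
    refine ⟨y⁻¹, inv_mem hy, x⁻¹, inv_mem hx, ?_⟩
    have h2 : x * y = g⁻¹ := hxy
    rw [← mul_inv_rev, h2, inv_inv]
  set U : Subgroup G := ⨆ x : X₂, V.map (MulAut.conj (x : G)).toMonoidHom with hUdef
  have hmemU : ∀ x ∈ X₂, ∀ v ∈ V, x * v * x⁻¹ ∈ U := fun x hx v hv =>
    (le_iSup (fun x : X₂ => V.map (MulAut.conj (x : G)).toMonoidHom) ⟨x, hx⟩) ⟨v, hv, rfl⟩
  have hVU : V ≤ U := fun v hv => by simpa using hmemU 1 (one_mem _) v hv
  have hU1 : U ≠ ⊥ := fun h => hV1 (le_bot_iff.mp (h ▸ hVU))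
  have hUX₂ : U ≤ X₂ := by
    refine iSup_le fun x => ?_
    rintro _ ⟨v, hv, rfl⟩
    exact mul_mem (mul_mem x.2 (hVX₂ hv)) (inv_mem x.2)
  -- a group normalises `U` if it moves the generators into `U`
  have hnorm : ∀ {H : Subgroup G}, (∀ g ∈ H, ∀ x ∈ X₂, ∀ v ∈ V, g * (x * v * x⁻¹) * g⁻¹ ∈ U) →
      H ≤ normalizer (U : Set G) := by
    intro H hH
    apply le_normalizer_of_conj_mem
    intro g hg
    have h1 : U ≤ U.comap (MulAut.conj g).toMonoidHom := by
      conv_lhs => rw [hUdef]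
      refine iSup_le fun x => ?_
      rintro _ ⟨v, hv, rfl⟩
      exact hH g hg x x.2 v hv
    exact fun u hu => h1 hu
  have hAU : A ≤ normalizer (U : Set G) := by
    apply hnorm
    intro g hg x hx v hv
    have h1 : g * (x * v * x⁻¹) * g⁻¹ = (g * x * g⁻¹) * (g * v * g⁻¹) * (g * x * g⁻¹)⁻¹ := by group
    rw [h1]
    exact hmemU _ (conj_mem_of_le_normalizer (le_normalizer_of_mem hX₂) hg hx) _
      (conj_mem_of_le_normalizer (le_normalizer_of_mem hV) hg hv)
  have hX₂U : X₂ ≤ normalizer (U : Set G) := by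
    apply hnorm
    intro g hg x hx v hv
    have h1 : g * (x * v * x⁻¹) * g⁻¹ = (g * x) * v * (g * x)⁻¹ := by group
    rw [h1]
    exact hmemU _ (mul_mem hg hx) _ hv
  have hX₁U : X₁ ≤ normalizer (U : Set G) := by
    apply hnorm
    intro g hg x hx v hv
    obtain ⟨d13, hd13, d12, hd12, hg'⟩ := inv_form f1 g hg
    obtain ⟨e23, he23, e12, he12, he⟩ := inv_form f2 (d12 * x) (mul_mem hd12.2 hx)
    obtain ⟨f23, hf23, f13, hf13, hf⟩ := inv_form f3 (d13 * e23) (mul_mem hd13.2 he23.2)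
    have h1 : g * x = f23 * (f13 * e12) := by
      rw [← hg', mul_assoc, ← he, ← mul_assoc, ← hf, mul_assoc]
    have h2 : g * (x * v * x⁻¹) * g⁻¹ = (g * x) * v * (g * x)⁻¹ := by group
    have h3 : (f23 * (f13 * e12)) * v * (f23 * (f13 * e12))⁻¹ =
        f23 * ((f13 * e12) * v * (f13 * e12)⁻¹) * f23⁻¹ := by group
    rw [h2, h1, h3]
    exact hmemU _ hf23.2 _ (conj_mem_of_le_normalizer hX₁V (mul_mem hf13.2 he12.2) hv)
  have hUmem : U ∈ Cfsg.signalizerFamily p A θ := mem_of_le hX₂ hUX₂ hAU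
  refine MinCounter.false_of_le_normalizer h hUmem hU1 fun B hB hBi => ?_
  rcases hcov B hB hBi with h | h | h
  · exact h.1.trans hX₁U
  · exact h.1.trans hX₁U
  · exact h.1.trans hX₂U

/-- Three colours: if every `θ a` lies in one of three members `X₁, X₂, X₃ ≥ ⋂ θ` and `1 ≠ V ≤ X₂` is a
member normalised by `X₁`: impossible in a minimal counterexample. -/
theorem MinCounter.false_of_three_colours [Finite G] [hp : Fact p.Prime] (h : MinCounter p A θ)
    {X₁ X₂ X₃ V : Subgroup G} (hX₁ : X₁ ∈ Cfsg.signalizerFamily p A θ)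
    (hX₂ : X₂ ∈ Cfsg.signalizerFamily p A θ) (hX₃ : X₃ ∈ Cfsg.signalizerFamily p A θ)
    (hC₁ : Cfsg.signalizerInf A θ ≤ X₁) (hC₂ : Cfsg.signalizerInf A θ ≤ X₂)
    (hcol : ∀ a ∈ A, a ≠ 1 → θ a ≤ X₁ ∨ θ a ≤ X₂ ∨ θ a ≤ X₃)
    (hV : V ∈ Cfsg.signalizerFamily p A θ) (hV1 : V ≠ ⊥) (hVX₂ : V ≤ X₂)
    (hX₁V : X₁ ≤ normalizer (V : Set G)) : False := by
  refine MinCounter.false_of_triple h hX₁ hX₂ hX₃ hC₁ hC₂ ?_ hV hV1 hVX₂ hX₁V
  intro B hB hBi
  have hB2 : p ^ 2 ≤ Nat.card B := hyperplane_pow_le h.card.ge hB hBi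
  -- no monochromatic hyperplane
  have hmono : ∀ X ∈ Cfsg.signalizerFamily p A θ, ∃ b ∈ B, b ≠ 1 ∧ ¬ θ b ≤ X := by
    intro X hX
    by_contra hcon
    push Not at hcon
    exact h.notComplete (solComplete_of_noncyclic_le h.elem h.func hB hB2 hX hcon)
  have hin : ∀ {b : G}, b ∈ B → b ≠ 1 → ∀ {X : Subgroup G}, θ b ≤ X → Cfsg.signalizerInf B θ ≤ X :=
    fun hb hb1 _ hX => (signalizerInf_le hb hb1).trans hX
  obtain ⟨b, hb, hb1, hb3⟩ := hmono X₃ hX₃
  rcases hcol b (hB hb) hb1 with h1 | h1 | h1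
  · obtain ⟨c, hc, hc1, hc'⟩ := hmono X₁ hX₁
    rcases (hcol c (hB hc) hc1).resolve_left hc' with h2 | h2
    · exact Or.inl ⟨hin hb hb1 h1, hin hc hc1 h2⟩
    · exact Or.inr (Or.inl ⟨hin hb hb1 h1, hin hc hc1 h2⟩)
  · obtain ⟨c, hc, hc1, hc'⟩ := hmono X₂ hX₂
    rcases hcol c (hB hc) hc1 with h2 | h2 | h2
    · exact Or.inl ⟨hin hc hc1 h2, hin hb hb1 h1⟩
    · exact absurd h2 hc'
    · exact Or.inr (Or.inr ⟨hin hb hb1 h1, hin hc hc1 h2⟩)
  · exact absurd h1 hb3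

end Cfsg.Agent.SignalizersComponents.PermTriple
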