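import Mathlib
import Cfsg.Prelude.Def_Balance
import Cfsg.Agent.SignalizersComponents.MinCounterBasic
import Cfsg.Agent.SignalizersComponents.HallFunctor
import Cfsg.Agent.SignalizersComponents.LocalGlobal
import Cfsg.Agent.SignalizersComponents.PermTriple
import Cfsg.Agent.SignalizersComponents.RadicalEnd
import Cfsg.Agent.SignalizersComponents.CharNormal

set_option autoImplicit false
set_option linter.unusedSectionVars false

/-!
The radicals `W_π` of a solvable signalizer functor (steps (1)-(3) of the radical proof).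
-/

namespace Cfsg.Agent.SignalizersComponents.RadicalBasic

open Subgroup
open scoped commutatorElement
open Cfsg (piCoreOf)
open Cfsg.Agent.OddOrderLocal.PiCoreOf (piCoreOf_le piCoreOf_isPi le_piCoreOf le_normalizer_piCoreOf
  normalizer_le_normalizer_piCoreOf)
open Cfsg.Agent.SignalizersComponents.GoldschmidtGen (le_normalizer_of_conj_mem
  conj_mem_of_le_normalizer)
open Cfsg.Agent.SignalizersComponents.CoprimeGen
open Cfsg.Agent.SignalizersComponents.FunctorTools
open Cfsg.Agent.SignalizersComponents.FunctorInduction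
open Cfsg.Agent.SignalizersComponents.MinCounterBasic
open Cfsg.Agent.SignalizersComponents.InvariantHall (PiNum piNum_of_isPGroup)
open Cfsg.Agent.SignalizersComponents.HallFunctor
open Cfsg.Agent.SignalizersComponents.LocalGlobal (NoFixed)

universe u

variable {G : Type u} [Group G]

/-- `Φ_π(D) = ⋂_{1 ≠ d ∈ D} O_π(θ d)`. -/
def phi (π : Set ℕ) (θ : G → Subgroup G) (D : Subgroup G) : Subgroup G :=
  Cfsg.signalizerInf D fun d => piCoreOf π (θ d)

/-- The radical `W_π`, the join of the `Φ_π(D)`, `D` a hyperplane of `A`. -/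
def rad (r : ℕ) (π : Set ℕ) (A : Subgroup G) (θ : G → Subgroup G) : Subgroup G :=
  ⨆ D : {D : Subgroup G // D ≤ A ∧ D.relIndex A = r}, phi π θ (D : Subgroup G)

/-- `X_L`, the join of the `O_π(θ x)`, `1 ≠ x ∈ L`. -/
def hull (π : Set ℕ) (θ : G → Subgroup G) (L : Subgroup G) : Subgroup G :=
  ⨆ x : {x : G // x ∈ L ∧ x ≠ 1}, piCoreOf π (θ (x : G))

theorem mem_phi {π : Set ℕ} {θ : G → Subgroup G} {D : Subgroup G} {x : G} :
    x ∈ phi π θ D ↔ ∀ d ∈ D, d ≠ 1 → x ∈ piCoreOf π (θ d) := by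
  unfold phi Cfsg.signalizerInf
  rw [Subgroup.mem_iInf]
  exact ⟨fun h a ha ha1 => h ⟨a, ha, ha1⟩, fun h a => h a.1 a.2.1 a.2.2⟩

theorem phi_le {π : Set ℕ} {θ : G → Subgroup G} {D : Subgroup G} {d : G} (hd : d ∈ D)
    (hd1 : d ≠ 1) : phi π θ D ≤ piCoreOf π (θ d) := fun _ hx => mem_phi.mp hx d hd hd1

theorem phi_le_rad {r : ℕ} {π : Set ℕ} {A : Subgroup G} {θ : G → Subgroup G} {D : Subgroup G}
    (hD : D ≤ A) (hDr : D.relIndex A = r) : phi π θ D ≤ rad r π A θ :=
  le_iSup (fun D : {D : Subgroup G // D ≤ A ∧ D.relIndex A = r} => phi π θ (D : Subgroup G))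
    ⟨D, hD, hDr⟩

theorem le_hull {π : Set ℕ} {θ : G → Subgroup G} {L : Subgroup G} {x : G} (hx : x ∈ L)
    (hx1 : x ≠ 1) : piCoreOf π (θ x) ≤ hull π θ L :=
  le_iSup (fun x : {x : G // x ∈ L ∧ x ≠ 1} => piCoreOf π (θ (x : G))) ⟨x, hx, hx1⟩

variable [Finite G] {r : ℕ} [hr : Fact r.Prime] {A : Subgroup G} {θ : G → Subgroup G}

/-- Two hyperplanes of a group of order `r ^ 3` meet nontrivially. -/
theorem exists_mem_inf (hA : Cfsg.IsElementaryAbelian r A) (hA3 : r ^ 3 ≤ Nat.card A)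
    {D L : Subgroup G} (hD : D ≤ A) (hDr : D.relIndex A = r) (hL : L ≤ A)
    (hLr : L.relIndex A = r) : ∃ x, x ∈ D ∧ x ∈ L ∧ x ≠ 1 := by
  have h1 : (D ⊓ L).relIndex L ≤ r := by
    rw [inf_relIndex_right]
    have h2 : D.relIndex L ∣ D.relIndex A := by
      have hn : (D.subgroupOf A).Normal := by
        refine ⟨fun x hx g => ?_⟩
        have hc := comm_of_isElementaryAbelian hA g g.2 x x.2
        have h3 : g * x * g⁻¹ = x := by
          apply Subtype.ext
          show (g : G) * x * (g : G)⁻¹ = x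
          rw [hc]; group
        rwa [h3]
      have h4 := relIndex_dvd_index_of_normal (D.subgroupOf A) (L.subgroupOf A)
      rwa [relIndex_subgroupOf hL] at h4
    rw [hDr] at h2
    exact Nat.le_of_dvd hr.out.pos h2
  have h2 : r ^ 2 ≤ Nat.card L := hyperplane_pow_le hA3 hL hLr
  have h3 := Cfsg.Agent.OddOrderLocal.HallPi.card_mul_relIndex (inf_le_right : D ⊓ L ≤ L)
  have hne : D ⊓ L ≠ ⊥ := by
    intro hbot
    rw [hbot, Subgroup.card_bot, one_mul, ← hbot] at h3
    rw [← h3] at h2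
    have h4 : r ^ 2 ≤ r := h2.trans h1
    have h5 := hr.out.one_lt
    nlinarith
  obtain ⟨x, hx, hx1⟩ := (D ⊓ L).bot_or_exists_ne_one.resolve_left hne
  exact ⟨x, hx.1, hx.2, hx1⟩

section mem

/-- `O_π` of a member is a member. -/
theorem piCoreOf_mem {K : Subgroup G} (hK : K ∈ Cfsg.signalizerFamily r A θ) (π : Set ℕ) :
    piCoreOf π K ∈ Cfsg.signalizerFamily r A θ :=
  mem_of_le hK (piCoreOf_le π K)
    ((le_normalizer_of_mem hK).trans (normalizer_le_normalizer_piCoreOf π K))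

/-- `O_π(θ x)` lies in the closure of the Hall functor. -/
theorem piCoreOf_le_piClosure (hA : Cfsg.IsElementaryAbelian r A) (hA2 : r ^ 2 ≤ Nat.card A)
    (hθ : Cfsg.IsSolvableSignalizerFunctor r A θ) (π : Set ℕ) {x : G} (hx : x ∈ A) (hx1 : x ≠ 1) :
    piCoreOf π (θ x) ≤ piClosure π A θ :=
  le_piClosure hA hA2 hθ (piCoreOf_mem (SignalizerMax.theta_mem_family hθ hx hx1) π)
    ((signalizerInf_le hx hx1).trans (le_normalizer_piCoreOf π _)) (piCoreOf_isPi π _)

theorem hull_le_piClosure (hA : Cfsg.IsElementaryAbelian r A) (hA2 : r ^ 2 ≤ Nat.card A)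
    (hθ : Cfsg.IsSolvableSignalizerFunctor r A θ) (π : Set ℕ) {L : Subgroup G} (hL : L ≤ A) :
    hull π θ L ≤ piClosure π A θ :=
  iSup_le fun x => piCoreOf_le_piClosure hA hA2 hθ π (hL x.2.1) x.2.2

theorem le_normalizer_hull (hθ : Cfsg.IsSolvableSignalizerFunctor r A θ) (π : Set ℕ)
    {L : Subgroup G} (hL : L ≤ A) : A ≤ normalizer (hull π θ L : Set G) :=
  iSup_le_normalizer _ fun x =>
    (theta_le_normalizer hθ (hL x.2.1) x.2.2).trans (normalizer_le_normalizer_piCoreOf π _)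

/-- `θ(L)` normalises `X_L`. -/
theorem signalizerInf_le_normalizer_hull (π : Set ℕ) {L : Subgroup G} :
    Cfsg.signalizerInf L θ ≤ normalizer (hull π θ L : Set G) :=
  iSup_le_normalizer _ fun x => (signalizerInf_le x.2.1 x.2.2).trans (le_normalizer_piCoreOf π _)

/-- `W_π ≤ X_L`. -/
theorem rad_le_hull (hA : Cfsg.IsElementaryAbelian r A) (hA3 : r ^ 3 ≤ Nat.card A) (π : Set ℕ)
    {L : Subgroup G} (hL : L ≤ A) (hLr : L.relIndex A = r) : rad r π A θ ≤ hull π θ L := by
  refine iSup_le fun D => ?_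
  obtain ⟨x, hxD, hxL, hx1⟩ := exists_mem_inf hA hA3 D.2.1 D.2.2 hL hLr
  exact (phi_le hxD hx1).trans (le_hull hxL hx1)

theorem exists_hyperplane (hA : Cfsg.IsElementaryAbelian r A) (hA1 : A ≠ ⊥) :
    ∃ L ≤ A, L.relIndex A = r := by
  obtain ⟨n, hn⟩ := IsPGroup.iff_card.mp (isPGroup_of_isElementaryAbelian hA)
  have hn0 : n ≠ 0 := by
    rintro rfl
    rw [pow_zero] at hn
    exact hA1 (Subgroup.card_eq_one.mp hn)
  obtain ⟨m, rfl⟩ := Nat.exists_eq_succ_of_ne_zero hn0
  obtain ⟨L, hL⟩ := Sylow.exists_subgroup_card_pow_prime (G := A) r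
    (n := m) (by rw [hn]; exact pow_dvd_pow _ (Nat.le_succ m))
  refine ⟨L.map A.subtype, map_subtype_le L, ?_⟩
  have h1 := Cfsg.Agent.OddOrderLocal.HallPi.card_mul_relIndex (map_subtype_le L)
  rw [Subgroup.card_map_of_injective A.subtype_injective, hL, hn, Nat.succ_eq_add_one, pow_succ] at h1
  exact Nat.eq_of_mul_eq_mul_left (pow_pos hr.out.pos m) h1

theorem le_normalizer_phi (hθ : Cfsg.IsSolvableSignalizerFunctor r A θ) (π : Set ℕ)
    {D : Subgroup G} (hD : D ≤ A) : A ≤ normalizer (phi π θ D : Set G) := by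
  apply le_normalizer_of_conj_mem
  intro b hb x hx
  rw [mem_phi] at hx ⊢
  intro d hd hd1
  exact conj_mem_of_le_normalizer ((theta_le_normalizer hθ (hD hd) hd1).trans
    (normalizer_le_normalizer_piCoreOf π _)) hb (hx d hd hd1)

theorem signalizerInf_le_normalizer_phi (π : Set ℕ) {D : Subgroup G} :
    Cfsg.signalizerInf D θ ≤ normalizer (phi π θ D : Set G) := by
  apply le_normalizer_of_conj_mem
  intro b hb x hx
  rw [mem_phi] at hx ⊢
  intro d hd hd1
  exact conj_mem_of_le_normalizer (le_normalizer_piCoreOf π _) (signalizerInf_le hd hd1 hb)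
    (hx d hd hd1)

theorem le_normalizer_rad (hθ : Cfsg.IsSolvableSignalizerFunctor r A θ) (π : Set ℕ) :
    A ≤ normalizer (rad r π A θ : Set G) :=
  iSup_le_normalizer _ fun D => le_normalizer_phi hθ π D.2.1

/-- `⋂ θ a` normalises `W_π`. -/
theorem signalizerInf_le_normalizer_rad (π : Set ℕ) :
    Cfsg.signalizerInf A θ ≤ normalizer (rad r π A θ : Set G) := by
  refine iSup_le_normalizer _ fun D => le_trans ?_ (signalizerInf_le_normalizer_phi π)
  exact le_iInf fun x => signalizerInf_le (D.2.1 x.2.1) x.2.2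

variable (hA : Cfsg.IsElementaryAbelian r A) (hA3 : r ^ 3 ≤ Nat.card A)
  (hθ : Cfsg.IsSolvableSignalizerFunctor r A θ) {π : Set ℕ}
  (hc : SolComplete r A (hallFunctor π A θ))

include hA hA3 hθ hc

theorem hull_mem {L : Subgroup G} (hL : L ≤ A) : hull π θ L ∈ Cfsg.signalizerFamily r A θ :=
  mem_of_le (piClosure_mem hA hθ hc) (hull_le_piClosure hA
    ((Nat.pow_le_pow_right hr.out.pos (by norm_num)).trans hA3) hθ π hL) (le_normalizer_hull hθ π hL)

theorem hull_piNum {L : Subgroup G} (hL : L ≤ A) : PiNum π (hull π θ L) :=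
  (piClosure_piNum hA ((Nat.pow_le_pow_right hr.out.pos (by norm_num)).trans hA3) hθ hc).mono
    (hull_le_piClosure hA ((Nat.pow_le_pow_right hr.out.pos (by norm_num)).trans hA3) hθ π hL)

theorem rad_mem : rad r π A θ ∈ Cfsg.signalizerFamily r A θ := by
  obtain ⟨L, hL, hLr⟩ := exists_hyperplane hA (ne_bot_of_pow_le three_ne_zero hA3)
  exact mem_of_le (hull_mem hA hA3 hθ hc hL) (rad_le_hull hA hA3 π hL hLr) (le_normalizer_rad hθ π)

theorem rad_piNum : PiNum π (rad r π A θ) := by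
  obtain ⟨L, hL, hLr⟩ := exists_hyperplane hA (ne_bot_of_pow_le three_ne_zero hA3)
  exact (hull_piNum hA hA3 hθ hc hL).mono (rad_le_hull hA hA3 π hL hLr)

/-- **The radical property**: `W_π ∩ K ≤ O_π(K)` for all members `K`. -/
theorem rad_inf_le {K : Subgroup G} (hK : K ∈ Cfsg.signalizerFamily r A θ) :
    rad r π A θ ⊓ K ≤ piCoreOf π K := by
  have hA2 : r ^ 2 ≤ Nat.card A := (Nat.pow_le_pow_right hr.out.pos (by norm_num)).trans hA3
  refine LocalGlobal.le_piCoreOf_of_forall inf_le_right fun q hq hqπ hqK => ?_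
  have : Fact q.Prime := ⟨hq⟩
  have hUq : ¬ q ∣ Nat.card ↥(rad r π A θ ⊓ K) := fun hd =>
    hqπ (rad_piNum hA hA3 hθ hc q hq (hd.trans (card_dvd_of_le inf_le_left)))
  have h1 := Cfsg.Agent.S1288.result r A K hA hA2 hK.2.1 hK.1 (le_normalizer_of_mem hK) q hqK
    (rad r π A θ ⊓ K) inf_le_right hUq (by
      intro B hB hBr hd
      apply hqπ
      refine hull_piNum hA hA3 hθ hc hB q hq (hd.trans (card_dvd_of_le ?_))
      have hKB : K ⊓ centralizer (B : Set G) ≤ Cfsg.signalizerInf B θ := by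
        refine le_iInf fun b => le_trans (inf_le_inf_left _ (centralizer_le ?_))
          (hK.2.2.2 b.1 (hB b.2.1) b.2.2)
        intro x hx
        rw [Set.mem_singleton_iff.mp hx]
        exact b.2.1
      exact (commutator_mono (inf_le_left.trans (rad_le_hull hA hA3 π hB hBr)) le_rfl).trans
        (Cfsg.Agent.Lib.CoprimeCommutator.commutator_le_left
          (hKB.trans (signalizerInf_le_normalizer_hull π))))
  rw [Cfsg.Agent.OddOrderLocal.UniqZL.map_pPrimeCore_eq, ← CharNormal.piCoreOf_compl_eq hq] at h1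
  exact h1

/-- `C_{W_π}(D) = Φ_π(D)` for a hyperplane `D`. -/
theorem rad_inf_centralizer {D : Subgroup G} (hD : D ≤ A) (hDr : D.relIndex A = r) :
    rad r π A θ ⊓ centralizer (D : Set G) = phi π θ D := by
  apply le_antisymm
  · intro x hx
    rw [mem_phi]
    intro d hd hd1
    have hdA := hD hd
    have h1 : x ∈ θ d := by
      refine (rad_mem hA hA3 hθ hc).2.2.2 d hdA hd1 ⟨hx.1, ?_⟩
      exact centralizer_le (by simpa using hd) hx.2
    exact rad_inf_le hA hA3 hθ hc (SignalizerMax.theta_mem_family hθ hdA hd1) ⟨hx.1, h1⟩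
  · refine le_inf (phi_le_rad hD hDr) ?_
    intro x hx
    rw [mem_centralizer_iff]
    intro d hd
    by_cases hd1 : d = 1
    · rw [hd1]; simp
    · have h1 : x ∈ θ d := piCoreOf_le π _ (mem_phi.mp hx d hd hd1)
      exact mem_centralizer_singleton.mp (hθ.1.1 d (hD hd) hd1 h1)

/-- Step (2): `⁅O_π(K), a⁆ ≤ W_π` for all members `K ≥ θ a`. -/
theorem commutator_le_rad (hNF : NoFixed.{u} r π) {a : G} (ha : a ∈ A) (ha1 : a ≠ 1)
    {K : Subgroup G} (hK : K ∈ Cfsg.signalizerFamily r A θ) (hθK : θ a ≤ K) :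
    ⁅piCoreOf π K, zpowers a⁆ ≤ rad r π A θ := by
  have hcomm := comm_of_isElementaryAbelian hA
  have hKm := piCoreOf_mem hK π
  have haA : zpowers a ≤ A := by rwa [zpowers_le]
  refine (commutator_le_iSup_hyperplane hA (ne_bot_of_pow_le three_ne_zero hA3) haA hKm.1 hKm.2.1
    (le_normalizer_of_mem hKm)).trans (iSup_le fun B => ?_)
  refine le_trans ?_ (phi_le_rad B.2.1 B.2.2)
  refine le_iInf fun d => ?_
  have hdA : d.1 ∈ A := B.2.1 d.2.1
  have hAK := le_normalizer_of_mem hK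
  have hθd := SignalizerMax.theta_mem_family hθ hdA d.2.2
  set H : Subgroup G := K ⊓ centralizer {d.1} with hH
  have hAC : A ≤ normalizer ((centralizer {d.1} : Subgroup G) : Set G) :=
    le_normalizer_centralizer_singleton fun x hx => le_centralizer_singleton hA hx hdA
  have hLG := LocalGlobal.main hNF (K := θ d.1) (H := H) (a := a) hθd.1 hθd.2.1 (hA.2 a ha)
    (le_normalizer_of_mem hθd ha) (hK.2.2.2 d.1 hdA d.2.2)
    (HallFunctor.le_normalizer_inf hAK hAC ha) (by
      rintro x ⟨hx, hxa⟩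
      exact ⟨hθK (hθ.1.2.2.2 d.1 hdA d.2.2 a ha ha1 ⟨hx, hxa⟩), hθ.1.1 d.1 hdA d.2.2 hx⟩)
  refine le_trans (commutator_mono ?_ le_rfl) hLG
  have h1 : piCoreOf π K ⊓ centralizer (B.1 : Set G) ≤ piCoreOf π K ⊓ centralizer {d.1} :=
    inf_le_inf_left _ (centralizer_le (by simpa using d.2.1))
  refine h1.trans (le_piCoreOf (inf_le_inf_right _ (piCoreOf_le π K)) ?_ ?_)
  · exact HallFunctor.le_normalizer_inf (inf_le_left.trans (le_normalizer_piCoreOf π K))
      (inf_le_right.trans le_normalizer)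
  · exact PiNum.mono (Y := piCoreOf π K) (piCoreOf_isPi π K) inf_le_left

end mem

end Cfsg.Agent.SignalizersComponents.RadicalBasic
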