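import Mathlib
import Cfsg.Prelude.Def_Balance
import Cfsg.Agent.SignalizersComponents.MinCounterBasic
import Cfsg.Agent.SignalizersComponents.HallFunctor
import Cfsg.Agent.SignalizersComponents.LocalGlobal
import Cfsg.Agent.SignalizersComponents.PermTriple
import Cfsg.Agent.SignalizersComponents.RadicalEnd
import Cfsg.Agent.SignalizersComponents.RadicalBasic
import Cfsg.Agent.SignalizersComponents.CharNormal
import Cfsg.Agent.SignalizersComponents.FixedPointLemma
import Cfsg.Agent.Blocks.SylowIn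

set_option autoImplicit false
set_option linter.unusedSectionVars false

/-!
The short proof of the solvable signalizer functor theorem: for `T ≤ G` containing `C = ⋂ θ a` let
`pj T` be the join of the `p`-members normalised by `T`; again such a member. Steps (1), (2), (3).
-/

namespace Cfsg.Agent.SignalizersComponents.ThetaRadical

open Subgroup
open scoped commutatorElement
open Cfsg (piCoreOf)
open Cfsg.Agent.OddOrderLocal.PiCoreOf (piCoreOf_le piCoreOf_isPi le_piCoreOf le_normalizer_piCoreOf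
  normalizer_le_normalizer_piCoreOf isPi_singleton_iff)
open Cfsg.Agent.SignalizersComponents.GoldschmidtGen (le_normalizer_of_conj_mem
  conj_mem_of_le_normalizer)
open Cfsg.Agent.SignalizersComponents.CoprimeGen
open Cfsg.Agent.SignalizersComponents.FunctorTools
open Cfsg.Agent.SignalizersComponents.FunctorInduction
open Cfsg.Agent.SignalizersComponents.MinCounterBasic
open Cfsg.Agent.SignalizersComponents.InvariantHall (PiNum piNum_of_isPGroup)
open Cfsg.Agent.SignalizersComponents.SignalizerMax (IsMaxQ)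
open Cfsg.Agent.SignalizersComponents.FixedPointLemma

universe u

section gen

variable {G : Type u} [Group G]

/-- The elements commuting with all of `X` modulo `N`. -/
def fixMod (N X : Subgroup G) : Subgroup G where
  carrier := {v | v ∈ normalizer (N : Set G) ∧ ∀ x ∈ X, ⁅x, v⁆ ∈ N}
  one_mem' := ⟨one_mem _, fun x _ => by rw [commutatorElement_one_right]; exact one_mem _⟩
  mul_mem' := by
    rintro v w ⟨hv, hv'⟩ ⟨hw, hw'⟩
    refine ⟨mul_mem hv hw, fun x hx => ?_⟩
    have h1 : ⁅x, v * w⁆ = ⁅x, v⁆ * (v * ⁅x, w⁆ * v⁻¹) := by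
      simp only [commutatorElement_def]; group
    rw [h1]
    exact N.mul_mem (hv' x hx) ((mem_normalizer_iff.mp hv _).mp (hw' x hx))
  inv_mem' := by
    rintro v ⟨hv, hv'⟩
    refine ⟨inv_mem hv, fun x hx => ?_⟩
    have h1 : ⁅x, v⁻¹⁆ = v⁻¹ * ⁅x, v⁆⁻¹ * v⁻¹⁻¹ := by
      simp only [commutatorElement_def]; group
    rw [h1]
    exact (mem_normalizer_iff.mp (inv_mem hv) _).mp (N.inv_mem (hv' x hx))

theorem mem_fixMod {N X : Subgroup G} {v : G} :
    v ∈ fixMod N X ↔ v ∈ normalizer (N : Set G) ∧ ∀ x ∈ X, ⁅x, v⁆ ∈ N := Iff.rfl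

theorem le_normalizer_iInf {ι : Sort*} {X : Subgroup G} (S : ι → Subgroup G)
    (h : ∀ i, X ≤ normalizer (S i : Set G)) : X ≤ normalizer ((⨅ i, S i : Subgroup G) : Set G) := by
  apply le_normalizer_of_conj_mem
  intro a ha x hx
  rw [Subgroup.mem_iInf] at hx ⊢
  exact fun i => conj_mem_of_le_normalizer (h i) ha (hx i)

/-- In a `p`-group `X`, a proper normal subgroup `Y` is proper in `{x ∈ X | ⁅x, X⁆ ≤ Y}`. -/
theorem exists_mem_centre_mod [Finite G] {p : ℕ} [hp : Fact p.Prime] {X Y : Subgroup G}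
    (hX : IsPGroup p X) (hYX : Y ≤ X) (hXY : X ≤ normalizer (Y : Set G)) (hne : Y ≠ X) :
    ∃ z ∈ X, z ∉ Y ∧ ∀ x ∈ X, ⁅z, x⁆ ∈ Y := by
  have hn : (Y.subgroupOf X).Normal := normal_subgroupOf_of_le_normalizer hXY
  have hq : IsPGroup p (X ⧸ Y.subgroupOf X) := hX.to_quotient _
  have hnt : Nontrivial (X ⧸ Y.subgroupOf X) := by
    rw [← not_subsingleton_iff_nontrivial]
    intro h
    have h1 := QuotientGroup.subgroup_eq_top_of_subsingleton _ h
    rw [subgroupOf_eq_top] at h1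
    exact hne (le_antisymm hYX h1)
  have hnt2 := hq.center_nontrivial
  obtain ⟨⟨z, hz⟩, hz1⟩ := exists_ne (1 : Subgroup.center (X ⧸ Y.subgroupOf X))
  obtain ⟨z, rfl⟩ := QuotientGroup.mk_surjective z
  refine ⟨z, z.2, ?_, ?_⟩
  · intro h
    apply hz1
    apply Subtype.ext
    exact (QuotientGroup.eq_one_iff z).mpr h
  · intro x hx
    have h1 := (Subgroup.mem_center_iff.mp hz) (QuotientGroup.mk ⟨x, hx⟩)
    have h2 : ((⁅z, ⟨x, hx⟩⁆ : X) : X ⧸ Y.subgroupOf X) = 1 := by
      show QuotientGroup.mk' (Y.subgroupOf X) ⁅z, ⟨x, hx⟩⁆ = 1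
      rw [map_commutatorElement, commutatorElement_eq_one_iff_mul_comm]
      exact h1.symm
    have h3 : ⁅z, (⟨x, hx⟩ : X)⁆ ∈ Y.subgroupOf X := (QuotientGroup.eq_one_iff _).mp h2
    exact h3

/-- the join of the `p`-members normalised by `T` -/
def pj (r p : ℕ) (A : Subgroup G) (θ : G → Subgroup G) (T : Subgroup G) : Subgroup G :=
  ⨆ X : {X : Subgroup G // X ∈ Cfsg.signalizerFamily r A θ ∧ IsPGroup p X ∧
    T ≤ normalizer (X : Set G)}, (X : Subgroup G)

variable {r p : ℕ} {A : Subgroup G} {θ : G → Subgroup G}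

theorem le_pj {T X : Subgroup G} (hX : X ∈ Cfsg.signalizerFamily r A θ) (hXp : IsPGroup p X)
    (hT : T ≤ normalizer (X : Set G)) : X ≤ pj r p A θ T :=
  le_iSup (fun X : {X : Subgroup G // X ∈ Cfsg.signalizerFamily r A θ ∧ IsPGroup p X ∧
    T ≤ normalizer (X : Set G)} => (X : Subgroup G)) ⟨X, hX, hXp, hT⟩

theorem le_normalizer_pj (T : Subgroup G) : T ≤ normalizer (pj r p A θ T : Set G) :=
  iSup_le_normalizer _ fun X => X.2.2.2

theorem A_le_normalizer_pj (T : Subgroup G) : A ≤ normalizer (pj r p A θ T : Set G) :=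
  iSup_le_normalizer _ fun X => le_normalizer_of_mem X.2.1

theorem pj_mono {T T' : Subgroup G} (h : T ≤ T') : pj r p A θ T' ≤ pj r p A θ T :=
  iSup_le fun X => le_pj X.2.1 X.2.2.1 (h.trans X.2.2.2)

end gen

section step

variable {G : Type u} [Group G] [Finite G] {r : ℕ} [hr : Fact r.Prime] {A : Subgroup G}
  {θ : G → Subgroup G} {p : ℕ} [hp : Fact p.Prime]

section base

variable (hA : Cfsg.IsElementaryAbelian r A) (hA3 : r ^ 3 ≤ Nat.card A)
  (hθ : Cfsg.IsSolvableSignalizerFunctor r A θ)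

include hA hA3 hθ

theorem bot_mem : (⊥ : Subgroup G) ∈ Cfsg.signalizerFamily r A θ := by
  obtain ⟨a, ha, ha1⟩ := A.bot_or_exists_ne_one.resolve_left (ne_bot_of_pow_le three_ne_zero hA3)
  refine mem_of_le (SignalizerMax.theta_mem_family hθ ha ha1) bot_le ?_
  apply le_normalizer_of_conj_mem
  intro b _ x hx
  rw [mem_bot] at hx ⊢
  rw [hx]
  group

theorem exists_isMaxQ (p : ℕ) [Fact p.Prime] : ∃ P, IsMaxQ r A θ p P := by
  obtain ⟨P, hP, -⟩ := SignalizerMax.exists_isMaxQ_ge (bot_mem hA hA3 hθ) (q := p)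
    (IsPGroup.of_bot)
  exact ⟨P, hP⟩

theorem pj_le_isMaxQ {T : Subgroup G} (hT : Cfsg.signalizerInf A θ ≤ T) {P : Subgroup G}
    (hP : IsMaxQ r A θ p P) : pj r p A θ T ≤ P :=
  iSup_le fun X => RadicalEnd.le_of_isMaxQ hA hA3 hθ X.2.1 X.2.2.1 (hT.trans X.2.2.2) hP

theorem pj_mem {T : Subgroup G} (hT : Cfsg.signalizerInf A θ ≤ T) :
    pj r p A θ T ∈ Cfsg.signalizerFamily r A θ := by
  obtain ⟨P, hP⟩ := exists_isMaxQ hA hA3 hθ p
  exact mem_of_le hP.1 (pj_le_isMaxQ hA hA3 hθ hT hP) (A_le_normalizer_pj T)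

theorem isPGroup_pj {T : Subgroup G} (hT : Cfsg.signalizerInf A θ ≤ T) :
    IsPGroup p (pj r p A θ T) := by
  obtain ⟨P, hP⟩ := exists_isMaxQ hA hA3 hθ p
  exact hP.2.1.to_le (pj_le_isMaxQ hA hA3 hθ hT hP)

theorem inf_le_inf {B : Subgroup G} (hB : B ≤ A) :
    Cfsg.signalizerInf A θ ≤ Cfsg.signalizerInf B θ :=
  le_iInf fun b => signalizerInf_le (hB b.2.1) b.2.2

/-- A `p`-subgroup `U` of the member `K` such that each `C_K(B)` normalises a `p`-group containing `U`
lies in `O_p(K)`. -/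
theorem le_piCoreOf_of_hyperplane {K U : Subgroup G} (hK : K ∈ Cfsg.signalizerFamily r A θ)
    (hUK : U ≤ K) (hU : IsPGroup p U)
    (h : ∀ B ≤ A, B.relIndex A = r → ∃ Y : Subgroup G, IsPGroup p Y ∧ U ≤ Y ∧
      K ⊓ centralizer (B : Set G) ≤ normalizer (Y : Set G)) : U ≤ piCoreOf {p} K := by
  have hA2 : r ^ 2 ≤ Nat.card A := (Nat.pow_le_pow_right hr.out.pos (by norm_num)).trans hA3
  have hnd : ∀ {Y : Subgroup G} {q : ℕ}, q.Prime → q ∉ ({p} : Set ℕ) → IsPGroup p Y →
      ¬ q ∣ Nat.card Y := by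
    intro Y q hq hqp hY hd
    obtain ⟨n, hn⟩ := IsPGroup.iff_card.mp hY
    rw [hn] at hd
    exact hqp ((Nat.prime_dvd_prime_iff_eq hq hp.out).mp (hq.dvd_of_dvd_pow hd))
  refine LocalGlobal.le_piCoreOf_of_forall hUK fun q hq hqp hqK => ?_
  have : Fact q.Prime := ⟨hq⟩
  have h1 := Cfsg.Agent.S1288.result r A K hA hA2 hK.2.1 hK.1 (le_normalizer_of_mem hK) q hqK
    U hUK (hnd hq hqp hU) (by
      intro B hB hBr
      obtain ⟨Y, hY, hUY, hn⟩ := h B hB hBr
      exact hnd hq hqp (hY.to_le ((commutator_mono hUY le_rfl).trans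
        (Cfsg.Agent.Lib.CoprimeCommutator.commutator_le_left hn))))
  rw [Cfsg.Agent.OddOrderLocal.UniqZL.map_pPrimeCore_eq, ← CharNormal.piCoreOf_compl_eq hq] at h1
  exact h1

theorem inf_centralizer_le_signalizerInf {K : Subgroup G} (hK : K ∈ Cfsg.signalizerFamily r A θ)
    {B : Subgroup G} (hB : B ≤ A) : K ⊓ centralizer (B : Set G) ≤ Cfsg.signalizerInf B θ := by
  refine le_iInf fun b => le_trans (inf_le_inf_left _ (centralizer_le ?_))
    (hK.2.2.2 b.1 (hB b.2.1) b.2.2)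
  intro x hx
  rw [Set.mem_singleton_iff.mp hx]
  exact b.2.1

/-- For every hyperplane `B` there is a hyperplane `B' ∋ a` with `C(B) ∩ C(a) ≤ C(B')`. -/
theorem exists_hyperplane_mem {a : G} (ha : a ∈ A) {B : Subgroup G} (hB : B ≤ A)
    (hBr : B.relIndex A = r) : ∃ B' ≤ A, B'.relIndex A = r ∧ a ∈ B' ∧
      centralizer (B : Set G) ⊓ centralizer {a} ≤ centralizer (B' : Set G) := by
  by_cases haB : a ∈ B
  · exact ⟨B, hB, hBr, haB, inf_le_left⟩
  · -- `B ⊔ ⟨a⟩ = A`
    have hcomm := comm_of_isElementaryAbelian hA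
    have hsup : B ⊔ zpowers a = A := by
      have h1 : B ⊔ zpowers a ≤ A := sup_le hB (by rwa [zpowers_le])
      have h2 := Subgroup.relIndex_mul_relIndex B (B ⊔ zpowers a) A le_sup_left h1
      rw [hBr] at h2
      rcases (Nat.dvd_prime hr.out).mp (Dvd.intro_left _ h2) with h3 | h3
      · exact le_antisymm h1 (relIndex_eq_one.mp h3)
      · exfalso
        rw [h3] at h2
        have h4 : B.relIndex (B ⊔ zpowers a) = 1 := by
          have := hr.out.pos
          nlinarith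
        exact haB (relIndex_eq_one.mp h4 (mem_sup_right (mem_zpowers a)))
    -- a hyperplane containing `a`
    obtain ⟨n, hn⟩ := IsPGroup.iff_card.mp (isPGroup_of_isElementaryAbelian hA)
    obtain ⟨m, rfl⟩ : ∃ m, n = m + 1 := by
      refine Nat.exists_eq_succ_of_ne_zero ?_
      rintro rfl
      rw [hn] at hA3
      have := Nat.one_lt_pow (n := 3) (by norm_num) hr.out.one_lt
      rw [pow_zero] at hA3
      omega
    obtain ⟨B', hB', hB'r, haB'⟩ : ∃ B' ≤ A, B'.relIndex A = r ∧ a ∈ B' := by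
      obtain ⟨k, hk, hk2⟩ : ∃ k ≤ 1, Nat.card (zpowers (⟨a, ha⟩ : A)) = r ^ k := by
        rw [Nat.card_zpowers]
        have h1 : orderOf (⟨a, ha⟩ : A) ∣ r ^ 1 := by
          rw [pow_one]
          exact orderOf_dvd_of_pow_eq_one (Subtype.ext (hA.2 a ha))
        exact (Nat.dvd_prime_pow hr.out).mp h1
      have hm2 : k ≤ m := by
        have h1 : r ^ 3 ≤ r ^ (m + 1) := by rw [← hn]; exact hA3
        have h2 := (Nat.pow_le_pow_iff_right hr.out.one_lt).mp h1
        omega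
      obtain ⟨L, hL, hLk⟩ := Sylow.exists_subgroup_card_pow_prime_le (G := A) r
        (by rw [hn]; exact pow_dvd_pow _ (Nat.le_succ m)) _ hk2 hm2
      refine ⟨L.map A.subtype, map_subtype_le L, ?_, ⟨⟨a, ha⟩, hLk (mem_zpowers _), rfl⟩⟩
      have h1 := Cfsg.Agent.OddOrderLocal.HallPi.card_mul_relIndex (map_subtype_le L)
      rw [Subgroup.card_map_of_injective A.subtype_injective, hL, hn, pow_succ] at h1
      exact Nat.eq_of_mul_eq_mul_left (pow_pos hr.out.pos m) h1
    refine ⟨B', hB', hB'r, haB', ?_⟩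
    intro x hx
    have h1 : x ∈ centralizer ((B ⊔ zpowers a : Subgroup G) : Set G) := by
      rw [← zpowers_le, Subgroup.le_centralizer_iff]
      refine sup_le ?_ ?_
      · rw [Subgroup.le_centralizer_iff, zpowers_le]
        exact hx.1
      · rw [Subgroup.le_centralizer_iff, zpowers_le, centralizer_zpowers]
        exact hx.2
    exact centralizer_le (by rw [hsup]; exact hB') h1

/-- Generation by the centralizers of the hyperplanes containing `a`. -/
theorem le_iSup_hyperplane_mem {a : G} (ha : a ∈ A) {Z : Subgroup G} (hZr : ¬ r ∣ Nat.card Z)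
    (hAZ : A ≤ normalizer (Z : Set G)) (hZa : Z ≤ centralizer {a}) :
    Z ≤ ⨆ B : {B : Subgroup G // B ≤ A ∧ B.relIndex A = r ∧ a ∈ B},
      Z ⊓ centralizer ((B : Subgroup G) : Set G) := by
  conv_lhs => rw [← Cfsg.Agent.Lib.CoprimeHyperplane.iSup_centralizer_hyperplane hA
    (ne_bot_of_pow_le three_ne_zero hA3) hZr hAZ]
  refine iSup_le fun B => ?_
  obtain ⟨B', hB', hB'r, haB', hle⟩ := exists_hyperplane_mem hA hA3 hθ ha B.2.1 B.2.2
  refine le_trans ?_ (le_iSup (fun B : {B : Subgroup G // B ≤ A ∧ B.relIndex A = r ∧ a ∈ B} =>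
    Z ⊓ centralizer ((B : Subgroup G) : Set G)) ⟨B', hB', hB'r, haB'⟩)
  exact le_inf inf_le_left ((le_inf inf_le_right (inf_le_left.trans hZa)).trans hle)

end base

/-- `P_B`, `B` a subgroup of `A`. -/
def PB (r p : ℕ) (A : Subgroup G) (θ : G → Subgroup G) (B : Subgroup G) : Subgroup G :=
  pj r p A θ (Cfsg.signalizerInf B θ)

/-- the intersection of the `P_B`, `B` a hyperplane containing `a` -/
def capP (r p : ℕ) (A : Subgroup G) (θ : G → Subgroup G) (a : G) : Subgroup G :=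
  ⨅ B : {B : Subgroup G // B ≤ A ∧ B.relIndex A = r ∧ a ∈ B}, PB r p A θ (B : Subgroup G)

section base2

variable (hA : Cfsg.IsElementaryAbelian r A) (hA3 : r ^ 3 ≤ Nat.card A)
  (hθ : Cfsg.IsSolvableSignalizerFunctor r A θ)

include hA hA3 hθ

theorem PB_mem {B : Subgroup G} (hB : B ≤ A) : PB r p A θ B ∈ Cfsg.signalizerFamily r A θ :=
  pj_mem hA hA3 hθ (inf_le_inf hA hA3 hθ hB)

theorem isPGroup_PB {B : Subgroup G} (hB : B ≤ A) : IsPGroup p (PB r p A θ B) :=
  isPGroup_pj hA hA3 hθ (inf_le_inf hA hA3 hθ hB)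

theorem pj_theta_mem {a : G} (ha : a ∈ A) (ha1 : a ≠ 1) :
    pj r p A θ (θ a) ∈ Cfsg.signalizerFamily r A θ :=
  pj_mem hA hA3 hθ (signalizerInf_le ha ha1)

theorem isPGroup_pj_theta {a : G} (ha : a ∈ A) (ha1 : a ≠ 1) : IsPGroup p (pj r p A θ (θ a)) :=
  isPGroup_pj hA hA3 hθ (signalizerInf_le ha ha1)

theorem pj_theta_le_PB {a : G} (ha1 : a ≠ 1) {B : Subgroup G} (haB : a ∈ B) :
    pj r p A θ (θ a) ≤ PB r p A θ B := pj_mono (signalizerInf_le haB ha1)

theorem exists_hyperplane_mem' {a : G} (ha : a ∈ A) : ∃ B ≤ A, B.relIndex A = r ∧ a ∈ B := by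
  obtain ⟨L, hL, hLr⟩ := RadicalBasic.exists_hyperplane hA (ne_bot_of_pow_le three_ne_zero hA3)
  obtain ⟨B, hB, hBr, haB, -⟩ := exists_hyperplane_mem hA hA3 hθ ha hL hLr
  exact ⟨B, hB, hBr, haB⟩

theorem capP_le {a : G} {B : Subgroup G} (hB : B ≤ A) (hBr : B.relIndex A = r) (haB : a ∈ B) :
    capP r p A θ a ≤ PB r p A θ B :=
  iInf_le (fun B : {B : Subgroup G // B ≤ A ∧ B.relIndex A = r ∧ a ∈ B} =>
    PB r p A θ (B : Subgroup G)) ⟨B, hB, hBr, haB⟩

theorem A_le_normalizer_capP (a : G) : A ≤ normalizer (capP r p A θ a : Set G) :=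
  le_normalizer_iInf _ fun _ => A_le_normalizer_pj _

theorem capP_mem {a : G} (ha : a ∈ A) : capP r p A θ a ∈ Cfsg.signalizerFamily r A θ := by
  obtain ⟨B, hB, hBr, haB⟩ := exists_hyperplane_mem' hA hA3 hθ ha
  exact mem_of_le (PB_mem hA hA3 hθ hB) (capP_le hA hA3 hθ hB hBr haB)
    (A_le_normalizer_capP hA hA3 hθ a)

theorem isPGroup_capP {a : G} (ha : a ∈ A) : IsPGroup p (capP r p A θ a) := by
  obtain ⟨B, hB, hBr, haB⟩ := exists_hyperplane_mem' hA hA3 hθ ha
  exact (isPGroup_PB hA hA3 hθ hB).to_le (capP_le hA hA3 hθ hB hBr haB)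

theorem pj_theta_le_capP {a : G} (ha1 : a ≠ 1) : pj r p A θ (θ a) ≤ capP r p A θ a :=
  le_iInf fun B => pj_theta_le_PB hA hA3 hθ ha1 B.2.2.2

/-- `C_V(a) ≤ O_p(θ a)` for `V = ⋂ P_B`. -/
theorem capP_inf_centralizer_le {a : G} (ha : a ∈ A) (ha1 : a ≠ 1) :
    capP r p A θ a ⊓ centralizer {a} ≤ piCoreOf {p} (θ a) := by
  have hθa := SignalizerMax.theta_mem_family hθ ha ha1
  have h1 : capP r p A θ a ⊓ centralizer {a} ≤ θ a := (capP_mem hA hA3 hθ ha).2.2.2 a ha ha1
  refine le_piCoreOf_of_hyperplane hA hA3 hθ hθa h1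
    ((isPGroup_capP hA hA3 hθ ha).to_le inf_le_left) fun B hB hBr => ?_
  obtain ⟨B', hB', hB'r, haB', hle⟩ := exists_hyperplane_mem hA hA3 hθ ha hB hBr
  refine ⟨PB r p A θ B', isPGroup_PB hA hA3 hθ hB',
    inf_le_left.trans (capP_le hA hA3 hθ hB' hB'r haB'), ?_⟩
  have h2 : θ a ⊓ centralizer (B : Set G) ≤ θ a ⊓ centralizer (B' : Set G) :=
    le_inf inf_le_left ((le_inf inf_le_right (inf_le_left.trans (hθ.1.1 a ha ha1))).trans hle)
  exact (h2.trans (inf_centralizer_le_signalizerInf hA hA3 hθ hθa hB')).trans (le_normalizer_pj _)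

end base2

/-- **Step (1)**: `P_a = ⋂_{B ∋ a} P_B` if `P_a ≠ 1`. -/
theorem capP_le_pj (h : MinCounter r A θ) (hab : NoFixedC.{u} r {p} True) {a : G} (ha : a ∈ A)
    (ha1 : a ≠ 1) (hne : pj r p A θ (θ a) ≠ ⊥) : capP r p A θ a ≤ pj r p A θ (θ a) := by
  have hA := h.elem
  have hA3 := h.card.ge
  have hθ := h.func
  have hcomm := comm_of_isElementaryAbelian hA
  set P := pj r p A θ (θ a) with hPdef
  set V := capP r p A θ a with hVdef
  have hPm : P ∈ Cfsg.signalizerFamily r A θ := pj_theta_mem hA hA3 hθ ha ha1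
  have hPp : IsPGroup p P := isPGroup_pj_theta hA hA3 hθ ha ha1
  have hVm : V ∈ Cfsg.signalizerFamily r A θ := capP_mem hA hA3 hθ ha
  have hVp : IsPGroup p V := isPGroup_capP hA hA3 hθ ha
  have hPV : P ≤ V := pj_theta_le_capP hA hA3 hθ ha1
  have hAP := le_normalizer_of_mem hPm
  have hAV := le_normalizer_of_mem hVm
  -- the local `K` of `P_a`
  set K := loc A θ P with hK
  have hKm : K ∈ Cfsg.signalizerFamily r A θ := MinCounter.loc_mem h hPm hne
  have hKP : K ≤ normalizer (P : Set G) := loc_le_normalizer P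
  have hθK : θ a ≤ K := MinCounter.le_loc h (SignalizerMax.theta_mem_family hθ ha ha1)
    (le_normalizer_pj _)
  have hPK : P ≤ K := MinCounter.le_loc h hPm le_normalizer
  have hAK := le_normalizer_of_mem hKm
  have hOP : piCoreOf {p} K = P := by
    apply le_antisymm
    · refine le_pj (RadicalBasic.piCoreOf_mem hKm _) ((isPi_singleton_iff hp.out _).mp
        (piCoreOf_isPi _ _)) (hθK.trans (le_normalizer_piCoreOf _ K))
    · exact le_piCoreOf hPK hKP (piNum_of_isPGroup hPp (Set.mem_singleton p))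
  have hCV : V ⊓ centralizer {a} ≤ P := by
    refine (capP_inf_centralizer_le hA hA3 hθ ha ha1).trans ?_
    exact le_pj (RadicalBasic.piCoreOf_mem (SignalizerMax.theta_mem_family hθ ha ha1) _)
      ((isPi_singleton_iff hp.out _).mp (piCoreOf_isPi _ _)) (le_normalizer_piCoreOf _ _)
  by_contra hcon
  -- `X = N_V(P)` and the centre of `X / P`
  set X := normalizer (P : Set G) ⊓ V with hX
  have hXP : ¬ X ≤ P := fun h1 => hcon (Blocks.SylowIn.eq_of_normalizer_inf_le hVp hPV h1).le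
  have hPX : P ≤ X := le_inf le_normalizer hPV
  have hXp : IsPGroup p X := hVp.to_le inf_le_right
  have hAX : A ≤ normalizer (X : Set G) := by
    refine RadicalEnd.le_normalizer_inf' ?_ hAV
    exact hAP.trans le_normalizer
  obtain ⟨z, hzX, hzP, hz⟩ := exists_mem_centre_mod hXp hPX inf_le_left (fun h1 => hXP h1.ge)
  set Z := X ⊓ actTriv P X with hZ
  have hzZ : z ∈ Z := ⟨hzX, mem_actTriv.mpr ⟨hzX.1, le_normalizer hzX, hz⟩⟩
  have hAZ : A ≤ normalizer (Z : Set G) := by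
    apply le_normalizer_of_conj_mem
    intro b hb x hx
    exact ⟨conj_mem_of_le_normalizer hAX hb hx.1, conj_mem_actTriv hx.2 (hAP hb) (hAX hb)⟩
  have hZV : Z ≤ V := inf_le_left.trans inf_le_right
  have hZm : Z ∈ Cfsg.signalizerFamily r A θ := mem_of_le hVm hZV hAZ
  have hZK : Z ≤ K := MinCounter.le_loc h hZm (inf_le_left.trans inf_le_left)
  have hcomm1 : ⁅Z, zpowers a⁆ ≤ piCoreOf {p} K := by
    refine general hab hKm.1 hKm.2.1 (hA.2 a ha) (hAK ha) hZK (hAZ ha)
      (piNum_of_isPGroup (hVp.to_le hZV) (Set.mem_singleton p)) (fun _ => ?_) ?_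
    · rw [hOP, commutator_le]
      exact fun x hx y hy => (mem_actTriv.mp hx.2).2.2 y hy.1
    · intro N V' hNV hVK hKN hKV hY v hv hva x hx
      have hAN : A ≤ normalizer (N : Set G) := hAK.trans hKN
      have hAV' : A ≤ normalizer (V' : Set G) := hAK.trans hKV
      have hV'N : V' ≤ normalizer (N : Set G) := hVK.trans (le_normalizer.trans hKN)
      have hACa : A ≤ normalizer ((centralizer {a} : Subgroup G) : Set G) := by
        refine HallFunctor.le_normalizer_centralizer_singleton fun b hb => ?_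
        exact HallFunctor.le_centralizer_singleton hA hb ha
      have hgen : V' ⊓ centralizer {a} ≤ fixMod N Z := by
        refine (le_iSup_hyperplane_mem hA hA3 hθ ha
          (fun hd => hKm.2.1 (hd.trans (card_dvd_of_le (inf_le_left.trans hVK))))
          (RadicalEnd.le_normalizer_inf' hAV' hACa) inf_le_right).trans (iSup_le fun B => ?_)
        intro w hw
        refine mem_fixMod.mpr ⟨hV'N hw.1.1, fun y hy => ?_⟩
        refine hY (V' ⊓ PB r p A θ B.1) inf_le_left ?_ ⟨?_, ?_⟩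
        · exact PiNum.mono (Y := PB r p A θ B.1) (piNum_of_isPGroup (isPGroup_PB hA hA3 hθ B.2.1)
            (Set.mem_singleton p)) inf_le_right
        · have h2 : y ∈ normalizer (V' : Set G) := hKV (le_normalizer (hZK hy))
          rw [commutatorElement_def]
          exact V'.mul_mem ((mem_normalizer_iff.mp h2 _).mp hw.1.1) (V'.inv_mem hw.1.1)
        · have h2 : w ∈ normalizer (PB r p A θ B.1 : Set G) :=
            le_normalizer_pj _ (inf_centralizer_le_signalizerInf hA hA3 hθ hKm B.2.1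
              ⟨hVK hw.1.1, hw.2⟩)
          have h3 : y ∈ PB r p A θ B.1 := capP_le hA hA3 hθ B.2.1 B.2.2.1 B.2.2.2 (hZV hy)
          have h4 : ⁅y, w⁆ = y * (w * y⁻¹ * w⁻¹) := by rw [commutatorElement_def]; group
          rw [h4]
          exact (PB r p A θ B.1).mul_mem h3 ((mem_normalizer_iff.mp h2 _).mp (inv_mem h3))
      exact (mem_fixMod.mp (hgen ⟨hv, hva⟩)).2 x hx
  rw [hOP] at hcomm1
  obtain ⟨m, hm, c, hc, rfl⟩ := Cfsg.Agent.Lib.CoprimeCommutator.exists_commutator_mul_fixed_of_isPGroup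
    r (zpowers a) Z (LocalGlobal.isPGroup_zpowers_of_pow (hA.2 a ha)) (by
      rw [zpowers_le]; exact hAZ ha) hZm.2.1 z hzZ
  apply hzP
  rw [LocalGlobal.centralizer_zpowers_eq] at hc
  exact P.mul_mem (hcomm1 hm) (hCV ⟨hZV hc.1, hc.2⟩)


/-- The radical `W_p = ⋂ P_B`, `B` a hyperplane of `A`. -/
def W (r p : ℕ) (A : Subgroup G) (θ : G → Subgroup G) : Subgroup G :=
  ⨅ B : {B : Subgroup G // B ≤ A ∧ B.relIndex A = r}, PB r p A θ (B : Subgroup G)

theorem W_le {B : Subgroup G} (hB : B ≤ A) (hBr : B.relIndex A = r) : W r p A θ ≤ PB r p A θ B :=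
  iInf_le (fun B : {B : Subgroup G // B ≤ A ∧ B.relIndex A = r} => PB r p A θ (B : Subgroup G))
    ⟨B, hB, hBr⟩

theorem A_le_normalizer_W : A ≤ normalizer (W r p A θ : Set G) :=
  le_normalizer_iInf _ fun _ => A_le_normalizer_pj _

section base3

variable (hA : Cfsg.IsElementaryAbelian r A) (hA3 : r ^ 3 ≤ Nat.card A)
  (hθ : Cfsg.IsSolvableSignalizerFunctor r A θ)

include hA hA3 hθ

theorem W_mem : W r p A θ ∈ Cfsg.signalizerFamily r A θ := by
  obtain ⟨L, hL, hLr⟩ := RadicalBasic.exists_hyperplane hA (ne_bot_of_pow_le three_ne_zero hA3)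
  exact mem_of_le (PB_mem hA hA3 hθ hL) (W_le hL hLr) A_le_normalizer_W

theorem isPGroup_W : IsPGroup p (W r p A θ) := by
  obtain ⟨L, hL, hLr⟩ := RadicalBasic.exists_hyperplane hA (ne_bot_of_pow_le three_ne_zero hA3)
  exact (isPGroup_PB hA hA3 hθ hL).to_le (W_le hL hLr)

/-- `W ∩ K ≤ O_p(K)` for all members `K`. -/
theorem W_inf_le {K : Subgroup G} (hK : K ∈ Cfsg.signalizerFamily r A θ) :
    W r p A θ ⊓ K ≤ piCoreOf {p} K := by
  refine le_piCoreOf_of_hyperplane hA hA3 hθ hK inf_le_right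
    ((isPGroup_W hA hA3 hθ).to_le inf_le_left) fun B hB hBr => ?_
  exact ⟨PB r p A θ B, isPGroup_PB hA hA3 hθ hB, inf_le_left.trans (W_le hB hBr),
    (inf_centralizer_le_signalizerInf hA hA3 hθ hK hB).trans (le_normalizer_pj _)⟩

theorem W_le_capP {a : G} : W r p A θ ≤ capP r p A θ a :=
  le_iInf fun B => W_le B.2.1 B.2.2.1

/-- `W_p` and `W_q` commute. -/
theorem W_le_centralizer {q : ℕ} [hq : Fact q.Prime] (hpq : p ≠ q) :
    W r p A θ ≤ centralizer (W r q A θ : Set G) := by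
  have hA1 := ne_bot_of_pow_le three_ne_zero hA3
  have hgen : ∀ {t : ℕ} [Fact t.Prime], W r t A θ ≤ ⨆ B : {B : Subgroup G // B ≤ A ∧
      B.relIndex A = r}, W r t A θ ⊓ centralizer ((B : Subgroup G) : Set G) := by
    intro t _
    exact (Cfsg.Agent.Lib.CoprimeHyperplane.iSup_centralizer_hyperplane hA hA1
      (W_mem hA hA3 hθ).2.1 A_le_normalizer_W).ge
  refine hgen.trans (iSup_le fun B => ?_)
  rw [le_centralizer_iff]
  refine hgen.trans (iSup_le fun D => ?_)
  rw [le_centralizer_iff]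
  obtain ⟨x, hxB, hxD, hx1⟩ := RadicalBasic.exists_mem_inf hA hA3 B.2.1 B.2.2 D.2.1 D.2.2
  have hxA := B.2.1 hxB
  have hθx := SignalizerMax.theta_mem_family hθ hxA hx1
  have h1 : W r p A θ ⊓ centralizer ((B : Subgroup G) : Set G) ≤ Op p (θ x) := by
    rw [Op_eq_piCoreOf hp.out]
    refine le_trans (le_inf inf_le_left ?_) (W_inf_le hA hA3 hθ hθx)
    exact (inf_le_inf_left _ (centralizer_le (by simpa using hxB))).trans
      ((W_mem hA hA3 hθ).2.2.2 x hxA hx1)
  have h2 : W r q A θ ⊓ centralizer ((D : Subgroup G) : Set G) ≤ Op q (θ x) := by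
    rw [Op_eq_piCoreOf hq.out]
    refine le_trans (le_inf inf_le_left ?_) (W_inf_le hA hA3 hθ hθx)
    exact (inf_le_inf_left _ (centralizer_le (by simpa using hxD))).trans
      ((W_mem hA hA3 hθ).2.2.2 x hxA hx1)
  have h3 : Op p (θ x) ≤ centralizer (Op q (θ x) : Set G) := by
    refine (Op_le_Opp hpq).trans ?_
    exact Opp_le_centralizer_Op
  exact (h1.trans h3).trans (centralizer_le h2)

/-- Step (4): `⁅P_a, a⁆ ≤ W_p`. -/
theorem commutator_le_W (hNF : NoFixedC.{u} r {p} False) {a : G} (ha : a ∈ A) (ha1 : a ≠ 1) :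
    ⁅pj r p A θ (θ a), zpowers a⁆ ≤ W r p A θ := by
  have haA : zpowers a ≤ A := by rwa [zpowers_le]
  have hPm : pj r p A θ (θ a) ∈ Cfsg.signalizerFamily r A θ := pj_theta_mem hA hA3 hθ ha ha1
  have hPp : IsPGroup p (pj r p A θ (θ a)) := isPGroup_pj_theta hA hA3 hθ ha ha1
  refine (commutator_le_iSup_hyperplane hA (ne_bot_of_pow_le three_ne_zero hA3) haA hPm.1 hPm.2.1
    (le_normalizer_of_mem hPm)).trans (iSup_le fun D => ?_)
  refine le_iInf fun B => ?_
  obtain ⟨d, hdD, hdB, hd1⟩ := RadicalBasic.exists_mem_inf hA hA3 D.2.1 D.2.2 B.2.1 B.2.2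
  have hdA := D.2.1 hdD
  have hθd := SignalizerMax.theta_mem_family hθ hdA hd1
  set X := pj r p A θ (θ a) ⊓ centralizer {d} with hX
  have hXθ : X ≤ θ d := hPm.2.2.2 d hdA hd1
  have hXp : IsPGroup p X := hPp.to_le inf_le_left
  have h1 : ⁅X, zpowers a⁆ ≤ piCoreOf {p} (θ d) := by
    refine general hNF hθd.1 hθd.2.1 (hA.2 a ha) (le_normalizer_of_mem hθd ha) hXθ ?_
      (piNum_of_isPGroup hXp (Set.mem_singleton p)) (fun hf => hf.elim) ?_
    · refine HallFunctor.le_normalizer_inf (le_normalizer_of_mem hPm)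
        (HallFunctor.le_normalizer_centralizer_singleton fun b hb =>
          HallFunctor.le_centralizer_singleton hA hb hdA) ha
    · intro N V hNV hVK hKN hKV hY v hv hva x hx
      have hvθd := hVK hv
      have hvθa : v ∈ θ a := hθ.1.2.2.2 d hdA hd1 a ha ha1 ⟨hvθd, hva⟩
      refine hY (V ⊓ pj r p A θ (θ a)) inf_le_left ?_ ⟨?_, ?_⟩
      · exact PiNum.mono (Y := pj r p A θ (θ a)) (piNum_of_isPGroup hPp (Set.mem_singleton p))
          inf_le_right
      · have h2 : x ∈ normalizer (V : Set G) := hKV (le_normalizer (hXθ hx))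
        rw [commutatorElement_def]
        exact V.mul_mem ((mem_normalizer_iff.mp h2 _).mp hv) (V.inv_mem hv)
      · have h2 : v ∈ normalizer (pj r p A θ (θ a) : Set G) := le_normalizer_pj _ hvθa
        have h4 : ⁅x, v⁆ = x * (v * x⁻¹ * v⁻¹) := by rw [commutatorElement_def]; group
        rw [h4]
        exact (pj r p A θ (θ a)).mul_mem hx.1 ((mem_normalizer_iff.mp h2 _).mp (inv_mem hx.1))
  have h2 : piCoreOf {p} (θ d) ≤ pj r p A θ (θ d) :=
    le_pj (RadicalBasic.piCoreOf_mem hθd _) ((isPi_singleton_iff hp.out _).mp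
      (piCoreOf_isPi _ _)) (le_normalizer_piCoreOf _ _)
  refine le_trans (commutator_mono ?_ le_rfl) ((h1.trans h2).trans
    (pj_theta_le_PB hA hA3 hθ hd1 hdB))
  exact inf_le_inf_left _ (centralizer_le (by simpa using hdD))

end base3

/-- Step (2): if `P_x ≠ 1` for all `1 ≠ x ∈ L`, `θ(L)` normalises `W_p`. -/
theorem signalizerInf_le_normalizer_W (h : MinCounter r A θ) (hab : NoFixedC.{u} r {p} True)
    {L : Subgroup G} (hL : L ≤ A) (hLr : L.relIndex A = r)
    (hne : ∀ x ∈ L, x ≠ 1 → pj r p A θ (θ x) ≠ ⊥) :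
    Cfsg.signalizerInf L θ ≤ normalizer (W r p A θ : Set G) := by
  have hA := h.elem
  have hA3 := h.card.ge
  have hθ := h.func
  have heq : W r p A θ = ⨅ x : {x : G // x ∈ L ∧ x ≠ 1}, pj r p A θ (θ (x : G)) := by
    apply le_antisymm
    · exact le_iInf fun x => (W_le_capP hA hA3 hθ).trans
        (capP_le_pj h hab (hL x.2.1) x.2.2 (hne x x.2.1 x.2.2))
    · refine le_iInf fun B => ?_
      obtain ⟨x, hxL, hxB, hx1⟩ := RadicalBasic.exists_mem_inf hA hA3 hL hLr B.2.1 B.2.2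
      exact (iInf_le (fun x : {x : G // x ∈ L ∧ x ≠ 1} => pj r p A θ (θ (x : G)))
        ⟨x, hxL, hx1⟩).trans (pj_theta_le_PB hA hA3 hθ hx1 hxB)
  rw [heq]
  exact le_normalizer_iInf _ fun x => (signalizerInf_le x.2.1 x.2.2).trans (le_normalizer_pj _)

/-- If `W_p ≠ 1` some `P_x` is trivial. -/
theorem exists_pj_eq_bot (h : MinCounter r A θ) (hab : NoFixedC.{u} r {p} True)
    (hW : W r p A θ ≠ ⊥) : ∃ x ∈ A, x ≠ 1 ∧ pj r p A θ (θ x) = ⊥ := by
  by_contra hcon
  push Not at hcon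
  exact PermTriple.MinCounter.false_of_le_normalizer h (W_mem h.elem h.card.ge h.func) hW
    fun B hB hBr => signalizerInf_le_normalizer_W h hab hB hBr fun x hx hx1 => hcon x (hB hx) hx1

end step


end Cfsg.Agent.SignalizersComponents.ThetaRadical
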