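import Mathlib
import Cfsg.Prelude.Def_Balance
import Cfsg.Agent.SignalizersComponents.ThetaRadical
import Cfsg.Agent.SignalizersComponents.StepFour

set_option autoImplicit false
set_option linter.unusedSectionVars false

/-!
End of the short proof of the solvable signalizer functor theorem for primes `r` that are not Fermat
primes (in particular `r = 2`).
-/

namespace Cfsg.Agent.SignalizersComponents.ThetaRadicalEnd

open Subgroup
open scoped commutatorElement
open Cfsg (piCoreOf)
open Cfsg.Agent.OddOrderLocal.PiCoreOf (piCoreOf_le piCoreOf_isPi le_piCoreOf le_normalizer_piCoreOf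
  normalizer_le_normalizer_piCoreOf isPi_singleton_iff)
open Cfsg.Agent.SignalizersComponents.GoldschmidtGen (le_normalizer_of_conj_mem
  conj_mem_of_le_normalizer)
open Cfsg.Agent.SignalizersComponents.CoprimeGen
open Cfsg.Agent.SignalizersComponents.FunctorTools
open Cfsg.Agent.SignalizersComponents.FunctorInduction
open Cfsg.Agent.SignalizersComponents.MinCounterBasic
open Cfsg.Agent.SignalizersComponents.LocalGlobal (NoFixed)
open Cfsg.Agent.SignalizersComponents.FixedPointLemma
open Cfsg.Agent.SignalizersComponents.ThetaRadical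

universe u

section step

variable {G : Type u} [Group G] [Finite G] {r : ℕ} [hr : Fact r.Prime] {A : Subgroup G}
  {θ : G → Subgroup G}

/-- `θ a` normalises `⁅P_a, a⁆`. -/
theorem le_normalizer_commutator_pj (hθ : Cfsg.IsSolvableSignalizerFunctor r A θ) {a : G}
    (ha : a ∈ A) (ha1 : a ≠ 1) {X : Subgroup G} (hX : θ a ≤ normalizer (X : Set G)) :
    θ a ≤ normalizer ((⁅X, zpowers a⁆ : Subgroup G) : Set G) := by
  apply le_normalizer_of_conj_mem
  intro g hg x hx
  have h1 : X.map (MulAut.conj g).toMonoidHom = X :=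
    Subgroup.mem_normalizer_iff_map_conj_eq.mp (hX hg)
  have h2 : (zpowers a).map (MulAut.conj g).toMonoidHom = zpowers a := by
    rw [MonoidHom.map_zpowers]
    congr 1
    have h3 := mem_centralizer_singleton.mp (hθ.1.1 a ha ha1 hg)
    show g * a * g⁻¹ = a
    rw [← h3]
    group
  have h3 : (⁅X, zpowers a⁆ : Subgroup G).map (MulAut.conj g).toMonoidHom = ⁅X, zpowers a⁆ := by
    rw [map_commutator, h1, h2]
  rw [← h3]
  exact ⟨x, hx, rfl⟩

/-- Step (5): for every `a ∈ A#` there is a prime `q` with `⁅P_a(q), a⁆ ≠ 1`. -/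
theorem exists_commutator_ne_bot (h : MinCounter r A θ) {a : G} (ha : a ∈ A) (ha1 : a ≠ 1) :
    ∃ q : ℕ, q.Prime ∧ ⁅pj r q A θ (θ a), zpowers a⁆ ≠ ⊥ := by
  obtain ⟨q, hq, M, hM, haM, hne⟩ := StepFour.step4 h a ha ha1
  refine ⟨q, hq, fun hbot => hne ?_⟩
  have h1 : piCoreOf {q} M ≤ pj r q A θ (θ a) :=
    le_pj (RadicalBasic.piCoreOf_mem hM _) ((isPi_singleton_iff hq _).mp (piCoreOf_isPi _ _))
      (haM.trans (le_normalizer_piCoreOf _ _))
  rw [commutator_eq_bot_iff_le_centralizer, LocalGlobal.centralizer_zpowers_eq] at hbot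
  exact h1.trans hbot

/-- **There is no minimal counterexample** (`r` satisfying `NoFixed`). -/
theorem false_of_minCounter (h : MinCounter r A θ)
    (hab : ∀ p : ℕ, p.Prime → NoFixedC.{u} r {p} True)
    (hNF : ∀ p : ℕ, p.Prime → NoFixedC.{u} r {p} False) : False := by
  have hA := h.elem
  have hA3 := h.card.ge
  have hθ := h.func
  have hW : ∀ p : ℕ, p.Prime → W r p A θ = ⊥ := by
    intro p hp
    have : Fact p.Prime := ⟨hp⟩
    by_contra hne
    obtain ⟨x, hx, hx1, hPx⟩ := exists_pj_eq_bot h (hab p hp) hne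
    obtain ⟨q, hq, hE⟩ := exists_commutator_ne_bot h hx hx1
    have : Fact q.Prime := ⟨hq⟩
    have hpq : p ≠ q := by
      rintro rfl
      apply hE
      rw [hPx, commutator_bot_left]
    set E : Subgroup G := ⁅pj r q A θ (θ x), zpowers x⁆ with hEdef
    have hPq := pj_theta_mem hA hA3 hθ (p := q) hx hx1
    have hxA : zpowers x ≤ A := by rwa [zpowers_le]
    have hEle : E ≤ pj r q A θ (θ x) := Cfsg.Agent.Lib.CoprimeCommutator.commutator_le_left
      (hxA.trans (le_normalizer_of_mem hPq))
    have hcomm := comm_of_isElementaryAbelian hA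
    have hEm : E ∈ Cfsg.signalizerFamily r A θ := by
      refine mem_of_le hPq hEle ?_
      exact GoldschmidtGen.le_normalizer_commutator (le_normalizer_of_mem hPq)
        fun a ha b hb => hcomm a ha b (hxA hb)
    have hθE : θ x ≤ normalizer (E : Set G) :=
      le_normalizer_commutator_pj hθ hx hx1 (le_normalizer_pj _)
    have hEW : E ≤ W r q A θ := commutator_le_W hA hA3 hθ (hNF q hq) hx hx1
    have hWE : W r p A θ ≤ normalizer (E : Set G) :=
      ((W_le_centralizer hA hA3 hθ hpq).trans (centralizer_le hEW)).trans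
        (Subgroup.centralizer_le_normalizer _)
    have hM := MinCounter.loc_mem h hEm hE
    have hWM := MinCounter.le_loc h (W_mem hA hA3 hθ (p := p)) hWE
    have hθM := MinCounter.le_loc h (SignalizerMax.theta_mem_family hθ hx hx1) hθE
    apply hne
    rw [eq_bot_iff, ← hPx]
    have h1 := W_inf_le hA hA3 hθ (p := p) hM
    rw [inf_eq_left.mpr hWM] at h1
    refine h1.trans ?_
    exact le_pj (RadicalBasic.piCoreOf_mem hM _) ((isPi_singleton_iff hp _).mp (piCoreOf_isPi _ _))
      (hθM.trans (le_normalizer_piCoreOf _ _))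
  obtain ⟨a, ha, ha1⟩ := A.bot_or_exists_ne_one.resolve_left (ne_bot_of_pow_le three_ne_zero hA3)
  obtain ⟨q, hq, hE⟩ := exists_commutator_ne_bot h ha ha1
  have : Fact q.Prime := ⟨hq⟩
  apply hE
  rw [eq_bot_iff, ← hW q hq]
  exact commutator_le_W hA hA3 hθ (hNF q hq) ha ha1

end step

/-- No minimal counterexample for primes that are not Fermat primes. -/
theorem false_of_minCounter_of_not_fermat {r : ℕ} [hr : Fact r.Prime]
    (hF : ∀ m : ℕ, m ≠ 0 → r ≠ 2 ^ m + 1) (G : Type u) [Group G] [Finite G] (A : Subgroup G)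
    (θ : G → Subgroup G) (h : MinCounter r A θ) : False :=
  false_of_minCounter h
    (fun _ _ => noFixedC_of_noFixed (NoFixedGen.noFixed_of_not_fermat hr.out hF _) _)
    (fun _ _ => noFixedC_of_noFixed (NoFixedGen.noFixed_of_not_fermat hr.out hF _) _)

/-- **The solvable signalizer functor theorem for primes that are not Fermat primes**. -/
theorem solComplete_of_not_fermat {r : ℕ} [hr : Fact r.Prime]
    (hF : ∀ m : ℕ, m ≠ 0 → r ≠ 2 ^ m + 1) {G : Type u} [Group G] [Finite G] {A : Subgroup G}
    {θ : G → Subgroup G} (hA : Cfsg.IsElementaryAbelian r A) (hA3 : r ^ 3 ≤ Nat.card A)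
    (hθ : Cfsg.IsSolvableSignalizerFunctor r A θ) : SolComplete r A θ :=
  FunctorInduction.solComplete (false_of_minCounter_of_not_fermat hF) _ G A θ rfl hA hA3 hθ

theorem two_not_fermat : ∀ m : ℕ, m ≠ 0 → (2 : ℕ) ≠ 2 ^ m + 1 := by
  intro m hm h
  have h1 : 2 ^ m = 1 := by omega
  exact hm (by simpa using h1)

/-- **The solvable signalizer functor theorem for `2`-groups `A`**. -/
theorem solComplete_two {G : Type u} [Group G] [Finite G] {A : Subgroup G}
    {θ : G → Subgroup G} (hA : Cfsg.IsElementaryAbelian 2 A) (hA3 : 2 ^ 3 ≤ Nat.card A)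
    (hθ : Cfsg.IsSolvableSignalizerFunctor 2 A θ) : SolComplete 2 A θ :=
  solComplete_of_not_fermat two_not_fermat hA hA3 hθ

end Cfsg.Agent.SignalizersComponents.ThetaRadicalEnd
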