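import Mathlib
import Cfsg.Prelude.Def_Balance
import Cfsg.Agent.SignalizersComponents.ThetaRadical
import Cfsg.Agent.SignalizersComponents.ThetaRadicalEnd
import Cfsg.Agent.SignalizersComponents.NoFixedAbelian

set_option autoImplicit false
set_option linter.unusedSectionVars false

/-!
Lines with two good points for the radical `W_p` of a minimal counterexample to the solvable signalizer
functor theorem (needed when `r` is a Fermat prime).
-/

namespace Cfsg.Agent.SignalizersComponents.FermatLine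

open Subgroup
open scoped commutatorElement
open Cfsg (piCoreOf)
open Cfsg.Agent.OddOrderLocal.PiCoreOf (piCoreOf_le piCoreOf_isPi le_piCoreOf le_normalizer_piCoreOf
  normalizer_le_normalizer_piCoreOf isPi_singleton_iff)
open Cfsg.Agent.SignalizersComponents.GoldschmidtGen (le_normalizer_of_conj_mem
  conj_mem_of_le_normalizer le_normalizer_sup)
open Cfsg.Agent.SignalizersComponents.CoprimeGen
open Cfsg.Agent.SignalizersComponents.FunctorTools
open Cfsg.Agent.SignalizersComponents.FunctorInduction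
open Cfsg.Agent.SignalizersComponents.MinCounterBasic
open Cfsg.Agent.SignalizersComponents.FixedPointLemma
open Cfsg.Agent.SignalizersComponents.ThetaRadical
open Cfsg.Agent.SignalizersComponents.ThetaRadicalEnd

universe u

variable {G : Type u} [Group G] [Finite G] {r : ℕ} [hr : Fact r.Prime] {A : Subgroup G}
  {θ : G → Subgroup G} {p : ℕ} [hp : Fact p.Prime]

theorem piCoreOf_theta_le_pj (hθ : Cfsg.IsSolvableSignalizerFunctor r A θ) {x : G} (hx : x ∈ A)
    (hx1 : x ≠ 1) : piCoreOf {p} (θ x) ≤ pj r p A θ (θ x) :=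
  le_pj (RadicalBasic.piCoreOf_mem (SignalizerMax.theta_mem_family hθ hx hx1) _)
    ((isPi_singleton_iff hp.out _).mp (piCoreOf_isPi _ _)) (le_normalizer_piCoreOf _ _)

/-- `W_p ∩ C(x) = 1` if `P_x = 1`. -/
theorem W_inf_centralizer_eq_bot (hA : Cfsg.IsElementaryAbelian r A) (hA3 : r ^ 3 ≤ Nat.card A)
    (hθ : Cfsg.IsSolvableSignalizerFunctor r A θ) {x : G} (hx : x ∈ A) (hx1 : x ≠ 1)
    (hP : pj r p A θ (θ x) = ⊥) : W r p A θ ⊓ centralizer {x} = ⊥ := by
  rw [eq_bot_iff, ← hP]
  have h1 : W r p A θ ⊓ centralizer {x} ≤ θ x := (W_mem hA hA3 hθ).2.2.2 x hx hx1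
  refine le_trans (le_trans (le_inf inf_le_left h1) ?_) (piCoreOf_theta_le_pj hθ hx hx1)
  exact W_inf_le hA hA3 hθ (SignalizerMax.theta_mem_family hθ hx hx1)

/-- `θ(L)` normalises `W_p ∩ C(L)`. -/
theorem signalizerInf_le_normalizer_W_inf (hA : Cfsg.IsElementaryAbelian r A)
    (hA3 : r ^ 3 ≤ Nat.card A) (hθ : Cfsg.IsSolvableSignalizerFunctor r A θ) {L : Subgroup G}
    (hL : L ≤ A) (hLr : L.relIndex A = r) :
    Cfsg.signalizerInf L θ ≤
      normalizer ((W r p A θ ⊓ centralizer (L : Set G) : Subgroup G) : Set G) := by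
  have heq : W r p A θ ⊓ centralizer (L : Set G) =
      ⨅ d : {d : G // d ∈ L ∧ d ≠ 1}, piCoreOf {p} (θ (d : G)) := by
    apply le_antisymm
    · refine le_iInf fun d => ?_
      have hdA := hL d.2.1
      have h1 : W r p A θ ⊓ centralizer (L : Set G) ≤ θ d.1 :=
        (inf_le_inf_left _ (centralizer_le (by simpa using d.2.1))).trans
          ((W_mem hA hA3 hθ).2.2.2 d.1 hdA d.2.2)
      exact (le_inf inf_le_left h1).trans
        (W_inf_le hA hA3 hθ (SignalizerMax.theta_mem_family hθ hdA d.2.2))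
    · refine le_inf (le_iInf fun B => ?_) ?_
      · obtain ⟨d, hdL, hdB, hd1⟩ := RadicalBasic.exists_mem_inf hA hA3 hL hLr B.2.1 B.2.2
        exact ((iInf_le (fun d : {d : G // d ∈ L ∧ d ≠ 1} => piCoreOf {p} (θ (d : G)))
          ⟨d, hdL, hd1⟩).trans (piCoreOf_theta_le_pj hθ (hL hdL) hd1)).trans
          (pj_theta_le_PB hA hA3 hθ hd1 hdB)
      · intro x hx
        rw [mem_centralizer_iff]
        intro d hd
        by_cases hd1 : d = 1
        · rw [hd1]; simp
        · have h1 : x ∈ θ d := piCoreOf_le _ _ ((mem_iInf.mp hx) ⟨d, hd, hd1⟩)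
          exact mem_centralizer_singleton.mp (hθ.1.1 d (hL hd) hd1 h1)
  rw [heq]
  exact le_normalizer_iInf _ fun d => (signalizerInf_le d.2.1 d.2.2).trans
    (le_normalizer_piCoreOf _ _)

theorem zpowers_eq_of_mem (hA : Cfsg.IsElementaryAbelian r A) {y b : G} (hb : b ∈ A)
    (hy : y ∈ zpowers b) (hy1 : y ≠ 1) : zpowers y = zpowers b := by
  have hb1 : b ≠ 1 := by
    rintro rfl
    rw [zpowers_one_eq_bot, mem_bot] at hy
    exact hy1 hy
  have hyA : y ∈ A := by
    have : zpowers b ≤ A := by rwa [zpowers_le]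
    exact this hy
  refine Subgroup.eq_of_le_of_card_ge (by rwa [zpowers_le]) ?_
  rw [PermTriple.card_zpowers_of_ne_one hA hb hb1, PermTriple.card_zpowers_of_ne_one hA hyA hy1]

theorem le_zpowers_sup (hA : Cfsg.IsElementaryAbelian r A) (hcard : Nat.card A = r ^ 3)
    {L : Subgroup G} (hL : L ≤ A) (hLr : L.relIndex A = r) {c c' : G} (hc : c ∈ L) (hc' : c' ∈ L)
    (hc1 : c ≠ 1) (hcc : c' ∉ zpowers c) : L ≤ zpowers c ⊔ zpowers c' := by
  have hLcard := Radical.card_hyperplane hcard hL hLr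
  have hordc := PermTriple.card_zpowers_of_ne_one hA (hL hc) hc1
  have hcL : zpowers c ≤ L := by rwa [zpowers_le]
  have h1 : (zpowers c).relIndex L = r := by
    have h2 := Subgroup.relIndex_mul_relIndex ⊥ (zpowers c) L bot_le hcL
    rw [Subgroup.relIndex_bot_left, Subgroup.relIndex_bot_left, hordc, hLcard, pow_two] at h2
    exact Nat.eq_of_mul_eq_mul_left hr.out.pos h2
  refine (Radical.eq_of_lt_of_le (A := L) h1 (lt_of_le_of_ne le_sup_left fun heq => hcc ?_)
    (sup_le hcL (by rwa [zpowers_le]))).ge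
  rw [heq]
  exact mem_sup_right (mem_zpowers c')

/-- `⁅P_a, a⁆ = ⁅W_p, a⁆` if `P_a ≠ 1`. -/
theorem commutator_pj_eq (h : MinCounter r A θ) (hNF : NoFixedC.{u} r {p} False) {a : G} (ha : a ∈ A)
    (ha1 : a ≠ 1) (hP : pj r p A θ (θ a) ≠ ⊥) :
    ⁅W r p A θ, zpowers a⁆ = ⁅pj r p A θ (θ a), zpowers a⁆ := by
  have hA := h.elem
  have hA3 := h.card.ge
  have hθ := h.func
  have haA : zpowers a ≤ A := by rwa [zpowers_le]
  have hPm := pj_theta_mem hA hA3 hθ (p := p) ha ha1
  apply le_antisymm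
  · exact commutator_mono ((W_le_capP hA hA3 hθ).trans
      (capP_le_pj h (NoFixedAbelian.noFixedC_true hr.out _) ha ha1 hP)) le_rfl
  · rw [← Cfsg.Agent.Lib.CoprimeCommutator.commutator_commutator_eq (zpowers a) (pj r p A θ (θ a))
      (haA.trans (le_normalizer_of_mem hPm)) (Radical.coprime_card_of_isPGroup
        ((isPGroup_of_isElementaryAbelian hA).to_le haA) hPm.2.1)]
    exact commutator_mono (commutator_le_W hA hA3 hθ hNF ha ha1) le_rfl

/-- A hyperplane `L` with two `p`-good points: `θ(L)` normalises `W_p`. -/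
theorem signalizerInf_le_normalizer_W_of_two (h : MinCounter r A θ) (hNF : NoFixedC.{u} r {p} False)
    {L : Subgroup G} (hL : L ≤ A) (hLr : L.relIndex A = r) {c c' : G} (hc : c ∈ L) (hc' : c' ∈ L)
    (hc1 : c ≠ 1) (hcc : c' ∉ zpowers c) (hP : pj r p A θ (θ c) ≠ ⊥)
    (hP' : pj r p A θ (θ c') ≠ ⊥) :
    Cfsg.signalizerInf L θ ≤ normalizer (W r p A θ : Set G) := by
  have hA := h.elem
  have hA3 := h.card.ge
  have hθ := h.func
  have hcomm := comm_of_isElementaryAbelian hA
  have hAp := isPGroup_of_isElementaryAbelian hA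
  have hc1' : c' ≠ 1 := by
    rintro rfl
    exact hcc (one_mem _)
  have hcA : zpowers c ≤ A := by rw [zpowers_le]; exact hL hc
  have hcA' : zpowers c' ≤ A := by rw [zpowers_le]; exact hL hc'
  have hgen := le_zpowers_sup hA h.card hL hLr hc hc' hc1 hcc
  set W₀ : Subgroup G := W r p A θ with hW₀
  have hWm : W₀ ∈ Cfsg.signalizerFamily r A θ := W_mem hA hA3 hθ
  have hAW := le_normalizer_of_mem hWm
  have h1 : ⁅W₀, zpowers c⁆ ⊔ ⁅W₀, zpowers c'⁆ ⊔ (W₀ ⊓ centralizer (L : Set G)) = W₀ := by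
    apply le_antisymm
    · refine sup_le (sup_le (Lib.CoprimeCommutator.commutator_le_left (hcA.trans hAW)) (Lib.CoprimeCommutator.commutator_le_left
        (hcA'.trans hAW))) inf_le_left
    · intro x hx
      obtain ⟨m, hm, y, hy, rfl⟩ := Lib.CoprimeCommutator.exists_commutator_mul_fixed_of_isPGroup r (zpowers c) W₀
        (hAp.to_le hcA) (hcA.trans hAW) hWm.2.1 x hx
      have hAR : A ≤ normalizer ((W₀ ⊓ centralizer ((zpowers c : Subgroup G) : Set G) : Subgroup G) : Set G) :=
        GoldschmidtGen.le_normalizer_inf_centralizer hAW fun a ha b hb => hcomm a ha b (hcA hb)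
      obtain ⟨m', hm', z, hz, rfl⟩ := Lib.CoprimeCommutator.exists_commutator_mul_fixed_of_isPGroup r (zpowers c')
        (W₀ ⊓ centralizer ((zpowers c : Subgroup G) : Set G)) (hAp.to_le hcA') (hcA'.trans hAR)
        (fun hd => hWm.2.1 (hd.trans (card_dvd_of_le inf_le_left))) y hy
      refine mul_mem (mem_sup_left (mem_sup_left hm)) (mul_mem (mem_sup_left (mem_sup_right
        (commutator_mono inf_le_left le_rfl hm'))) (mem_sup_right ⟨hz.1.1, ?_⟩))
      have h2 : z ∈ centralizer ((zpowers c ⊔ zpowers c' : Subgroup G) : Set G) := by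
        rw [← Subgroup.zpowers_le, Subgroup.le_centralizer_iff]
        refine sup_le ?_ ?_
        · rw [Subgroup.le_centralizer_iff, zpowers_le]; exact hz.1.2
        · rw [Subgroup.le_centralizer_iff, zpowers_le]; exact hz.2
      exact centralizer_le hgen h2
  rw [← h1]
  refine le_normalizer_sup (le_normalizer_sup ?_ ?_) ?_
  · rw [hW₀, commutator_pj_eq h hNF (hL hc) hc1 hP]
    exact (signalizerInf_le hc hc1).trans (le_normalizer_commutator_pj hθ (hL hc) hc1
      (le_normalizer_pj _))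
  · rw [hW₀, commutator_pj_eq h hNF (hL hc') hc1' hP']
    exact (signalizerInf_le hc' hc1').trans (le_normalizer_commutator_pj hθ (hL hc') hc1'
      (le_normalizer_pj _))
  · exact signalizerInf_le_normalizer_W_inf hA hA3 hθ hL hLr

/-- A hyperplane whose only `p`-good point is (at most) `b`: `W_p ≤ C(b)`. -/
theorem W_le_centralizer_of_unique (h : MinCounter r A θ) {L : Subgroup G} (hL : L ≤ A)
    (hLr : L.relIndex A = r) {b : G} (hbL : b ∈ L)
    (hu : ∀ c ∈ L, c ∉ zpowers b → pj r p A θ (θ c) = ⊥) : W r p A θ ≤ centralizer {b} := by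
  have hA := h.elem
  have hA3 := h.card.ge
  have hθ := h.func
  have hWm : W r p A θ ∈ Cfsg.signalizerFamily r A θ := W_mem hA hA3 hθ
  have hL2 : r ^ 2 ≤ Nat.card L := (Radical.card_hyperplane h.card hL hLr).ge
  refine (le_iSup_centralizer_ne_one (isElementaryAbelian_mono hA hL) hL2 hWm.2.1
    (hL.trans (le_normalizer_of_mem hWm))).trans (iSup_le fun y => ?_)
  by_cases hy : (y : G) ∈ zpowers b
  · have h1 := zpowers_eq_of_mem hA (hL hbL) hy y.2.2
    refine inf_le_right.trans ?_
    rw [← centralizer_zpowers, h1, centralizer_zpowers]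
  · rw [W_inf_centralizer_eq_bot hA hA3 hθ (hL y.2.1) y.2.2 (hu y.1 y.2.1 hy)]
    exact bot_le

/-- If `⁅P_b, b⁆ ≠ 1` then `θ b` normalises `W_p`. -/
theorem theta_le_normalizer_W (h : MinCounter r A θ) (hNF : NoFixedC.{u} r {p} False) {b : G}
    (hb : b ∈ A) (hb1 : b ≠ 1) (hne : ⁅pj r p A θ (θ b), zpowers b⁆ ≠ ⊥) :
    θ b ≤ normalizer (W r p A θ : Set G) := by
  have hPb : pj r p A θ (θ b) ≠ ⊥ := by
    intro h1
    apply hne
    rw [h1, commutator_bot_left]
  refine Radical.theta_le_of_forall_hyperplane h.elem h.card h.func hb hb1 fun L hL hLr hbL => ?_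
  by_cases hex : ∃ c ∈ L, c ∉ zpowers b ∧ pj r p A θ (θ c) ≠ ⊥
  · obtain ⟨c, hc, hcb, hPc⟩ := hex
    exact signalizerInf_le_normalizer_W_of_two h hNF hL hLr hbL hc hb1 hcb hPb hPc
  · exfalso
    push Not at hex
    apply hne
    rw [← commutator_pj_eq h hNF hb hb1 hPb, commutator_eq_bot_iff_le_centralizer,
      centralizer_zpowers]
    exact W_le_centralizer_of_unique h hL hLr hbL hex

end Cfsg.Agent.SignalizersComponents.FermatLine
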