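import Mathlib
import Cfsg.Prelude.Def_Balance
import Cfsg.Agent.SignalizersComponents.MinCounterBasic
import Cfsg.Agent.SignalizersComponents.HallFunctor
import Cfsg.Agent.SignalizersComponents.PermTriple

set_option autoImplicit false
set_option linter.unusedSectionVars false

/-!
The subfunctor `a ↦ θ a ⊓ N(Z O_{q'}(θ a))`, `Z` a `q`-subgroup of `⋂ θ a` contained in all
`O_{q',q}(θ a)` (Fermat case of the solvable signalizer functor theorem).
-/

namespace Cfsg.Agent.SignalizersComponents.FermatPsi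

open Subgroup
open scoped commutatorElement
open Cfsg.Agent.Lib.CoprimeCommutator
open Cfsg.Agent.SignalizersComponents.GoldschmidtGen (le_normalizer_of_conj_mem
  conj_mem_of_le_normalizer le_normalizer_commutator le_normalizer_inf_centralizer le_normalizer_sup
  le_normalizer_of_commutator_le sup_commutator_ne)
open Cfsg.Agent.SignalizersComponents.CoprimeGen
open Cfsg.Agent.SignalizersComponents.FunctorTools
open Cfsg.Agent.SignalizersComponents.FunctorInduction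
open Cfsg.Agent.SignalizersComponents.InvariantHall
open Cfsg.Agent.SignalizersComponents.HallFunctor
open Cfsg.Agent.SignalizersComponents.MinCounterBasic
open Cfsg.Agent.SignalizersComponents.PermTriple

/-! ### Generation of commutators -/

section gen

variable {G : Type*} [Group G]

/-- `CoprimeGen.le_iSup_commutator_aux` for a possibly non abelian acting group: `A` normalises `L` and
centralises the members of `𝓑`. -/
theorem le_iSup_commutator_aux' [Finite G] {A K L : Subgroup G}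
    (𝓑 : Set (Subgroup G))
    (hAL : A ≤ normalizer (L : Set G)) (hLA : L ≤ A) (hKs : Group.IsSolvable K)
    (hAK : A ≤ normalizer (K : Set G))
    (h𝓑 : ∀ B ∈ 𝓑, ∀ a ∈ A, ∀ b ∈ B, a * b = b * a)
    (hgen : ∀ Z ≤ K, A ≤ normalizer (Z : Set G) →
      Z ≤ ⨆ B : 𝓑, Z ⊓ centralizer ((B : Subgroup G) : Set G))
    (hKL : ⁅K, L⁆ = K) :
    ∀ (n : ℕ) (Z : Subgroup G), Nat.card Z = n → Z ≤ K → A ≤ normalizer (Z : Set G) →
      K ≤ normalizer (Z : Set G) →
      K ≤ (⨆ B : 𝓑, ⁅K ⊓ centralizer ((B : Subgroup G) : Set G), L⁆) ⊔ Z →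
      K ≤ ⨆ B : 𝓑, ⁅K ⊓ centralizer ((B : Subgroup G) : Set G), L⁆ := by
  set K₁ : Subgroup G := ⨆ B : 𝓑, ⁅K ⊓ centralizer ((B : Subgroup G) : Set G), L⁆ with hK₁
  have hK₁K : K₁ ≤ K := by
    rw [hK₁]
    refine iSup_le fun B => ?_
    conv_rhs => rw [← hKL]
    exact commutator_mono inf_le_left le_rfl
  have hAK₁ : A ≤ normalizer (K₁ : Set G) := by
    apply le_normalizer_of_conj_mem
    intro a ha
    have h1 : K₁ ≤ K₁.comap (MulAut.conj a).toMonoidHom := by
      conv_lhs => rw [hK₁]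
      refine iSup_le fun B => ?_
      rw [commutator_le]
      intro x hx l hl
      show a * ⁅x, l⁆ * a⁻¹ ∈ K₁
      have h2 : a * ⁅x, l⁆ * a⁻¹ = ⁅a * x * a⁻¹, a * l * a⁻¹⁆ := by
        simp only [commutatorElement_def]; group
      have h3 : a * l * a⁻¹ ∈ L := conj_mem_of_le_normalizer hAL ha hl
      rw [h2]
      have h4 : A ≤ normalizer ((K ⊓ centralizer ((B : Subgroup G) : Set G) : Subgroup G) : Set G) :=
        le_normalizer_inf_centralizer hAK fun a ha b hb => h𝓑 B B.2 a ha b hb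
      exact (le_iSup (fun B : 𝓑 => ⁅K ⊓ centralizer ((B : Subgroup G) : Set G), L⁆) B)
        (commutator_mem_commutator (conj_mem_of_le_normalizer h4 ha hx) h3)
    exact fun x hx => h1 hx
  intro n
  induction n using Nat.strong_induction_on with
  | _ n ih =>
  intro Z hZn hZK hAZ hKZ hKle
  by_cases hZ1 : Z = ⊥
  · rw [hZ1, sup_bot_eq] at hKle
    exact hKle
  -- a maximal proper `AK`-invariant subgroup of `Z`
  let S : Set (Subgroup G) := {M | M ≤ Z ∧ M ≠ Z ∧ A ≤ normalizer (M : Set G) ∧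
    K ≤ normalizer (M : Set G)}
  have hbot : (⊥ : Subgroup G) ∈ S := by
    refine ⟨bot_le, fun h => hZ1 h.symm, ?_, ?_⟩ <;>
    · apply le_normalizer_of_conj_mem
      intro a _ x hx
      rw [mem_bot] at hx ⊢
      rw [hx]; group
  obtain ⟨M, hMmax⟩ := (Set.toFinite S).exists_maximal ⟨⊥, hbot⟩
  obtain ⟨hMZ, hMne, hAM, hKM⟩ := hMmax.1
  have hZs : Group.IsSolvable Z :=
    Group.isSolvable_of_isSolvable_injective (f := inclusion hZK) (inclusion_injective hZK)
  have hZM : Z ≤ normalizer (M : Set G) := hZK.trans hKM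
  -- conjugation invariance of the derived subgroup
  have hconj : ∀ {X : Subgroup G}, X ≤ normalizer (Z : Set G) →
      X ≤ normalizer ((⁅Z, Z⁆ : Subgroup G) : Set G) := by
    intro X hX
    apply le_normalizer_of_conj_mem
    intro a ha
    have h1 : ⁅Z, Z⁆ ≤ (⁅Z, Z⁆ : Subgroup G).comap (MulAut.conj a).toMonoidHom := by
      rw [commutator_le]
      intro y hy y' hy'
      show a * ⁅y, y'⁆ * a⁻¹ ∈ (⁅Z, Z⁆ : Subgroup G)
      have h2 : a * ⁅y, y'⁆ * a⁻¹ = ⁅a * y * a⁻¹, a * y' * a⁻¹⁆ := by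
        simp only [commutatorElement_def]; group
      rw [h2]
      exact commutator_mem_commutator (conj_mem_of_le_normalizer hX ha hy)
        (conj_mem_of_le_normalizer hX ha hy')
    exact fun x hx => h1 hx
  have hZZle : ⁅Z, Z⁆ ≤ Z := by
    rw [commutator_le]
    intro y hy y' hy'
    rw [commutatorElement_def]
    exact Z.mul_mem (Z.mul_mem (Z.mul_mem hy hy') (Z.inv_mem hy)) (Z.inv_mem hy')
  have hZZ : ⁅Z, Z⁆ ≤ M := by
    have h1 : M ⊔ ⁅Z, Z⁆ ∈ S :=
      ⟨sup_le hMZ hZZle, sup_commutator_ne hZs hMZ hMne hZM,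
        le_normalizer_sup hAM (hconj hAZ), le_normalizer_sup hKM (hconj hKZ)⟩
    exact le_sup_right.trans (hMmax.2 h1 le_sup_left)
  -- `M` is smaller
  have hMlt : Nat.card M < n := by
    rw [← hZn]
    have h1 : (M : Set G) ⊂ (Z : Set G) := SetLike.coe_ssubset_coe.mpr (lt_of_le_of_ne hMZ hMne)
    exact Set.ncard_lt_ncard h1 (Set.toFinite _)
  refine ih _ hMlt M rfl (hMZ.trans hZK) hAM hKM ?_
  -- the intersection `T = K₁ M ∩ Z`
  set T : Subgroup G := (K₁ ⊔ M) ⊓ Z with hT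
  have hK₁M : K₁ ≤ normalizer (M : Set G) := hK₁K.trans hKM
  have hMT : M ≤ T := le_inf le_sup_right hMZ
  have hAT : A ≤ normalizer (T : Set G) := by
    apply le_normalizer_of_conj_mem
    intro a ha x hx
    exact ⟨conj_mem_of_le_normalizer (le_normalizer_sup hAK₁ hAM) ha hx.1,
      conj_mem_of_le_normalizer hAZ ha hx.2⟩
  have hKT : K ≤ normalizer (T : Set G) := by
    refine hKle.trans (sup_le ?_ ?_)
    · apply le_normalizer_of_conj_mem
      intro a ha x hx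
      have h1 : K₁ ≤ normalizer ((K₁ ⊔ M : Subgroup G) : Set G) :=
        le_sup_left.trans (Subgroup.le_normalizer (H := K₁ ⊔ M))
      exact ⟨conj_mem_of_le_normalizer h1 ha hx.1, conj_mem_of_le_normalizer hKZ (hK₁K ha) hx.2⟩
    · exact le_normalizer_of_commutator_le inf_le_right (hZZ.trans hMT)
  by_cases hTZ : T = Z
  · refine hKle.trans (sup_le le_sup_left ?_)
    calc Z = T := hTZ.symm
      _ ≤ K₁ ⊔ M := inf_le_left
  · have hTM : T ≤ M := hMmax.2 (⟨inf_le_right, hTZ, hAT, hKT⟩ : T ∈ S) hMT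
    -- `L` acts trivially on `Z / M`
    have hLnM : L ≤ normalizer (M : Set G) := hLA.trans hAM
    have hLnZ : L ≤ normalizer (Z : Set G) := hLA.trans hAZ
    have hL : L ≤ actTriv M Z := by
      intro l hl
      refine ⟨hLnM hl, hLnZ hl, ?_⟩
      let X : Subgroup G :=
        { carrier := {z | z ∈ Z ∧ ⁅l, z⁆ ∈ M}
          one_mem' := ⟨one_mem _, by simp⟩
          mul_mem' := by
            rintro x y ⟨hx, hx'⟩ ⟨hy, hy'⟩
            refine ⟨mul_mem hx hy, ?_⟩
            have h1 : ⁅l, x * y⁆ = ⁅l, x⁆ * (x * ⁅l, y⁆ * x⁻¹) := by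
              simp only [commutatorElement_def]; group
            rw [h1]
            exact mul_mem hx' (conj_mem_of_le_normalizer hZM hx hy')
          inv_mem' := by
            rintro x ⟨hx, hx'⟩
            refine ⟨inv_mem hx, ?_⟩
            have h1 : ⁅l, x⁻¹⁆ = x⁻¹ * ⁅l, x⁆⁻¹ * x⁻¹⁻¹ := by
              simp only [commutatorElement_def]; group
            rw [h1]
            exact conj_mem_of_le_normalizer hZM (Z.inv_mem hx) (M.inv_mem hx') }
      have hX : Z ≤ X := by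
        refine (hgen Z hZK hAZ).trans (iSup_le fun B => ?_)
        rintro z ⟨hz, hzB⟩
        refine ⟨hz, hTM ⟨mem_sup_left ?_, ?_⟩⟩
        · have h1 : ⁅z, l⁆ ∈ K₁ :=
            (le_iSup (fun B : 𝓑 => ⁅K ⊓ centralizer ((B : Subgroup G) : Set G), L⁆) B)
              (commutator_mem_commutator ⟨hZK hz, hzB⟩ hl)
          rw [← commutatorElement_inv]
          exact K₁.inv_mem h1
        · rw [commutatorElement_def]
          exact Z.mul_mem (conj_mem_of_le_normalizer hLnZ hl hz) (Z.inv_mem hz)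
      exact fun z hz => (hX hz).2
    have hKact : K ≤ actTriv M Z := by
      conv_lhs => rw [← hKL]
      exact commutator_le_actTriv hKM hKZ hL
    -- `K = ⁅K, L⁆ ≤ K₁ M`
    conv_lhs => rw [← hKL]
    have hZT₁ : Z ≤ normalizer ((K₁ ⊔ M : Subgroup G) : Set G) := by
      apply le_normalizer_of_conj_mem
      intro z hz
      have h1 : K₁ ⊔ M ≤ (K₁ ⊔ M).comap (MulAut.conj z).toMonoidHom := by
        refine sup_le (fun k hk => ?_) (fun m hm => ?_)
        · show z * k * z⁻¹ ∈ K₁ ⊔ M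
          have h2 : z * k * z⁻¹ = ⁅k, z⁆⁻¹ * k := by
            simp only [commutatorElement_def]; group
          rw [h2]
          exact mul_mem (mem_sup_right (inv_mem ((hKact (hK₁K hk)).2.2 z hz))) (mem_sup_left hk)
        · exact mem_sup_right (conj_mem_of_le_normalizer hZM hz hm)
      exact fun x hx => h1 hx
    have hKT₁ : K ≤ normalizer ((K₁ ⊔ M : Subgroup G) : Set G) :=
      hKle.trans (sup_le (le_sup_left.trans (Subgroup.le_normalizer (H := K₁ ⊔ M))) hZT₁)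
    rw [commutator_le]
    intro k hk l hl
    obtain ⟨k₁, hk₁, z, hz, rfl⟩ :=
      (Cfsg.Agent.SignalizersComponents.CoprimeBasic.mem_sup_iff (X := Z) (Y := K₁)
        (hK₁K.trans hKZ) k).mp (by rw [sup_comm]; exact hKle hk)
    have h1 : ⁅k₁ * z, l⁆ = k₁ * ⁅z, l⁆ * k₁⁻¹ * ⁅k₁, l⁆ := by
      simp only [commutatorElement_def]; group
    rw [h1]
    have h2 : k₁ ∈ Z := hk₁
    have h3 : z ∈ K₁ := hz
    -- here the order of the factors is `Z K₁`
    have h4 : ⁅k₁, l⁆ ∈ M := by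
      have := (hL hl).2.2 k₁ h2
      rw [← commutatorElement_inv]
      exact inv_mem this
    have h5 : ⁅z, l⁆ ∈ K₁ := by
      rw [commutatorElement_def]
      have h6 : z * l * z⁻¹ * l⁻¹ = z * (l * z⁻¹ * l⁻¹) := by group
      rw [h6]
      exact mul_mem h3 (conj_mem_of_le_normalizer hAK₁ (hLA hl) (inv_mem h3))
    exact mul_mem (conj_mem_of_le_normalizer hZT₁ h2 (mem_sup_left h5)) (mem_sup_right h4)

/-- `B` a noncyclic elementary abelian `p`-group and `Z` (commuting with `B`) of order coprime to `|K|`,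
acting on the solvable `p'`-group `K`: `⁅K, Z⁆` is generated by the `⁅C_K(b), Z⁆`, `1 ≠ b ∈ B`. -/
theorem commutator_le_iSup_of_commute [Finite G] {p : ℕ} [hp : Fact p.Prime] {B K Z : Subgroup G}
    (hB : Cfsg.IsElementaryAbelian p B) (hB2 : p ^ 2 ≤ Nat.card B)
    (hKs : Group.IsSolvable K) (hKp : ¬ p ∣ Nat.card K) (hBK : B ≤ normalizer (K : Set G))
    (hZK : Z ≤ normalizer (K : Set G)) (hZB : ∀ z ∈ Z, ∀ b ∈ B, z * b = b * z)
    (hcop : (Nat.card Z).Coprime (Nat.card K)) :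
    ⁅K, Z⁆ ≤ ⨆ b : {b : G // b ∈ B ∧ b ≠ 1}, ⁅K ⊓ centralizer {(b : G)}, Z⁆ := by
  have hK'K : ⁅K, Z⁆ ≤ K := commutator_le_left hZK
  have hBZ : B ≤ normalizer (Z : Set G) := le_normalizer_of_conj_mem fun b hb z hz => by
    rw [← hZB z hz b hb]; simpa using hz
  have hBcomm := comm_of_isElementaryAbelian hB
  set A : Subgroup G := B ⊔ Z with hA
  have hAZ : A ≤ normalizer (Z : Set G) := sup_le hBZ Subgroup.le_normalizer
  have hAK : A ≤ normalizer (K : Set G) := sup_le hBK hZK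
  have hAB : ∀ a ∈ A, ∀ b ∈ B, a * b = b * a := by
    intro a ha b hb
    have h1 : A ≤ centralizer ({b} : Set G) := by
      rw [hA]
      refine sup_le (fun x hx => ?_) (fun x hx => ?_)
      · exact mem_centralizer_singleton.mpr (hBcomm b hb x hx)
      · exact mem_centralizer_singleton.mpr (hZB x hx b hb).symm
    exact (mem_centralizer_singleton.mp (h1 ha)).symm
  have hAK' : A ≤ normalizer ((⁅K, Z⁆ : Subgroup G) : Set G) := by
    apply le_normalizer_of_conj_mem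
    intro a ha
    have h1 : ⁅K, Z⁆ ≤ (⁅K, Z⁆ : Subgroup G).comap (MulAut.conj a).toMonoidHom := by
      rw [commutator_le]
      intro y hy z hz
      show a * ⁅y, z⁆ * a⁻¹ ∈ (⁅K, Z⁆ : Subgroup G)
      have h2 : a * ⁅y, z⁆ * a⁻¹ = ⁅a * y * a⁻¹, a * z * a⁻¹⁆ := by
        simp only [commutatorElement_def]; group
      rw [h2]
      exact commutator_mem_commutator (conj_mem_of_le_normalizer hAK ha hy)
        (conj_mem_of_le_normalizer hAZ ha hz)
    exact fun x hx => h1 hx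
  have hs : Group.IsSolvable ↥(⁅K, Z⁆ : Subgroup G) :=
    Group.isSolvable_of_isSolvable_injective (f := inclusion hK'K) (inclusion_injective hK'K)
  have h := le_iSup_commutator_aux' (A := A) (K := ⁅K, Z⁆) (L := Z)
    {X | ∃ b : G, b ∈ B ∧ b ≠ 1 ∧ X = zpowers b} hAZ le_sup_right hs hAK' ?_ ?_
    (commutator_commutator_eq Z K hZK hcop) _ ⁅K, Z⁆ rfl le_rfl hAK' Subgroup.le_normalizer
    le_sup_right
  · refine h.trans (iSup_le fun X => ?_)
    obtain ⟨X, b, hb, hb1, rfl⟩ := X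
    refine le_trans ?_ (le_iSup (fun b : {b : G // b ∈ B ∧ b ≠ 1} =>
      ⁅K ⊓ centralizer {(b : G)}, Z⁆) ⟨b, hb, hb1⟩)
    show ⁅⁅K, Z⁆ ⊓ centralizer ((zpowers b : Subgroup G) : Set G), Z⁆ ≤ ⁅K ⊓ centralizer {b}, Z⁆
    rw [centralizer_zpowers]
    exact commutator_mono (inf_le_inf_right _ hK'K) le_rfl
  · rintro X ⟨b, hb, -, rfl⟩ a ha y hy
    exact hAB a ha y ((zpowers_le.mpr hb) hy)
  · intro Y hY hAY
    refine (le_iSup_centralizer_ne_one hB hB2
      (fun h => hKp (h.trans (card_dvd_of_le (hY.trans hK'K)))) (le_sup_left.trans hAY)).trans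
      (iSup_le fun b => ?_)
    refine le_trans (le_of_eq ?_) (le_iSup
      (fun X : {X : Subgroup G | ∃ b : G, b ∈ B ∧ b ≠ 1 ∧ X = zpowers b} =>
      Y ⊓ centralizer ((X : Subgroup G) : Set G)) ⟨zpowers b.1, b.1, b.2.1, b.2.2, rfl⟩)
    rw [centralizer_zpowers]

/-- A `q`-element of `H` lies in the normal subgroup `M` of index coprime to `q`. -/
theorem mem_of_relIndex_coprime {q : ℕ} {M H : Subgroup G}
    (hMH : H ≤ normalizer (M : Set G)) (hc : (M.relIndex H).Coprime q) {y : G} (hy : y ∈ H) {k : ℕ}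
    (hk : y ^ q ^ k = 1) : y ∈ M := by
  have hn : (M.subgroupOf H).Normal := normal_subgroupOf_of_le_normalizer hMH
  have h1 : (⟨y, hy⟩ : H) ^ (M.relIndex H) ∈ M.subgroupOf H := by
    have := (M.subgroupOf H).pow_index_mem (⟨y, hy⟩ : H)
    exact this
  have h1' : y ^ (M.relIndex H) ∈ M := by
    rw [mem_subgroupOf] at h1
    simpa using h1
  have hc' : IsCoprime ((M.relIndex H : ℕ) : ℤ) ((q ^ k : ℕ) : ℤ) :=
    Nat.isCoprime_iff_coprime.mpr (Nat.Coprime.pow_right k hc)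
  obtain ⟨u, v, huv⟩ := hc'
  have h2 : y = (y ^ (M.relIndex H)) ^ u * (y ^ q ^ k) ^ v := by
    rw [← zpow_natCast, ← zpow_mul, ← zpow_natCast y (q ^ k), ← zpow_mul, ← zpow_add,
      mul_comm _ u, mul_comm _ v, huv, zpow_one]
  rw [h2, hk, one_zpow, mul_one]
  exact zpow_mem h1' u

/-- `Z` a `q`-group acting on the `q'`-group `N`, `g` normalising `N` and `N Z`: then `g` normalises
`⁅N, Z⁆` and `Z^g ≤ Z ⁅N, Z⁆`. -/
theorem conj_mem_sup_commutator [Finite G] {q : ℕ} [hq : Fact q.Prime] {N Z : Subgroup G}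
    (hZ : IsPGroup q Z) (hN : (Nat.card N).Coprime q) (hZN : Z ≤ normalizer (N : Set G)) {g : G}
    (hg : g ∈ normalizer ((Z ⊔ N : Subgroup G) : Set G)) {z : G} (hz : z ∈ Z) :
    g * z * g⁻¹ ∈ Z ⊔ ⁅N, Z⁆ := by
  set E : Subgroup G := ⁅N, Z⁆ with hE
  have hEN : E ≤ N := commutator_le_left hZN
  have hNE : N ≤ normalizer (E : Set G) := by
    rw [hE]; exact left_le_normalizer_commutator _ _
  have hZE : Z ≤ normalizer (E : Set G) := by
    rw [hE]; exact right_le_normalizer_commutator _ _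
  have hnorm : (Z ⊔ N) ≤ normalizer ((Z ⊔ E : Subgroup G) : Set G) := by
    refine sup_le (le_sup_left.trans Subgroup.le_normalizer) ?_
    apply le_normalizer_of_conj_mem
    intro n hn
    have h1 : Z ⊔ E ≤ (Z ⊔ E).comap (MulAut.conj n).toMonoidHom := by
      refine sup_le (fun z hz => ?_) (fun e he => ?_)
      · show n * z * n⁻¹ ∈ Z ⊔ E
        have h2 : n * z * n⁻¹ = ⁅n, z⁆ * z := by simp only [commutatorElement_def]; group
        rw [h2]
        exact mul_mem (mem_sup_right (commutator_mem_commutator hn hz)) (mem_sup_left hz)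
      · exact mem_sup_right (conj_mem_of_le_normalizer hNE hn he)
    exact fun x hx => h1 hx
  have hZNbot : Z ⊓ N = ⊥ := by
    apply MinCounterBasic.inf_eq_bot_of_coprime
    obtain ⟨k, hk⟩ := hZ.exists_card_eq
    rw [hk]
    exact (Nat.Coprime.pow_right k hN).symm
  have hcard : Nat.card ↥(Z ⊔ N) = Nat.card N * Nat.card Z := by
    rw [sup_comm]
    exact PermTriple.card_sup_of_inf_eq_bot hZN (by rw [inf_comm]; exact hZNbot)
  have hcard' : Nat.card ↥(Z ⊔ E) = Nat.card E * Nat.card Z := by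
    rw [sup_comm]
    exact PermTriple.card_sup_of_inf_eq_bot hZE (by
      rw [eq_bot_iff, ← hZNbot, inf_comm]; exact inf_le_inf_left _ hEN)
  have hindex : ((Z ⊔ E).relIndex (Z ⊔ N)).Coprime q := by
    have h1 : (Z ⊔ E).relIndex (Z ⊔ N) * Nat.card ↥(Z ⊔ E) = Nat.card ↥(Z ⊔ N) := by
      have h2 := relIndex_mul_relIndex (⊥ : Subgroup G) (Z ⊔ E) (Z ⊔ N) bot_le
        (sup_le_sup_left hEN Z)
      rw [relIndex_bot_left, relIndex_bot_left] at h2
      rw [mul_comm]; exact h2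
    rw [hcard, hcard', ← mul_assoc] at h1
    have h2 := Nat.eq_of_mul_eq_mul_right Nat.card_pos h1
    exact Nat.Coprime.coprime_dvd_left ⟨_, h2.symm⟩ hN
  obtain ⟨k, hk⟩ := hZ ⟨z, hz⟩
  have hk' : z ^ q ^ k = 1 := congrArg Subtype.val hk
  refine mem_of_relIndex_coprime hnorm hindex ((mem_normalizer_iff.mp hg z).mp (mem_sup_left hz))
    (k := k) ?_
  rw [conj_pow, hk']; group

theorem mem_normalizer_commutator [Finite G] {q : ℕ} [hq : Fact q.Prime] {N Z : Subgroup G}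
    (hZ : IsPGroup q Z) (hN : (Nat.card N).Coprime q) (hZN : Z ≤ normalizer (N : Set G)) {X : Subgroup G}
    (hXN : X ≤ normalizer (N : Set G))
    (hX : X ≤ normalizer ((Z ⊔ N : Subgroup G) : Set G)) :
    X ≤ normalizer ((⁅N, Z⁆ : Subgroup G) : Set G) := by
  apply le_normalizer_of_conj_mem
  intro g hg
  have hZE : Z ≤ normalizer ((⁅N, Z⁆ : Subgroup G) : Set G) := right_le_normalizer_commutator _ _
  have hNE : N ≤ normalizer ((⁅N, Z⁆ : Subgroup G) : Set G) := left_le_normalizer_commutator _ _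
  have h1 : ⁅N, Z⁆ ≤ (⁅N, Z⁆ : Subgroup G).comap (MulAut.conj g).toMonoidHom := by
    rw [commutator_le]
    intro n hn z hz
    show g * ⁅n, z⁆ * g⁻¹ ∈ (⁅N, Z⁆ : Subgroup G)
    have h2 : g * ⁅n, z⁆ * g⁻¹ = ⁅g * n * g⁻¹, g * z * g⁻¹⁆ := by
      simp only [commutatorElement_def]; group
    have hn' := conj_mem_of_le_normalizer hXN hg hn
    have hz' := conj_mem_sup_commutator hZ hN hZN (hX hg) hz
    rw [h2]
    generalize g * n * g⁻¹ = n' at hn'
    generalize g * z * g⁻¹ = w at hz'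
    obtain ⟨e, he, z', hz'', rfl⟩ :=
      (Cfsg.Agent.SignalizersComponents.CoprimeBasic.mem_sup_iff hZE w).mp
        (by rw [sup_comm]; exact hz')
    have h3 : ⁅n', e * z'⁆ = (n' * e * n'⁻¹) * (⁅n', z'⁆) * (z' * (e * z') ⁻¹) := by
      simp only [commutatorElement_def]; group
    have h4 : z' * (e * z')⁻¹ = e⁻¹ := by group
    rw [h3, h4]
    exact mul_mem (mul_mem (conj_mem_of_le_normalizer hNE hn' he) (commutator_mem_commutator hn' hz''))
      (inv_mem he)
  exact fun x hx => h1 hx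

end gen

/-! ### The subfunctor -/

section functor

universe u

variable {G : Type u} [Group G] [Finite G] {r : ℕ} [hr : Fact r.Prime] {A : Subgroup G}
  {θ : G → Subgroup G} {q : ℕ} [hq : Fact q.Prime] {Z : Subgroup G}

/-- The subfunctor `a ↦ N_{θ a}(Z O_{q'}(θ a))`. -/
def psi (q : ℕ) (Z : Subgroup G) (θ : G → Subgroup G) (a : G) : Subgroup G :=
  θ a ⊓ normalizer ((Z ⊔ Opp q (θ a) : Subgroup G) : Set G)

/-- `Z ≤ O_{q',q}(H)`. -/
def Below (q : ℕ) (Z H : Subgroup G) : Prop :=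
  ∃ D : Subgroup G, Z ≤ D ∧ D ≤ H ∧ H ≤ normalizer (D : Set G) ∧
    ∀ Y ≤ D, (Nat.card Y).Coprime q → Y ≤ Opp q H

theorem psi_le (a : G) : psi q Z θ a ≤ θ a := inf_le_left

theorem Opp_le_psi (a : G) : Opp q (θ a) ≤ psi q Z θ a :=
  le_inf Opp_le (le_sup_right.trans (Subgroup.le_normalizer (H := Z ⊔ Opp q (θ a))))

omit [Finite G] hr hq in
theorem comm_of_le_inf (hθ : Cfsg.IsSolvableSignalizerFunctor r A θ)
    (hZC : Z ≤ Cfsg.signalizerInf A θ) : ∀ z ∈ Z, ∀ a ∈ A, a * z = z * a := fun z hz a ha =>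
  mem_centralizer_iff.mp (signalizerInf_le_centralizer hθ le_rfl (hZC hz)) a ha

theorem psi_isFunctor (hθ : Cfsg.IsSolvableSignalizerFunctor r A θ)
    (hZC : Z ≤ Cfsg.signalizerInf A θ) (hZO : ∀ b ∈ A, b ≠ 1 → Below q Z (θ b)) :
    Cfsg.IsSolvableSignalizerFunctor r A (psi q Z θ) := by
  have hcomm := comm_of_le_inf hθ hZC
  have hZθ : ∀ a ∈ A, a ≠ 1 → Z ≤ θ a := fun a ha ha1 => hZC.trans (signalizerInf_le ha ha1)
  refine ⟨⟨fun a ha ha1 => (psi_le a).trans (hθ.1.1 a ha ha1),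
    fun a ha ha1 h => hθ.1.2.1 a ha ha1 (h.trans (card_dvd_of_le (psi_le a))), ?_, ?_⟩,
    fun a ha ha1 => ?_⟩
  · intro a ha ha1 b hb u hu
    have hA1 : A ≤ normalizer ((Z ⊔ Opp q (θ a) : Subgroup G) : Set G) :=
      le_normalizer_sup (le_normalizer_of_conj_mem fun c hc z hz => by
          rw [hcomm z hz c hc]; simpa using hz)
        ((theta_le_normalizer hθ ha ha1).trans normalizer_le_normalizer_Opp)
    exact ⟨hθ.1.2.2.1 a ha ha1 b hb u hu.1,
      Subgroup.mul_mem _ (Subgroup.mul_mem _ (hA1 hb) hu.2) (Subgroup.inv_mem _ (hA1 hb))⟩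
  · intro a ha ha1 b hb hb1
    refine le_inf ((inf_le_inf_right _ (psi_le a)).trans (hθ.1.2.2.2 a ha ha1 b hb hb1)) ?_
    obtain ⟨D, hZD, hDb, hbD, hY⟩ := hZO b hb hb1
    apply le_normalizer_of_conj_mem
    rintro x ⟨hxa, hxb⟩
    have hxθb : x ∈ θ b := hθ.1.2.2.2 a ha ha1 b hb hb1 ⟨hxa.1, hxb⟩
    have h1 : Z ⊔ Opp q (θ b) ≤ (Z ⊔ Opp q (θ b)).comap (MulAut.conj x).toMonoidHom := by
      refine sup_le (fun z hz => ?_) (fun n hn => ?_)
      · show x * z * x⁻¹ ∈ Z ⊔ Opp q (θ b)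
        have h2 : x * z * x⁻¹ ∈ Z ⊔ Opp q (θ a) := (mem_normalizer_iff.mp hxa.2 z).mp (mem_sup_left hz)
        have h3 : x * z * x⁻¹ ∈ D := conj_mem_of_le_normalizer hbD hxθb (hZD hz)
        obtain ⟨n, hn, z', hz', h4⟩ :=
          (Cfsg.Agent.SignalizersComponents.CoprimeBasic.mem_sup_iff
            ((hZθ a ha ha1).trans le_normalizer_Opp) _).mp (by rw [sup_comm]; exact h2)
        rw [← h4] at h3 ⊢
        have h5 : n ∈ D := by
          have := D.mul_mem h3 (D.inv_mem (hZD hz'))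
          simpa using this
        have h6 : Opp q (θ a) ⊓ D ≤ Opp q (θ b) :=
          hY _ inf_le_right (Nat.Coprime.coprime_dvd_left (card_dvd_of_le inf_le_left)
            (coprime_Opp (q := q) (X := θ a)))
        exact mul_mem (mem_sup_right (h6 ⟨hn, h5⟩)) (mem_sup_left hz')
      · exact mem_sup_right (conj_mem_of_le_normalizer le_normalizer_Opp hxθb hn)
    exact fun y hy => h1 hy
  · have := hθ.2 a ha ha1
    exact Group.isSolvable_of_isSolvable_injective (Subgroup.inclusion_injective (psi_le a))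

/-- The subfunctor is proper. -/
theorem exists_psi_ne (h : MinCounter r A θ) (hZC : Z ≤ Cfsg.signalizerInf A θ) (hZ1 : Z ≠ ⊥)
    (hZq : IsPGroup q Z) (hZO : ∀ b ∈ A, b ≠ 1 → Below q Z (θ b)) :
    ∃ a ∈ A, a ≠ 1 ∧ psi q Z θ a ≠ θ a := by
  by_contra hcon
  push Not at hcon
  have hθ := h.func
  have hcomm := comm_of_le_inf hθ hZC
  have hZθ : ∀ a ∈ A, a ≠ 1 → Z ≤ θ a := fun a ha ha1 => hZC.trans (signalizerInf_le ha ha1)
  have hAZ : A ≤ normalizer (Z : Set G) := le_normalizer_of_conj_mem fun c hc z hz => by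
    rw [hcomm z hz c hc]; simpa using hz
  have hnorm : ∀ a ∈ A, a ≠ 1 → θ a ≤ normalizer ((Z ⊔ Opp q (θ a) : Subgroup G) : Set G) :=
    fun a ha ha1 => by
      conv_lhs => rw [← hcon a ha ha1]
      exact inf_le_right
  have hZN : ∀ a ∈ A, a ≠ 1 → Z ≤ normalizer (Opp q (θ a) : Set G) :=
    fun a ha ha1 => (hZθ a ha ha1).trans le_normalizer_Opp
  set E : G → Subgroup G := fun a => ⁅Opp q (θ a), Z⁆ with hE
  have hEN : ∀ a ∈ A, a ≠ 1 → E a ≤ Opp q (θ a) := fun a ha ha1 => commutator_le_left (hZN a ha ha1)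
  have hEθ : ∀ a ∈ A, a ≠ 1 → θ a ≤ normalizer (E a : Set G) := fun a ha ha1 =>
    mem_normalizer_commutator hZq coprime_Opp (hZN a ha ha1) le_normalizer_Opp (hnorm a ha ha1)
  have hAE : ∀ a ∈ A, a ≠ 1 → A ≤ normalizer (E a : Set G) := fun a ha ha1 =>
    le_normalizer_commutator ((theta_le_normalizer hθ ha ha1).trans normalizer_le_normalizer_Opp)
      fun c hc z hz => hcomm z hz c hc
  have hEmem : ∀ a ∈ A, a ≠ 1 → E a ∈ Cfsg.signalizerFamily r A θ := fun a ha ha1 =>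
    mem_of_le (SignalizerMax.theta_mem_family hθ ha ha1) ((hEN a ha ha1).trans Opp_le) (hAE a ha ha1)
  have hEpi : ∀ a ∈ A, a ≠ 1 → PiNum ({q}ᶜ : Set ℕ) (E a) := by
    intro a ha ha1 s hs hd hsq
    rw [Set.mem_singleton_iff] at hsq
    subst hsq
    have h1 : s ∣ Nat.card (Opp s (θ a)) := hd.trans (card_dvd_of_le (hEN a ha ha1))
    have h2 := coprime_Opp (q := s) (X := θ a)
    exact hs.one_lt.ne' (Nat.dvd_one.mp (h2 ▸ Nat.dvd_gcd h1 dvd_rfl))
  -- generation
  have hgen : ∀ a ∈ A, a ≠ 1 → ∀ b ∈ A, b ≠ 1 → ⁅Opp q (θ a) ⊓ centralizer {b}, Z⁆ ≤ E b := by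
    intro a ha ha1 b hb hb1
    obtain ⟨D, hZD, hDb, hbD, hY⟩ := hZO b hb hb1
    set X : Subgroup G := Opp q (θ a) ⊓ centralizer {b} with hX
    have hXb : X ≤ θ b := (inf_le_inf_right _ Opp_le).trans (hθ.1.2.2.2 a ha ha1 b hb hb1)
    have hZX : Z ≤ normalizer (X : Set G) := by
      apply le_normalizer_of_conj_mem
      rintro z hz x ⟨hx1, hx2⟩
      refine ⟨conj_mem_of_le_normalizer (hZN a ha ha1) hz hx1, ?_⟩
      have hzb : z ∈ centralizer ({b} : Set G) := mem_centralizer_singleton.mpr (hcomm z hz b hb)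
      exact Subgroup.mul_mem _ (Subgroup.mul_mem _ hzb hx2) (Subgroup.inv_mem _ hzb)
    have hXcop : (Nat.card X).Coprime q := Nat.Coprime.coprime_dvd_left
      (card_dvd_of_le inf_le_left) (coprime_Opp (q := q) (X := θ a))
    have hXZX : ⁅X, Z⁆ ≤ X := commutator_le_left hZX
    have hXZD : ⁅X, Z⁆ ≤ D := by
      refine (commutator_mono le_rfl hZD).trans ?_
      rw [commutator_comm]
      exact commutator_le_left (hXb.trans hbD)
    have hXZ : ⁅X, Z⁆ ≤ Opp q (θ b) :=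
      hY _ hXZD (Nat.Coprime.coprime_dvd_left (card_dvd_of_le hXZX) hXcop)
    rw [← commutator_commutator_eq Z X hZX (by
      obtain ⟨k, hk⟩ := hZq.exists_card_eq
      rw [hk]
      exact (Nat.Coprime.pow_right k hXcop).symm)]
    exact commutator_mono hXZ le_rfl
  have hle : ∀ B ≤ A, r ^ 2 ≤ Nat.card B → ∀ a ∈ A, a ≠ 1 →
      E a ≤ ⨆ b : {b : G // b ∈ B ∧ b ≠ 1}, E (b : G) := by
    intro B hBA hB2 a ha ha1
    have hOs : Group.IsSolvable (Opp q (θ a)) := by
      have := hθ.2 a ha ha1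
      exact Group.isSolvable_of_isSolvable_injective (Subgroup.inclusion_injective Opp_le)
    refine (commutator_le_iSup_of_commute (p := r) (isElementaryAbelian_mono h.elem hBA) hB2 hOs
      (fun hd => hθ.1.2.1 a ha ha1 (hd.trans (card_dvd_of_le Opp_le)))
      (hBA.trans ((theta_le_normalizer hθ ha ha1).trans normalizer_le_normalizer_Opp))
      (hZN a ha ha1) (fun z hz b hb => (hcomm z hz b (hBA hb)).symm) ?_).trans (iSup_mono fun b => ?_)
    · obtain ⟨k, hk⟩ := hZq.exists_card_eq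
      rw [hk]
      exact (Nat.Coprime.pow_right k coprime_Opp).symm
    · exact hgen a ha ha1 b.1 (hBA b.2.1) b.2.2
  set W : Subgroup G := ⨆ a : {a : G // a ∈ A ∧ a ≠ 1}, E (a : G) with hW
  have hAW : A ≤ normalizer (W : Set G) := iSup_le_normalizer _ fun a => hAE a.1 a.2.1 a.2.2
  obtain ⟨a₀, ha₀, ha₀1⟩ := A.bot_or_exists_ne_one.resolve_left (MinCounter.ne_bot h)
  have hpc : piClosure ({q}ᶜ : Set ℕ) A θ ∈ Cfsg.signalizerFamily r A θ := by
    refine piClosure_mem h.elem hθ (HallFunctor.MinCounter.hall_complete h ⟨a₀, ha₀, ha₀1, ?_⟩)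
    intro hpi
    have h1 : q ∣ Nat.card Z := by
      obtain ⟨k, hk⟩ := hZq.exists_card_eq
      rw [hk]
      refine dvd_pow_self q ?_
      rintro rfl
      rw [pow_zero, Subgroup.card_eq_one] at hk
      exact hZ1 hk
    exact hpi q hq.out (h1.trans (card_dvd_of_le (hZθ a₀ ha₀ ha₀1))) rfl
  have hWle : W ≤ piClosure ({q}ᶜ : Set ℕ) A θ := iSup_le fun a =>
    le_piClosure h.elem (MinCounter.pow_two_le h) hθ (hEmem a.1 a.2.1 a.2.2)
      ((signalizerInf_le a.2.1 a.2.2).trans (hEθ a.1 a.2.1 a.2.2)) (hEpi a.1 a.2.1 a.2.2)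
  have hWmem : W ∈ Cfsg.signalizerFamily r A θ := mem_of_le hpc hWle hAW
  have hcard2 : ∀ B ≤ A, B.relIndex A = r → r ^ 2 ≤ Nat.card B := fun B hBA hB =>
    hyperplane_pow_le h.card.ge hBA hB
  have hW1 : W = ⊥ := by
    by_contra hW1
    refine MinCounter.false_of_le_normalizer h hWmem hW1 fun B hBA hB => ?_
    have hWB : W = ⨆ b : {b : G // b ∈ B ∧ b ≠ 1}, E (b : G) := by
      apply le_antisymm
      · exact iSup_le fun a => hle B hBA (hcard2 B hBA hB) a.1 a.2.1 a.2.2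
      · exact iSup_le fun b => le_iSup (fun a : {a : G // a ∈ A ∧ a ≠ 1} => E (a : G))
          ⟨b.1, hBA b.2.1, b.2.2⟩
    rw [hWB]
    exact iSup_le_normalizer _ fun b =>
      (signalizerInf_le b.2.1 b.2.2).trans (hEθ b.1 (hBA b.2.1) b.2.2)
  have hE1 : ∀ a ∈ A, a ≠ 1 → E a = ⊥ := fun a ha ha1 => by
    rw [eq_bot_iff, ← hW1]
    exact le_iSup (fun a : {a : G // a ∈ A ∧ a ≠ 1} => E (a : G)) ⟨a, ha, ha1⟩
  have hθZ : ∀ a ∈ A, a ≠ 1 → θ a ≤ normalizer (Z : Set G) := by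
    intro a ha ha1
    apply le_normalizer_of_conj_mem
    intro g hg z hz
    have h1 := conj_mem_sup_commutator hZq coprime_Opp (hZN a ha ha1) (hnorm a ha ha1 hg) hz
    have h2 : ⁅Opp q (θ a), Z⁆ = ⊥ := hE1 a ha ha1
    rw [h2, sup_bot_eq] at h1
    exact h1
  have hZmem : Z ∈ Cfsg.signalizerFamily r A θ :=
    mem_of_le (SignalizerMax.theta_mem_family hθ ha₀ ha₀1) (hZθ a₀ ha₀ ha₀1) hAZ
  refine MinCounter.false_of_le_normalizer h hZmem hZ1 fun B hBA hB => ?_
  have hB1 : B ≠ ⊥ := ne_bot_of_pow_le two_ne_zero (hcard2 B hBA hB)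
  obtain ⟨b, hb, hb1⟩ := B.bot_or_exists_ne_one.resolve_left hB1
  exact (signalizerInf_le hb hb1).trans (hθZ b (hBA hb) hb1)

/-- **The `ψ`-functor.** `1 ≠ Z ≤ ⋂ θ a` a `q`-group contained in all `O_{q',q}(θ a)`: some member
contains all `O_{q'}(θ a)` and all members normalising `Z`. -/
theorem exists_psi' (h : MinCounter r A θ) (hZC : Z ≤ Cfsg.signalizerInf A θ) (hZ1 : Z ≠ ⊥)
    (hZq : IsPGroup q Z) (hZO : ∀ b ∈ A, b ≠ 1 → Below q Z (θ b)) :
    ∃ Ψ ∈ Cfsg.signalizerFamily r A θ, (∀ a ∈ A, a ≠ 1 → Opp q (θ a) ≤ Ψ) ∧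
      ∀ P ∈ Cfsg.signalizerFamily r A θ, P ≤ normalizer (Z : Set G) → P ≤ Ψ := by
  obtain ⟨W, hW, hle⟩ := h.sub_complete _ (psi_isFunctor h.func hZC hZO) (fun a _ _ => psi_le a)
    (exists_psi_ne h hZC hZ1 hZq hZO)
  refine ⟨W, mem_family_of_mem (fun a _ _ => psi_le a) hW,
    fun a ha ha1 => (Opp_le_psi a).trans (hle a ha ha1), fun P hP hPZ => ?_⟩
  refine (le_iSup_centralizer_ne_one h.elem (MinCounter.pow_two_le h) hP.2.1
    (le_normalizer_of_mem hP)).trans (iSup_le fun a => ?_)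
  have h1 : P ⊓ centralizer {(a : G)} ≤ θ a := hP.2.2.2 a.1 a.2.1 a.2.2
  refine le_trans (le_inf h1 ?_) (hle a.1 a.2.1 a.2.2)
  exact le_normalizer_sup (inf_le_left.trans hPZ) (h1.trans le_normalizer_Opp)

theorem exists_psi (h : MinCounter r A θ) (hZC : Z ≤ Cfsg.signalizerInf A θ) (hZ1 : Z ≠ ⊥)
    (hZq : IsPGroup q Z) (hZO : ∀ b ∈ A, b ≠ 1 → ∃ D : Subgroup G, Z ≤ D ∧ D ≤ θ b ∧
      θ b ≤ normalizer (D : Set G) ∧ ∀ Y ≤ D, (Nat.card Y).Coprime q → Y ≤ Opp q (θ b)) :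
    ∃ Ψ ∈ Cfsg.signalizerFamily r A θ, (∀ a ∈ A, a ≠ 1 → Opp q (θ a) ≤ Ψ) ∧
      ∀ P ∈ Cfsg.signalizerFamily r A θ, P ≤ centralizer (Z : Set G) → P ≤ Ψ := by
  obtain ⟨Ψ, h1, h2, h3⟩ := exists_psi' h hZC hZ1 hZq hZO
  exact ⟨Ψ, h1, h2, fun P hP hPZ => h3 P hP (hPZ.trans (centralizer_le_normalizer' Z))⟩

end functor

end Cfsg.Agent.SignalizersComponents.FermatPsi
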