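import Mathlib
import Cfsg.Prelude.Def_Local
import Cfsg.Agent.Lib.Cores
import Cfsg.Agent.Lib.LocalCore
import Cfsg.Agent.Lib.HallHigman
import Cfsg.Agent.SignalizersComponents.MinCounterBasic
import Cfsg.Agent.SignalizersComponents.RadicalEnd
import Cfsg.Agent.SignalizersComponents.StepFour
import Cfsg.Agent.Blocks.SylowIn

set_option autoImplicit false

/-!
The subgroup `O_{q',q}(K)` of a solvable group `K`: tools for the Fermat case of the solvable signalizer
functor theorem.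
-/

namespace Cfsg.Agent.SignalizersComponents.FermatTools

open Subgroup
open scoped commutatorElement
open Cfsg.Agent.SignalizersComponents.GoldschmidtGen (le_normalizer_of_conj_mem
  conj_mem_of_le_normalizer)
open Cfsg.Agent.SignalizersComponents.MinCounterBasic
open Cfsg.Agent.Lib

universe u

section abstractgroup

variable {K : Type u} [Group K] [Finite K] {q : ℕ} [hq : Fact q.Prime]

theorem eq_one_of_pow {H : Type*} [Group H] {x : H} {m n : ℕ} (hm : x ^ m = 1) (hn : x ^ n = 1)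
    (h : m.Coprime n) : x = 1 := by
  have h1 := Nat.dvd_gcd (orderOf_dvd_of_pow_eq_one hm) (orderOf_dvd_of_pow_eq_one hn)
  rw [h.gcd_eq_one] at h1
  exact orderOf_eq_one_iff.mp (Nat.dvd_one.mp h1)

/-- A `q'`-subgroup of `O_{q',q}(K)` lies in `O_{q'}(K)`. -/
theorem le_pPrimeCore_of_le_pPrimePCore {Y : Subgroup K} (hY : Y ≤ Cfsg.pPrimePCore q K)
    (hYc : (Nat.card Y).Coprime q) : Y ≤ Cfsg.pPrimeCore q K := by
  have : (Cfsg.pPrimeCore q K).Normal := Cores.pPrimeCore_normal q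
  intro y hy
  have h1 : (QuotientGroup.mk' (Cfsg.pPrimeCore q K) y) ∈ Cfsg.pCore q (K ⧸ Cfsg.pPrimeCore q K) := hY hy
  obtain ⟨m, hm⟩ := (Cores.pCore_isPGroup q) ⟨_, h1⟩
  have hm' : (QuotientGroup.mk' (Cfsg.pPrimeCore q K) y) ^ q ^ m = 1 := congrArg Subtype.val hm
  have h2 : (QuotientGroup.mk' (Cfsg.pPrimeCore q K) y) ^ Nat.card Y = 1 := by
    rw [← map_pow]
    have h3 : y ^ Nat.card Y = 1 := by
      have h4 : (⟨y, hy⟩ : Y) ^ Nat.card Y = 1 := pow_card_eq_one'
      exact congrArg Subtype.val h4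
    rw [h3, map_one]
  exact (QuotientGroup.eq_one_iff y).mp (eq_one_of_pow h2 hm' (Nat.Coprime.pow_right m hYc))

/-- `C_{K/N}(O_q(K/N)) ≤ O_q(K/N)`, `N = O_{q'}(K)`. -/
theorem centralizer_pCore_quotient_le (hK : Group.IsSolvable K) :
    centralizer (Cfsg.pCore q (K ⧸ Cfsg.pPrimeCore q K) : Set (K ⧸ Cfsg.pPrimeCore q K)) ≤
      Cfsg.pCore q (K ⧸ Cfsg.pPrimeCore q K) := by
  have : (Cfsg.pPrimeCore q K).Normal := Cores.pPrimeCore_normal q
  have : Group.IsSolvable (K ⧸ Cfsg.pPrimeCore q K) :=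
    Group.isSolvable_of_surjective (QuotientGroup.mk'_surjective _)
  exact HallHigman.centralizer_pCore_le_of_solvable q (Cores.pPrimeCore_quotient_pPrimeCore q)

/-- The centraliser of a Sylow `q`-subgroup of the solvable group `K` lies in `O_{q',q}(K)`. -/
theorem centralizer_sylow_le (hK : Group.IsSolvable K) (S : Sylow q K) :
    centralizer (S : Set K) ≤ Cfsg.pPrimePCore q K := by
  have hN : (Cfsg.pPrimeCore q K).Normal := Cores.pPrimeCore_normal q
  have hf : Function.Surjective (QuotientGroup.mk' (Cfsg.pPrimeCore q K)) :=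
    QuotientGroup.mk'_surjective _
  intro x hx
  show QuotientGroup.mk' (Cfsg.pPrimeCore q K) x ∈ Cfsg.pCore q (K ⧸ Cfsg.pPrimeCore q K)
  apply centralizer_pCore_quotient_le hK
  rw [mem_centralizer_iff]
  intro y hy
  have h1 := Cores.pCore_le_sylow (S.mapSurjective hf) hy
  have h2 : y ∈ (S : Subgroup K).map (QuotientGroup.mk' (Cfsg.pPrimeCore q K)) := h1
  obtain ⟨s, hs, rfl⟩ := h2
  rw [← map_mul, mem_centralizer_iff.mp hx s hs, map_mul]

/-- A `q'`-subgroup normalised by a Sylow `q`-subgroup lies in `O_{q'}(K)`. -/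
theorem le_pPrimeCore_of_sylow_le_normalizer (hK : Group.IsSolvable K) (S : Sylow q K)
    {X : Subgroup K} (hX : (Nat.card X).Coprime q) (hS : (S : Subgroup K) ≤ normalizer (X : Set K)) :
    X ≤ Cfsg.pPrimeCore q K := by
  have hN : (Cfsg.pPrimeCore q K).Normal := Cores.pPrimeCore_normal q
  set f := QuotientGroup.mk' (Cfsg.pPrimeCore q K) with hfdef
  have hf : Function.Surjective f := QuotientGroup.mk'_surjective _
  set O := Cfsg.pCore q (K ⧸ Cfsg.pPrimeCore q K) with hO
  have hOn : O.Normal := Cores.pCore_normal q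
  have hOS : O ≤ (S : Subgroup K).map f := Cores.pCore_le_sylow (S.mapSurjective hf)
  have h1 : O ≤ normalizer (X.map f : Set (K ⧸ Cfsg.pPrimeCore q K)) := by
    refine hOS.trans ?_
    refine (Subgroup.map_mono hS).trans ?_
    exact Subgroup.le_normalizer_map f
  have hXc : (Nat.card (X.map f)).Coprime q := hX.coprime_dvd_left (Subgroup.card_map_dvd X f)
  have h2 : X.map f ⊓ O = ⊥ := MinCounterBasic.inf_eq_bot_of_coprime
    (coprime_of_isPGroup' hXc (Cores.pCore_isPGroup q))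
  have h3 : X.map f ≤ centralizer (O : Set (K ⧸ Cfsg.pPrimeCore q K)) :=
    le_centralizer_of_normalize (le_normalizer_of_normal) h1 h2
  have h4 : X.map f ≤ O := h3.trans (centralizer_pCore_quotient_le hK)
  rw [inf_eq_left.mpr h4] at h2
  intro x hx
  have h5 : f x ∈ X.map f := ⟨x, hx, rfl⟩
  rw [h2, mem_bot] at h5
  exact (QuotientGroup.eq_one_iff x).mp h5

/-- `q`-subgroups of `O_{q',q}(K)` centralising `O_{q'}(K)` lie in `O_q(K)`. -/
theorem le_pCore_of_le_centralizer {Z : Subgroup K} (hZ : Z ≤ Cfsg.pPrimePCore q K)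
    (hZq : IsPGroup q Z) (hZc : Z ≤ centralizer (Cfsg.pPrimeCore q K : Set K)) :
    Z ≤ Cfsg.pCore q K := by
  have hN : (Cfsg.pPrimeCore q K).Normal := Cores.pPrimeCore_normal q
  set N := Cfsg.pPrimeCore q K with hNdef
  have hOn : (Cfsg.pCore q (K ⧸ N)).Normal := Cores.pCore_normal q
  have hDn : (Cfsg.pPrimePCore q K).Normal := hOn.comap _
  set E : Subgroup K := Cfsg.pPrimePCore q K ⊓ centralizer (N : Set K) with hE
  have hEn : E.Normal := by
    have : (centralizer (N : Set K)).Normal := inferInstance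
    exact inferInstance
  -- `E` is nilpotent
  have hEnil : Group.IsNilpotent E := by
    let g : E →* (K ⧸ N) := (QuotientGroup.mk' N).comp E.subtype
    have hr : IsPGroup q g.range := by
      refine (Cores.pCore_isPGroup (G := K ⧸ N) q).to_le ?_
      rintro _ ⟨⟨x, hx⟩, rfl⟩
      exact hx.1
    have hn : Group.IsNilpotent g.range := hr.isNilpotent
    refine Subgroup.isNilpotent_of_ker_le_center g.rangeRestrict ?_
    rintro ⟨x, hx⟩ hxk
    rw [MonoidHom.ker_rangeRestrict] at hxk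
    have h1 : QuotientGroup.mk' N x = 1 := hxk
    have h2 : x ∈ N := (QuotientGroup.eq_one_iff x).mp h1
    rw [Subgroup.mem_center_iff]
    rintro ⟨y, hy⟩
    exact Subtype.ext (mem_centralizer_iff.mp hy.2 x h2).symm
  have hZE : Z ≤ E := le_inf hZ hZc
  -- the Sylow `q`-subgroup of `E` is `O_q(E)`
  have h1 : Z.subgroupOf E ≤ Cfsg.pCore q E := by
    have hZ' : IsPGroup q (Z.subgroupOf E) := hZq.of_equiv (subgroupOfEquivOfLe hZE).symm
    obtain ⟨S, hS⟩ := hZ'.exists_le_sylow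
    refine hS.trans (Cores.le_pCore ?_ S.isPGroup')
    have := hEnil
    infer_instance
  have h2 : (Cfsg.pCore q E).map E.subtype ≤ Cfsg.pCore q K := by
    rw [Cores.map_subtype_pCore q hEn]
    exact inf_le_right
  refine le_trans ?_ h2
  rw [← Subgroup.map_subgroupOf_eq_of_le hZE]
  exact Subgroup.map_mono h1

end abstractgroup

section ambient

variable {G : Type u} [Group G] {q : ℕ} {X Y Z S : Subgroup G}

/-- `O_{q',q}(X)` as a subgroup of `G` -/
def Oqq (q : ℕ) (X : Subgroup G) : Subgroup G := (Cfsg.pPrimePCore q X).map X.subtype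

theorem Oqq_le : Oqq q X ≤ X := map_subtype_le _

theorem le_normalizer_Oqq : X ≤ normalizer (Oqq q X : Set G) := by
  apply le_normalizer_of_conj_mem
  rintro a ha _ ⟨x, hx, rfl⟩
  have h1 : (Cfsg.pCore q (X ⧸ Cfsg.pPrimeCore q X)).Normal := Cores.pCore_normal q
  have h2 : (Cfsg.pPrimePCore q X).Normal := h1.comap _
  exact ⟨⟨a, ha⟩ * x * ⟨a, ha⟩⁻¹, h2.conj_mem x hx _, rfl⟩

theorem map_subgroupOf_le {U : Subgroup X} (hYX : Y ≤ X) (h : Y.subgroupOf X ≤ U) :
    Y ≤ U.map X.subtype := by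
  rw [← Subgroup.map_subgroupOf_eq_of_le hYX]
  exact Subgroup.map_mono h

theorem subgroupOf_le_of_map {U : Subgroup X} (h : Y ≤ U.map X.subtype) : Y.subgroupOf X ≤ U := by
  intro x hx
  obtain ⟨y, hy, hyx⟩ := h hx
  have h1 : y = x := Subtype.ext hyx
  rwa [← h1]

theorem card_subgroupOf (hYX : Y ≤ X) : Nat.card (Y.subgroupOf X) = Nat.card Y :=
  Nat.card_congr (subgroupOfEquivOfLe hYX).toEquiv

variable [Finite G] [hq : Fact q.Prime]

/-- A `q'`-subgroup of `O_{q',q}(X)` lies in `O_{q'}(X)`. -/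
theorem le_Opp_of_le_Oqq (hY : Y ≤ Oqq q X) (hYc : (Nat.card Y).Coprime q) : Y ≤ Opp q X := by
  have hYX : Y ≤ X := hY.trans Oqq_le
  refine map_subgroupOf_le hYX (le_pPrimeCore_of_le_pPrimePCore (subgroupOf_le_of_map hY) ?_)
  rwa [card_subgroupOf hYX]

/-- If `S` is a Sylow `q`-subgroup of `X` then `C_X(S) ≤ O_{q',q}(X)`. -/
theorem le_Oqq_of_centralize (hX : Group.IsSolvable X)
    (hS : ∃ T : Sylow q X, (T : Subgroup X).map X.subtype = S) (hZX : Z ≤ X)
    (hZS : Z ≤ centralizer (S : Set G)) : Z ≤ Oqq q X := by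
  obtain ⟨T, rfl⟩ := hS
  refine map_subgroupOf_le hZX (le_trans ?_ (centralizer_sylow_le hX T))
  intro z hz
  rw [mem_centralizer_iff]
  intro t ht
  exact Subtype.ext (mem_centralizer_iff.mp (hZS hz) t ⟨t, ht, rfl⟩)

/-- A `q'`-subgroup of `X` normalised by a Sylow `q`-subgroup of `X` lies in `O_{q'}(X)`. -/
theorem le_Opp_of_sylow (hX : Group.IsSolvable X)
    (hS : ∃ T : Sylow q X, (T : Subgroup X).map X.subtype = S) (hYX : Y ≤ X)
    (hYc : (Nat.card Y).Coprime q) (hSY : S ≤ normalizer (Y : Set G)) : Y ≤ Opp q X := by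
  obtain ⟨T, rfl⟩ := hS
  refine map_subgroupOf_le hYX (le_pPrimeCore_of_sylow_le_normalizer hX T ?_ ?_)
  · rwa [card_subgroupOf hYX]
  · intro t ht
    rw [mem_normalizer_iff]
    intro y
    exact mem_normalizer_iff.mp (hSY ⟨t, ht, rfl⟩) y

/-- A `q`-subgroup of `O_{q',q}(X)` centralising `O_{q'}(X)` lies in `O_q(X)`. -/
theorem le_Op_of_le_centralizer (hZ : Z ≤ Oqq q X) (hZq : IsPGroup q Z)
    (hZc : Z ≤ centralizer (Opp q X : Set G)) : Z ≤ Op q X := by
  have hZX : Z ≤ X := hZ.trans Oqq_le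
  refine map_subgroupOf_le hZX (le_pCore_of_le_centralizer (subgroupOf_le_of_map hZ)
    (hZq.of_equiv (subgroupOfEquivOfLe hZX).symm) ?_)
  intro z hz
  rw [mem_centralizer_iff]
  intro y hy
  exact Subtype.ext (mem_centralizer_iff.mp (hZc hz) y ⟨y, hy, rfl⟩)

end ambient

section member

open Cfsg.Agent.SignalizersComponents.FunctorTools
open Cfsg.Agent.SignalizersComponents.FunctorInduction
open Cfsg.Agent.SignalizersComponents.SignalizerMax (IsMaxQ)

variable {G : Type u} [Group G] [Finite G] {r : ℕ} [hr : Fact r.Prime] {A : Subgroup G}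
  {θ : G → Subgroup G} {q : ℕ} [hq : Fact q.Prime]

/-- A maximal `q`-member `P` meets every member `K ≥ ⋂ θ a` in a Sylow `q`-subgroup of `K`. -/
theorem exists_sylow_inf (hA : Cfsg.IsElementaryAbelian r A) (hA3 : r ^ 3 ≤ Nat.card A)
    (hθ : Cfsg.IsSolvableSignalizerFunctor r A θ) {P K : Subgroup G} (hP : IsMaxQ r A θ q P)
    (hK : K ∈ Cfsg.signalizerFamily r A θ) (hCK : Cfsg.signalizerInf A θ ≤ K) :
    ∃ T : Sylow q K, (T : Subgroup K).map K.subtype = P ⊓ K := by
  obtain ⟨Q, ⟨T, hT⟩, hAQ⟩ := Cfsg.Agent.Lib.PGroupCoprimeAction.exists_invariant_sylow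
    (SignalizerMax.isPGroup_of_isElementaryAbelian hA) hK.2.1 hK.2.2.1 q
  have hQK : Q ≤ K := by rw [← hT]; exact map_subtype_le _
  have hQp : IsPGroup q Q := by rw [← hT]; exact T.isPGroup'.map _
  have hQm : Q ∈ Cfsg.signalizerFamily r A θ := mem_of_le hK hQK (le_normalizer_of_conj_mem hAQ)
  obtain ⟨P₁, hP₁, hQP₁⟩ := SignalizerMax.exists_isMaxQ_ge hQm hQp
  obtain ⟨c, hc, hcP⟩ := SignalizerMax.transitivity hA hA3 hθ hP₁ hP
  set Q' : Subgroup G := Q.map (MulAut.conj c).toMonoidHom with hQ'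
  have hQ'P : Q' ≤ P := by rw [← hcP]; exact Subgroup.map_mono hQP₁
  have hQ'K : Q' ≤ K := by
    rintro _ ⟨x, hx, rfl⟩
    exact K.mul_mem (K.mul_mem (hCK hc) (hQK hx)) (K.inv_mem (hCK hc))
  have hcard : Nat.card Q' = q ^ (Nat.card K).factorization q := by
    rw [hQ', Subgroup.card_map_of_injective (MulAut.conj c).injective]
    exact Blocks.SylowIn.card_of_sylow_map_eq ⟨T, hT⟩
  have h1 := Blocks.SylowIn.exists_sylow_map_eq_of_card hQ'K hcard
  have h2 := (Blocks.SylowIn.exists_sylow_map_eq_iff.mp h1).2.2 (P ⊓ K) inf_le_right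
    (hP.2.1.to_le inf_le_left) (le_inf hQ'P hQ'K)
  rw [h2]
  exact h1

/-- `O_{q'}(K)` is centralised by `x` if all `O_s(K)`, `s ≠ q`, are. -/
theorem Opp_le_centralizer {K : Subgroup G} {x : G} (hxr : x ^ r = 1) (hrK : ¬ r ∣ Nat.card K)
    (hKs : Group.IsSolvable K)
    (hxK : x ∈ normalizer (K : Set G)) (h : ∀ s : ℕ, s.Prime → s ≠ q → Op s K ≤ centralizer {x}) :
    Opp q K ≤ centralizer {x} := by
  have hcz : centralizer ((zpowers x : Subgroup G) : Set G) = centralizer {x} :=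
    LocalGlobal.centralizer_zpowers_eq x
  have hN : zpowers x ≤ normalizer (Opp q K : Set G) := by
    rw [zpowers_le]
    exact normalizer_le_normalizer_Opp hxK
  have hNs : Group.IsSolvable ↥(Opp q K) := by
    have := hKs
    exact Group.isSolvable_of_isSolvable_injective (Subgroup.inclusion_injective Opp_le)
  have hcop : (Nat.card (zpowers x)).Coprime (Nat.card (Opp q K)) := by
    have h1 : (Nat.card (zpowers x)) ∣ r := by
      rw [Nat.card_zpowers]
      exact orderOf_dvd_of_pow_eq_one hxr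
    refine Nat.Coprime.coprime_dvd_left h1 ?_
    rw [hr.out.coprime_iff_not_dvd]
    exact fun hd => hrK (hd.trans (card_dvd_of_le Opp_le))
  rw [← hcz]
  refine StepFour.le_centralizer_of_forall hNs hN hcop fun s hs => ?_
  have : Fact s.Prime := ⟨hs⟩
  rw [← Op_eq_piCoreOf hs, hcz]
  by_cases hsq : s = q
  · subst hsq
    have h1 : Op s (Opp s K) = ⊥ := by
      have h2 := MinCounterBasic.inf_eq_bot_of_coprime (X := Opp s K) (Y := Op s (Opp s K))
        (coprime_of_isPGroup' coprime_Opp isPGroup_Op)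
      rwa [inf_eq_right.mpr Op_le] at h2
    rw [h1]
    exact bot_le
  · refine le_trans ?_ (h s hs hsq)
    refine le_Op (Op_le.trans Opp_le) isPGroup_Op ?_
    exact le_normalizer_Opp.trans normalizer_le_normalizer_Op

end member

end Cfsg.Agent.SignalizersComponents.FermatTools
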