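import Mathlib
import Cfsg.Prelude.Def_Balance
import Cfsg.Agent.SignalizersComponents.ThetaRadicalEnd
import Cfsg.Agent.SignalizersComponents.NoFixedAbelian

set_option autoImplicit false
set_option linter.unusedSectionVars false

/-!
Facts on the radicals `W_p` used in the Fermat case of the solvable signalizer functor theorem.
-/

namespace Cfsg.Agent.SignalizersComponents.FermatW

open Subgroup
open scoped commutatorElement
open Cfsg (piCoreOf)
open Cfsg.Agent.OddOrderLocal.PiCoreOf (piCoreOf_le piCoreOf_isPi le_piCoreOf le_normalizer_piCoreOf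
  normalizer_le_normalizer_piCoreOf isPi_singleton_iff)
open Cfsg.Agent.SignalizersComponents.GoldschmidtGen (le_normalizer_of_conj_mem
  conj_mem_of_le_normalizer)
open Cfsg.Agent.SignalizersComponents.CoprimeGen
open Cfsg.Agent.SignalizersComponents.FunctorTools
open Cfsg.Agent.SignalizersComponents.FunctorInduction
open Cfsg.Agent.SignalizersComponents.MinCounterBasic
open Cfsg.Agent.SignalizersComponents.InvariantHall (PiNum piNum_of_isPGroup)
open Cfsg.Agent.SignalizersComponents.FixedPointLemma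
open Cfsg.Agent.SignalizersComponents.ThetaRadical
open Cfsg.Agent.SignalizersComponents.ThetaRadicalEnd
open Cfsg.Agent.SignalizersComponents.NoFixedAbelian

universe u

variable {G : Type u} [Group G] [Finite G] {r : ℕ} [hr : Fact r.Prime] {A : Subgroup G}
  {θ : G → Subgroup G} {p : ℕ} [hp : Fact p.Prime]

/-- Step (4) for abelian `p`-members, all primes `r`: `⁅Y, a⁆ ≤ W_p` for abelian members `Y ≤ P_a`. -/
theorem commutator_le_W_of_comm (hA : Cfsg.IsElementaryAbelian r A) (hA3 : r ^ 3 ≤ Nat.card A)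
    (hθ : Cfsg.IsSolvableSignalizerFunctor r A θ) {a : G} (ha : a ∈ A) (ha1 : a ≠ 1)
    {Y : Subgroup G} (hY : Y ∈ Cfsg.signalizerFamily r A θ) (hYP : Y ≤ pj r p A θ (θ a))
    (hYc : ∀ x ∈ Y, ∀ y ∈ Y, x * y = y * x) : ⁅Y, zpowers a⁆ ≤ W r p A θ := by
  have hNF := noFixedC_true.{u} hr.out {p}
  have haA : zpowers a ≤ A := by rwa [zpowers_le]
  have hPp : IsPGroup p (pj r p A θ (θ a)) := isPGroup_pj_theta hA hA3 hθ ha ha1
  refine (commutator_le_iSup_hyperplane hA (ne_bot_of_pow_le three_ne_zero hA3) haA hY.1 hY.2.1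
    (le_normalizer_of_mem hY)).trans (iSup_le fun D => ?_)
  refine le_iInf fun B => ?_
  obtain ⟨d, hdD, hdB, hd1⟩ := RadicalBasic.exists_mem_inf hA hA3 D.2.1 D.2.2 B.2.1 B.2.2
  have hdA := D.2.1 hdD
  have hθd := SignalizerMax.theta_mem_family hθ hdA hd1
  set X := Y ⊓ centralizer {d} with hX
  have hXθ : X ≤ θ d := hY.2.2.2 d hdA hd1
  have hXp : IsPGroup p X := hPp.to_le (inf_le_left.trans hYP)
  have h1 : ⁅X, zpowers a⁆ ≤ piCoreOf {p} (θ d) := by
    refine general hNF hθd.1 hθd.2.1 (hA.2 a ha) (le_normalizer_of_mem hθd ha) hXθ ?_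
      (piNum_of_isPGroup hXp (Set.mem_singleton p)) (fun _ => ?_) ?_
    · refine HallFunctor.le_normalizer_inf (le_normalizer_of_mem hY)
        (HallFunctor.le_normalizer_centralizer_singleton fun b hb =>
          HallFunctor.le_centralizer_singleton hA hb hdA) ha
    · rw [commutator_le]
      intro x hx y hy
      have h2 : ⁅x, y⁆ = 1 := by
        rw [commutatorElement_eq_one_iff_mul_comm]
        exact hYc x hx.1 y hy.1
      rw [h2]
      exact one_mem _
    · intro N V hNV hVK hKN hKV hY' v hv hva x hx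
      have hvθd := hVK hv
      have hvθa : v ∈ θ a := hθ.1.2.2.2 d hdA hd1 a ha ha1 ⟨hvθd, hva⟩
      refine hY' (V ⊓ pj r p A θ (θ a)) inf_le_left ?_ ⟨?_, ?_⟩
      · exact PiNum.mono (Y := pj r p A θ (θ a)) (piNum_of_isPGroup hPp (Set.mem_singleton p))
          inf_le_right
      · have h2 : x ∈ normalizer (V : Set G) := hKV (le_normalizer (hXθ hx))
        rw [commutatorElement_def]
        exact V.mul_mem ((mem_normalizer_iff.mp h2 _).mp hv) (V.inv_mem hv)
      · have h2 : v ∈ normalizer (pj r p A θ (θ a) : Set G) := le_normalizer_pj _ hvθa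
        have h4 : ⁅x, v⁆ = x * (v * x⁻¹ * v⁻¹) := by rw [commutatorElement_def]; group
        rw [h4]
        exact (pj r p A θ (θ a)).mul_mem (hYP hx.1)
          ((mem_normalizer_iff.mp h2 _).mp (inv_mem (hYP hx.1)))
  have h2 : piCoreOf {p} (θ d) ≤ pj r p A θ (θ d) :=
    le_pj (RadicalBasic.piCoreOf_mem hθd _) ((isPi_singleton_iff hp.out _).mp
      (piCoreOf_isPi _ _)) (le_normalizer_piCoreOf _ _)
  refine le_trans (commutator_mono ?_ le_rfl) ((h1.trans h2).trans
    (pj_theta_le_PB hA hA3 hθ hd1 hdB))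
  exact inf_le_inf_left _ (centralizer_le (by simpa using hdD))

/-- If `⁅P_x(q), x⁆ ≠ 1` for a prime `q ≠ p` with `NoFixedC`, then `W_p ≤ P_x(p)`. -/
theorem W_le_pj_of_commutator_ne_bot (h : MinCounter r A θ) {q : ℕ} [hq : Fact q.Prime]
    (hpq : p ≠ q) (hNF : NoFixedC.{u} r {q} False) {x : G} (hx : x ∈ A) (hx1 : x ≠ 1)
    (hne : ⁅pj r q A θ (θ x), zpowers x⁆ ≠ ⊥) : W r p A θ ≤ pj r p A θ (θ x) := by
  have hA := h.elem
  have hA3 := h.card.ge
  have hθ := h.func
  set E : Subgroup G := ⁅pj r q A θ (θ x), zpowers x⁆ with hEdef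
  have hPq := pj_theta_mem hA hA3 hθ (p := q) hx hx1
  have hxA : zpowers x ≤ A := by rwa [zpowers_le]
  have hEle : E ≤ pj r q A θ (θ x) := Cfsg.Agent.Lib.CoprimeCommutator.commutator_le_left
    (hxA.trans (le_normalizer_of_mem hPq))
  have hcomm := comm_of_isElementaryAbelian hA
  have hEm : E ∈ Cfsg.signalizerFamily r A θ := by
    refine mem_of_le hPq hEle ?_
    exact GoldschmidtGen.le_normalizer_commutator (le_normalizer_of_mem hPq)
      fun a ha b hb => hcomm a ha b (hxA hb)
  have hθE : θ x ≤ normalizer (E : Set G) :=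
    le_normalizer_commutator_pj hθ hx hx1 (le_normalizer_pj _)
  have hEW : E ≤ W r q A θ := commutator_le_W hA hA3 hθ hNF hx hx1
  have hWE : W r p A θ ≤ normalizer (E : Set G) :=
    ((W_le_centralizer hA hA3 hθ hpq).trans (centralizer_le hEW)).trans
      (Subgroup.centralizer_le_normalizer _)
  have hM := MinCounter.loc_mem h hEm hne
  have hWM := MinCounter.le_loc h (W_mem hA hA3 hθ (p := p)) hWE
  have hθM := MinCounter.le_loc h (SignalizerMax.theta_mem_family hθ hx hx1) hθE
  have h1 := W_inf_le hA hA3 hθ (p := p) hM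
  rw [inf_eq_left.mpr hWM] at h1
  refine h1.trans ?_
  exact le_pj (RadicalBasic.piCoreOf_mem hM _) ((isPi_singleton_iff hp.out _).mp
    (piCoreOf_isPi _ _)) (hθM.trans (le_normalizer_piCoreOf _ _))

/-- `W_2 = 1` if the odd primes satisfy `NoFixedC`. -/
theorem W_two_eq_bot (h : MinCounter r A θ)
    (hNF : ∀ q : ℕ, q.Prime → q ≠ 2 → NoFixedC.{u} r {q} False) : W r 2 A θ = ⊥ := by
  have : Fact (Nat.Prime 2) := ⟨Nat.prime_two⟩
  by_contra hne
  obtain ⟨x, hx, hx1, hPx⟩ := exists_pj_eq_bot h (noFixedC_true hr.out _) hne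
  obtain ⟨q, hq, hE⟩ := exists_commutator_ne_bot h hx hx1
  have : Fact q.Prime := ⟨hq⟩
  have hpq : 2 ≠ q := by
    rintro rfl
    apply hE
    rw [hPx, commutator_bot_left]
  apply hne
  rw [eq_bot_iff, ← hPx]
  exact W_le_pj_of_commutator_ne_bot h hpq (hNF q hq hpq.symm) hx hx1 hE

end Cfsg.Agent.SignalizersComponents.FermatW
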