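import Mathlib
import Cfsg.Prelude.Def_Balance
import Cfsg.Agent.SignalizersComponents.ThetaRadicalEnd
import Cfsg.Agent.SignalizersComponents.NoFixedAbelian
import Cfsg.Agent.SignalizersComponents.FermatTools
import Cfsg.Agent.SignalizersComponents.FermatPsi
import Cfsg.Agent.SignalizersComponents.FermatW
import Cfsg.Agent.SignalizersComponents.FermatLine

set_option autoImplicit false
set_option linter.unusedSectionVars false

/-!
The Fermat case of the solvable signalizer functor theorem (all primes `r`): a minimal counterexample does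
not exist if `⁅P_a(q), a⁆ ≤ W_q` for all odd primes `q`.
-/

namespace Cfsg.Agent.SignalizersComponents.FermatEnd

open Subgroup
open scoped commutatorElement
open Cfsg (piCoreOf)
open Cfsg.Agent.SignalizersComponents.GoldschmidtGen (le_normalizer_of_conj_mem
  conj_mem_of_le_normalizer)
open Cfsg.Agent.SignalizersComponents.CoprimeGen
open Cfsg.Agent.SignalizersComponents.FunctorTools
open Cfsg.Agent.SignalizersComponents.FunctorInduction
open Cfsg.Agent.SignalizersComponents.MinCounterBasic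
open Cfsg.Agent.SignalizersComponents.SignalizerMax (IsMaxQ)
open Cfsg.Agent.SignalizersComponents.FixedPointLemma
open Cfsg.Agent.SignalizersComponents.ThetaRadical
open Cfsg.Agent.SignalizersComponents.ThetaRadicalEnd
open Cfsg.Agent.SignalizersComponents.FermatTools
open Cfsg.Agent.SignalizersComponents.FermatPsi (exists_psi)
open Cfsg.Agent.SignalizersComponents.FermatW
open Cfsg.Agent.SignalizersComponents.FermatLine

universe u

variable {G : Type u} [Group G] [Finite G] {r : ℕ} [hr : Fact r.Prime] {A : Subgroup G}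
  {θ : G → Subgroup G}


/-- `x` centralises `P_x(q)` for all odd primes `q`. -/
def OC (r : ℕ) (A : Subgroup G) (θ : G → Subgroup G) (x : G) : Prop :=
  ∀ q : ℕ, q.Prime → q ≠ 2 → ⁅pj r q A θ (θ x), zpowers x⁆ = ⊥

theorem OC.pj_ne_bot (h : MinCounter r A θ) {x : G} (hx : x ∈ A) (hx1 : x ≠ 1)
    (hoc : OC r A θ x) : pj r 2 A θ (θ x) ≠ ⊥ := by
  obtain ⟨q, hq, hne⟩ := exists_commutator_ne_bot h hx hx1
  intro hbot
  by_cases hq2 : q = 2
  · subst hq2
    rw [hbot, commutator_bot_left] at hne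
    exact hne rfl
  · exact hne (hoc q hq hq2)

theorem Op_le_pj (h : MinCounter r A θ) {x : G} {q : ℕ} {K : Subgroup G}
    (hK : K ∈ Cfsg.signalizerFamily r A θ) (hxK : θ x ≤ K) : Op q K ≤ pj r q A θ (θ x) :=
  le_pj (Op_mem hK q) isPGroup_Op (hxK.trans le_normalizer_Op)

theorem OC.Opp_le_centralizer (h : MinCounter r A θ) {x : G} (hx : x ∈ A)
    (hoc : OC r A θ x) {K : Subgroup G} (hK : K ∈ Cfsg.signalizerFamily r A θ) (hxK : θ x ≤ K) :
    Opp 2 K ≤ centralizer {x} := by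
  refine FermatTools.Opp_le_centralizer (r := r) (h.elem.2 x hx) hK.2.1 hK.1
    (le_normalizer_of_mem hK hx) fun s hs hs2 => ?_
  have h1 := hoc s hs hs2
  rw [commutator_eq_bot_iff_le_centralizer, LocalGlobal.centralizer_zpowers_eq] at h1
  exact (Op_le_pj h hK hxK).trans h1

/-- three subgroups lemma -/
theorem commutator_le_centralizer {K B F : Subgroup G} (hBF : B ≤ centralizer (F : Set G))
    (hKF : K ≤ normalizer (F : Set G)) : ⁅K, B⁆ ≤ centralizer (F : Set G) := by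
  have hFB : F ≤ centralizer (B : Set G) := Subgroup.le_centralizer_iff.mp hBF
  rw [← commutator_eq_bot_iff_le_centralizer]
  apply commutator_commutator_eq_bot_of_rotate
  · rw [commutator_eq_bot_iff_le_centralizer.mpr hBF, commutator_bot_left]
  · rw [eq_bot_iff]
    exact (commutator_mono (Cfsg.Agent.Lib.CoprimeCommutator.commutator_le_left hKF) le_rfl).trans
      (commutator_eq_bot_iff_le_centralizer.mpr hFB).le

/-- the centre of `P` as a subgroup of `G` -/
abbrev Zc (P : Subgroup G) : Subgroup G := (Subgroup.center P).map P.subtype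

theorem Zc_le_centralizer {P : Subgroup G} : Zc P ≤ centralizer (P : Set G) :=
  Subgroup.le_centralizer_iff.mp (le_centralizer_center_map P)

theorem Zc_comm {P : Subgroup G} : ∀ x ∈ Zc P, ∀ y ∈ Zc P, x * y = y * x := by
  intro x hx y hy
  exact (mem_centralizer_iff.mp (Zc_le_centralizer hx) y (map_subtype_le _ hy)).symm

/-- **F3**: `Z(P)` is centralised by the `OC`-points. -/
theorem OC.Zc_le_centralizer_singleton (h : MinCounter r A θ) (hW : W r 2 A θ = ⊥) {P : Subgroup G}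
    (hP : IsMaxQ r A θ 2 P) {x : G} (hx : x ∈ A) (hx1 : x ≠ 1) (hoc : OC r A θ x) :
    Zc P ≤ centralizer {x} := by
  have hA := h.elem
  have hA3 := h.card.ge
  have hθ := h.func
  have hcomm := comm_of_isElementaryAbelian hA
  have hxA : zpowers x ≤ A := by rwa [zpowers_le]
  have hZm : Zc P ∈ Cfsg.signalizerFamily r A θ := center_mem hP.1
  have hZp : IsPGroup 2 (Zc P) := hP.2.1.to_le (map_subtype_le _)
  set Q := pj r 2 A θ (θ x) with hQ
  have hQm : Q ∈ Cfsg.signalizerFamily r A θ := pj_theta_mem hA hA3 hθ hx hx1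
  have hQ1 : Q ≠ ⊥ := hoc.pj_ne_bot h hx hx1
  have hQP : Q ≤ P := pj_le_isMaxQ hA hA3 hθ (signalizerInf_le hx hx1) hP
  set M := loc A θ Q with hM
  have hMm : M ∈ Cfsg.signalizerFamily r A θ := MinCounter.loc_mem h hQm hQ1
  have hZM : Zc P ≤ M := MinCounter.le_loc h hZm
    ((Zc_le_centralizer.trans (centralizer_le hQP)).trans (Subgroup.centralizer_le_normalizer _))
  have hθM : θ x ≤ M := MinCounter.le_loc h (SignalizerMax.theta_mem_family hθ hx hx1)
    (le_normalizer_pj _)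
  have hsyl := exists_sylow_inf hA hA3 hθ hP hMm ((signalizerInf_le hx hx1).trans hθM)
  have hZO : Zc P ≤ Oqq 2 M := le_Oqq_of_centralize hMm.1 hsyl hZM
    (Zc_le_centralizer.trans (centralizer_le inf_le_left))
  have hN : Opp 2 M ≤ centralizer {x} := hoc.Opp_le_centralizer h hx hMm hθM
  set Y := ⁅Zc P, zpowers x⁆ with hY
  have hYZ : Y ≤ Zc P := Cfsg.Agent.Lib.CoprimeCommutator.commutator_le_left
    (hxA.trans (le_normalizer_of_mem hZm))
  have hYc : Y ≤ centralizer (Opp 2 M : Set G) := by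
    refine commutator_le_centralizer ?_ (hZM.trans le_normalizer_Opp)
    rw [← Subgroup.le_centralizer_iff, LocalGlobal.centralizer_zpowers_eq]
    exact hN
  have hYO : Y ≤ Op 2 M := le_Op_of_le_centralizer (hYZ.trans hZO) (hZp.to_le hYZ) hYc
  have hYm : Y ∈ Cfsg.signalizerFamily r A θ := mem_of_le hZm hYZ
    (GoldschmidtGen.le_normalizer_commutator (le_normalizer_of_mem hZm)
      fun a ha b hb => hcomm a ha b (hxA hb))
  have h1 := commutator_le_W_of_comm (p := 2) hA hA3 hθ hx hx1 hYm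
    (hYO.trans (Op_le_pj h hMm hθM)) fun a ha b hb => Zc_comm a (hYZ ha) b (hYZ hb)
  have hcop : (Nat.card (zpowers x)).Coprime (Nat.card (Zc P)) :=
    Radical.coprime_card_of_isPGroup ((SignalizerMax.isPGroup_of_isElementaryAbelian hA).to_le hxA) hZm.2.1
  rw [hW, le_bot_iff, hY, Cfsg.Agent.Lib.CoprimeCommutator.commutator_commutator_eq (zpowers x) _
    (hxA.trans (le_normalizer_of_mem hZm)) hcop, commutator_eq_bot_iff_le_centralizer,
    LocalGlobal.centralizer_zpowers_eq] at h1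
  exact h1

/-- A proper subgroup of `A` lies in a hyperplane. -/
theorem exists_hyperplane_ge (hA : Cfsg.IsElementaryAbelian r A) {T : Subgroup G} (hT : T ≤ A)
    (hne : T ≠ A) : ∃ l ≤ A, l.relIndex A = r ∧ T ≤ l := by
  obtain ⟨n, hn⟩ := IsPGroup.iff_card.mp (SignalizerMax.isPGroup_of_isElementaryAbelian hA)
  obtain ⟨k, hk⟩ := IsPGroup.iff_card.mp
    ((SignalizerMax.isPGroup_of_isElementaryAbelian hA).to_le hT)
  have hkn : k < n := by
    by_contra hcon
    push Not at hcon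
    apply hne
    refine Subgroup.eq_of_le_of_card_ge hT ?_
    rw [hn, hk]
    exact Nat.pow_le_pow_right hr.out.pos hcon
  obtain ⟨m, rfl⟩ : ∃ m, n = m + 1 := Nat.exists_eq_succ_of_ne_zero (by omega)
  obtain ⟨L, hL, hTL⟩ := Sylow.exists_subgroup_card_pow_prime_le (G := A) r
    (by rw [hn]; exact pow_dvd_pow _ (Nat.le_succ m)) (T.subgroupOf A)
    (by rw [FermatTools.card_subgroupOf hT, hk]) (Nat.lt_succ_iff.mp hkn)
  refine ⟨L.map A.subtype, map_subtype_le L, ?_, FermatTools.map_subgroupOf_le hT hTL⟩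
  have h1 := Cfsg.Agent.OddOrderLocal.HallPi.card_mul_relIndex (map_subtype_le L)
  rw [Subgroup.card_map_of_injective A.subtype_injective, hL, hn, pow_succ] at h1
  exact Nat.eq_of_mul_eq_mul_left (pow_pos hr.out.pos m) h1

/-- Two hyperplanes of the same index: `B ≤ l` implies `B = l`. -/
theorem hyperplane_eq_of_le (hA : Cfsg.IsElementaryAbelian r A) {B l : Subgroup G} (hB : B ≤ A)
    (hBr : B.relIndex A = r) (hl : l ≤ A) (hlr : l.relIndex A = r) (h : B ≤ l) : B = l := by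
  have h1 := Cfsg.Agent.OddOrderLocal.HallPi.card_mul_relIndex hB
  have h2 := Cfsg.Agent.OddOrderLocal.HallPi.card_mul_relIndex hl
  rw [hBr] at h1
  rw [hlr, ← h1] at h2
  exact Subgroup.eq_of_le_of_card_ge h (Nat.eq_of_mul_eq_mul_right hr.out.pos h2).le

/-- Two independent points of the hyperplane `B` outside the hyperplane `l`. -/
theorem exists_two_points (hA : Cfsg.IsElementaryAbelian r A) (hA3 : r ^ 3 ≤ Nat.card A)
    {B l : Subgroup G} (hB : B ≤ A) (hBr : B.relIndex A = r) (hl : l ≤ A)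
    (hlr : l.relIndex A = r) (h : B ≠ l) :
    ∃ c ∈ B, ∃ c' ∈ B, c ∉ l ∧ c' ∉ l ∧ c' ∉ zpowers c := by
  have h1 : ¬ B ≤ l := fun h1 => h (hyperplane_eq_of_le hA hB hBr hl hlr h1)
  obtain ⟨c, hcB, hcl⟩ := SetLike.not_le_iff_exists.mp h1
  obtain ⟨z, hzB, hzl, hz1⟩ := RadicalBasic.exists_mem_inf hA hA3 hB hBr hl hlr
  refine ⟨c, hcB, c * z, B.mul_mem hcB hzB, hcl, ?_, ?_⟩
  · intro hcz
    apply hcl
    have h2 := l.mul_mem hcz (l.inv_mem hzl)
    simpa using h2
  · intro hcz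
    have hz : z ∈ zpowers c := by
      have h2 := (zpowers c).mul_mem ((zpowers c).inv_mem (mem_zpowers c)) hcz
      simpa using h2
    apply hcl
    have hc1 : c ≠ 1 := by
      rintro rfl
      exact hcl l.one_mem
    have hcr : orderOf c = r := orderOf_eq_prime (hA.2 c (hB hcB)) hc1
    have hzr : orderOf z = r := orderOf_eq_prime (hA.2 z (hB hzB)) hz1
    have h3 : zpowers z = zpowers c := by
      refine Subgroup.eq_of_le_of_card_ge (by rwa [zpowers_le]) ?_
      rw [Nat.card_zpowers, Nat.card_zpowers, hcr, hzr]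
    have h4 : zpowers z ≤ l := by rwa [zpowers_le]
    exact h4 (h3 ▸ mem_zpowers c)

/-- A point that is not `OC`: there is an odd prime `q` with `⁅P_x(q), x⁆ ≠ 1`. -/
theorem exists_of_not_OC {x : G} (hoc : ¬ OC r A θ x) :
    ∃ q : ℕ, q.Prime ∧ q ≠ 2 ∧ ⁅pj r q A θ (θ x), zpowers x⁆ ≠ ⊥ := by
  unfold OC at hoc
  push Not at hoc
  exact hoc

/-- A non-`OC` point is `q`-good for every prime `q` with `W_q ≠ 1`. -/
theorem pj_ne_bot_of_not_OC (h : MinCounter r A θ)
    (hNF : ∀ q : ℕ, q.Prime → q ≠ 2 → NoFixedC.{u} r {q} False) {q : ℕ} [hq : Fact q.Prime]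
    (hW : W r q A θ ≠ ⊥) {x : G} (hx : x ∈ A) (hx1 : x ≠ 1) (hoc : ¬ OC r A θ x) :
    pj r q A θ (θ x) ≠ ⊥ := by
  obtain ⟨s, hs, hs2, hne⟩ := exists_of_not_OC hoc
  have : Fact s.Prime := ⟨hs⟩
  by_cases hqs : q = s
  · subst hqs
    intro hbot
    rw [hbot, commutator_bot_left] at hne
    exact hne rfl
  · intro hbot
    have h1 := W_le_pj_of_commutator_ne_bot h hqs (hNF s hs hs2) hx hx1 hne
    rw [hbot, le_bot_iff] at h1
    exact hW h1

/-- `⁅P_x(q), x⁆ ≠ 1` implies `W_q ≠ 1`, `q` odd. -/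
theorem W_ne_bot_of_commutator_ne_bot (h : MinCounter r A θ)
    (hNF : ∀ q : ℕ, q.Prime → q ≠ 2 → NoFixedC.{u} r {q} False) {q : ℕ} (hq : q.Prime)
    (hq2 : q ≠ 2) {x : G} (hx : x ∈ A) (hx1 : x ≠ 1)
    (hne : ⁅pj r q A θ (θ x), zpowers x⁆ ≠ ⊥) : W r q A θ ≠ ⊥ := by
  have : Fact q.Prime := ⟨hq⟩
  intro hW
  have h1 := commutator_le_W h.elem h.card.ge h.func (hNF q hq hq2) hx hx1
  rw [hW, le_bot_iff] at h1
  exact hne h1

/-- **F3**: `Z(P) ≤ C`. -/
theorem Zc_le_signalizerInf (h : MinCounter r A θ)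
    (hNF : ∀ q : ℕ, q.Prime → q ≠ 2 → NoFixedC.{u} r {q} False) {P : Subgroup G}
    (hP : IsMaxQ r A θ 2 P) : Zc P ≤ Cfsg.signalizerInf A θ := by
  have hA := h.elem
  have hA3 := h.card.ge
  have hθ := h.func
  have hW2 := W_two_eq_bot h hNF
  have hZm : Zc P ∈ Cfsg.signalizerFamily r A θ := center_mem hP.1
  set T : Subgroup G := A ⊓ centralizer (Zc P : Set G) with hT
  have hOC : ∀ x ∈ A, x ≠ 1 → OC r A θ x → x ∈ T := fun x hx hx1 hoc => by
    refine ⟨hx, ?_⟩
    have h1 := hoc.Zc_le_centralizer_singleton h hW2 hP hx hx1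
    rw [← LocalGlobal.centralizer_zpowers_eq, Subgroup.le_centralizer_iff] at h1
    exact h1 (mem_zpowers x)
  by_cases hTA : T = A
  · refine le_trans (le_inf le_rfl ?_) (SignalizerMax.centralizer_inf_le hZm)
    rw [Subgroup.le_centralizer_iff, ← hTA]
    exact inf_le_right
  exfalso
  obtain ⟨l, hl, hlr, hTl⟩ := exists_hyperplane_ge hA (inf_le_left : T ≤ A) hTA
  have hnot : ∀ x ∈ A, x ∉ l → x ≠ 1 ∧ ¬ OC r A θ x := fun x hx hxl => by
    have hx1 : x ≠ 1 := by
      rintro rfl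
      exact hxl l.one_mem
    exact ⟨hx1, fun hoc => hxl (hTl (hOC x hx hx1 hoc))⟩
  -- a point outside `l`
  have hlA : ¬ A ≤ l := by
    intro h1
    have h2 : l.relIndex A = 1 := relIndex_eq_one.mpr h1
    rw [hlr] at h2
    exact hr.out.one_lt.ne' h2
  obtain ⟨x₀, hx₀, hx₀l⟩ := SetLike.not_le_iff_exists.mp hlA
  obtain ⟨hx₀1, hx₀oc⟩ := hnot x₀ hx₀ hx₀l
  obtain ⟨q, hq, hq2, hne⟩ := exists_of_not_OC hx₀oc
  have : Fact q.Prime := ⟨hq⟩
  have hWq := W_ne_bot_of_commutator_ne_bot h hNF hq hq2 hx₀ hx₀1 hne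
  have hWm := W_mem hA hA3 hθ (p := q)
  apply h.notComplete
  refine solComplete_of_one_bad_hyperplane hA hA3 hθ hl hlr (MinCounter.loc_mem h hWm hWq)
    fun B hB hBr hBl => ?_
  obtain ⟨c, hc, c', hc', hcl, hc'l, hcc⟩ := exists_two_points hA hA3 hB hBr hl hlr hBl
  obtain ⟨hc1, hcoc⟩ := hnot c (hB hc) hcl
  obtain ⟨hc'1, hc'oc⟩ := hnot c' (hB hc') hc'l
  have hB1 : B ≠ ⊥ := by
    rintro rfl
    exact hc1 (mem_bot.mp hc)
  refine MinCounter.le_loc h (signalizerInf_mem hθ hB hB1) ?_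
  exact signalizerInf_le_normalizer_W_of_two h (hNF q hq hq2) hB hBr hc hc' hc1 hcc
    (pj_ne_bot_of_not_OC h hNF hWq (hB hc) hc1 hcoc)
    (pj_ne_bot_of_not_OC h hNF hWq (hB hc') hc'1 hc'oc)

/-- There is an `OC`-point. -/
theorem exists_OC (h : MinCounter r A θ)
    (hNF : ∀ q : ℕ, q.Prime → q ≠ 2 → NoFixedC.{u} r {q} False) :
    ∃ x ∈ A, x ≠ 1 ∧ OC r A θ x := by
  by_contra hcon
  push Not at hcon
  obtain ⟨a, ha, ha1⟩ := A.bot_or_exists_ne_one.resolve_left (MinCounter.ne_bot h)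
  obtain ⟨q, hq, hq2, hne⟩ := exists_of_not_OC (hcon a ha ha1)
  have : Fact q.Prime := ⟨hq⟩
  have hWq := W_ne_bot_of_commutator_ne_bot h hNF hq hq2 ha ha1 hne
  obtain ⟨x, hx, hx1, hbot⟩ := exists_pj_eq_bot h
    (NoFixedAbelian.noFixedC_true hr.out _) hWq
  exact pj_ne_bot_of_not_OC h hNF hWq hx hx1 (hcon x hx hx1) hbot

theorem theta_le_normalizer_centralizer (h : MinCounter r A θ) {a : G} (ha : a ∈ A) (ha1 : a ≠ 1) :
    θ a ≤ normalizer ((centralizer ({a} : Set G) : Subgroup G) : Set G) :=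
  HallFunctor.le_normalizer_centralizer_singleton (h.func.1.1 a ha ha1)

/-- A maximal `q`-member contained in the member `H` is a Sylow `q`-subgroup of `H`. -/
theorem Op_le_of_isMaxQ (h : MinCounter r A θ) {q : ℕ} [hq : Fact q.Prime] {P H : Subgroup G}
    (hP : IsMaxQ r A θ q P) (hH : H ∈ Cfsg.signalizerFamily r A θ) (hPH : P ≤ H) : Op q H ≤ P := by
  have h1 : Op q H ⊔ P ∈ Cfsg.signalizerFamily r A θ :=
    sup_mem h.elem (MinCounter.pow_two_le h) h.func (Op_mem hH q) hP.1 (hPH.trans le_normalizer_Op)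
  have h2 : IsPGroup q (Op q H ⊔ P : Subgroup G) :=
    isPGroup_Op.to_sup_of_normal_left' hP.2.1 (hPH.trans le_normalizer_Op)
  have h3 := hP.2.2 _ h1 h2 le_sup_right
  rw [← h3]
  exact le_sup_left

section final

variable {P H : Subgroup G}

/-- **F5 (a)**. -/
theorem inf_centralizer_le_Opp (h : MinCounter r A θ) (hP : IsMaxQ r A θ 2 P)
    (hH : H ∈ Cfsg.signalizerFamily r A θ) (hPH : P ≤ H) {a : G} (ha : a ∈ A) (ha1 : a ≠ 1) :
    Opp 2 H ⊓ centralizer {a} ≤ Opp 2 (θ a) := by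
  have hθa := SignalizerMax.theta_mem_family h.func ha ha1
  refine le_Opp_of_sylow hθa.1 (exists_sylow_inf h.elem h.card.ge h.func hP hθa
    (signalizerInf_le ha ha1)) ((Opp_mem hH 2).2.2.2 a ha ha1)
    (coprime_Opp.coprime_dvd_left (card_dvd_of_le inf_le_left)) ?_
  exact HallFunctor.le_normalizer_inf (inf_le_left.trans (hPH.trans le_normalizer_Opp))
    (inf_le_right.trans (theta_le_normalizer_centralizer h ha ha1))

/-- **F5 (b)**: `O_p(H) = W_p` for odd primes `p`. -/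
theorem Op_eq_W (h : MinCounter r A θ) (hP : IsMaxQ r A θ 2 P)
    (hH : H ∈ Cfsg.signalizerFamily r A θ) (hPH : P ≤ H)
    (hθH : ∀ a ∈ A, a ≠ 1 → Opp 2 (θ a) ≤ H) {p : ℕ} [hp : Fact p.Prime] (hp2 : p ≠ 2) :
    Op p H = W r p A θ := by
  have hA := h.elem
  have hA3 := h.card.ge
  have hθ := h.func
  have hA1 := MinCounter.ne_bot h
  apply le_antisymm
  · have hXm := Op_mem hH p
    refine (Cfsg.Agent.Lib.CoprimeHyperplane.iSup_centralizer_hyperplane hA hA1 hXm.2.1
      (le_normalizer_of_mem hXm)).ge.trans (iSup_le fun B => le_iInf fun D => ?_)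
    obtain ⟨d, hdB, hdD, hd1⟩ := RadicalBasic.exists_mem_inf hA hA3 B.2.1 B.2.2 D.2.1 D.2.2
    have hdA := B.2.1 hdB
    have hθd := SignalizerMax.theta_mem_family hθ hdA hd1
    have h1 : Op p H ⊓ centralizer ((B : Subgroup G) : Set G) ≤ Op p H ⊓ centralizer {d} :=
      inf_le_inf_left _ (centralizer_le (by simpa using hdB))
    have h2 : Op p H ⊓ centralizer {d} ≤ Opp 2 (θ d) :=
      (inf_le_inf_right _ (Op_le_Opp hp2)).trans (inf_centralizer_le_Opp h hP hH hPH hdA hd1)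
    have h3 : Op p H ⊓ centralizer {d} ≤ Op p (Opp 2 (θ d)) := by
      refine le_Op h2 (isPGroup_Op.to_le inf_le_left) ?_
      exact HallFunctor.le_normalizer_inf ((hθH d hdA hd1).trans le_normalizer_Op)
        (Opp_le.trans (theta_le_normalizer_centralizer h hdA hd1))
    have h4 : Op p (Opp 2 (θ d)) ≤ pj r p A θ (θ d) := by
      refine le_pj (Op_mem (Opp_mem hθd 2) p) isPGroup_Op ?_
      exact le_normalizer_Opp.trans normalizer_le_normalizer_Op
    exact (h1.trans (h3.trans h4)).trans (pj_theta_le_PB hA hA3 hθ hd1 hdD)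
  · have hWm := W_mem hA hA3 hθ (p := p)
    have hWH : W r p A θ ≤ H := by
      refine (Cfsg.Agent.Lib.CoprimeHyperplane.iSup_centralizer_hyperplane hA hA1 hWm.2.1
        (le_normalizer_of_mem hWm)).ge.trans (iSup_le fun B => ?_)
      obtain ⟨d, hdB, -, hd1⟩ := RadicalBasic.exists_mem_inf hA hA3 B.2.1 B.2.2 B.2.1 B.2.2
      have hdA := B.2.1 hdB
      have hθd := SignalizerMax.theta_mem_family hθ hdA hd1
      have h1 : W r p A θ ⊓ centralizer ((B : Subgroup G) : Set G) ≤ W r p A θ ⊓ θ d :=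
        le_inf inf_le_left ((inf_le_inf_left _ (centralizer_le (by simpa using hdB))).trans
          (hWm.2.2.2 d hdA hd1))
      have h2 : W r p A θ ⊓ θ d ≤ Op p (θ d) := by
        rw [Op_eq_piCoreOf hp.out]
        exact W_inf_le hA hA3 hθ hθd
      exact (h1.trans h2).trans ((Op_le_Opp hp2).trans (hθH d hdA hd1))
    have h1 := W_inf_le hA hA3 hθ (p := p) hH
    rwa [inf_eq_left.mpr hWH, ← Op_eq_piCoreOf hp.out] at h1

/-- **F5 (c)**: `O_{2'}(H) ≠ 1`. -/
theorem Opp_ne_bot (h : MinCounter r A θ)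
    (hNF : ∀ q : ℕ, q.Prime → q ≠ 2 → NoFixedC.{u} r {q} False) (hP : IsMaxQ r A θ 2 P)
    (hP1 : P ≠ ⊥) (hH : H ∈ Cfsg.signalizerFamily r A θ) (hPH : P ≤ H)
    (hθH : ∀ a ∈ A, a ≠ 1 → Opp 2 (θ a) ≤ H) : Opp 2 H ≠ ⊥ := by
  intro hbot
  have hA := h.elem
  have hA3 := h.card.ge
  have hθ := h.func
  have hZC := Zc_le_signalizerInf h hNF hP
  have hZp : IsPGroup 2 (Zc P) := hP.2.1.to_le (map_subtype_le _)
  have hZ1 : Zc P ≠ ⊥ := center_map_ne_bot hP.2.1 hP1
  have hOP : Op 2 H ≤ P := Op_le_of_isMaxQ h hP hH hPH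
  have hZO : Zc P ≤ Op 2 H := by
    refine le_trans (le_inf ((map_subtype_le _).trans hPH) ?_) (centralizer_inf_le_Op hH.1 hbot)
    exact Zc_le_centralizer.trans (centralizer_le hOP)
  have hle : ∀ a ∈ A, a ≠ 1 → Zc P ≤ pj r 2 A θ (θ a) := by
    intro a ha ha1
    have hθa := SignalizerMax.theta_mem_family hθ ha ha1
    have hZθ : Zc P ≤ θ a := hZC.trans (signalizerInf_le ha ha1)
    have h1 : Op 2 H ⊓ centralizer {a} ≤ centralizer (Opp 2 (θ a) : Set G) := by
      refine le_centralizer_of_normalize ?_ ?_ ?_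
      · exact ((Op_mem hH 2).2.2.2 a ha ha1).trans le_normalizer_Opp
      · exact HallFunctor.le_normalizer_inf ((hθH a ha ha1).trans le_normalizer_Op)
          (Opp_le.trans (theta_le_normalizer_centralizer h ha ha1))
      · exact MinCounterBasic.inf_eq_bot_of_coprime (coprime_of_isPGroup' coprime_Opp
          (isPGroup_Op.to_le inf_le_left)).symm
    have h2 : Zc P ≤ centralizer (Opp 2 (θ a) : Set G) :=
      (le_inf hZO (hZθ.trans (hθ.1.1 a ha ha1))).trans h1
    have h3 : Zc P ≤ Oqq 2 (θ a) := le_Oqq_of_centralize hθa.1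
      (exists_sylow_inf hA hA3 hθ hP hθa (signalizerInf_le ha ha1)) hZθ
      (Zc_le_centralizer.trans (centralizer_le inf_le_left))
    exact (le_Op_of_le_centralizer h3 hZp h2).trans (Op_le_pj h hθa le_rfl)
  apply hZ1
  rw [eq_bot_iff, ← W_two_eq_bot h hNF]
  refine le_iInf fun B => ?_
  obtain ⟨d, hdB, -, hd1⟩ := RadicalBasic.exists_mem_inf hA hA3 B.2.1 B.2.2 B.2.1 B.2.2
  exact (hle d (B.2.1 hdB) hd1).trans (pj_theta_le_PB hA hA3 hθ hd1 hdB)

/-- **F7**: for `OC`-points `x`, `θ x` normalises `C_N(x)`, `N = O_{2'}(H)`. -/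
theorem OC.theta_le_normalizer (h : MinCounter r A θ) (hP : IsMaxQ r A θ 2 P)
    (hH : H ∈ Cfsg.signalizerFamily r A θ) (hPH : P ≤ H)
    (hθH : ∀ a ∈ A, a ≠ 1 → Opp 2 (θ a) ≤ H) {x : G} (hx : x ∈ A) (hx1 : x ≠ 1)
    (hoc : OC r A θ x) :
    θ x ≤ normalizer ((Opp 2 H ⊓ centralizer {x} : Subgroup G) : Set G) := by
  have hA := h.elem
  have hA3 := h.card.ge
  have hθ := h.func
  have hθx := SignalizerMax.theta_mem_family hθ hx hx1
  set Q := pj r 2 A θ (θ x) with hQ
  have hQm : Q ∈ Cfsg.signalizerFamily r A θ := pj_theta_mem hA hA3 hθ hx hx1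
  have hQp : IsPGroup 2 Q := isPGroup_pj_theta hA hA3 hθ hx hx1
  have hQ1 : Q ≠ ⊥ := hoc.pj_ne_bot h hx hx1
  have hQP : Q ≤ P := pj_le_isMaxQ hA hA3 hθ (signalizerInf_le hx hx1) hP
  set M := loc A θ Q with hM
  have hMm : M ∈ Cfsg.signalizerFamily r A θ := MinCounter.loc_mem h hQm hQ1
  have hθM : θ x ≤ M := MinCounter.le_loc h hθx (le_normalizer_pj _)
  have hNx : Opp 2 M ≤ centralizer {x} := hoc.Opp_le_centralizer h hx hMm hθM
  have hNθ : Opp 2 M ≤ θ x := (le_inf le_rfl hNx).trans ((Opp_mem hMm 2).2.2.2 x hx hx1)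
  have hNH : Opp 2 M ≤ H :=
    (le_Opp hNθ coprime_Opp (hθM.trans le_normalizer_Opp)).trans (hθH x hx hx1)
  have h1 : Opp 2 M ≤ Opp 2 H := by
    have h2 := Cfsg.Agent.Lib.LocalCore.pPrimeCoreOf_inf_le 2 M H Q hH.1 hQp (hQP.trans hPH)
      (loc_le_normalizer Q) (MinCounter.le_loc h (inf_mem hH
        ((le_normalizer_of_mem hQm).trans le_normalizer)) inf_le_right)
    exact (le_inf le_rfl hNH).trans h2
  have h2 : Opp 2 H ⊓ M ≤ Opp 2 M := by
    refine le_Opp_of_sylow hMm.1 (exists_sylow_inf hA hA3 hθ hP hMm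
      ((signalizerInf_le hx hx1).trans hθM)) inf_le_right
      (coprime_Opp.coprime_dvd_left (card_dvd_of_le inf_le_left)) ?_
    exact HallFunctor.le_normalizer_inf (inf_le_left.trans (hPH.trans le_normalizer_Opp))
      (inf_le_right.trans le_normalizer)
  have h3 : Opp 2 H ⊓ centralizer {x} = Opp 2 M := by
    apply le_antisymm
    · refine le_trans (le_inf inf_le_left ?_) h2
      exact ((Opp_mem hH 2).2.2.2 x hx hx1).trans hθM
    · exact le_inf h1 hNx
  rw [h3]
  exact hθM.trans le_normalizer_Opp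

end final

/-- **There is no minimal counterexample**, if `⁅P_a(q), a⁆ ≤ W_q` for odd primes `q`. -/
theorem false_of_minCounter (h : MinCounter r A θ)
    (hNF : ∀ q : ℕ, q.Prime → q ≠ 2 → NoFixedC.{u} r {q} False) : False := by
  have hA := h.elem
  have hA3 := h.card.ge
  have hθ := h.func
  obtain ⟨P, hP⟩ := exists_isMaxQ hA hA3 hθ 2
  obtain ⟨y, hy, hy1, hyoc⟩ := exists_OC h hNF
  have hP1 : P ≠ ⊥ := by
    intro hbot
    have h1 := pj_le_isMaxQ hA hA3 hθ (signalizerInf_le hy hy1) hP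
    rw [hbot, le_bot_iff] at h1
    exact hyoc.pj_ne_bot h hy hy1 h1
  have hZC := Zc_le_signalizerInf h hNF hP
  have hZp : IsPGroup 2 (Zc P) := hP.2.1.to_le (map_subtype_le _)
  have hZ1 : Zc P ≠ ⊥ := center_map_ne_bot hP.2.1 hP1
  obtain ⟨Ψ, hΨ, hΨ1, hΨ2⟩ := exists_psi h hZC hZ1 hZp fun b hb hb1 => by
    have hθb := SignalizerMax.theta_mem_family hθ hb hb1
    refine ⟨Oqq 2 (θ b), ?_, Oqq_le, le_normalizer_Oqq, fun Y hY hYc => le_Opp_of_le_Oqq hY hYc⟩
    exact le_Oqq_of_centralize hθb.1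
      (exists_sylow_inf hA hA3 hθ hP hθb (signalizerInf_le hb hb1))
      (hZC.trans (signalizerInf_le hb hb1)) (Zc_le_centralizer.trans (centralizer_le inf_le_left))
  have hPΨ : P ≤ Ψ := hΨ2 P hP.1 (le_centralizer_center_map P)
  obtain ⟨H, hΨH, hHmax⟩ := exists_maximal_ge hΨ
  have hH := hHmax.prop
  have hPH : P ≤ H := hPΨ.trans hΨH
  have hθH : ∀ a ∈ A, a ≠ 1 → Opp 2 (θ a) ≤ H := fun a ha ha1 => (hΨ1 a ha ha1).trans hΨH
  have hN1 := Opp_ne_bot h hNF hP hP1 hH hPH hθH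
  have hNm := Opp_mem hH 2
  have key : ∀ x ∈ A, x ≠ 1 →
      θ x ≤ normalizer ((Opp 2 H ⊓ centralizer {x} : Subgroup G) : Set G) := by
    intro x hx hx1
    by_cases hoc : OC r A θ x
    · exact hoc.theta_le_normalizer h hP hH hPH hθH hx hx1
    · obtain ⟨q, hq, hq2, hne⟩ := exists_of_not_OC hoc
      have : Fact q.Prime := ⟨hq⟩
      have hWq := W_ne_bot_of_commutator_ne_bot h hNF hq hq2 hx hx1 hne
      have hWm := W_mem hA hA3 hθ (p := q)
      have h1 : θ x ≤ H := by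
        refine MinCounter.le_of_le_normalizer h hHmax hWm hWq ?_
          (SignalizerMax.theta_mem_family hθ hx hx1)
          (theta_le_normalizer_W h (hNF q hq hq2) hx hx1 hne)
        rw [← Op_eq_W h hP hH hPH hθH hq2]
        exact le_normalizer_Op
      exact HallFunctor.le_normalizer_inf (h1.trans le_normalizer_Opp)
        (theta_le_normalizer_centralizer h hx hx1)
  apply h.notComplete
  refine ⟨loc A θ (Opp 2 H), MinCounter.loc_mem h hNm hN1, fun a ha ha1 => ?_⟩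
  exact MinCounter.le_loc h (SignalizerMax.theta_mem_family hθ ha ha1)
    (theta_le_normalizer_of_normal hA hA3 hθ hNm key ha ha1)

end Cfsg.Agent.SignalizersComponents.FermatEnd
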