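import Mathlib
import Cfsg.Prelude.Def_Balance
import Cfsg.Agent.SignalizersComponents.FermatEnd

set_option autoImplicit false

/-!
The solvable signalizer functor theorem, all primes.
-/

namespace Cfsg.Agent.SignalizersComponents.SolvableFunctor

open Subgroup
open Cfsg.Agent.SignalizersComponents.FunctorTools
open Cfsg.Agent.SignalizersComponents.FunctorInduction

universe u

/-- There is no minimal counterexample to the solvable signalizer functor theorem. -/
theorem no_minCounter {r : ℕ} [hr : Fact r.Prime] (G : Type u) [Group G] [Finite G] (A : Subgroup G)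
    (θ : G → Subgroup G) (h : MinCounter r A θ) : False :=
  FermatEnd.false_of_minCounter h fun q _ hq2 =>
    FixedPointLemma.noFixedC_of_noFixed (NoFixedGen.noFixed hr.out
      (fun h2 => absurd (Set.mem_singleton_iff.mp h2).symm hq2)) _

/-- **The solvable signalizer functor theorem**: solvable signalizer functors on elementary abelian
`r`-groups of rank at least 3 are complete. -/
theorem solComplete {r : ℕ} [hr : Fact r.Prime] {G : Type u} [Group G] [Finite G] {A : Subgroup G}
    {θ : G → Subgroup G} (hA : Cfsg.IsElementaryAbelian r A) (hA3 : r ^ 3 ≤ Nat.card A)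
    (hθ : Cfsg.IsSolvableSignalizerFunctor r A θ) : SolComplete r A θ :=
  FunctorInduction.solComplete no_minCounter _ G A θ rfl hA hA3 hθ

/-- The closure of a solvable signalizer functor on an elementary abelian `r`-group of rank at least 3 is
a member: solvable, of order prime to `r`, `A`-invariant, and it meets `C(a)` in `θ a`. -/
theorem closure_mem {r : ℕ} [hr : Fact r.Prime] {G : Type u} [Group G] [Finite G] {A : Subgroup G}
    {θ : G → Subgroup G} (hA : Cfsg.IsElementaryAbelian r A) (hA3 : r ^ 3 ≤ Nat.card A)
    (hθ : Cfsg.IsSolvableSignalizerFunctor r A θ) :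
    (⨆ a : {a : G // a ∈ A ∧ a ≠ 1}, θ (a : G)) ∈ Cfsg.signalizerFamily r A θ ∧
      ∀ a ∈ A, a ≠ 1 →
        (⨆ b : {a : G // a ∈ A ∧ a ≠ 1}, θ (b : G)) ⊓ centralizer {a} = θ a :=
  SolComplete.conclusion hA hθ (solComplete hA hA3 hθ)

end Cfsg.Agent.SignalizersComponents.SolvableFunctor
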