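import Cfsg.Agent.SignalizersComponents.CompOrbit
import Cfsg.Agent.SignalizersComponents.LocalLayer

/-!
# The `p`-local layer `O_{p',E}(N_G(P))` normalizes each component when `O_{p'}(G) = 1`
-/

set_option autoImplicit false

namespace Cfsg.Agent.SignalizersComponents.LocalNormalize

open Subgroup Cfsg
open Cfsg.Agent.SignalizersComponents.CompOrbit
open Cfsg.Agent.SignalizersComponents.LocalLayer
open scoped Pointwise

/-- A subgroup `Y ≤ C` of order prime to `p` normalized by `C` lies in `O_{p'}(C)`. -/
theorem le_map_pPrimeCore {G : Type*} [Group G] {p : ℕ} {C Y : Subgroup G} (hYC : Y ≤ C)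
    (hC : C ≤ normalizer (Y : Set G)) (hY : (Nat.card Y).Coprime p) :
    Y ≤ (pPrimeCore p C).map C.subtype := by
  rw [← map_subgroupOf_eq_of_le hYC]
  apply Subgroup.map_mono
  apply Cfsg.Agent.Lib.Cores.le_pPrimeCore
  · rwa [normal_subgroupOf_iff_le_normalizer hYC]
  · rwa [Nat.card_congr (subgroupOfEquivOfLe hYC).toEquiv]

theorem map_pPrimeCore_coprime {G : Type*} [Group G] [Finite G] (p : ℕ) (C : Subgroup G) :
    (Nat.card ((pPrimeCore p C).map C.subtype)).Coprime p := by
  rw [Nat.card_congr ((pPrimeCore p C).equivMapOfInjective C.subtype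
    C.subtype_injective).toEquiv.symm]
  exact Cfsg.Agent.Lib.Cores.pPrimeCore_coprime p

theorem normalizer_le_normalizer_pPrimeCore {G : Type*} [Group G] (p : ℕ) (C : Subgroup G) :
    normalizer (C : Set G) ≤ normalizer ((pPrimeCore p C).map C.subtype : Set G) :=
  normalizer_le_normalizer_map_of_characteristic (Cfsg.Agent.Lib.Cores.pPrimeCore_characteristic p)

/-- Let `C ≤ N` with `N` normalizing `C` and `O_{p'}(N) ≤ C`. Then `O_{p'}(N) = O_{p'}(C)`. -/
theorem map_pPrimeCore_eq {G : Type*} [Group G] [Finite G] (p : ℕ) {C N : Subgroup G}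
    (hCN : C ≤ N) (hNC : N ≤ normalizer (C : Set G))
    (h : (pPrimeCore p N).map N.subtype ≤ C) :
    (pPrimeCore p N).map N.subtype = (pPrimeCore p C).map C.subtype := by
  apply le_antisymm
  · exact le_map_pPrimeCore h ((hCN.trans le_normalizer).trans
      (normalizer_le_normalizer_pPrimeCore p N)) (map_pPrimeCore_coprime p N)
  · exact le_map_pPrimeCore ((map_subtype_le _).trans hCN) (hNC.trans
      (normalizer_le_normalizer_pPrimeCore p C)) (map_pPrimeCore_coprime p C)

/-- Let `O_{p'}(G) = 1` and `P` a `p`-subgroup of the finite group `G`. Then the preimage in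
`N_G(P)` of `E(N_G(P) / O_{p'}(N_G(P)))` normalizes each component of `G`. -/
theorem preLayer_le_normalizer_component {G : Type*} [Group G] [Finite G] {p : ℕ}
    [hp : Fact p.Prime] (hO : pPrimeCore p G = ⊥) {P L : Subgroup G} (hP : IsPGroup p P)
    (hL : IsComponent L) :
    (preLayer p (normalizer (P : Set G))).map (normalizer (P : Set G)).subtype ≤
      normalizer (L : Set G) := by
  set N := normalizer (P : Set G) with hN
  set K := (preLayer p N).map N.subtype with hK
  set Y := (pPrimeCore p N).map N.subtype with hY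
  have hYcop : (Nat.card Y).Coprime p := map_pPrimeCore_coprime p N
  have hYK : Y ≤ K := Subgroup.map_mono (pPrimeCore_le_preLayer p N)
  have hKY : K = ⁅K, K⁆ ⊔ Y := by
    conv_lhs => rw [hK, preLayer_eq p N, Subgroup.map_sup, map_commutator]
  have hQn : (pCore p G).Normal := Cfsg.Agent.Lib.Cores.pCore_normal p
  have hQp : IsPGroup p (pCore p G) := Cfsg.Agent.Lib.Cores.pCore_isPGroup p
  have hPN : P ≤ N := le_normalizer
  -- `K` centralizes `P` and `O_p(G)`
  have hKP : K ≤ centralizer (P : Set G) := by
    have h1 := preLayer_commutator_pGroup (p := p) (T := P.subgroupOf N) normal_in_normalizer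
      (hP.comap_of_injective _ N.subtype_injective)
    have h2 := congrArg (Subgroup.map N.subtype) h1
    rw [map_commutator, map_subgroupOf_eq_of_le hPN, Subgroup.map_bot] at h2
    exact commutator_eq_bot_iff_le_centralizer.mp h2
  have hKQ : K ≤ centralizer (pCore p G : Set G) :=
    le_centralizer_of_normalizer rfl hP hQp hQn
      (fun T hT hpT => preLayer_commutator_pGroup hT hpT)
      (Cfsg.Agent.Lib.Cores.pPrimeCore_coprime p) (preLayer_eq p _)
  -- the group `P₁ = P O_p(G)`
  set P₁ := P ⊔ pCore p G with hP₁
  have hP₁p : IsPGroup p P₁ := hP.to_sup_of_normal_right hQp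
  set M := normalizer (P₁ : Set G) with hM
  set C₁ := centralizer (P₁ : Set G) with hC₁
  have hKC : K ≤ C₁ := by
    rw [hC₁, le_centralizer_iff]
    exact sup_le (le_centralizer_iff.mp hKP) (le_centralizer_iff.mp hKQ)
  have hPP₁ : (P : Set G) ⊆ (P₁ : Set G) := SetLike.coe_subset_coe.mpr le_sup_left
  have hCN : C₁ ≤ N := (centralizer_le hPP₁).trans (centralizer_le_normalizer _)
  have hNM : N ≤ M := by
    rw [hM, le_normalizer_iff]
    intro g hg
    have h1 : P₁ ≤ P₁.comap (MulAut.conj g).toMonoidHom := by
      apply sup_le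
      · intro x hx
        exact (le_sup_left : P ≤ P₁) ((mem_normalizer_iff.mp hg x).mp hx)
      · intro x hx
        exact (le_sup_right : pCore p G ≤ P₁) (hQn.conj_mem x hx g)
    exact fun k hk => h1 hk
  have hMC : M ≤ normalizer (C₁ : Set G) := by
    rw [← normal_subgroupOf_iff_le_normalizer (centralizer_le_normalizer _)]
    exact normal_subgroupOf_centralizer_normalizer _
  have hYC : Y ≤ C₁ := hYK.trans hKC
  have hYeq : Y = (pPrimeCore p C₁).map C₁.subtype :=
    map_pPrimeCore_eq p hCN (hNM.trans hMC) hYC
  have hMY : M ≤ normalizer (Y : Set G) := by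
    rw [hYeq]
    exact hMC.trans (normalizer_le_normalizer_pPrimeCore p C₁)
  -- the subgroup of all `k ∈ C₁` moving `L` to a `P₁`-conjugate of `L`
  have hcomm : ∀ k ∈ C₁, ∀ g ∈ P₁, k * g = g * k := fun k hk g hg =>
    ((mem_centralizer_iff.mp hk) g hg).symm
  let R : Subgroup G :=
    { carrier := {k | k ∈ C₁ ∧ ∃ g ∈ P₁, MulAut.conj k • L = MulAut.conj g • L}
      mul_mem' := by
        rintro a b ⟨ha, g, hg, hag⟩ ⟨hb, h, hh, hbh⟩
        refine ⟨C₁.mul_mem ha hb, h * g, P₁.mul_mem hh hg, ?_⟩
        rw [map_mul, mul_smul, hbh, smul_smul, ← map_mul, hcomm a ha h hh, map_mul, mul_smul, hag,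
          smul_smul, ← map_mul]
      one_mem' := ⟨C₁.one_mem, 1, P₁.one_mem, rfl⟩
      inv_mem' := by
        rintro a ⟨ha, g, hg, hag⟩
        refine ⟨C₁.inv_mem ha, g⁻¹, P₁.inv_mem hg, ?_⟩
        have h1 : MulAut.conj (g⁻¹ * a) • L = L := by
          rw [map_mul, mul_smul, hag, smul_smul, ← map_mul, inv_mul_cancel, map_one, one_smul]
        have h2 : MulAut.conj a⁻¹ • L = MulAut.conj a⁻¹ • (MulAut.conj (g⁻¹ * a) • L) := by
          rw [h1]
        rw [h2, smul_smul, ← map_mul, ← hcomm a ha g⁻¹ (P₁.inv_mem hg), inv_mul_cancel_left] }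
  have hR : ∀ k ∈ C₁, (∀ z ∈ layer G ⊓ M, z⁻¹ * (k * z * k⁻¹) ∈ Y) → k ∈ R := by
    intro k hk hz
    exact ⟨hk, exists_smul_eq_of_commutator hO hP₁p le_sup_right hYcop hL hk hz⟩
  have hYR : Y ≤ R := by
    intro y hy
    apply hR y (hYC hy)
    intro z hz
    have h1 : z⁻¹ * y * z⁻¹⁻¹ ∈ Y := (mem_normalizer_iff.mp (hMY (inv_mem hz.2)) y).mp hy
    have h2 : z⁻¹ * (y * z * y⁻¹) = z⁻¹ * y * z⁻¹⁻¹ * y⁻¹ := by group
    rw [h2]
    exact Y.mul_mem h1 (Y.inv_mem hy)
  have hlayer : (layer G).Normal := Cfsg.Agent.SignalizersComponents.Components.layer_normal G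
  set T := layer G ⊓ C₁ with hT
  have hTR : T ≤ R := by
    intro t ht
    refine ⟨ht.2, 1, P₁.one_mem, ?_⟩
    have h1 := Cfsg.Agent.SignalizersComponents.Components.layer_le_normalizer_component hL ht.1
    rw [mem_normalizer_iff_smul_eq] at h1
    rw [h1, map_one, one_smul]
  have hTN : T ≤ N := inf_le_right.trans hCN
  have hTn : (T.subgroupOf N).Normal := by
    rw [normal_subgroupOf_iff_le_normalizer hTN]
    refine le_trans ?_ (inf_normalizer_le_normalizer_inf)
    refine le_inf ?_ (hNM.trans hMC)
    rw [normalizer_eq_top_iff.mpr hlayer]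
    exact le_top
  -- main inclusion
  have hKR : K ≤ R := by
    rw [hK, Subgroup.map_le_iff_le_comap]
    have hOR : pPrimeCore p N ≤ R.comap N.subtype := by
      rw [← Subgroup.map_le_iff_le_comap]
      exact hYR
    set f := QuotientGroup.mk' (pPrimeCore p N) with hf
    have hfs : Function.Surjective f := QuotientGroup.mk'_surjective _
    have hker : f.ker = pPrimeCore p N := QuotientGroup.ker_mk' _
    have hmain : layer (N ⧸ pPrimeCore p N) ≤ (R.comap N.subtype).map f := by
      apply sSup_le
      intro D hD
      set A := (D.comap f).map N.subtype with hA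
      have hDmap : (D.comap f).map f = D := map_comap_eq_self_of_surjective hfs D
      have hDK : D.comap f ≤ preLayer p N := Subgroup.comap_mono (le_sSup hD)
      have hAC : A ≤ C₁ := (Subgroup.map_mono hDK).trans hKC
      suffices hAR : A ≤ R by
        rw [← hDmap]
        apply Subgroup.map_mono
        rw [← Subgroup.map_le_iff_le_comap]
        exact hAR
      rcases Cfsg.Agent.SignalizersComponents.Components.component_le_or_commutator_eq_bot
        (H := (T.subgroupOf N).map f) hD (hTn.map f hfs).isSubnormal with h1 | h1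
      · have h2 : D.comap f ≤ T.subgroupOf N ⊔ pPrimeCore p N := by
          have := Subgroup.comap_mono (f := f) h1
          rwa [comap_map_eq, hker] at this
        have h3 := Subgroup.map_mono (f := N.subtype) h2
        rw [Subgroup.map_sup, map_subgroupOf_eq_of_le hTN] at h3
        exact h3.trans (sup_le hTR hYR)
      · -- `[A, T] ≤ Y`
        have h2 : ⁅A, T⁆ ≤ Y := by
          have h3 : ⁅D.comap f, T.subgroupOf N⁆ ≤ pPrimeCore p N := by
            refine le_trans ?_ hker.le
            rw [← Subgroup.map_eq_bot_iff, map_commutator, hDmap]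
            exact h1
          have h4 := Subgroup.map_mono (f := N.subtype) h3
          rwa [map_commutator, map_subgroupOf_eq_of_le hTN] at h4
        have h3 : A ≤ ⁅A, A⁆ ⊔ Y := by
          have hDD : ⁅D, D⁆ = D := Subgroup.isPerfect_iff.mp hD.2.1
          have h4 : D.comap f = ⁅D.comap f, D.comap f⁆ ⊔ pPrimeCore p N := by
            have h5 : (⁅D.comap f, D.comap f⁆).map f = D := by
              rw [map_commutator, hDmap, hDD]
            have h6 := congrArg (Subgroup.comap f) h5
            rw [comap_map_eq, hker] at h6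
            exact h6.symm
          have h5 := congrArg (Subgroup.map N.subtype) h4
          rw [Subgroup.map_sup, map_commutator] at h5
          exact h5.le
        have hAM : A ≤ M := (hAC.trans hCN).trans hNM
        have h4 : ⁅A, layer G ⊓ M⁆ ≤ T := by
          apply le_inf
          · exact (commutator_mono le_rfl inf_le_left).trans (commutator_le_right _ _)
          · refine (commutator_mono hAC inf_le_right).trans ?_
            rw [← le_normalizer_iff_commutator_le_left]
            exact hMC
        have h5 : ⁅A, layer G ⊓ M⁆ ≤ Y := by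
          apply commutator_le_of_perfect_mod (hAM.trans hMY) (inf_le_right.trans hMY) h3
          refine (commutator_mono h4 le_rfl).trans ?_
          rw [commutator_comm]
          exact h2
        intro a ha
        apply hR a (hAC ha)
        intro z hz
        have h6 := commutator_mem_commutator (H₁ := layer G ⊓ M) (H₂ := A) (inv_mem hz) ha
        rw [commutator_comm] at h6
        have h7 := h5 h6
        rw [commutatorElement_def] at h7
        have h8 : z⁻¹ * (a * z * a⁻¹) = z⁻¹ * a * z⁻¹⁻¹ * a⁻¹ := by group
        rw [h8]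
        exact h7
    intro x hx
    have h1 : f x ∈ (R.comap N.subtype).map f := hmain hx
    rw [← Subgroup.mem_comap, comap_map_eq, hker] at h1
    exact (sup_le le_rfl hOR) h1
  exact le_normalizer_of_forall_exists hP₁p hYcop hKC hKY (fun k hk => (hKR hk).2)

/-- If `O_{p'}(G) = 1` then `O_{p'}(N_G(P))` normalizes each component, for `P` a `p`-subgroup. -/
theorem pPrimeCore_normalizer_le_normalizer_component {G : Type*} [Group G] [Finite G] {p : ℕ}
    [hp : Fact p.Prime] (hO : pPrimeCore p G = ⊥) {P L : Subgroup G} (hP : IsPGroup p P)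
    (hL : IsComponent L) :
    (pPrimeCore p (normalizer (P : Set G))).map (normalizer (P : Set G)).subtype ≤
      normalizer (L : Set G) :=
  (Subgroup.map_mono (pPrimeCore_le_preLayer p _)).trans
    (preLayer_le_normalizer_component hO hP hL)

/-- If `O_{p'}(G) = 1` then `O_{p'}(C_G(P))` normalizes each component, for `P` a `p`-subgroup. -/
theorem pPrimeCore_centralizer_le_normalizer_component {G : Type*} [Group G] [Finite G] {p : ℕ}
    [hp : Fact p.Prime] (hO : pPrimeCore p G = ⊥) {P L : Subgroup G} (hP : IsPGroup p P)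
    (hL : IsComponent L) :
    (pPrimeCore p (centralizer (P : Set G))).map (centralizer (P : Set G)).subtype ≤
      normalizer (L : Set G) := by
  refine le_trans ?_ (pPrimeCore_normalizer_le_normalizer_component hO hP hL)
  have hMC : normalizer (P : Set G) ≤ normalizer (centralizer (P : Set G) : Set G) := by
    rw [← normal_subgroupOf_iff_le_normalizer (centralizer_le_normalizer _)]
    exact normal_subgroupOf_centralizer_normalizer _
  exact le_map_pPrimeCore ((map_subtype_le _).trans (centralizer_le_normalizer _))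
    (hMC.trans (normalizer_le_normalizer_pPrimeCore p _)) (map_pPrimeCore_coprime p _)

end Cfsg.Agent.SignalizersComponents.LocalNormalize
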