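import Mathlib

set_option autoImplicit false

/-!
A subgroup of index two of an elementary abelian `2`-group missing a given element (copied from
`SylowSp4.TwoBal`, to avoid the import of the odd order theorem).
-/

namespace Cfsg.Agent.SignalizersComponents.RelCompl

open Subgroup

variable {G : Type*} [Group G]

/-- A subgroup of index two which does not contain `u`. -/
theorem exists_compl [Finite G] {E : Subgroup G} (hc : ∀ a ∈ E, ∀ b ∈ E, a * b = b * a)
    (hs : ∀ a ∈ E, a * a = 1) {u : G} (hu : u ∈ E) (hu1 : u ≠ 1) :
    ∃ A ≤ E, u ∉ A ∧ (∀ x ∈ E, x ∈ A ∨ u * x ∈ A) ∧ 2 * Nat.card A = Nat.card E := by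
  classical
  obtain ⟨A, ⟨hAE, huA⟩, hmax⟩ := (Set.toFinite {A : Subgroup G | A ≤ E ∧ u ∉ A}).exists_maximal
    ⟨⊥, bot_le, fun h => hu1 (mem_bot.1 h)⟩
  have key : ∀ x ∈ E, x ∈ A ∨ u * x ∈ A := by
    intro x hx
    by_contra hcon
    push Not at hcon
    obtain ⟨h1, h2⟩ := hcon
    -- the group `A ∪ A x`
    let B : Subgroup G :=
      { carrier := {y | y ∈ A ∨ x * y ∈ A}
        one_mem' := Or.inl A.one_mem
        mul_mem' := by
          rintro a b (ha | ha) (hb | hb)
          · exact Or.inl (A.mul_mem ha hb)
          · right
            have : x * (a * b) = a * (x * b) := by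
              rw [← mul_assoc, hc x hx a (hAE ha), mul_assoc]
            rw [this]; exact A.mul_mem ha hb
          · right
            rw [← mul_assoc]; exact A.mul_mem ha hb
          · left
            have h3 : (x * a) * (x * b) = a * b := by
              have ha' : x * a ∈ E := hAE ha
              rw [← mul_assoc, hc (x * a) ha' x hx, ← mul_assoc x x a, hs x hx, one_mul]
            rw [← h3]; exact A.mul_mem ha hb
        inv_mem' := by
          rintro a (ha | ha)
          · exact Or.inl (A.inv_mem ha)
          · right
            have haE : a ∈ E := by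
              have : a = x * (x * a) := by rw [← mul_assoc, hs x hx, one_mul]
              rw [this]; exact E.mul_mem hx (hAE ha)
            have h3 : a⁻¹ = a := inv_eq_of_mul_eq_one_left (hs a haE)
            rw [h3]; exact ha }
    have hBE : B ≤ E := by
      rintro y (hy | hy)
      · exact hAE hy
      · have : y = x * (x * y) := by rw [← mul_assoc, hs x hx, one_mul]
        rw [this]; exact E.mul_mem hx (hAE hy)
    have hAB : A ≤ B := fun y hy => Or.inl hy
    have hxB : x ∈ B := Or.inr (by rw [hs x hx]; exact A.one_mem)
    have huB : u ∉ B := by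
      rintro (h | h)
      · exact huA h
      · apply h2
        rw [hc u hu x hx]; exact h
    have := hmax ⟨hBE, huB⟩ hAB
    exact h1 (this hxB)
  refine ⟨A, hAE, huA, key, ?_⟩
  have hidx : A.relIndex E = 2 := by
    rw [relIndex, index_eq_two_iff]
    refine ⟨⟨u, hu⟩, fun b => ?_⟩
    rw [mem_subgroupOf, mem_subgroupOf]
    rcases key b b.2 with h | h
    · right
      refine ⟨h, fun h' => huA ?_⟩
      have : u = (b : G)⁻¹ * ((b : G) * u) := by group
      rw [this]
      exact A.mul_mem (A.inv_mem h) h'
    · left
      refine ⟨?_, fun h' => huA ?_⟩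
      · show (b : G) * u ∈ A
        rw [hc b b.2 u hu]; exact h
      · have : u = (u * (b : G)) * (b : G)⁻¹ := by group
        rw [this]
        exact A.mul_mem h (A.inv_mem h')
  have h2 := relIndex_mul_relIndex (⊥ : Subgroup G) A E bot_le hAE
  rw [relIndex_bot_left, relIndex_bot_left, hidx] at h2
  rw [← h2, mul_comm]

end Cfsg.Agent.SignalizersComponents.RelCompl
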