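import Mathlib
import Cfsg.Agent.Lib.CoprimeCommutator
import Cfsg.Agent.Lib.CoprimeAbelian
import Cfsg.Agent.SignalizersComponents.CoprimeGen
import Cfsg.Agent.SignalizersComponents.CoprimeFix
import Cfsg.Agent.SignalizersComponents.GoldschmidtGen
import Cfsg.Agent.SignalizersComponents.MinCounterBasic

set_option autoImplicit false
set_option linter.unusedSectionVars false

/-!
Relative version of the generation lemma for coprime action: `B` a noncyclic elementary abelian `p`-group and `Q` a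
`p`-group commuting with `B`, both acting on a solvable `p'`-group `Y = ⁅Y, Q⁆`; then `C_Y(B)` is generated by the
subgroups `C_Y(B) ∩ ⁅C_Y(b), Q⁆`, `1 ≠ b ∈ B`.
-/

namespace Cfsg.Agent.SignalizersComponents.RelGen

open Subgroup
open scoped commutatorElement
open Cfsg.Agent.Lib.CoprimeCommutator
open Cfsg.Agent.SignalizersComponents.GoldschmidtGen (le_normalizer_of_conj_mem
  conj_mem_of_le_normalizer le_normalizer_sup le_normalizer_commutator le_normalizer_inf_centralizer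
  sup_commutator_ne)

universe u

/-- The action: `G = Y Q B`. -/
structure Act (p : ℕ) {G : Type u} [Group G] (Y Q B : Subgroup G) : Prop where
  norm : Y.Normal
  top : Y ⊔ Q ⊔ B = ⊤
  pQ : IsPGroup p Q
  el : Cfsg.IsElementaryAbelian p B
  card : p ^ 2 ≤ Nat.card B
  comm : ∀ q ∈ Q, ∀ b ∈ B, q * b = b * q
  solv : Group.IsSolvable Y
  cop : ¬ p ∣ Nat.card Y
  full : Y ≤ ⁅Y, Q⁆

section defs

variable {G : Type u} [Group G]

/-- `⁅C_Y(b), Q⁆` -/
def UU (Y Q : Subgroup G) (b : G) : Subgroup G := ⁅Y ⊓ centralizer {b}, Q⁆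

/-- the group generated by the `⁅C_Y(b), Q⁆` -/
def HH (Y Q B : Subgroup G) : Subgroup G := ⨆ b : {b : G // b ∈ B ∧ b ≠ 1}, UU Y Q b

/-- the group generated by the `C(B) ∩ ⁅C_Y(b), Q⁆` -/
def LL (Y Q B : Subgroup G) : Subgroup G :=
  ⨆ b : {b : G // b ∈ B ∧ b ≠ 1}, centralizer (B : Set G) ⊓ UU Y Q b

theorem UU_le_HH {Y Q B : Subgroup G} {b : G} (hb : b ∈ B) (hb1 : b ≠ 1) : UU Y Q b ≤ HH Y Q B :=
  le_iSup (fun b : {b : G // b ∈ B ∧ b ≠ 1} => UU Y Q (b : G)) ⟨b, hb, hb1⟩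

theorem inf_UU_le_LL {Y Q B : Subgroup G} {b : G} (hb : b ∈ B) (hb1 : b ≠ 1) :
    centralizer (B : Set G) ⊓ UU Y Q b ≤ LL Y Q B :=
  le_iSup (fun b : {b : G // b ∈ B ∧ b ≠ 1} => centralizer (B : Set G) ⊓ UU Y Q (b : G)) ⟨b, hb, hb1⟩

theorem LL_le_centralizer {Y Q B : Subgroup G} : LL Y Q B ≤ centralizer (B : Set G) :=
  iSup_le fun _ => inf_le_left

theorem mem_cent_singleton {a x : G} : x ∈ centralizer ({a} : Set G) ↔ a * x = x * a := by
  rw [Subgroup.mem_centralizer_iff]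
  exact ⟨fun h => h a rfl, fun h => by rintro _ rfl; exact h⟩

theorem cent_le_cent_singleton {B : Subgroup G} {b : G} (hb : b ∈ B) :
    centralizer (B : Set G) ≤ centralizer {b} := fun _ hx =>
  mem_cent_singleton.2 (mem_centralizer_iff.1 hx b hb)

end defs

namespace Act

variable {p : ℕ} [hp : Fact p.Prime] {G : Type u} [Group G] [Finite G] {Y Q B : Subgroup G}
  (h : Act p Y Q B)

include h

theorem pB : IsPGroup p B := CoprimeGen.isPGroup_of_isElementaryAbelian h.el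

theorem commB : ∀ a ∈ B, ∀ b ∈ B, a * b = b * a := CoprimeGen.comm_of_isElementaryAbelian h.el

theorem le_normY (X : Subgroup G) : X ≤ normalizer (Y : Set G) := by
  have := h.norm
  rw [Subgroup.normalizer_eq_top]
  exact le_top

/-- A subgroup normalised by `Y`, `Q` and `B` is normal. -/
theorem normal_of {X : Subgroup G} (hY : Y ≤ normalizer (X : Set G)) (hQ : Q ≤ normalizer (X : Set G))
    (hB : B ≤ normalizer (X : Set G)) : X.Normal := by
  rw [← Subgroup.normalizer_eq_top_iff, eq_top_iff, ← h.top]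
  exact sup_le (sup_le hY hQ) hB

theorem copP {P X : Subgroup G} (hP : IsPGroup p P) (hX : X ≤ Y) :
    (Nat.card P).Coprime (Nat.card X) := by
  obtain ⟨k, hk⟩ := hP.exists_card_eq
  rw [hk]
  apply Nat.Coprime.pow_left
  rw [hp.out.coprime_iff_not_dvd]
  exact fun hd => h.cop (hd.trans (card_dvd_of_le hX))

theorem not_dvd {X : Subgroup G} (hX : X ≤ Y) : ¬ p ∣ Nat.card X :=
  fun hd => h.cop (hd.trans (card_dvd_of_le hX))

theorem UU_le (b : G) : UU Y Q b ≤ Y :=
  (commutator_mono inf_le_left le_rfl).trans (commutator_le_left (h.le_normY Q))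

theorem UU_le_cent {b : G} (hb : b ∈ B) : UU Y Q b ≤ Y ⊓ centralizer {b} :=
  commutator_le_left (by
    refine le_normalizer_of_conj_mem fun q hq x hx => ⟨conj_mem_of_le_normalizer (h.le_normY Q) hq hx.1, ?_⟩
    have h1 := mem_cent_singleton.1 hx.2
    have h2 := h.comm q hq b hb
    refine mem_cent_singleton.2 ?_
    calc b * (q * x * q⁻¹) = (q * b) * x * q⁻¹ := by rw [h2]; group
      _ = q * (b * x) * q⁻¹ := by group
      _ = q * x * (q⁻¹ * (q * b) * q⁻¹) := by rw [h1]; group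
      _ = q * x * q⁻¹ * b := by rw [h2]; group)


/-! ### Quotients -/

theorem inf_eq_bot {N : Subgroup G} (hNY : N ≤ Y) : B ⊓ N = ⊥ :=
  MinCounterBasic.inf_eq_bot_of_coprime (h.copP h.pB hNY)

theorem map {N : Subgroup G} [hN : N.Normal] (hNY : N ≤ Y) :
    Act p (Y.map (QuotientGroup.mk' N)) (Q.map (QuotientGroup.mk' N)) (B.map (QuotientGroup.mk' N)) where
  norm := h.norm.map _ (QuotientGroup.mk'_surjective N)
  top := by
    rw [← Subgroup.map_sup, ← Subgroup.map_sup, h.top,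
      Subgroup.map_top_of_surjective _ (QuotientGroup.mk'_surjective N)]
  pQ := h.pQ.map _
  el := by
    refine ⟨⟨⟨?_⟩⟩, ?_⟩
    · rintro ⟨_, x, hx, rfl⟩ ⟨_, y, hy, rfl⟩
      apply Subtype.ext
      show QuotientGroup.mk' N x * QuotientGroup.mk' N y = QuotientGroup.mk' N y * QuotientGroup.mk' N x
      rw [← map_mul, ← map_mul, h.commB x hx y hy]
    · rintro _ ⟨x, hx, rfl⟩
      rw [← map_pow, h.el.2 x hx, map_one]
  card := by
    have hinj : Function.Injective ((QuotientGroup.mk' N).comp B.subtype) := by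
      rw [injective_iff_map_eq_one]
      rintro ⟨x, hx⟩ hx1
      have h1 : x ∈ N := (QuotientGroup.eq_one_iff _).mp hx1
      have h2 : x ∈ B ⊓ N := ⟨hx, h1⟩
      rw [h.inf_eq_bot hNY, mem_bot] at h2
      exact Subtype.ext h2
    have h1 : Nat.card B = Nat.card (B.map (QuotientGroup.mk' N)) := by
      have h2 : B.map (QuotientGroup.mk' N) = ((QuotientGroup.mk' N).comp B.subtype).range := by
        rw [MonoidHom.range_comp, Subgroup.range_subtype]
      rw [h2]
      exact Nat.card_congr (MonoidHom.ofInjective hinj).toEquiv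
    rw [← h1]
    exact h.card
  comm := by
    rintro _ ⟨x, hx, rfl⟩ _ ⟨y, hy, rfl⟩
    rw [← map_mul, ← map_mul, h.comm x hx y hy]
  solv := by
    have := h.solv
    exact Group.isSolvable_of_surjective ((QuotientGroup.mk' N).subgroupMap_surjective Y)
  cop := fun hd => h.cop (hd.trans (Subgroup.card_dvd_of_surjective _
    ((QuotientGroup.mk' N).subgroupMap_surjective Y)))
  full := by
    rw [← Subgroup.map_commutator]
    exact Subgroup.map_mono h.full

theorem map_cent_le {N : Subgroup G} [hN : N.Normal] {b : G} (hb : b ∈ B) :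
    Y.map (QuotientGroup.mk' N) ⊓ centralizer {(QuotientGroup.mk' N b)} ≤
      (Y ⊓ centralizer {b}).map (QuotientGroup.mk' N) := by
  have h1 := CoprimeFix.map_inf_centralizer_le (p := p) (zpowers b)
    (h.pB.to_le (by rwa [zpowers_le])) Y h.cop
    (fun c _ v hv => h.norm.conj_mem v hv c) N
  rwa [MonoidHom.map_zpowers, CoprimeGen.centralizer_zpowers, CoprimeGen.centralizer_zpowers] at h1

theorem UU_map_le {N : Subgroup G} [hN : N.Normal] {b : G} (hb : b ∈ B) :
    UU (Y.map (QuotientGroup.mk' N)) (Q.map (QuotientGroup.mk' N)) (QuotientGroup.mk' N b) ≤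
      (UU Y Q b).map (QuotientGroup.mk' N) := by
  rw [UU, UU, Subgroup.map_commutator]
  exact commutator_mono (h.map_cent_le hb) le_rfl

theorem UU_conj {b : G} (hb : b ∈ B) {c : G} (hc : c ∈ B) {x : G} (hx : x ∈ UU Y Q b) :
    c * x * c⁻¹ ∈ UU Y Q b := by
  have h1 : B ≤ normalizer ((Y ⊓ centralizer {b} : Subgroup G) : Set G) := by
    refine le_normalizer_of_conj_mem fun a ha x hx => ⟨conj_mem_of_le_normalizer (h.le_normY B) ha hx.1, ?_⟩
    have h1 := mem_cent_singleton.1 hx.2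
    have h2 := h.commB a ha b hb
    refine mem_cent_singleton.2 ?_
    calc b * (a * x * a⁻¹) = (b * a) * x * a⁻¹ := by group
      _ = a * (b * x) * a⁻¹ := by rw [← h2]; group
      _ = a * x * (a⁻¹ * (a * b) * a⁻¹) := by rw [h1]; group
      _ = a * x * a⁻¹ * b := by rw [h2]; group
  have h2 : UU Y Q b ≤ (UU Y Q b).comap (MulAut.conj c).toMonoidHom := by
    rw [UU, commutator_le]
    intro y hy q hq
    show c * ⁅y, q⁆ * c⁻¹ ∈ UU Y Q b
    have h3 : c * ⁅y, q⁆ * c⁻¹ = ⁅c * y * c⁻¹, c * q * c⁻¹⁆ := by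
      simp only [commutatorElement_def]; group
    have h4 : c * q * c⁻¹ = q := by rw [← h.comm q hq c hc]; group
    rw [h3, h4]
    exact commutator_mem_commutator (conj_mem_of_le_normalizer h1 hc hy) hq
  exact h2 hx

theorem HH_map_le {N : Subgroup G} [hN : N.Normal] :
    HH (Y.map (QuotientGroup.mk' N)) (Q.map (QuotientGroup.mk' N)) (B.map (QuotientGroup.mk' N)) ≤
      (HH Y Q B).map (QuotientGroup.mk' N) := by
  refine iSup_le ?_
  rintro ⟨_, ⟨b, hb, rfl⟩, hb1⟩
  have hb1' : b ≠ 1 := by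
    rintro rfl
    exact hb1 (map_one _)
  exact (h.UU_map_le hb).trans (Subgroup.map_mono (UU_le_HH hb hb1'))

theorem LL_map_le {N : Subgroup G} [hN : N.Normal] :
    LL (Y.map (QuotientGroup.mk' N)) (Q.map (QuotientGroup.mk' N)) (B.map (QuotientGroup.mk' N)) ≤
      (LL Y Q B).map (QuotientGroup.mk' N) := by
  refine iSup_le ?_
  rintro ⟨_, ⟨b, hb, rfl⟩, hb1⟩
  have hb1' : b ≠ 1 := by
    rintro rfl
    exact hb1 (map_one _)
  refine le_trans ?_ (Subgroup.map_mono (inf_UU_le_LL (Y := Y) (Q := Q) hb hb1'))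
  refine le_trans (inf_le_inf_left _ (h.UU_map_le hb)) ?_
  rw [inf_comm, inf_comm (centralizer (B : Set G))]
  exact CoprimeFix.map_inf_centralizer_le (p := p) B h.pB (UU Y Q b) (h.not_dvd (h.UU_le b))
    (fun c hc v hv => h.UU_conj hb hc hv) N


end Act

/-! ### Minimal normal subgroups -/

section minimal

variable {G : Type u} [Group G] [Finite G]

theorem exists_min {Z X : Subgroup G} (hX : X.Normal) (hZX : Z < X) :
    ∃ V : Subgroup G, V.Normal ∧ Z < V ∧ V ≤ X ∧
      ∀ W : Subgroup G, W.Normal → Z < W → W ≤ V → W = V := by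
  obtain ⟨V, hVmin⟩ :=
    (Set.toFinite {V : Subgroup G | V.Normal ∧ Z < V ∧ V ≤ X}).exists_minimal ⟨X, hX, hZX, le_rfl⟩
  obtain ⟨hV1, hV2, hV3⟩ := hVmin.1
  exact ⟨V, hV1, hV2, hV3, fun W h1 h2 h3 => le_antisymm h3 (hVmin.2 ⟨h1, h2, h3.trans hV3⟩ h3)⟩

theorem comm_le_of_min {Y Z V : Subgroup G} (hYs : Group.IsSolvable Y) (hZ : Z.Normal) (hV : V.Normal)
    (hZV : Z < V) (hVY : V ≤ Y)
    (hmin : ∀ W : Subgroup G, W.Normal → Z < W → W ≤ V → W = V) : ⁅V, V⁆ ≤ Z := by
  by_contra hcon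
  have hVs : Group.IsSolvable V :=
    Group.isSolvable_of_isSolvable_injective (f := inclusion hVY) (inclusion_injective hVY)
  have h1 : Z < Z ⊔ ⁅V, V⁆ := lt_of_le_of_ne le_sup_left fun h => hcon (h ▸ le_sup_right)
  have h2 : Z ⊔ ⁅V, V⁆ ≤ V := sup_le hZV.le (commutator_le_left V V)
  exact sup_commutator_ne hVs hZV.le hZV.ne (le_normalizer_of_conj_mem fun x _ v hv => hZ.conj_mem v hv x)
    (hmin _ inferInstance h1 h2)

theorem card_map_lt {Y N : Subgroup G} [hN : N.Normal] (hNY : N ≤ Y) (hN1 : N ≠ ⊥) :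
    Nat.card (Y.map (QuotientGroup.mk' N)) < Nat.card Y := by
  by_contra hcon
  have hinj := (((QuotientGroup.mk' N).subgroupMap_surjective Y).bijective_of_nat_card_le
    (not_lt.1 hcon)).1
  obtain ⟨x, hx, hx1⟩ := N.bot_or_exists_ne_one.resolve_left hN1
  apply hx1
  have h1 : (QuotientGroup.mk' N).subgroupMap Y ⟨x, hNY hx⟩ = (QuotientGroup.mk' N).subgroupMap Y 1 := by
    apply Subtype.ext
    show QuotientGroup.mk' N x = QuotientGroup.mk' N 1
    rw [map_one]
    exact (QuotientGroup.eq_one_iff _).mpr hx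
  exact congrArg Subtype.val (hinj h1)

theorem le_sup_of_map_le {X W N : Subgroup G} [hN : N.Normal]
    (h : X.map (QuotientGroup.mk' N) ≤ W.map (QuotientGroup.mk' N)) : X ≤ W ⊔ N := by
  rw [Subgroup.map_le_map_iff, QuotientGroup.ker_mk'] at h
  exact h

theorem comm_eq_of_bot {V : Subgroup G} (h : ⁅V, V⁆ = ⊥) : ∀ x ∈ V, ∀ y ∈ V, x * y = y * x := by
  intro x hx y hy
  have h1 := (commutator_eq_bot_iff_le_centralizer).1 h hx
  exact ((mem_centralizer_iff.1 h1) y hy).symm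

end minimal

/-! ### Generation -/

namespace Act

theorem HH_aux {p : ℕ} [hp : Fact p.Prime] (n : ℕ) : ∀ {G : Type u} [Group G] [Finite G]
    {Y Q B : Subgroup G}, Act p Y Q B → Nat.card Y = n → Y ≤ HH Y Q B := by
  induction n using Nat.strong_induction_on with
  | _ n ih =>
  intro G _ _ Y Q B h hn
  by_cases hY1 : Y = ⊥
  · rw [hY1]; exact bot_le
  have hYn := h.norm
  obtain ⟨V, hVn, hV1, hVY, hmin⟩ := exists_min hYn (bot_lt_iff_ne_bot.2 hY1)
  have hV1' : V ≠ ⊥ := hV1.ne'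
  have hVV : ⁅V, V⁆ = ⊥ := le_bot_iff.1 (comm_le_of_min h.solv inferInstance hVn hV1 hVY hmin)
  have hVc := comm_eq_of_bot hVV
  have ih1 := ih _ (hn ▸ card_map_lt hVY hV1') (h.map hVY) rfl
  have hYH : Y ≤ HH Y Q B ⊔ V := le_sup_of_map_le (ih1.trans h.HH_map_le)
  set H : Subgroup G := HH Y Q B with hH
  have hHY : H ≤ Y := iSup_le fun b => h.UU_le b
  have hQH : Q ≤ normalizer (H : Set G) := by
    apply le_normalizer_of_conj_mem
    intro q hq
    have h1 : H ≤ H.comap (MulAut.conj q).toMonoidHom := by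
      conv_lhs => rw [hH]
      refine iSup_le fun b x hx => ?_
      exact UU_le_HH b.2.1 b.2.2
        (conj_mem_of_le_normalizer (right_le_normalizer_commutator _ Q) hq hx)
    exact fun x hx => h1 hx
  have hBH : B ≤ normalizer (H : Set G) := by
    apply le_normalizer_of_conj_mem
    intro c hc
    have h1 : H ≤ H.comap (MulAut.conj c).toMonoidHom := by
      conv_lhs => rw [hH]
      refine iSup_le fun b x hx => ?_
      exact UU_le_HH b.2.1 b.2.2 (h.UU_conj b.2.1 hc hx)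
    exact fun x hx => h1 hx
  have hnV : ∀ X : Subgroup G, X ≤ normalizer (V : Set G) := fun X =>
    le_normalizer_of_conj_mem fun x _ v hv => hVn.conj_mem v hv x
  have hVH : (V ⊓ H).Normal := by
    refine h.normal_of (hYH.trans (sup_le ?_ ?_)) ?_ ?_
    · exact le_normalizer_of_conj_mem fun x hx v hv => ⟨hVn.conj_mem v hv.1 x,
        H.mul_mem (H.mul_mem hx hv.2) (H.inv_mem hx)⟩
    · exact le_normalizer_of_conj_mem fun x hx v hv => by
        rw [hVc x hx v hv.1, mul_inv_cancel_right]; exact hv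
    · exact le_normalizer_of_conj_mem fun x hx v hv => ⟨hVn.conj_mem v hv.1 x,
        conj_mem_of_le_normalizer hQH hx hv.2⟩
    · exact le_normalizer_of_conj_mem fun x hx v hv => ⟨hVn.conj_mem v hv.1 x,
        conj_mem_of_le_normalizer hBH hx hv.2⟩
  by_cases hVHb : V ⊓ H = ⊥
  · -- `Q` centralises `V`
    have hVQ : ⁅V, Q⁆ = ⊥ := by
      rw [← le_bot_iff, ← hVHb]
      refine le_inf (commutator_le_left (hnV Q)) ?_
      let X : Subgroup G :=
        { carrier := {v | v ∈ V ∧ ∀ q ∈ Q, ⁅v, q⁆ ∈ H}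
          one_mem' := ⟨one_mem _, fun q _ => by simp⟩
          mul_mem' := by
            rintro x y ⟨hx, hx'⟩ ⟨hy, hy'⟩
            refine ⟨mul_mem hx hy, fun q hq => ?_⟩
            have h1 : ⁅x * y, q⁆ = x * ⁅y, q⁆ * x⁻¹ * ⁅x, q⁆ := by
              simp only [commutatorElement_def]; group
            have h2 : ⁅y, q⁆ ∈ V := commutator_le_left (hnV Q) (commutator_mem_commutator hy hq)
            rw [h1, hVc x hx _ h2, mul_inv_cancel_right]
            exact mul_mem (hy' q hq) (hx' q hq)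
          inv_mem' := by
            rintro x ⟨hx, hx'⟩
            refine ⟨inv_mem hx, fun q hq => ?_⟩
            have h1 : ⁅x⁻¹, q⁆ = x⁻¹ * ⁅x, q⁆⁻¹ * x⁻¹⁻¹ := by
              simp only [commutatorElement_def]; group
            have h2 : ⁅x, q⁆⁻¹ ∈ V :=
              inv_mem (commutator_le_left (hnV Q) (commutator_mem_commutator hx hq))
            rw [h1, hVc _ (inv_mem hx) _ h2, mul_inv_cancel_right]
            exact inv_mem (hx' q hq) }
      have hVX : V ≤ X := by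
        refine (CoprimeGen.le_iSup_centralizer_ne_one (Z := V) h.el h.card (h.not_dvd hVY) (hnV B)).trans
          (iSup_le fun b => ?_)
        rintro v ⟨hv, hvb⟩
        refine ⟨hv, fun q hq => UU_le_HH b.2.1 b.2.2 (commutator_mem_commutator ⟨hVY hv, hvb⟩ hq)⟩
      rw [commutator_le]
      exact fun v hv q hq => (hVX hv).2 q hq
    refine h.full.trans ?_
    rw [commutator_le]
    intro y hy q hq
    obtain ⟨x, hx, v, hv, rfl⟩ :=
      (CoprimeBasic.mem_sup_iff (X := V) (Y := H) (hnV H) y).mp (by rw [sup_comm]; exact hYH hy)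
    -- `y = x v` with `x ∈ V`, `v ∈ H`
    have h1 : ⁅x * v, q⁆ = x * ⁅v, q⁆ * x⁻¹ * ⁅x, q⁆ := by
      simp only [commutatorElement_def]; group
    have h2 : ⁅x, q⁆ = 1 := by
      have : ⁅x, q⁆ ∈ ⁅V, Q⁆ := commutator_mem_commutator hx hq
      rwa [hVQ, mem_bot] at this
    -- `Y` centralises `V`
    have h3 : ⁅⁅Y, Q⁆, V⁆ = ⊥ := by
      apply commutator_commutator_eq_bot_of_rotate
      · rw [commutator_comm Q V, hVQ, commutator_bot_left]
      · rw [← le_bot_iff, ← hVQ]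
        exact commutator_mono (commutator_le_left (hnV Y)) le_rfl
    have h4 : ⁅v, q⁆ ∈ Y := commutator_le_left (h.le_normY Q) (commutator_mem_commutator (hHY hv) hq)
    have h5 : x * ⁅v, q⁆ = ⁅v, q⁆ * x := by
      have h6 := (commutator_eq_bot_iff_le_centralizer).1 h3 (h.full h4)
      exact mem_centralizer_iff.1 h6 x hx
    rw [h1, h2, mul_one, h5, mul_inv_cancel_right, commutatorElement_def]
    have h6 : v * q * v⁻¹ * q⁻¹ = v * (q * v⁻¹ * q⁻¹) := by group
    rw [h6]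
    exact mul_mem hv (conj_mem_of_le_normalizer hQH hq (inv_mem hv))
  · have h1 : V ⊓ H = V := hmin _ hVH (bot_lt_iff_ne_bot.2 hVHb) inf_le_left
    exact hYH.trans (sup_le le_rfl (inf_eq_left.1 h1))

section

variable {p : ℕ} [hp : Fact p.Prime] {G : Type u} [Group G] [Finite G] {Y Q B : Subgroup G}
  (h : Act p Y Q B)

include h

theorem le_HH : Y ≤ HH Y Q B := HH_aux _ h rfl

theorem LL_le : LL Y Q B ≤ Y := iSup_le fun b => inf_le_right.trans (h.UU_le b)

theorem comm_V {V : Subgroup G} (hVn : V.Normal) (hVY : V ≤ Y) (hVV : ⁅V, V⁆ = ⊥) :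
    ⁅V, Y⁆ ⊓ centralizer (B : Set G) ≤ LL Y Q B := by
  have hVc := comm_eq_of_bot hVV
  have hnV : ∀ X : Subgroup G, X ≤ normalizer (V : Set G) := fun X =>
    le_normalizer_of_conj_mem fun x _ v hv => hVn.conj_mem v hv x
  set L : Subgroup G := LL Y Q B with hL
  have hVB : ⁅V, B⁆ ≤ V := commutator_le_left (hnV B)
  set S : Subgroup G := (L ⊓ V) ⊔ ⁅V, B⁆ with hS
  have hSV : S ≤ V := sup_le inf_le_right hVB
  have key : ∀ b ∈ B, b ≠ 1 → ∀ u ∈ UU Y Q b, ∀ v ∈ V, ⁅u, v⁆ ∈ S := by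
    intro b hb hb1 u hu v hv
    have hzB : zpowers b ≤ B := by rwa [zpowers_le]
    obtain ⟨m, hm, c, hc, rfl⟩ := exists_commutator_mul_fixed_of_isPGroup p (zpowers b) V
      (h.pB.to_le hzB) (hnV _) (h.not_dvd hVY) v hv
    have hmV : m ∈ V := commutator_le_left (hnV _) hm
    have hcb : c ∈ centralizer {b} := by rw [← CoprimeGen.centralizer_zpowers]; exact hc.2
    have hmB : ⁅V, zpowers b⁆ ≤ ⁅V, B⁆ := commutator_mono le_rfl hzB
    have h1 : ⁅u, m * c⁆ = ⁅u, m⁆ * (m * ⁅u, c⁆ * m⁻¹) := by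
      simp only [commutatorElement_def]; group
    have hucV : ⁅u, c⁆ ∈ V := by
      rw [commutatorElement_def]
      exact V.mul_mem (hVn.conj_mem c hc.1 u) (V.inv_mem hc.1)
    rw [h1, hVc m hmV _ hucV, mul_inv_cancel_right]
    refine mul_mem ?_ ?_
    · -- `⁅u, m⁆ ∈ ⁅V, b⁆`
      have h2 : UU Y Q b ≤ normalizer ((⁅V, zpowers b⁆ : Subgroup G) : Set G) := by
        refine le_normalizer_commutator (hnV _) fun a ha c hc => ?_
        have h3 : a ∈ centralizer ((zpowers b : Subgroup G) : Set G) := by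
          rw [CoprimeGen.centralizer_zpowers]
          exact (h.UU_le_cent hb ha).2
        exact (mem_centralizer_iff.1 h3 c hc).symm
      refine mem_sup_right (hmB ?_)
      rw [commutatorElement_def]
      exact mul_mem (conj_mem_of_le_normalizer h2 hu hm) (inv_mem hm)
    · -- `⁅u, c⁆ ∈ V ∩ UU b`
      have h2 : ⁅u, c⁆ ∈ V ⊓ UU Y Q b := by
        refine ⟨hucV, ?_⟩
        have h3 : Y ⊓ centralizer {b} ≤ normalizer ((UU Y Q b : Subgroup G) : Set G) :=
          left_le_normalizer_commutator _ _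
        rw [commutatorElement_def]
        have h4 : u * c * u⁻¹ * c⁻¹ = u * (c * u⁻¹ * c⁻¹) := by group
        rw [h4]
        exact mul_mem hu (conj_mem_of_le_normalizer h3 ⟨hVY hc.1, hcb⟩ (inv_mem hu))
      have hnW : B ≤ normalizer ((V ⊓ UU Y Q b : Subgroup G) : Set G) :=
        le_normalizer_of_conj_mem fun x hx v hv => ⟨hVn.conj_mem v hv.1 x, h.UU_conj hb hx hv.2⟩
      obtain ⟨m', hm', c', hc', hmc⟩ := exists_commutator_mul_fixed_of_isPGroup p B (V ⊓ UU Y Q b)
        h.pB hnW (h.not_dvd (inf_le_left.trans hVY)) _ h2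
      rw [hmc]
      refine mul_mem (mem_sup_right (commutator_mono inf_le_left le_rfl hm')) (mem_sup_left ?_)
      exact ⟨inf_UU_le_LL hb hb1 ⟨hc'.2, hc'.1.2⟩, hc'.1.1⟩
  have hact : ∀ b ∈ B, b ≠ 1 → UU Y Q b ≤ CoprimeGen.actTriv S V := by
    intro b hb hb1 u hu
    refine ⟨?_, hnV (UU Y Q b) hu, fun v hv => key b hb hb1 u hu v hv⟩
    have h1 : UU Y Q b ≤ normalizer (S : Set G) := by
      refine le_normalizer_of_conj_mem fun u hu s hs => ?_
      have h2 : u * s * u⁻¹ = ⁅u, s⁆ * s := by simp only [commutatorElement_def]; group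
      rw [h2]
      exact mul_mem (key b hb hb1 u hu s (hSV hs)) hs
    exact h1 hu
  have hYact : Y ≤ CoprimeGen.actTriv S V :=
    h.le_HH.trans (iSup_le fun b => hact b b.2.1 b.2.2)
  have hVYS : ⁅V, Y⁆ ≤ S := by
    rw [commutator_le]
    intro v hv y hy
    rw [← commutatorElement_inv]
    exact inv_mem ((hYact hy).2.2 v hv)
  rintro x ⟨hx, hxB⟩
  have hxS := hVYS hx
  have hcS : ∀ {X X' : Subgroup G}, X ≤ V → X' ≤ V → X ≤ normalizer (X' : Set G) := by
    intro X X' hX hX'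
    refine le_normalizer_of_conj_mem fun a ha x hx => ?_
    rw [hVc a (hX ha) x (hX' hx), mul_inv_cancel_right]
    exact hx
  obtain ⟨l, hl, m, hm, rfl⟩ := (CoprimeBasic.mem_sup_iff (X := L ⊓ V) (Y := ⁅V, B⁆)
    (hcS hVB inf_le_right) x).mp hxS
  have hlB : l ∈ centralizer (B : Set G) := LL_le_centralizer hl.1
  have hmB : m ∈ centralizer (B : Set G) := by
    have := (centralizer (B : Set G)).mul_mem ((centralizer (B : Set G)).inv_mem hlB) hxB
    simpa using this
  have h1 : m ∈ (V ⊓ centralizer (B : Set G)) ⊓ ⁅V, B⁆ := ⟨⟨hVB hm, hmB⟩, hm⟩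
  rw [Cfsg.Agent.Lib.CoprimeAbelian.inf_commutator_eq_bot B V hVc (hnV B) (h.copP h.pB hVY),
    mem_bot] at h1
  rw [h1, mul_one]
  exact hl.1


theorem exists_b : ∃ b ∈ B, b ≠ 1 := by
  have h1 : B ≠ ⊥ := CoprimeGen.ne_bot_of_pow_le two_ne_zero h.card
  obtain ⟨b, hb, hb1⟩ := B.bot_or_exists_ne_one.resolve_left h1
  exact ⟨b, hb, hb1⟩

theorem of_sup {V : Subgroup G} (hVn : V.Normal)
    (h1 : Y ⊓ centralizer (B : Set G) ≤ LL Y Q B ⊔ V) (h2 : V ⊓ centralizer (B : Set G) ≤ LL Y Q B) :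
    Y ⊓ centralizer (B : Set G) ≤ LL Y Q B := by
  intro x hx
  obtain ⟨v, hv, l, hl, rfl⟩ := (CoprimeBasic.mem_sup_iff (X := V) (Y := LL Y Q B)
    (le_normalizer_of_conj_mem fun x _ v hv => hVn.conj_mem v hv x) x).mp (by rw [sup_comm]; exact h1 hx)
  refine mul_mem (h2 ⟨hv, ?_⟩) hl
  have := (centralizer (B : Set G)).mul_mem hx.2 ((centralizer (B : Set G)).inv_mem (LL_le_centralizer hl))
  simpa using this

/-- A subgroup centralised by `Y`, `Q` and `B` is centralised by everything. -/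
theorem le_center {V : Subgroup G} (h1 : ⁅V, Y⁆ = ⊥) (h2 : ⁅V, Q⁆ = ⊥) (h3 : ⁅V, B⁆ = ⊥) :
    V ≤ center G := by
  rw [commutator_comm, commutator_eq_bot_iff_le_centralizer] at h1 h2 h3
  have h4 : (⊤ : Subgroup G) ≤ centralizer (V : Set G) := by
    rw [← h.top]; exact sup_le (sup_le h1 h2) h3
  intro v hv
  rw [mem_center_iff]
  intro g
  exact (mem_centralizer_iff.1 (h4 (mem_top g)) v hv).symm

omit h in
theorem normal_of_le_center {V : Subgroup G} (h1 : V ≤ center G) : V.Normal where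
  conj_mem v hv g := by
    rw [(mem_center_iff.1 (h1 hv)) g, mul_inv_cancel_right]
    exact hv

/-- Commutators with `Q` and `B` of a normal subgroup centralised by `Y` are normal. -/
theorem normal_comm {V X : Subgroup G} (_hVn : V.Normal) (h1 : ⁅V, Y⁆ = ⊥) (hX : X ≤ V)
    (hQ : Q ≤ normalizer (X : Set G)) (hB : B ≤ normalizer (X : Set G)) : X.Normal := by
  refine h.normal_of ?_ hQ hB
  rw [commutator_comm, commutator_eq_bot_iff_le_centralizer] at h1
  refine le_normalizer_of_conj_mem fun y hy x hx => ?_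
  rw [← mem_centralizer_iff.1 (h1 hy) x (hX hx), mul_inv_cancel_right]
  exact hx

theorem min_central (hcon : ¬ Y ⊓ centralizer (B : Set G) ≤ LL Y Q B)
    (hg : ∀ N : Subgroup G, N.Normal → N ≤ Y → N ≠ ⊥ → Y ⊓ centralizer (B : Set G) ≤ LL Y Q B ⊔ N)
    {V : Subgroup G} (hVn : V.Normal) (hV1 : ⊥ < V) (hVY : V ≤ Y)
    (hmin : ∀ W : Subgroup G, W.Normal → ⊥ < W → W ≤ V → W = V) :
    V ≤ center G ∧ V ⊓ LL Y Q B = ⊥ := by
  have hV1' : V ≠ ⊥ := hV1.ne'
  have hVV : ⁅V, V⁆ = ⊥ := le_bot_iff.1 (comm_le_of_min h.solv inferInstance hVn hV1 hVY hmin)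
  have hnV : ∀ X : Subgroup G, X ≤ normalizer (V : Set G) := fun X =>
    le_normalizer_of_conj_mem fun x _ v hv => hVn.conj_mem v hv x
  have hYn := h.norm
  have hno : ¬ V ⊓ centralizer (B : Set G) ≤ LL Y Q B := fun h2 => hcon (h.of_sup hVn (hg V hVn hVY hV1') h2)
  have hVYb : ⁅V, Y⁆ = ⊥ := by
    by_contra hne
    have h1 : ⁅V, Y⁆ = V := hmin _ inferInstance (bot_lt_iff_ne_bot.2 hne) (commutator_le_left (hnV Y))
    have h2 := h.comm_V hVn hVY hVV
    rw [h1] at h2
    exact hno h2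
  have hVB : V ≤ centralizer (B : Set G) := by
    have h1 : (V ⊓ centralizer (B : Set G)).Normal := by
      refine h.normal_comm hVn hVYb inf_le_left ?_ ?_
      · exact le_normalizer_inf_centralizer (hnV Q) h.comm
      · exact le_normalizer_inf_centralizer (hnV B) h.commB
    have h2 : V ⊓ centralizer (B : Set G) = V := by
      refine hmin _ h1 (bot_lt_iff_ne_bot.2 fun h3 => hno ?_) inf_le_left
      rw [h3]; exact bot_le
    exact inf_eq_left.1 h2
  have hVLL : ¬ V ≤ LL Y Q B := fun h2 => hno (inf_le_left.trans h2)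
  have hVQ : ⁅V, Q⁆ = ⊥ := by
    by_contra hne
    have h1 : (⁅V, Q⁆ : Subgroup G).Normal := by
      refine h.normal_comm hVn hVYb (commutator_le_left (hnV Q)) (right_le_normalizer_commutator V Q) ?_
      exact le_normalizer_commutator (hnV B) fun b hb q hq => (h.comm q hq b hb).symm
    have h2 : ⁅V, Q⁆ = V := hmin _ h1 (bot_lt_iff_ne_bot.2 hne) (commutator_le_left (hnV Q))
    obtain ⟨b, hb, hb1⟩ := h.exists_b
    apply hVLL
    refine le_trans (le_inf hVB ?_) (inf_UU_le_LL hb hb1)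
    conv_lhs => rw [← h2]
    exact commutator_mono (le_inf hVY (hVB.trans (cent_le_cent_singleton hb))) le_rfl
  have hVB' : ⁅V, B⁆ = ⊥ := (commutator_eq_bot_iff_le_centralizer).2 hVB
  have hZ := h.le_center hVYb hVQ hVB'
  refine ⟨hZ, ?_⟩
  by_contra hne
  have h1 : (V ⊓ LL Y Q B).Normal := normal_of_le_center (inf_le_left.trans hZ)
  have h2 : V ⊓ LL Y Q B = V := hmin _ h1 (bot_lt_iff_ne_bot.2 hne) inf_le_left
  exact hVLL (inf_eq_left.1 h2)

end

/-- `C_Y(B)` is generated by the `C_Y(B) ∩ ⁅C_Y(b), Q⁆`. -/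
theorem LL_aux {p : ℕ} [hp : Fact p.Prime] (n : ℕ) : ∀ {G : Type u} [Group G] [Finite G]
    {Y Q B : Subgroup G}, Act p Y Q B → Nat.card Y = n →
      Y ⊓ centralizer (B : Set G) ≤ LL Y Q B := by
  induction n using Nat.strong_induction_on with
  | _ n ih =>
  intro G _ _ Y Q B h hn
  by_contra hcon
  have hYn := h.norm
  have hg : ∀ N : Subgroup G, N.Normal → N ≤ Y → N ≠ ⊥ →
      Y ⊓ centralizer (B : Set G) ≤ LL Y Q B ⊔ N := by
    intro N hN hNY hN1
    refine le_sup_of_map_le ?_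
    refine le_trans ?_ ((ih _ (hn ▸ card_map_lt hNY hN1) (h.map hNY) rfl).trans h.LL_map_le)
    refine le_inf (Subgroup.map_mono inf_le_left) ?_
    rintro _ ⟨x, hx, rfl⟩
    rw [mem_centralizer_iff]
    rintro _ ⟨b, hb, rfl⟩
    rw [← map_mul, ← map_mul, mem_centralizer_iff.1 hx.2 b hb]
  have hY1 : Y ≠ ⊥ := by
    rintro rfl
    exact hcon (inf_le_left.trans bot_le)
  obtain ⟨V, hVn, hV1, hVY, hmin⟩ := exists_min hYn (bot_lt_iff_ne_bot.2 hY1)
  obtain ⟨hVZ, hVL⟩ := h.min_central hcon hg hVn hV1 hVY hmin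
  have hcomm_bot : ∀ {X X' : Subgroup G}, X ≤ center G → ⁅X, X'⁆ = ⊥ := by
    intro X X' hX
    rw [commutator_eq_bot_iff_le_centralizer]
    exact fun x hx => mem_centralizer_iff.2 fun y _ => (mem_center_iff.1 (hX hx)) y
  have hVQ : ⁅V, Q⁆ = ⊥ := hcomm_bot hVZ
  have hVne : V ≠ Y := by
    rintro rfl
    exact hY1 (le_bot_iff.1 (h.full.trans hVQ.le))
  -- no nontrivial normal subgroup of `G` in `Y` is contained in `LL`
  have hnoL : ∀ N : Subgroup G, N.Normal → N ≤ Y → N ≤ LL Y Q B → N = ⊥ := by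
    intro N hN hNY hNL
    by_contra hne
    obtain ⟨V', hV'n, hV'1, hV'N, hmin'⟩ := exists_min hN (bot_lt_iff_ne_bot.2 hne)
    obtain ⟨-, h2⟩ := h.min_central hcon hg hV'n hV'1 (hV'N.trans hNY) hmin'
    rw [inf_eq_left.2 (hV'N.trans hNL)] at h2
    exact hV'1.ne' h2
  obtain ⟨W, hWn, hVW, hWY, hminW⟩ := exists_min hYn (lt_of_le_of_ne hVY hVne)
  have hWW : ⁅W, W⁆ ≤ V := comm_le_of_min h.solv hVn hWn hVW hWY hminW
  have hnW : ∀ X : Subgroup G, X ≤ normalizer (W : Set G) := fun X =>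
    le_normalizer_of_conj_mem fun x _ v hv => hWn.conj_mem v hv x
  by_cases hWc : ⁅W, W⁆ = ⊥
  · -- `W` abelian
    have hWcc := comm_eq_of_bot hWc
    have hWYb : ⁅W, Y⁆ = ⊥ := by
      by_contra hne
      obtain ⟨V', hV'n, hV'1, hV'N, hmin'⟩ :=
        exists_min (X := ⁅W, Y⁆) inferInstance (bot_lt_iff_ne_bot.2 hne)
      have hV'Y : V' ≤ Y := hV'N.trans (commutator_le_right W Y)
      obtain ⟨h1, h2⟩ := h.min_central hcon hg hV'n hV'1 hV'Y hmin'
      have h3 : V' ≤ LL Y Q B := by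
        refine le_trans (le_inf hV'N ?_) (h.comm_V hWn hWY hWc)
        exact fun x hx => mem_centralizer_iff.2 fun y _ => (mem_center_iff.1 (h1 hx)) y
      rw [inf_eq_left.2 h3] at h2
      exact hV'1.ne' h2
    have hWX : ∀ P : Subgroup G, IsPGroup p P → (⁅W, P⁆ : Subgroup G).Normal → ⁅W, P⁆ = ⊥ := by
      intro P hP hPn
      by_contra hne
      obtain ⟨V', hV'n, hV'1, hV'N, hmin'⟩ := exists_min hPn (bot_lt_iff_ne_bot.2 hne)
      have hV'W : V' ≤ W := hV'N.trans (commutator_le_left (hnW P))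
      obtain ⟨h1, -⟩ := h.min_central hcon hg hV'n hV'1 (hV'W.trans hWY) hmin'
      have h3 : V' ≤ (W ⊓ centralizer (P : Set G)) ⊓ ⁅W, P⁆ :=
        le_inf (le_inf hV'W fun x hx => mem_centralizer_iff.2 fun y _ => (mem_center_iff.1 (h1 hx)) y) hV'N
      rw [Cfsg.Agent.Lib.CoprimeAbelian.inf_commutator_eq_bot P W hWcc (hnW P) (h.copP hP hWY)] at h3
      exact hV'1.ne' (le_bot_iff.1 h3)
    have hWQ : ⁅W, Q⁆ = ⊥ := hWX Q h.pQ
      (h.normal_comm hWn hWYb (commutator_le_left (hnW Q)) (right_le_normalizer_commutator W Q)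
        (le_normalizer_commutator (hnW B) fun b hb q hq => (h.comm q hq b hb).symm))
    have hWB : ⁅W, B⁆ = ⊥ := hWX B h.pB
      (h.normal_comm hWn hWYb (commutator_le_left (hnW B))
        (le_normalizer_commutator (hnW Q) h.comm) (right_le_normalizer_commutator W B))
    have hWZ := h.le_center hWYb hWQ hWB
    have hWL : W ⊓ LL Y Q B = ⊥ :=
      hnoL _ (normal_of_le_center (inf_le_left.trans hWZ)) (inf_le_left.trans hWY) inf_le_right
    have hWV : W ≤ V := by
      intro x hx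
      have hxC : x ∈ Y ⊓ centralizer (B : Set G) :=
        ⟨hWY hx, mem_centralizer_iff.2 fun y _ => (mem_center_iff.1 (hWZ hx)) y⟩
      obtain ⟨v, hv, l, hl, hvl⟩ := (CoprimeBasic.mem_sup_iff (X := V) (Y := LL Y Q B)
        (le_normalizer_of_conj_mem fun x _ v hv => hVn.conj_mem v hv x) x).mp
        (by rw [sup_comm]; exact hg V hVn hVY hV1.ne' hxC)
      have h1 : l ∈ W ⊓ LL Y Q B := by
        refine ⟨?_, hl⟩
        have : l = v⁻¹ * x := by rw [← hvl]; group
        rw [this]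
        exact W.mul_mem (W.inv_mem (hVW.le hv)) hx
      rw [hWL, mem_bot] at h1
      rw [← hvl, h1, mul_one]
      exact hv
    exact hVW.not_ge hWV
  · -- `W` nonabelian
    have hWW' : ⁅W, W⁆ = V := hmin _ inferInstance (bot_lt_iff_ne_bot.2 hWc) hWW
    have hZW : W ⊓ centralizer (W : Set G) = V := by
      have hn : (W ⊓ centralizer (W : Set G)).Normal := by
        have : (centralizer (W : Set G)).Normal := by
          constructor
          intro x hx g
          rw [mem_centralizer_iff] at hx ⊢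
          intro w hw
          have h1 := hx (g⁻¹ * w * g⁻¹⁻¹) (hWn.conj_mem w hw g⁻¹)
          calc w * (g * x * g⁻¹) = g * ((g⁻¹ * w * g⁻¹⁻¹) * x) * g⁻¹ := by group
            _ = g * (x * (g⁻¹ * w * g⁻¹⁻¹)) * g⁻¹ := by rw [h1]
            _ = g * x * g⁻¹ * w := by group
        infer_instance
      have hVle : V ≤ W ⊓ centralizer (W : Set G) :=
        le_inf hVW.le fun x hx => mem_centralizer_iff.2 fun y _ => (mem_center_iff.1 (hVZ hx)) y
      by_contra hne
      have h1 := hminW _ hn (lt_of_le_of_ne hVle (Ne.symm hne)) inf_le_left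
      apply hWc
      rw [commutator_eq_bot_iff_le_centralizer]
      exact inf_eq_left.1 h1
    have hVB : V ≤ centralizer (B : Set G) :=
      fun x hx => mem_centralizer_iff.2 fun y _ => (mem_center_iff.1 (hVZ hx)) y
    have hPb : ∀ b ∈ B, b ≠ 1 → ⁅W ⊓ centralizer {b}, Q⁆ = ⊥ := by
      intro b hb hb1
      set T : Subgroup G := W ⊓ centralizer {b} with hT
      have hTY : T ≤ Y := inf_le_left.trans hWY
      have hzB : zpowers b ≤ B := by rwa [zpowers_le]
      have hQT : Q ≤ normalizer (T : Set G) := by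
        rw [hT, ← CoprimeGen.centralizer_zpowers]
        exact le_normalizer_inf_centralizer (hnW Q) fun q hq c hc => h.comm q hq c (hzB hc)
      set P : Subgroup G := ⁅T, Q⁆ with hP
      have hPT : P ≤ T := commutator_le_left hQT
      have hPU : P ≤ UU Y Q b := commutator_mono (inf_le_inf_right _ hWY) le_rfl
      have hPP : ⁅P, P⁆ = ⊥ := by
        by_contra hne
        have h1 : ⁅P, P⁆ ≤ V :=
          (commutator_mono (hPT.trans inf_le_left) (hPT.trans inf_le_left)).trans hWW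
        have h2 : ⁅P, P⁆ = V := hmin _ (normal_of_le_center (h1.trans hVZ)) (bot_lt_iff_ne_bot.2 hne) h1
        have h3 : V ≤ P := by
          rw [← h2, commutator_le]
          intro x hx y hy
          rw [commutatorElement_def]
          exact P.mul_mem (P.mul_mem (P.mul_mem hx hy) (P.inv_mem hx)) (P.inv_mem hy)
        have h4 : V ≤ LL Y Q B := (le_inf hVB (h3.trans hPU)).trans (inf_UU_le_LL hb hb1)
        rw [inf_eq_left.2 h4] at hVL
        exact hV1.ne' hVL
      have hPc := comm_eq_of_bot hPP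
      have hTW : T ≤ W := inf_le_left
      -- `P` centralises `C_T(Q)`
      have h1 : ⁅P, T ⊓ centralizer (Q : Set G)⁆ = ⊥ := by
        apply commutator_commutator_eq_bot_of_rotate
        · have : ⁅Q, T ⊓ centralizer (Q : Set G)⁆ = ⊥ := by
            rw [commutator_comm, commutator_eq_bot_iff_le_centralizer]
            exact inf_le_right
          rw [this, commutator_bot_left]
        · rw [← le_bot_iff, ← hVQ]
          exact commutator_mono ((commutator_mono (inf_le_left.trans hTW) hTW).trans hWW) le_rfl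
      have h2 : P ≤ centralizer (T : Set G) := by
        intro x hx
        rw [mem_centralizer_iff]
        intro t ht
        obtain ⟨m, hm, c, hc, rfl⟩ := exists_commutator_mul_fixed_of_isPGroup p Q T h.pQ hQT
          (h.not_dvd hTY) t ht
        have h3 : c * x = x * c := (mem_centralizer_iff.1
          ((commutator_eq_bot_iff_le_centralizer.1 h1) hx) c hc)
        have h4 : m * x = x * m := hPc m hm x hx
        calc m * c * x = m * (c * x) := by group
          _ = (m * x) * c := by rw [h3]; group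
          _ = x * (m * c) := by rw [h4]; group
      -- `P` centralises `⁅W, b⁆`
      have h3 : ⁅⁅W, zpowers b⁆, P⁆ = ⊥ := by
        apply commutator_commutator_eq_bot_of_rotate
        · have : ⁅zpowers b, P⁆ = ⊥ := by
            rw [commutator_comm, commutator_eq_bot_iff_le_centralizer, CoprimeGen.centralizer_zpowers]
            exact hPT.trans inf_le_right
          rw [this, commutator_bot_left]
        · have h4 : ⁅⁅P, W⁆, zpowers b⁆ ≤ ⁅V, zpowers b⁆ :=
            commutator_mono ((commutator_mono (hPT.trans hTW) le_rfl).trans hWW) le_rfl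
          rw [hcomm_bot hVZ] at h4
          exact le_bot_iff.1 h4
      have h4 : P ≤ V := by
        rw [← hZW]
        refine le_inf (hPT.trans hTW) fun x hx => ?_
        rw [mem_centralizer_iff]
        intro w hw
        obtain ⟨m, hm, c, hc, rfl⟩ := exists_commutator_mul_fixed_of_isPGroup p (zpowers b) W
          (h.pB.to_le hzB) (hnW _) (h.not_dvd hWY) w hw
        have hcT : c ∈ T := by
          rw [hT, ← CoprimeGen.centralizer_zpowers]
          exact hc
        have h5 : c * x = x * c := mem_centralizer_iff.1 (h2 hx) c hcT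
        have h6 : m * x = x * m :=
          ((mem_centralizer_iff.1 ((commutator_eq_bot_iff_le_centralizer.1 h3) hm)) x hx).symm
        calc m * c * x = m * (c * x) := by group
          _ = (m * x) * c := by rw [h5]; group
          _ = x * (m * c) := by rw [h6]; group
      have h5 : ⁅P, Q⁆ = P := commutator_commutator_eq Q T hQT (h.copP h.pQ hTY)
      rw [← h5, ← le_bot_iff, ← hVQ]
      exact commutator_mono h4 le_rfl
    have hWQ : W ≤ centralizer (Q : Set G) := by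
      refine (CoprimeGen.le_iSup_centralizer_ne_one (Z := W) h.el h.card (h.not_dvd hWY) (hnW B)).trans
        (iSup_le fun b => ?_)
      rw [← commutator_eq_bot_iff_le_centralizer]
      exact hPb b b.2.1 b.2.2
    have hWQ' : ⁅W, Q⁆ = ⊥ := commutator_eq_bot_iff_le_centralizer.2 hWQ
    have h3 : ⁅⁅Y, Q⁆, W⁆ = ⊥ := by
      apply commutator_commutator_eq_bot_of_rotate
      · rw [commutator_comm Q W, hWQ', commutator_bot_left]
      · rw [← le_bot_iff, ← hWQ']
        exact commutator_mono (commutator_le_left (hnW Y)) le_rfl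
    apply hWc
    rw [← le_bot_iff, ← h3]
    exact commutator_mono (hWY.trans h.full) le_rfl

end Act

/-! ### The general form -/

section general

variable {p : ℕ} [hp : Fact p.Prime] {G : Type u} [Group G] [Finite G] {Y Q B : Subgroup G}

theorem act_subgroupOf (hQ : IsPGroup p Q) (hB : Cfsg.IsElementaryAbelian p B)
    (hB2 : p ^ 2 ≤ Nat.card B) (hcomm : ∀ q ∈ Q, ∀ b ∈ B, q * b = b * q) (hYs : Group.IsSolvable Y)
    (hYp : ¬ p ∣ Nat.card Y) (hQY : Q ≤ normalizer (Y : Set G)) (hBY : B ≤ normalizer (Y : Set G))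
    (hfull : Y ≤ ⁅Y, Q⁆) :
    Act p (Y.subgroupOf (Y ⊔ Q ⊔ B)) (Q.subgroupOf (Y ⊔ Q ⊔ B)) (B.subgroupOf (Y ⊔ Q ⊔ B)) := by
  set H : Subgroup G := Y ⊔ Q ⊔ B with hH
  have hYH : Y ≤ H := le_sup_left.trans le_sup_left
  have hQH : Q ≤ H := le_sup_right.trans le_sup_left
  have hBH : B ≤ H := le_sup_right
  have hm : ∀ {X : Subgroup G}, X ≤ H → (X.subgroupOf H).map H.subtype = X := fun hX =>
    Subgroup.map_subgroupOf_eq_of_le hX
  have hcard : ∀ {X : Subgroup G}, X ≤ H → Nat.card (X.subgroupOf H) = Nat.card X := fun hX =>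
    Nat.card_congr (Subgroup.subgroupOfEquivOfLe hX).toEquiv
  refine ⟨?_, ?_, ?_, ?_, ?_, ?_, ?_, ?_, ?_⟩
  · exact normal_subgroupOf_of_le_normalizer (sup_le (sup_le Subgroup.le_normalizer hQY) hBY)
  · apply Subgroup.map_injective H.subtype_injective
    rw [Subgroup.map_sup, Subgroup.map_sup, hm hYH, hm hQH, hm hBH, ← MonoidHom.range_eq_map,
      Subgroup.range_subtype]
  · exact hQ.of_equiv (Subgroup.subgroupOfEquivOfLe hQH).symm
  · refine ⟨⟨⟨?_⟩⟩, ?_⟩
    · rintro ⟨⟨x, hx⟩, hx'⟩ ⟨⟨y, hy⟩, hy'⟩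
      apply Subtype.ext
      apply Subtype.ext
      exact CoprimeGen.comm_of_isElementaryAbelian hB x hx' y hy'
    · rintro ⟨x, hx⟩ hx'
      apply Subtype.ext
      exact hB.2 x hx'
  · rw [hcard hBH]; exact hB2
  · rintro ⟨x, hx⟩ hx' ⟨y, hy⟩ hy'
    apply Subtype.ext
    exact hcomm x hx' y hy'
  · exact Group.isSolvable_of_surjective (f := (Subgroup.subgroupOfEquivOfLe hYH).symm.toMonoidHom)
      (Subgroup.subgroupOfEquivOfLe hYH).symm.surjective
  · rw [hcard hYH]; exact hYp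
  · rw [← Subgroup.map_le_map_iff_of_injective H.subtype_injective, Subgroup.map_commutator, hm hYH,
      hm hQH]
    exact hfull

/-- **Relative generation lemma.** `B` a noncyclic elementary abelian `p`-group and `Q` a `p`-group
commuting with `B`, acting on a solvable `p'`-group `Y = ⁅Y, Q⁆`: then `C_Y(B)` is generated by the
`C_Y(B) ∩ ⁅C_Y(b), Q⁆`, `1 ≠ b ∈ B`. -/
theorem inf_centralizer_le (hQ : IsPGroup p Q) (hB : Cfsg.IsElementaryAbelian p B)
    (hB2 : p ^ 2 ≤ Nat.card B) (hcomm : ∀ q ∈ Q, ∀ b ∈ B, q * b = b * q) (hYs : Group.IsSolvable Y)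
    (hYp : ¬ p ∣ Nat.card Y) (hQY : Q ≤ normalizer (Y : Set G)) (hBY : B ≤ normalizer (Y : Set G))
    (hfull : Y ≤ ⁅Y, Q⁆) :
    Y ⊓ centralizer (B : Set G) ≤
      ⨆ b : {b : G // b ∈ B ∧ b ≠ 1}, centralizer (B : Set G) ⊓ ⁅Y ⊓ centralizer {(b : G)}, Q⁆ := by
  have hact := act_subgroupOf hQ hB hB2 hcomm hYs hYp hQY hBY hfull
  have hYH : Y ≤ Y ⊔ Q ⊔ B := le_sup_left.trans le_sup_left
  intro x hx
  have hx1 : (⟨x, hYH hx.1⟩ : ↥(Y ⊔ Q ⊔ B)) ∈
      centralizer ((B.subgroupOf (Y ⊔ Q ⊔ B) : Subgroup ↥(Y ⊔ Q ⊔ B)) : Set ↥(Y ⊔ Q ⊔ B)) := by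
    rw [mem_centralizer_iff]
    rintro ⟨b, hb⟩ hb'
    exact Subtype.ext (mem_centralizer_iff.1 hx.2 b hb')
  have hx2 : (⟨x, hYH hx.1⟩ : ↥(Y ⊔ Q ⊔ B)) ∈ Y.subgroupOf (Y ⊔ Q ⊔ B) := hx.1
  have h1 := Act.LL_aux _ hact rfl (Subgroup.mem_inf.2 ⟨hx2, hx1⟩)
  have h2 : (LL (Y.subgroupOf (Y ⊔ Q ⊔ B)) (Q.subgroupOf (Y ⊔ Q ⊔ B)) (B.subgroupOf (Y ⊔ Q ⊔ B))).map
      (Y ⊔ Q ⊔ B).subtype ≤ LL Y Q B := by
    rw [LL, Subgroup.map_iSup]
    refine iSup_le ?_
    rintro ⟨⟨b, hbH⟩, hb, hb1⟩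
    have hb1' : b ≠ 1 := fun h => hb1 (Subtype.ext h)
    refine le_trans ?_ (inf_UU_le_LL (Y := Y) (Q := Q) (show b ∈ B from hb) hb1')
    refine (Subgroup.map_inf_le _ _ _).trans (inf_le_inf ?_ ?_)
    · rintro _ ⟨⟨y, hy⟩, hy', rfl⟩
      rw [mem_centralizer_iff]
      intro c hc
      have hcH : c ∈ Y ⊔ Q ⊔ B := (le_sup_right : B ≤ Y ⊔ Q ⊔ B) hc
      exact congrArg Subtype.val (mem_centralizer_iff.1 hy' (⟨c, hcH⟩ : ↥(Y ⊔ Q ⊔ B)) hc)
    · rw [UU, UU, Subgroup.map_commutator]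
      refine commutator_mono ?_ ?_
      · rintro _ ⟨⟨y, hy⟩, ⟨hy1, hy2⟩, rfl⟩
        exact ⟨hy1, mem_cent_singleton.2 (congrArg Subtype.val (mem_cent_singleton.1 hy2))⟩
      · rintro _ ⟨⟨y, hy⟩, hy1, rfl⟩
        exact hy1
  exact h2 ⟨_, h1, rfl⟩

/-- `Y = ⁅Y, Q⁆` is generated by the `⁅C_Y(b), Q⁆`, `1 ≠ b ∈ B`. -/
theorem le_iSup_commutator (hQ : IsPGroup p Q) (hB : Cfsg.IsElementaryAbelian p B)
    (hB2 : p ^ 2 ≤ Nat.card B) (hcomm : ∀ q ∈ Q, ∀ b ∈ B, q * b = b * q) (hYs : Group.IsSolvable Y)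
    (hYp : ¬ p ∣ Nat.card Y) (hQY : Q ≤ normalizer (Y : Set G)) (hBY : B ≤ normalizer (Y : Set G))
    (hfull : Y ≤ ⁅Y, Q⁆) :
    Y ≤ ⨆ b : {b : G // b ∈ B ∧ b ≠ 1}, ⁅Y ⊓ centralizer {(b : G)}, Q⁆ := by
  have hact := act_subgroupOf hQ hB hB2 hcomm hYs hYp hQY hBY hfull
  have hYH : Y ≤ Y ⊔ Q ⊔ B := le_sup_left.trans le_sup_left
  intro x hx
  have h1 := Act.le_HH hact (show (⟨x, hYH hx⟩ : ↥(Y ⊔ Q ⊔ B)) ∈ _ from hx)
  have h2 : (HH (Y.subgroupOf (Y ⊔ Q ⊔ B)) (Q.subgroupOf (Y ⊔ Q ⊔ B)) (B.subgroupOf (Y ⊔ Q ⊔ B))).map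
      (Y ⊔ Q ⊔ B).subtype ≤ HH Y Q B := by
    rw [HH, Subgroup.map_iSup]
    refine iSup_le ?_
    rintro ⟨⟨b, hbH⟩, hb, hb1⟩
    have hb1' : b ≠ 1 := fun h => hb1 (Subtype.ext h)
    refine le_trans ?_ (UU_le_HH (Y := Y) (Q := Q) (show b ∈ B from hb) hb1')
    rw [UU, UU, Subgroup.map_commutator]
    refine commutator_mono ?_ ?_
    · rintro _ ⟨⟨y, hy⟩, ⟨hy1, hy2⟩, rfl⟩
      exact ⟨hy1, mem_cent_singleton.2 (congrArg Subtype.val (mem_cent_singleton.1 hy2))⟩
    · rintro _ ⟨⟨y, hy⟩, hy1, rfl⟩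
      exact hy1
  exact h2 ⟨_, h1, rfl⟩

end general

end Cfsg.Agent.SignalizersComponents.RelGen
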