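import Mathlib
import Cfsg.Agent.SignalizersComponents.RelGen
import Cfsg.Agent.SignalizersComponents.SolFunctorTwo
import Cfsg.Agent.SignalizersComponents.RelCompl

set_option autoImplicit false
set_option linter.unusedSectionVars false

/-!
# The relative signalizer functor theorem, rank at least four

`A` is an elementary abelian `2`-group of order at least `16`, `Q` a `2`-group commuting with `A`, and `D a ≤ C(a)`,
`1 ≠ a ∈ A`, a family of subgroups of odd order, normalised by `C(a) ∩ C(Q)` and by `Q`, with `D a = ⁅D a, Q⁆` and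
`⁅D a ∩ C(b), Q⁆ ≤ D b`. Then the `D a` generate a group of odd order.
-/

namespace Cfsg.Agent.SignalizersComponents.RelFunctor

open Subgroup
open scoped commutatorElement
open Cfsg.Agent.Lib.CoprimeCommutator
open Cfsg.Agent.SignalizersComponents.GoldschmidtGen (le_normalizer_of_conj_mem
  conj_mem_of_le_normalizer le_normalizer_sup le_normalizer_commutator le_normalizer_inf_centralizer)
open Cfsg.Agent.SignalizersComponents.RelGen (mem_cent_singleton)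

universe u

variable {G : Type u} [Group G]

theorem sup3_inf_centralizer_le [Finite G] {p : ℕ} [hp : Fact p.Prime] {X₁ X₂ X₃ P : Subgroup G}
    (hP : IsPGroup p P) (h1 : P ≤ normalizer (X₁ : Set G)) (h2 : P ≤ normalizer (X₂ : Set G))
    (h3 : P ≤ normalizer (X₃ : Set G)) (h21 : X₂ ≤ normalizer (X₁ : Set G))
    (h31 : X₃ ≤ normalizer ((X₁ ⊔ X₂ : Subgroup G) : Set G)) (hX₂ : ¬ p ∣ Nat.card X₂)
    (hX₃ : ¬ p ∣ Nat.card X₃) :
    (X₁ ⊔ X₂ ⊔ X₃) ⊓ centralizer (P : Set G) ≤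
      (X₁ ⊓ centralizer (P : Set G)) ⊔ (X₂ ⊓ centralizer (P : Set G)) ⊔
        (X₃ ⊓ centralizer (P : Set G)) := by
  intro g hg'
  have hg : g ∈ X₁ ⊔ X₂ ⊔ X₃ := hg'.1
  have hgP := mem_centralizer_iff.1 hg'.2
  obtain ⟨x, hx, y, hy, hxP, hyP, rfl⟩ := CoprimeBasic.exists_factorization_of_centralizing
    (X := X₁ ⊔ X₂) (Y := X₃) h31 P hP
    (fun a ha x hx => conj_mem_of_le_normalizer (le_normalizer_sup h1 h2) ha hx)
    (fun a ha y hy => conj_mem_of_le_normalizer h3 ha hy)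
    (fun h => hX₃ (h.trans (card_dvd_of_le inf_le_right))) g hg hgP
  obtain ⟨z, hz, w, hw, hzP, hwP, rfl⟩ := CoprimeBasic.exists_factorization_of_centralizing
    (X := X₁) (Y := X₂) h21 P hP
    (fun a ha x hx => conj_mem_of_le_normalizer h1 ha hx)
    (fun a ha y hy => conj_mem_of_le_normalizer h2 ha hy)
    (fun h => hX₂ (h.trans (card_dvd_of_le inf_le_right))) x hx hxP
  exact mul_mem (mul_mem (mem_sup_left (mem_sup_left ⟨hz, mem_centralizer_iff.2 hzP⟩))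
    (mem_sup_left (mem_sup_right ⟨hw, mem_centralizer_iff.2 hwP⟩)))
    (mem_sup_right ⟨hy, mem_centralizer_iff.2 hyP⟩)

theorem not_dvd_sup [Finite G] {p : ℕ} [hp : Fact p.Prime] {X Y : Subgroup G}
    (hn : Y ≤ normalizer (X : Set G)) (hX : ¬ p ∣ Nat.card X) (hY : ¬ p ∣ Nat.card Y) :
    ¬ p ∣ Nat.card ↥(X ⊔ Y) := fun h =>
  (hp.out.dvd_mul.1 (h.trans (CoprimeBasic.card_sup_dvd hn))).elim hX hY

theorem isSolvable_of_le {X Y : Subgroup G} (hX : Group.IsSolvable Y) (h : X ≤ Y) :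
    Group.IsSolvable X :=
  Group.isSolvable_of_isSolvable_injective (f := inclusion h) (inclusion_injective h)

/-- The setting. -/
structure Rel (A Q : Subgroup G) (D : G → Subgroup G) : Prop where
  comm : ∀ a ∈ A, ∀ b ∈ A, a * b = b * a
  sq : ∀ a ∈ A, a * a = 1
  card : 2 ^ 4 ≤ Nat.card A
  pQ : IsPGroup 2 Q
  commQ : ∀ a ∈ A, ∀ q ∈ Q, a * q = q * a
  cent : ∀ a ∈ A, a ≠ 1 → D a ≤ centralizer {a}
  odd : ∀ a ∈ A, a ≠ 1 → ¬ 2 ∣ Nat.card (D a)
  solv : ∀ a ∈ A, a ≠ 1 → Group.IsSolvable (D a)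
  invQ : ∀ a ∈ A, a ≠ 1 → Q ≤ normalizer (D a : Set G)
  full : ∀ a ∈ A, a ≠ 1 → D a ≤ ⁅D a, Q⁆
  canon : ∀ a ∈ A, a ≠ 1 →
    centralizer {a} ⊓ centralizer (Q : Set G) ≤ normalizer (D a : Set G)
  bal : ∀ a ∈ A, ∀ b ∈ A, a ≠ 1 → b ≠ 1 → ⁅D a ⊓ centralizer {b}, Q⁆ ≤ D b

/-- `C(a) ∩ C(b)` -/
def cc (a b : G) : Subgroup G := centralizer {a} ⊓ centralizer {b}

/-- `C_{D a}(Q)` -/
def yy (Q : Subgroup G) (D : G → Subgroup G) (a : G) : Subgroup G := D a ⊓ centralizer (Q : Set G)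

/-- `⟨C_{D e}(Q) ∩ C(a) ∩ C(b) : e ∈ ⟨a, b⟩⟩` -/
def vv (Q : Subgroup G) (D : G → Subgroup G) (a b : G) : Subgroup G :=
  (yy Q D a ⊓ cc a b) ⊔ (yy Q D b ⊓ cc a b) ⊔ (yy Q D (a * b) ⊓ cc a b)

theorem mem_cc {a b x : G} : x ∈ cc a b ↔ a * x = x * a ∧ b * x = x * b := by
  rw [cc, Subgroup.mem_inf, mem_cent_singleton, mem_cent_singleton]

theorem cc_comm (a b : G) : cc a b = cc b a := inf_comm _ _

theorem mul_comm_of_cc {a b x : G} (hx : x ∈ cc a b) : (a * b) * x = x * (a * b) := by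
  obtain ⟨h1, h2⟩ := mem_cc.1 hx
  rw [mul_assoc, h2, ← mul_assoc, h1, mul_assoc]

namespace Rel

variable {A Q : Subgroup G} {D : G → Subgroup G} (h : Rel A Q D)

include h

theorem el : Cfsg.IsElementaryAbelian 2 A :=
  ⟨⟨⟨fun x y => Subtype.ext (h.comm x x.2 y y.2)⟩⟩, fun a ha => (pow_two a).trans (h.sq a ha)⟩

theorem mul_ne_one {a b : G} (hb : b ∈ A) (hab : a ≠ b) : a * b ≠ 1 := fun h1 =>
  hab ((mul_eq_one_iff_eq_inv.1 h1).trans (inv_eq_of_mul_eq_one_left (h.sq b hb)))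

theorem mul_mul_self {a b : G} (ha : a ∈ A) : a * (a * b) = b := by
  rw [← mul_assoc, h.sq a ha, one_mul]

theorem mul_ne_left {a b : G} (hb1 : b ≠ 1) : a * b ≠ a := fun h1 => hb1 (mul_eq_left.1 h1)

/-- `A` centralises `Q`. -/
theorem A_le_cent : A ≤ centralizer (Q : Set G) := fun a ha =>
  mem_centralizer_iff.2 fun q hq => (h.commQ a ha q hq).symm

theorem A_le_cc {a b : G} (ha : a ∈ A) (hb : b ∈ A) : A ≤ cc a b := fun x hx =>
  mem_cc.2 ⟨h.comm a ha x hx, h.comm b hb x hx⟩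

theorem cc_mul {a b : G} (ha : a ∈ A) : cc a (a * b) = cc a b := by
  ext x
  constructor
  · intro hx
    obtain ⟨h1, h2⟩ := mem_cc.1 hx
    have h3 := mul_comm_of_cc hx
    rw [h.mul_mul_self ha] at h3
    exact mem_cc.2 ⟨h1, h3⟩
  · intro hx
    exact mem_cc.2 ⟨(mem_cc.1 hx).1, mul_comm_of_cc hx⟩

theorem vv_mul {a b : G} (ha : a ∈ A) : vv Q D a (a * b) = vv Q D a b := by
  rw [vv, vv, h.cc_mul ha, h.mul_mul_self ha, sup_right_comm]

theorem vv_comm {a b : G} (ha : a ∈ A) (hb : b ∈ A) : vv Q D a b = vv Q D b a := by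
  rw [vv, vv, cc_comm a b, h.comm a ha b hb, sup_comm (yy Q D a ⊓ cc b a)]

theorem vv_le_cc {a b : G} : vv Q D a b ≤ cc a b := sup_le (sup_le inf_le_right inf_le_right) inf_le_right

theorem vv_le_cent {a b : G} : vv Q D a b ≤ centralizer (Q : Set G) :=
  sup_le (sup_le (inf_le_left.trans inf_le_right) (inf_le_left.trans inf_le_right))
    (inf_le_left.trans inf_le_right)

/-- `C(Q) ∩ C(a) ∩ C(b)` normalises `C_{D e}(Q) ∩ C(a) ∩ C(b)` when it centralises `e`. -/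
theorem norm_yy {a b e : G} (he : e ∈ A) (he1 : e ≠ 1) (hec : cc a b ≤ centralizer {e}) :
    cc a b ⊓ centralizer (Q : Set G) ≤ normalizer ((yy Q D e ⊓ cc a b : Subgroup G) : Set G) := by
  refine le_normalizer_of_conj_mem fun g hg x hx => ⟨⟨?_, ?_⟩, ?_⟩
  · exact conj_mem_of_le_normalizer (h.canon e he he1) ⟨hec hg.1, hg.2⟩ hx.1.1
  · exact (centralizer (Q : Set G)).mul_mem ((centralizer (Q : Set G)).mul_mem hg.2 hx.1.2)
      ((centralizer (Q : Set G)).inv_mem hg.2)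
  · exact (cc a b).mul_mem ((cc a b).mul_mem hg.1 hx.2) ((cc a b).inv_mem hg.1)

theorem cc_le_left (a b : G) : cc a b ≤ centralizer {a} := inf_le_left

theorem cc_le_right (a b : G) : cc a b ≤ centralizer {b} := inf_le_right

theorem cc_le_mul (a b : G) : cc a b ≤ centralizer {a * b} := fun _ hx =>
  mem_cent_singleton.2 (mul_comm_of_cc hx)

theorem norm_vv {a b : G} (ha : a ∈ A) (hb : b ∈ A) (ha1 : a ≠ 1) (hb1 : b ≠ 1) (hab : a ≠ b) :
    cc a b ⊓ centralizer (Q : Set G) ≤ normalizer ((vv Q D a b : Subgroup G) : Set G) :=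
  le_normalizer_sup (le_normalizer_sup (h.norm_yy ha ha1 (h.cc_le_left a b))
    (h.norm_yy hb hb1 (h.cc_le_right a b)))
    (h.norm_yy (A.mul_mem ha hb) (h.mul_ne_one hb hab) (h.cc_le_mul a b))

variable [Finite G]

theorem yy_odd {a b e : G} (he : e ∈ A) (he1 : e ≠ 1) : ¬ 2 ∣ Nat.card ↥(yy Q D e ⊓ cc a b) :=
  fun h1 => h.odd e he he1 (h1.trans (card_dvd_of_le (inf_le_left.trans inf_le_left)))

theorem vv_odd {a b : G} (ha : a ∈ A) (hb : b ∈ A) (ha1 : a ≠ 1) (hb1 : b ≠ 1) (hab : a ≠ b) :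
    ¬ 2 ∣ Nat.card ↥(vv Q D a b) := by
  have hle : ∀ e : G, yy Q D e ⊓ cc a b ≤ cc a b ⊓ centralizer (Q : Set G) := fun e =>
    le_inf inf_le_right (inf_le_left.trans inf_le_right)
  refine not_dvd_sup (p := 2) ((hle _).trans (le_normalizer_sup (h.norm_yy ha ha1 (h.cc_le_left a b))
    (h.norm_yy hb hb1 (h.cc_le_right a b)))) (not_dvd_sup (p := 2) ((hle _).trans
      (h.norm_yy ha ha1 (h.cc_le_left a b))) (h.yy_odd ha ha1) (h.yy_odd hb hb1))
      (h.yy_odd (A.mul_mem ha hb) (h.mul_ne_one hb hab))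


theorem vv_solv {a b : G} (ha : a ∈ A) (hb : b ∈ A) (ha1 : a ≠ 1) (hb1 : b ≠ 1) (hab : a ≠ b) :
    Group.IsSolvable ↥(vv Q D a b) := by
  have hle : ∀ e : G, yy Q D e ⊓ cc a b ≤ cc a b ⊓ centralizer (Q : Set G) := fun e =>
    le_inf inf_le_right (inf_le_left.trans inf_le_right)
  have hs : ∀ e ∈ A, e ≠ 1 → Group.IsSolvable ↥(yy Q D e ⊓ cc a b) := fun e he he1 =>
    isSolvable_of_le (h.solv e he he1) (inf_le_left.trans inf_le_left)
  exact CoprimeBasic.isSolvable_sup ((hle _).trans (le_normalizer_sup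
    (h.norm_yy ha ha1 (h.cc_le_left a b)) (h.norm_yy hb hb1 (h.cc_le_right a b))))
    (CoprimeBasic.isSolvable_sup ((hle _).trans (h.norm_yy ha ha1 (h.cc_le_left a b)))
      (hs a ha ha1) (hs b hb hb1)) (hs _ (A.mul_mem ha hb) (h.mul_ne_one hb hab))

/-- The four-group `⟨a, b⟩`. -/
def four (_h : Rel A Q D) {a b : G} (ha : a ∈ A) (hb : b ∈ A) : Subgroup G where
  carrier := {x | x = 1 ∨ x = a ∨ x = b ∨ x = a * b}
  one_mem' := Or.inl rfl
  mul_mem' := by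
    have haa := _h.sq a ha
    have hbb := _h.sq b hb
    have hab := _h.comm a ha b hb
    have e1 : a * (a * b) = b := by rw [← mul_assoc, haa, one_mul]
    have e2 : b * (a * b) = a := by rw [hab, ← mul_assoc, hbb, one_mul]
    have e3 : a * b * a = b := by rw [hab, mul_assoc, haa, mul_one]
    have e4 : a * b * b = a := by rw [mul_assoc, hbb, mul_one]
    have e5 : a * b * (a * b) = 1 := _h.sq _ (A.mul_mem ha hb)
    rintro x y (rfl | rfl | rfl | rfl) (rfl | rfl | rfl | rfl) <;>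
      simp [haa, hbb, e1, e2, e3, e4, e5, hab.symm]
  inv_mem' := by
    rintro x (rfl | rfl | rfl | rfl)
    · left; simp
    · right; left; exact inv_eq_of_mul_eq_one_left (_h.sq _ ha)
    · right; right; left; exact inv_eq_of_mul_eq_one_left (_h.sq _ hb)
    · right; right; right; exact inv_eq_of_mul_eq_one_left (_h.sq _ (A.mul_mem ha hb))

theorem mem_four {a b : G} (ha : a ∈ A) (hb : b ∈ A) {x : G} :
    x ∈ h.four ha hb ↔ x = 1 ∨ x = a ∨ x = b ∨ x = a * b := Iff.rfl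

theorem four_le {a b : G} (ha : a ∈ A) (hb : b ∈ A) : h.four ha hb ≤ A := by
  rintro x (rfl | rfl | rfl | rfl)
  · exact A.one_mem
  · exact ha
  · exact hb
  · exact A.mul_mem ha hb

theorem card_four {a b : G} (ha : a ∈ A) (hb : b ∈ A) (ha1 : a ≠ 1) (hb1 : b ≠ 1) (hab : a ≠ b) :
    2 ^ 2 ≤ Nat.card (h.four ha hb) := by
  have hab1 := h.mul_ne_one hb hab
  have h1 : a * b ≠ a := h.mul_ne_left hb1
  have h2 : a * b ≠ b := fun h3 => ha1 (mul_eq_right.1 h3)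
  let f : Fin 4 → h.four ha hb := ![⟨1, Or.inl rfl⟩, ⟨a, Or.inr (Or.inl rfl)⟩,
    ⟨b, Or.inr (Or.inr (Or.inl rfl))⟩, ⟨a * b, Or.inr (Or.inr (Or.inr rfl))⟩]
  have hf : Function.Injective f := by
    intro i j hij
    fin_cases i <;> fin_cases j <;> first | rfl | (exfalso; simp [f, Subtype.ext_iff] at hij; tauto)
  have := Nat.card_le_card_of_injective f hf
  simpa using this

theorem centralizer_four {a b : G} (ha : a ∈ A) (hb : b ∈ A) :
    centralizer (h.four ha hb : Set G) = cc a b := by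
  ext x
  rw [mem_centralizer_iff, mem_cc]
  constructor
  · intro hx
    exact ⟨hx a (Or.inr (Or.inl rfl)), hx b (Or.inr (Or.inr (Or.inl rfl)))⟩
  · rintro hx y (rfl | rfl | rfl | rfl)
    · simp
    · exact hx.1
    · exact hx.2
    · exact mul_comm_of_cc (mem_cc.2 hx)


theorem A_le_norm {a : G} (ha : a ∈ A) (ha1 : a ≠ 1) : A ≤ normalizer (D a : Set G) :=
  (le_inf (fun x hx => mem_cent_singleton.2 (h.comm a ha x hx)) h.A_le_cent).trans (h.canon a ha ha1)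

/-- Step (1): `C_{D d}(Q) ∩ C(a) ∩ C(b) ≤ vv a b` for every `d`. -/
theorem yy_inf_le {d a b : G} (hd : d ∈ A) (hd1 : d ≠ 1) (ha : a ∈ A) (hb : b ∈ A) (ha1 : a ≠ 1)
    (hb1 : b ≠ 1) (hab : a ≠ b) : yy Q D d ⊓ cc a b ≤ vv Q D a b := by
  have : Fact (Nat.Prime 2) := ⟨Nat.prime_two⟩
  have hab1 : a * b ≠ 1 := h.mul_ne_one hb hab
  have habA : a * b ∈ A := A.mul_mem ha hb
  have hBA := h.four_le ha hb
  have h1 := RelGen.inf_centralizer_le (p := 2) (Y := D d) (Q := Q) (B := h.four ha hb) h.pQ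
    (CoprimeGen.isElementaryAbelian_mono h.el hBA) (h.card_four ha hb ha1 hb1 hab)
    (fun q hq c hc => (h.commQ c (hBA hc) q hq).symm) (h.solv d hd hd1) (h.odd d hd hd1)
    (h.invQ d hd hd1) (hBA.trans (h.A_le_norm hd hd1)) (h.full d hd hd1)
  rw [h.centralizer_four ha hb] at h1
  let U : G → Subgroup G := fun e => cc a b ⊓ ⁅D d ⊓ centralizer {e}, Q⁆
  have h2 : (⨆ e : {e : G // e ∈ h.four ha hb ∧ e ≠ 1}, cc a b ⊓ ⁅D d ⊓ centralizer {(e : G)}, Q⁆) ≤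
      U a ⊔ U b ⊔ U (a * b) := by
    refine iSup_le ?_
    rintro ⟨e, he, he1⟩
    rcases (h.mem_four ha hb).1 he with rfl | rfl | rfl | rfl
    · exact absurd rfl he1
    · exact le_sup_left.trans le_sup_left
    · exact le_sup_right.trans le_sup_left
    · exact le_sup_right
  have hUD : ∀ e, U e ≤ D d ⊓ cc a b := fun e => le_inf
    (inf_le_right.trans ((commutator_mono inf_le_left le_rfl).trans
      (commutator_le_left (h.invQ d hd hd1)))) inf_le_left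
  have hnorm : ∀ e, cc a b ≤ centralizer {e} → D d ⊓ cc a b ≤ normalizer ((U e : Subgroup G) : Set G) := by
    intro e he
    refine le_normalizer_of_conj_mem fun g hg x hx => ⟨?_, ?_⟩
    · exact (cc a b).mul_mem ((cc a b).mul_mem hg.2 hx.1) ((cc a b).inv_mem hg.2)
    · exact conj_mem_of_le_normalizer (left_le_normalizer_commutator (D d ⊓ centralizer {e}) Q)
        ⟨hg.1, he hg.2⟩ hx.2
  have hQU : ∀ e, Q ≤ normalizer ((U e : Subgroup G) : Set G) := by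
    intro e
    refine le_normalizer_of_conj_mem fun q hq x hx => ⟨?_, ?_⟩
    · obtain ⟨h3, h4⟩ := mem_cc.1 hx.1
      have h5 := h.commQ a ha q hq
      have h6 := h.commQ b hb q hq
      refine mem_cc.2 ⟨?_, ?_⟩
      · calc a * (q * x * q⁻¹) = (a * q) * x * q⁻¹ := by group
          _ = q * (a * x) * q⁻¹ := by rw [h5]; group
          _ = q * x * (q⁻¹ * (q * a) * q⁻¹) := by rw [h3]; group
          _ = q * x * q⁻¹ * a := by rw [← h5]; group
      · calc b * (q * x * q⁻¹) = (b * q) * x * q⁻¹ := by group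
          _ = q * (b * x) * q⁻¹ := by rw [h6]; group
          _ = q * x * (q⁻¹ * (q * b) * q⁻¹) := by rw [h4]; group
          _ = q * x * q⁻¹ * b := by rw [← h6]; group
    · exact conj_mem_of_le_normalizer (right_le_normalizer_commutator (D d ⊓ centralizer {e}) Q) hq hx.2
  have hodd : ∀ e, ¬ 2 ∣ Nat.card (U e) := fun e h3 =>
    h.odd d hd hd1 (h3.trans (card_dvd_of_le ((hUD e).trans inf_le_left)))
  have hbal : ∀ e ∈ A, e ≠ 1 → U e ⊓ centralizer (Q : Set G) ≤ yy Q D e ⊓ cc a b := by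
    intro e he he1
    refine le_inf (le_inf ?_ inf_le_right) (inf_le_left.trans inf_le_left)
    exact inf_le_left.trans (inf_le_right.trans (h.bal d hd e he hd1 he1))
  have h3 := sup3_inf_centralizer_le (p := 2) (X₁ := U a) (X₂ := U b) (X₃ := U (a * b)) h.pQ
    (hQU a) (hQU b) (hQU (a * b)) ((hUD b).trans (hnorm a (h.cc_le_left a b)))
    ((hUD (a * b)).trans (le_normalizer_sup (hnorm a (h.cc_le_left a b)) (hnorm b (h.cc_le_right a b))))
    (hodd b) (hodd (a * b))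
  rintro x ⟨⟨hx1, hx2⟩, hx3⟩
  have h4 := h3 ⟨h2 (h1 ⟨hx1, hx3⟩), hx2⟩
  exact (sup_le_sup (sup_le_sup (hbal a ha ha1) (hbal b hb hb1)) (hbal _ habA hab1)) h4

theorem A_le_norm_vv {a b : G} (ha : a ∈ A) (hb : b ∈ A) (ha1 : a ≠ 1) (hb1 : b ≠ 1) (hab : a ≠ b) :
    A ≤ normalizer ((vv Q D a b : Subgroup G) : Set G) :=
  (le_inf (h.A_le_cc ha hb) h.A_le_cent).trans (h.norm_vv ha hb ha1 hb1 hab)

theorem vv_inf_le {a b c : G} (ha : a ∈ A) (hb : b ∈ A) (hc : c ∈ A) (ha1 : a ≠ 1) (hb1 : b ≠ 1)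
    (hc1 : c ≠ 1) (hab : a ≠ b) (hac : a ≠ c) : vv Q D a b ⊓ centralizer {c} ≤ vv Q D a c := by
  have : Fact (Nat.Prime 2) := ⟨Nat.prime_two⟩
  have hab1 : a * b ≠ 1 := h.mul_ne_one hb hab
  have habA : a * b ∈ A := A.mul_mem ha hb
  have hzA : zpowers c ≤ A := by rwa [zpowers_le]
  have hz : IsPGroup 2 (zpowers c) := (CoprimeGen.isPGroup_of_isElementaryAbelian h.el).to_le hzA
  have hzc : zpowers c ≤ cc a b ⊓ centralizer (Q : Set G) :=
    hzA.trans (le_inf (h.A_le_cc ha hb) h.A_le_cent)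
  have hle : ∀ e : G, yy Q D e ⊓ cc a b ≤ cc a b ⊓ centralizer (Q : Set G) := fun e =>
    le_inf inf_le_right (inf_le_left.trans inf_le_right)
  have n1 := h.norm_yy ha ha1 (h.cc_le_left a b)
  have n2 := h.norm_yy hb hb1 (h.cc_le_right a b)
  have n3 := h.norm_yy habA hab1 (h.cc_le_mul a b)
  have h3 := sup3_inf_centralizer_le (p := 2) (X₁ := yy Q D a ⊓ cc a b) (X₂ := yy Q D b ⊓ cc a b)
    (X₃ := yy Q D (a * b) ⊓ cc a b) hz (hzc.trans n1) (hzc.trans n2) (hzc.trans n3)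
    ((hle b).trans n1) ((hle (a * b)).trans (le_normalizer_sup n1 n2)) (h.yy_odd hb hb1)
    (h.yy_odd habA hab1)
  rw [CoprimeGen.centralizer_zpowers] at h3
  have h4 : ∀ e ∈ A, e ≠ 1 → (yy Q D e ⊓ cc a b) ⊓ centralizer {c} ≤ vv Q D a c := by
    intro e he he1
    refine le_trans ?_ (h.yy_inf_le he he1 ha hc ha1 hc1 hac)
    exact le_inf (inf_le_left.trans inf_le_left)
      (le_inf (inf_le_left.trans (inf_le_right.trans (h.cc_le_left a b))) inf_le_right)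
  exact h3.trans (sup_le (sup_le (h4 a ha ha1) (h4 b hb hb1)) (h4 _ habA hab1))

/-- `⟨vv a b : b⟩` -/
def _root_.Cfsg.Agent.SignalizersComponents.RelFunctor.pp (A Q : Subgroup G) (D : G → Subgroup G)
    (a : G) : Subgroup G := ⨆ b : {b : G // b ∈ A ∧ b ≠ 1 ∧ b ≠ a}, vv Q D a b

theorem vv_le_pp {a b : G} (hb : b ∈ A) (hb1 : b ≠ 1) (hba : b ≠ a) : vv Q D a b ≤ pp A Q D a :=
  le_iSup (fun b : {b : G // b ∈ A ∧ b ≠ 1 ∧ b ≠ a} => vv Q D a b) ⟨b, hb, hb1, hba⟩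

theorem pp_le_cent {a : G} : pp A Q D a ≤ centralizer {a} ⊓ centralizer (Q : Set G) :=
  iSup_le fun b => le_inf (h.vv_le_cc.trans (h.cc_le_left a b)) h.vv_le_cent

/-- Step (2): the functor on `C(Q) ∩ C(a)`. -/
theorem pp_main {a : G} (ha : a ∈ A) (ha1 : a ≠ 1) :
    ¬ 2 ∣ Nat.card (pp A Q D a) ∧ Group.IsSolvable (pp A Q D a) ∧
      ∀ x ∈ A, x ≠ 1 → x ≠ a → pp A Q D a ⊓ centralizer {x} = vv Q D a x := by
  obtain ⟨E, hEA, haE, hE, hEc⟩ := RelCompl.exists_compl h.comm h.sq ha ha1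
  have hne : ∀ b ∈ E, a ≠ b := fun b hb h1 => haE (h1 ▸ hb)
  obtain ⟨h1, h2, h3⟩ := SolFunctorTwo.solvable_signalizer_functor_two E
    (fun x hx y hy => h.comm x (hEA hx) y (hEA hy))
    (fun x hx => (pow_two x).trans (h.sq x (hEA hx)))
    (by have := h.card; omega) (fun b => vv Q D a b)
    (fun b hb hb1 => h.vv_le_cc.trans (h.cc_le_right a b))
    (fun b hb hb1 => h.vv_odd ha (hEA hb) ha1 hb1 (hne b hb))
    (fun b hb hb1 c hc x hx => conj_mem_of_le_normalizer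
      (h.A_le_norm_vv ha (hEA hb) ha1 hb1 (hne b hb)) (hEA hc) hx)
    (fun b hb hb1 => h.vv_solv ha (hEA hb) ha1 hb1 (hne b hb))
    (fun b hb hb1 c hc hc1 => h.vv_inf_le ha (hEA hb) (hEA hc) ha1 hb1 hc1 (hne b hb) (hne c hc))
  have heq : (⨆ b : {b : G // b ∈ E ∧ b ≠ 1}, vv Q D a b) = pp A Q D a := by
    apply le_antisymm
    · refine iSup_le ?_
      rintro ⟨b, hb, hb1⟩
      exact h.vv_le_pp (hEA hb) hb1 (hne b hb).symm
    · refine iSup_le ?_
      rintro ⟨b, hb, hb1, hba⟩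
      rcases hE b hb with hbE | hbE
      · exact le_iSup (fun b : {b : G // b ∈ E ∧ b ≠ 1} => vv Q D a b) ⟨b, hbE, hb1⟩
      · have := le_iSup (fun b : {b : G // b ∈ E ∧ b ≠ 1} => vv Q D a b)
          ⟨a * b, hbE, h.mul_ne_one hb hba.symm⟩
        rwa [h.vv_mul ha] at this
  rw [heq] at h1 h2 h3
  refine ⟨h1, h3, ?_⟩
  intro x hx hx1 hxa
  rcases hE x hx with hxE | hxE
  · exact h2 x hxE hx1
  · have h4 := h2 (a * x) hxE (h.mul_ne_one hx hxa.symm)
    rw [h.vv_mul ha] at h4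
    rw [← h4]
    have h5 : pp A Q D a ≤ centralizer {a} := h.pp_le_cent.trans inf_le_left
    ext y
    constructor
    · rintro ⟨hy, hyx⟩
      exact ⟨hy, mem_cent_singleton.2 (mul_comm_of_cc (mem_cc.2 ⟨mem_cent_singleton.1 (h5 hy),
        mem_cent_singleton.1 hyx⟩))⟩
    · rintro ⟨hy, hyx⟩
      have h6 : y ∈ cc a (a * x) := ⟨h5 hy, hyx⟩
      rw [h.cc_mul ha] at h6
      exact ⟨hy, h6.2⟩

theorem pp_norm {a : G} (ha : a ∈ A) (ha1 : a ≠ 1) : pp A Q D a ≤ normalizer (D a : Set G) :=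
  h.pp_le_cent.trans (h.canon a ha ha1)

theorem A_le_norm_pp {a : G} (ha : a ∈ A) (ha1 : a ≠ 1) :
    A ≤ normalizer ((pp A Q D a : Subgroup G) : Set G) :=
  FunctorTools.iSup_le_normalizer _ fun b => h.A_le_norm_vv ha b.2.1 ha1 b.2.2.1 b.2.2.2.symm

/-- `D a · pp a` -/
def _root_.Cfsg.Agent.SignalizersComponents.RelFunctor.th (A Q : Subgroup G) (D : G → Subgroup G)
    (a : G) : Subgroup G := D a ⊔ pp A Q D a

theorem th_bal {a c : G} (ha : a ∈ A) (ha1 : a ≠ 1) (hc : c ∈ A) (hc1 : c ≠ 1) :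
    th A Q D a ⊓ centralizer {c} ≤ th A Q D c := by
  have : Fact (Nat.Prime 2) := ⟨Nat.prime_two⟩
  by_cases hca : c = a
  · rw [hca]; exact inf_le_left
  have hzA : zpowers c ≤ A := by rwa [zpowers_le]
  have hz : IsPGroup 2 (zpowers c) := (CoprimeGen.isPGroup_of_isElementaryAbelian h.el).to_le hzA
  have hpa := h.pp_main ha ha1
  have hvv : vv Q D a c ≤ pp A Q D c := by
    rw [h.vv_comm ha hc]
    exact h.vv_le_pp ha ha1 (Ne.symm hca)
  intro x hx
  have hxc : ∀ y ∈ zpowers c, y * x = x * y := by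
    have h1 : x ∈ centralizer ((zpowers c : Subgroup G) : Set G) := by
      rw [CoprimeGen.centralizer_zpowers]; exact hx.2
    exact mem_centralizer_iff.1 h1
  obtain ⟨d, hd, y, hy, hdc, hyc, rfl⟩ := CoprimeBasic.exists_factorization_of_centralizing
    (X := D a) (Y := pp A Q D a) (h.pp_norm ha ha1) (zpowers c) hz
    (fun z hz d hd => conj_mem_of_le_normalizer (h.A_le_norm ha ha1) (hzA hz) hd)
    (fun z hz d hd => conj_mem_of_le_normalizer (h.A_le_norm_pp ha ha1) (hzA hz) hd)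
    (fun h1 => hpa.1 (h1.trans (card_dvd_of_le inf_le_right))) x hx.1 hxc
  have hy' : y ∈ pp A Q D a ⊓ centralizer {c} :=
    ⟨hy, mem_cent_singleton.2 (hyc c (mem_zpowers c))⟩
  rw [hpa.2.2 c hc hc1 hca] at hy'
  refine mul_mem ?_ (mem_sup_right (hvv hy'))
  have hd' : d ∈ D a ⊓ centralizer {c} := ⟨hd, mem_cent_singleton.2 (hdc c (mem_zpowers c))⟩
  have hQD : Q ≤ normalizer ((D a ⊓ centralizer {c} : Subgroup G) : Set G) := by
    rw [← CoprimeGen.centralizer_zpowers]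
    exact le_normalizer_inf_centralizer (h.invQ a ha ha1) fun q hq z hz =>
      (h.commQ z (hzA hz) q hq).symm
  obtain ⟨m, hm, f, hf, rfl⟩ := exists_commutator_mul_fixed_of_isPGroup 2 Q (D a ⊓ centralizer {c})
    h.pQ hQD (fun h1 => h.odd a ha ha1 (h1.trans (card_dvd_of_le inf_le_left))) d hd'
  refine mul_mem (mem_sup_left (h.bal a ha c hc ha1 hc1 hm)) (mem_sup_right (hvv ?_))
  exact h.yy_inf_le ha ha1 ha hc ha1 hc1 (Ne.symm hca)
    ⟨⟨hf.1.1, hf.2⟩, h.cent a ha ha1 hf.1.1, hf.1.2⟩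


/-- the closure of the plain functor `th` -/
def _root_.Cfsg.Agent.SignalizersComponents.RelFunctor.WW (A Q : Subgroup G) (D : G → Subgroup G) :
    Subgroup G := ⨆ a : {a : G // a ∈ A ∧ a ≠ 1}, th A Q D a

/-- the group generated by the `D a` -/
def _root_.Cfsg.Agent.SignalizersComponents.RelFunctor.DD (A : Subgroup G) (D : G → Subgroup G) :
    Subgroup G := ⨆ a : {a : G // a ∈ A ∧ a ≠ 1}, D a

theorem D_le_DD {a : G} (ha : a ∈ A) (ha1 : a ≠ 1) : D a ≤ DD A D :=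
  le_iSup (fun a : {a : G // a ∈ A ∧ a ≠ 1} => D a) ⟨a, ha, ha1⟩

theorem th_le_WW {a : G} (ha : a ∈ A) (ha1 : a ≠ 1) : th A Q D a ≤ WW A Q D :=
  le_iSup (fun a : {a : G // a ∈ A ∧ a ≠ 1} => th A Q D a) ⟨a, ha, ha1⟩

theorem DD_le_WW : DD A D ≤ WW A Q D :=
  iSup_le fun a => (le_sup_left : D a ≤ th A Q D a).trans (h.th_le_WW a.2.1 a.2.2)

/-- Step (3): the functor `th`. -/
theorem WW_main : ¬ 2 ∣ Nat.card (WW A Q D) ∧
    (∀ a ∈ A, a ≠ 1 → WW A Q D ⊓ centralizer {a} = th A Q D a) ∧ Group.IsSolvable (WW A Q D) := by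
  have : Fact (Nat.Prime 2) := ⟨Nat.prime_two⟩
  exact SolFunctorTwo.solvable_signalizer_functor_two A
    h.comm (fun x hx => (pow_two x).trans (h.sq x hx)) (by have := h.card; omega)
    (fun a => th A Q D a)
    (fun a ha ha1 => sup_le (h.cent a ha ha1) (h.pp_le_cent.trans inf_le_left))
    (fun a ha ha1 => not_dvd_sup (p := 2) (h.pp_norm ha ha1) (h.odd a ha ha1) (h.pp_main ha ha1).1)
    (fun a ha ha1 b hb x hx => conj_mem_of_le_normalizer
      (le_normalizer_sup (h.A_le_norm ha ha1) (h.A_le_norm_pp ha ha1)) hb hx)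
    (fun a ha ha1 => CoprimeBasic.isSolvable_sup (h.pp_norm ha ha1) (h.solv a ha ha1)
      (h.pp_main ha ha1).2.1)
    (fun a ha ha1 b hb hb1 => h.th_bal ha ha1 hb hb1)

/-- **The relative functor theorem.** -/
theorem DD_odd : ¬ 2 ∣ Nat.card (DD A D) := fun h1 =>
  h.WW_main.1 (h1.trans (card_dvd_of_le h.DD_le_WW))

theorem DD_solv : Group.IsSolvable (DD A D) := isSolvable_of_le h.WW_main.2.2 h.DD_le_WW

theorem comm_th {a : G} (ha : a ∈ A) (ha1 : a ≠ 1) : ⁅th A Q D a, Q⁆ ≤ D a := by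
  rw [commutator_le]
  intro x hx q hq
  obtain ⟨d, hd, y, hy, rfl⟩ := (CoprimeBasic.mem_sup_iff (h.pp_norm ha ha1) x).mp hx
  have h1 : ⁅d * y, q⁆ = d * ⁅y, q⁆ * d⁻¹ * ⁅d, q⁆ := by
    simp only [commutatorElement_def]; group
  have h2 : ⁅y, q⁆ = 1 := by
    rw [commutatorElement_eq_one_iff_mul_comm]
    exact (mem_centralizer_iff.1 (h.pp_le_cent hy).2 q hq).symm
  rw [h1, h2, mul_one, mul_inv_cancel, one_mul]
  exact commutator_le_left (h.invQ a ha ha1) (commutator_mem_commutator hd hq)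

theorem comm_WW_inf {a : G} (ha : a ∈ A) (ha1 : a ≠ 1) :
    ⁅WW A Q D ⊓ centralizer {a}, Q⁆ ≤ D a := by
  rw [h.WW_main.2.1 a ha ha1]
  exact h.comm_th ha ha1

theorem comm_DD_inf {a : G} (ha : a ∈ A) (ha1 : a ≠ 1) : ⁅DD A D ⊓ centralizer {a}, Q⁆ = D a := by
  apply le_antisymm
  · exact (commutator_mono (inf_le_inf_right _ h.DD_le_WW) le_rfl).trans (h.comm_WW_inf ha ha1)
  · refine (h.full a ha ha1).trans (commutator_mono (le_inf (h.D_le_DD ha ha1) (h.cent a ha ha1)) le_rfl)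

theorem Q_le_norm_DD : Q ≤ normalizer ((DD A D : Subgroup G) : Set G) :=
  FunctorTools.iSup_le_normalizer _ fun b => h.invQ b b.2.1 b.2.2

theorem A_le_norm_DD : A ≤ normalizer ((DD A D : Subgroup G) : Set G) :=
  FunctorTools.iSup_le_normalizer _ fun b => h.A_le_norm b.2.1 b.2.2

theorem DD_full : DD A D ≤ ⁅DD A D, Q⁆ :=
  iSup_le fun a => (h.full a a.2.1 a.2.2).trans (commutator_mono (h.D_le_DD a.2.1 a.2.2) le_rfl)

/-- The group `DD` is generated by the `D b`, `b ∈ B#`, for every noncyclic `B ≤ A`. -/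
theorem DD_eq {B : Subgroup G} (hBA : B ≤ A) (hB : 2 ^ 2 ≤ Nat.card B) :
    DD A D = ⨆ b : {b : G // b ∈ B ∧ b ≠ 1}, D b := by
  have : Fact (Nat.Prime 2) := ⟨Nat.prime_two⟩
  apply le_antisymm
  · refine (RelGen.le_iSup_commutator (p := 2) (Y := DD A D) (Q := Q) (B := B) h.pQ
      (CoprimeGen.isElementaryAbelian_mono h.el hBA) hB
      (fun q hq c hc => (h.commQ c (hBA hc) q hq).symm) h.DD_solv h.DD_odd h.Q_le_norm_DD
      (hBA.trans h.A_le_norm_DD) h.DD_full).trans (iSup_mono fun b => ?_)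
    exact (h.comm_DD_inf (hBA b.2.1) b.2.2).le
  · exact iSup_le fun b => h.D_le_DD (hBA b.2.1) b.2.2

/-- Conjugation by an element which maps the `D b`, `b ∈ B#`, into `DD`. -/
theorem conj_mem_DD {B : Subgroup G} (hBA : B ≤ A) (hB : 2 ^ 2 ≤ Nat.card B) {g : G}
    (hg : ∀ b ∈ B, b ≠ 1 → ∀ x ∈ D b, g * x * g⁻¹ ∈ DD A D) {x : G} (hx : x ∈ DD A D) :
    g * x * g⁻¹ ∈ DD A D := by
  have h1 : DD A D ≤ (DD A D).comap (MulAut.conj g).toMonoidHom := by
    conv_lhs => rw [h.DD_eq hBA hB]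
    exact iSup_le fun b x hx => hg b b.2.1 b.2.2 x hx
  exact h1 hx

/-- `C(Q) ∩ C(B)` normalises `DD` for every noncyclic `B ≤ A`. -/
theorem cent_le_norm_DD {B : Subgroup G} (hBA : B ≤ A) (hB : 2 ^ 2 ≤ Nat.card B) :
    centralizer (B : Set G) ⊓ centralizer (Q : Set G) ≤ normalizer ((DD A D : Subgroup G) : Set G) := by
  refine le_normalizer_of_conj_mem fun g hg x hx => h.conj_mem_DD hBA hB (fun b hb hb1 y hy => ?_) hx
  refine h.D_le_DD (hBA hb) hb1 (conj_mem_of_le_normalizer (h.canon b (hBA hb) hb1) ⟨?_, hg.2⟩ hy)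
  exact RelGen.cent_le_cent_singleton hb hg.1

theorem WW_le_norm_DD : WW A Q D ≤ normalizer ((DD A D : Subgroup G) : Set G) := by
  have : Fact (Nat.Prime 2) := ⟨Nat.prime_two⟩
  have hthQ : ∀ a ∈ A, a ≠ 1 → Q ≤ normalizer ((th A Q D a : Subgroup G) : Set G) := by
    intro a ha ha1
    refine le_normalizer_of_conj_mem fun q hq x hx => ?_
    have h1 : q * x * q⁻¹ = ⁅x, q⁆⁻¹ * x := by simp only [commutatorElement_def]; group
    rw [h1]
    exact mul_mem (inv_mem (mem_sup_left (h.comm_th ha ha1 (commutator_mem_commutator hx hq)))) hx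
  have hQW : Q ≤ normalizer ((WW A Q D : Subgroup G) : Set G) :=
    FunctorTools.iSup_le_normalizer _ fun b => hthQ b b.2.1 b.2.2
  have hAW : A ≤ normalizer ((WW A Q D : Subgroup G) : Set G) :=
    FunctorTools.iSup_le_normalizer _ fun b =>
      le_normalizer_sup (h.A_le_norm b.2.1 b.2.2) (h.A_le_norm_pp b.2.1 b.2.2)
  have hle : ⁅WW A Q D, Q⁆ ≤ WW A Q D := commutator_le_left hQW
  have hcop : (Nat.card Q).Coprime (Nat.card (WW A Q D)) := by
    obtain ⟨k, hk⟩ := h.pQ.exists_card_eq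
    rw [hk]
    apply Nat.Coprime.pow_left
    rw [Nat.prime_two.coprime_iff_not_dvd]
    exact h.WW_main.1
  have hA2 : 2 ^ 2 ≤ Nat.card A := by have := h.card; omega
  have h1 : ⁅WW A Q D, Q⁆ = DD A D := by
    apply le_antisymm
    · refine (RelGen.le_iSup_commutator (p := 2) (Y := ⁅WW A Q D, Q⁆) (Q := Q) (B := A) h.pQ
        h.el hA2 (fun q hq c hc => (h.commQ c hc q hq).symm) (isSolvable_of_le h.WW_main.2.2 hle)
        (fun hd => h.WW_main.1 (hd.trans (card_dvd_of_le hle)))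
        (right_le_normalizer_commutator _ Q)
        (le_normalizer_commutator hAW h.commQ)
        (commutator_commutator_eq Q (WW A Q D) hQW hcop).ge).trans (iSup_mono fun b => ?_)
      exact (commutator_mono (inf_le_inf_right _ hle) le_rfl).trans (h.comm_WW_inf b.2.1 b.2.2)
    · exact h.DD_full.trans (commutator_mono h.DD_le_WW le_rfl)
  rw [← h1]
  exact left_le_normalizer_commutator _ _

end Rel

/-! ### Cores -/

/-- The relative functor theorem for `D a = ⁅X a, Q⁆`, where `X a` is a normal subgroup of odd order of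
`C(a)` (for instance its core). -/
theorem Rel.of_cores [Finite G] {A Q : Subgroup G} {X : G → Subgroup G}
    (hcomm : ∀ a ∈ A, ∀ b ∈ A, a * b = b * a) (hsq : ∀ a ∈ A, a * a = 1)
    (hcard : 2 ^ 4 ≤ Nat.card A) (hQ : IsPGroup 2 Q) (hAQ : ∀ a ∈ A, ∀ q ∈ Q, a * q = q * a)
    (hX1 : ∀ a ∈ A, a ≠ 1 → X a ≤ centralizer {a}) (hX2 : ∀ a ∈ A, a ≠ 1 → ¬ 2 ∣ Nat.card (X a))
    (hX3 : ∀ a ∈ A, a ≠ 1 → Group.IsSolvable (X a))
    (hX4 : ∀ a ∈ A, a ≠ 1 → centralizer {a} ≤ normalizer (X a : Set G))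
    (hR : ∀ a ∈ A, ∀ b ∈ A, a ≠ 1 → b ≠ 1 → ⁅X a ⊓ centralizer {b}, Q⁆ ≤ X b) :
    Rel A Q (fun a => ⁅X a, Q⁆) := by
  have : Fact (Nat.Prime 2) := ⟨Nat.prime_two⟩
  have hQc : ∀ a ∈ A, Q ≤ centralizer {a} := fun a ha q hq => mem_cent_singleton.2 (hAQ a ha q hq)
  have hQX : ∀ a ∈ A, a ≠ 1 → Q ≤ normalizer (X a : Set G) := fun a ha ha1 =>
    (hQc a ha).trans (hX4 a ha ha1)
  have hle : ∀ a ∈ A, a ≠ 1 → ⁅X a, Q⁆ ≤ X a := fun a ha ha1 => commutator_le_left (hQX a ha ha1)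
  have hcop : ∀ a ∈ A, a ≠ 1 → ∀ Z ≤ X a, (Nat.card Q).Coprime (Nat.card Z) := by
    intro a ha ha1 Z hZ
    obtain ⟨k, hk⟩ := hQ.exists_card_eq
    rw [hk]
    apply Nat.Coprime.pow_left
    rw [Nat.prime_two.coprime_iff_not_dvd]
    exact fun hd => hX2 a ha ha1 (hd.trans (card_dvd_of_le hZ))
  refine ⟨hcomm, hsq, hcard, hQ, hAQ, fun a ha ha1 => (hle a ha ha1).trans (hX1 a ha ha1),
    fun a ha ha1 hd => hX2 a ha ha1 (hd.trans (card_dvd_of_le (hle a ha ha1))),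
    fun a ha ha1 => isSolvable_of_le (hX3 a ha ha1) (hle a ha ha1),
    fun a ha ha1 => right_le_normalizer_commutator _ _,
    fun a ha ha1 => (commutator_commutator_eq Q (X a) (hQX a ha ha1) (hcop a ha ha1 _ le_rfl)).ge,
    fun a ha ha1 => ?_, fun a ha b hb ha1 hb1 => ?_⟩
  · refine le_normalizer_commutator (inf_le_left.trans (hX4 a ha ha1)) fun g hg q hq => ?_
    exact (mem_centralizer_iff.1 hg.2 q hq).symm
  · have hQXb : Q ≤ normalizer ((X a ⊓ centralizer {b} : Subgroup G) : Set G) := by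
      refine le_normalizer_of_conj_mem fun q hq x hx =>
        ⟨conj_mem_of_le_normalizer (hQX a ha ha1) hq hx.1, ?_⟩
      exact (centralizer {b}).mul_mem ((centralizer {b}).mul_mem (hQc b hb hq) hx.2)
        ((centralizer {b}).inv_mem (hQc b hb hq))
    have h1 := commutator_commutator_eq Q (X a ⊓ centralizer {b}) hQXb (hcop a ha ha1 _ inf_le_left)
    refine (commutator_mono (inf_le_inf_right _ (hle a ha ha1)) le_rfl).trans ?_
    rw [← h1]
    exact commutator_mono (hR a ha b hb ha1 hb1) le_rfl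

/-- **Corollary.** The core form of the relative functor theorem. -/
theorem cores [Finite G] {A Q : Subgroup G} {X : G → Subgroup G}
    (hcomm : ∀ a ∈ A, ∀ b ∈ A, a * b = b * a) (hsq : ∀ a ∈ A, a * a = 1)
    (hcard : 2 ^ 4 ≤ Nat.card A) (hQ : IsPGroup 2 Q) (hAQ : ∀ a ∈ A, ∀ q ∈ Q, a * q = q * a)
    (hX1 : ∀ a ∈ A, a ≠ 1 → X a ≤ centralizer {a}) (hX2 : ∀ a ∈ A, a ≠ 1 → ¬ 2 ∣ Nat.card (X a))
    (hX3 : ∀ a ∈ A, a ≠ 1 → Group.IsSolvable (X a))
    (hX4 : ∀ a ∈ A, a ≠ 1 → centralizer {a} ≤ normalizer (X a : Set G))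
    (hR : ∀ a ∈ A, ∀ b ∈ A, a ≠ 1 → b ≠ 1 → ⁅X a ⊓ centralizer {b}, Q⁆ ≤ X b) :
    ∃ W : Subgroup G, ¬ 2 ∣ Nat.card W ∧ Group.IsSolvable W ∧ ⁅W, Q⁆ = W ∧
      (∀ a ∈ A, a ≠ 1 → ⁅X a, Q⁆ ≤ W) ∧
      (∀ a ∈ A, a ≠ 1 → ⁅W ⊓ centralizer {a}, Q⁆ = ⁅X a, Q⁆) ∧
      (∀ B ≤ A, 2 ^ 2 ≤ Nat.card B → W = ⨆ b : {b : G // b ∈ B ∧ b ≠ 1}, ⁅X (b : G), Q⁆) ∧
      (∀ a ∈ A, a ≠ 1 → X a ≤ normalizer (W : Set G)) ∧
      (∀ B ≤ A, 2 ^ 2 ≤ Nat.card B →
        centralizer (B : Set G) ⊓ centralizer (Q : Set G) ≤ normalizer (W : Set G)) ∧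
      Q ≤ normalizer (W : Set G) ∧ A ≤ normalizer (W : Set G) := by
  have : Fact (Nat.Prime 2) := ⟨Nat.prime_two⟩
  have h := Rel.of_cores hcomm hsq hcard hQ hAQ hX1 hX2 hX3 hX4 hR
  refine ⟨DD A fun a => ⁅X a, Q⁆, h.DD_odd, h.DD_solv,
    le_antisymm (commutator_le_left h.Q_le_norm_DD) h.DD_full,
    fun a ha ha1 => h.D_le_DD ha ha1, fun a ha ha1 => h.comm_DD_inf ha ha1,
    fun B hB hB2 => h.DD_eq hB hB2, fun a ha ha1 => ?_, fun B hB hB2 => h.cent_le_norm_DD hB hB2,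
    h.Q_le_norm_DD, h.A_le_norm_DD⟩
  obtain ⟨E, hEA, haE, hE, hEc⟩ := RelCompl.exists_compl hcomm hsq ha ha1
  have hE2 : 2 ^ 2 ≤ Nat.card E := by omega
  have hAC : A ≤ centralizer {a} := fun x hx => mem_cent_singleton.2 (hcomm a ha x hx)
  refine (CoprimeGen.le_iSup_centralizer_ne_one (p := 2) (A := E) (Z := X a)
    (CoprimeGen.isElementaryAbelian_mono h.el hEA) hE2 (hX2 a ha ha1)
    (hEA.trans (hAC.trans (hX4 a ha ha1)))).trans (iSup_le ?_)
  rintro ⟨b, hb, hb1⟩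
  have hab : a ≠ b := fun h1 => haE (h1 ▸ hb)
  have hbA := hEA hb
  have hQc : ∀ a ∈ A, Q ≤ centralizer {a} := fun a ha q hq => mem_cent_singleton.2 (hAQ a ha q hq)
  have hQXb : Q ≤ normalizer ((X a ⊓ centralizer {b} : Subgroup G) : Set G) := by
    refine le_normalizer_of_conj_mem fun q hq x hx =>
      ⟨conj_mem_of_le_normalizer ((hQc a ha).trans (hX4 a ha ha1)) hq hx.1, ?_⟩
    exact (centralizer {b}).mul_mem ((centralizer {b}).mul_mem (hQc b hbA hq) hx.2)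
      ((centralizer {b}).inv_mem (hQc b hbA hq))
  intro x hx
  obtain ⟨m, hm, c, hc, rfl⟩ := exists_commutator_mul_fixed_of_isPGroup 2 Q (X a ⊓ centralizer {b})
    hQ hQXb (fun h1 => hX2 a ha ha1 (h1.trans (card_dvd_of_le inf_le_left))) x hx
  refine mul_mem ?_ ?_
  · exact Subgroup.le_normalizer (h.D_le_DD ha ha1 (commutator_mono inf_le_left le_rfl hm))
  · refine h.cent_le_norm_DD (h.four_le ha hbA) (h.card_four ha hbA ha1 hb1 hab) ⟨?_, hc.2⟩
    rw [SetLike.mem_coe, h.centralizer_four ha hbA]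
    exact ⟨hX1 a ha ha1 hc.1.1, hc.1.2⟩

end Cfsg.Agent.SignalizersComponents.RelFunctor
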