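import Cfsg.Prelude.Def_Local
import Cfsg.Agent.Lib.ComponentSolvable

set_option autoImplicit false

namespace Cfsg.Agent.SignalizersComponents.ComponentNormalize

open Subgroup Cfsg Cfsg.Agent.Lib.ComponentSolvable

variable {G : Type*} [Group G]

/-- A component that normalizes a subgroup `R` lies in `R` or commutes with `R`. No finiteness. -/
theorem component_le_or_comm_of_le_normalizer {K R : Subgroup G}
    (hK : IsComponent K) (hn : K ≤ normalizer (R : Set G)) : K ≤ R ∨ ⁅K, R⁆ = ⊥ := by
  obtain ⟨hsub, hq⟩ := hK
  have hnor : (R.subgroupOf K).Normal := by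
    constructor
    intro x hx g
    rw [Subgroup.mem_subgroupOf] at hx ⊢
    exact (Subgroup.mem_normalizer_iff.mp (hn g.2) _).mp hx
  rcases quasisimple_normal_cases hq hnor with hc | hc
  · left; exact Subgroup.subgroupOf_eq_top.1 hc
  right
  obtain ⟨n, f, hmono, hnorm, h0, hn'⟩ := Subgroup.IsSubnormal.isSubnormal_iff.mp hsub
  have key : ∀ i, ⁅R ⊓ f i, K⁆ = ⊥ := by
    intro i
    induction i with
    | zero =>
      rw [h0, commutator_eq_bot_iff_le_centralizer]
      intro x hx
      rw [mem_centralizer_iff]
      intro k hk
      have hx' : (⟨x, hx.2⟩ : K) ∈ center K := hc hx.1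
      have := Subgroup.mem_center_iff.mp hx' ⟨k, hk⟩
      exact congrArg Subtype.val this
    | succ i ih =>
      apply commutator_eq_bot_of_perfect hq.1
      have hKi : K ≤ f i := h0 ▸ hmono (Nat.zero_le i)
      have h1 : ⁅R ⊓ f (i + 1), K⁆ ≤ R ⊓ f i := by
        apply le_inf
        · exact (commutator_mono inf_le_left le_rfl).trans
            (le_normalizer_iff_commutator_le_left.mp hn)
        · have h2 : f (i + 1) ≤ normalizer (f i : Set G) :=
            (normal_subgroupOf_iff_le_normalizer (hmono (Nat.le_succ i))).mp (hnorm i)
          exact (commutator_mono inf_le_right hKi).trans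
            (le_normalizer_iff_commutator_le_right.mp h2)
      exact le_bot_iff.mp ((commutator_mono h1 le_rfl).trans ih.le)
  have := key n
  rwa [hn', inf_top_eq, commutator_comm] at this

/-- A component lies in a subnormal subgroup or commutes with it. No finiteness. -/
theorem component_le_or_comm {L H : Subgroup G} (hL : IsComponent L) (hH : H.IsSubnormal) :
    L ≤ H ∨ ⁅L, H⁆ = ⊥ := by
  induction hH with
  | top => exact Or.inl le_top
  | step H K h_le hSubn hN ih =>
    rcases ih with h | h
    · exact component_le_or_comm_of_le_normalizer hL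
        (h.trans ((normal_subgroupOf_iff_le_normalizer h_le).1 hN))
    · right
      exact le_bot_iff.1 ((commutator_mono le_rfl h_le).trans h.le)

/-- Distinct components commute. -/
theorem component_comm_of_ne {K L : Subgroup G} (hK : IsComponent K) (hL : IsComponent L)
    (h : K ≠ L) : ⁅K, L⁆ = ⊥ := by
  rcases component_le_or_comm hK hL.1 with h1 | h1
  · rcases component_le_or_comm hL hK.1 with h2 | h2
    · exact absurd (le_antisymm h1 h2) h
    · rwa [commutator_comm]
  · exact h1

/-- A quasisimple group stays quasisimple under isomorphism. -/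
theorem quasisimple_congr {A : Type*} {B : Type*} [Group A] [Group B] (e : A ≃* B)
    (hA : IsQuasisimple A) : IsQuasisimple B := by
  obtain ⟨h1, h2⟩ := hA
  refine ⟨Group.IsPerfect.ofSurjective (f := e.toMonoidHom) e.surjective, ?_⟩
  have e2 : (A ⧸ center A) ≃* (B ⧸ center B) := by
    refine QuotientGroup.congr _ _ e ?_
    ext x
    constructor
    · rintro ⟨y, hy, rfl⟩
      rw [mem_center_iff]
      intro g
      have := mem_center_iff.1 hy (e.symm g)
      have h3 := congrArg e this
      simpa using h3
    · intro hx
      refine ⟨e.symm x, ?_, by simp⟩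
      rw [SetLike.mem_coe, mem_center_iff]
      intro g
      apply e.injective
      simpa using mem_center_iff.1 hx (e g)
  exact (MulEquiv.isSimpleGroup_congr e2).1 h2

theorem component_map_equiv {A : Type*} {B : Type*} [Group A] [Group B] (e : A ≃* B)
    {K : Subgroup A} (hK : IsComponent K) : IsComponent (K.map e.toMonoidHom) :=
  ⟨hK.1.map e.surjective, quasisimple_congr (e.subgroupMap K) hK.2⟩

/-- Components of a subnormal subgroup are components of the group. -/
theorem component_map_subtype {H : Subgroup G} (hH : H.IsSubnormal) {K : Subgroup H}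
    (hK : IsComponent K) : IsComponent (K.map H.subtype) :=
  ⟨hK.1.trans' hH, quasisimple_congr (K.equivMapOfInjective _ H.subtype_injective) hK.2⟩

/-- A component contained in a subgroup is a component of the subgroup. -/
theorem component_subgroupOf {H K : Subgroup G} (hK : IsComponent K) (h : K ≤ H) :
    IsComponent (K.subgroupOf H) :=
  ⟨hK.1.subgroupOf, quasisimple_congr (Subgroup.subgroupOfEquivOfLe h).symm hK.2⟩

/-- The layer is respected by isomorphisms. -/
theorem map_equiv_layer {A : Type*} {B : Type*} [Group A] [Group B] (e : A ≃* B) :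
    (layer A).map e.toMonoidHom = layer B := by
  apply le_antisymm
  · change (sSup _ : Subgroup A).map _ ≤ _
    rw [sSup_eq_iSup', Subgroup.map_iSup]
    refine iSup_le ?_
    rintro ⟨K, hK⟩
    exact le_sSup (component_map_equiv e hK)
  · refine sSup_le fun K hK => ?_
    have h1 : K.map e.symm.toMonoidHom ≤ layer A := le_sSup (component_map_equiv e.symm hK)
    have h2 := Subgroup.map_mono (f := e.toMonoidHom) h1
    rw [Subgroup.map_map] at h2
    refine le_trans ?_ h2
    intro x hx
    exact ⟨x, hx, by simp⟩

theorem layer_characteristic : (layer G).Characteristic :=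
  Subgroup.characteristic_iff_map_eq.2 fun φ => map_equiv_layer φ

theorem layer_normal : (layer G).Normal :=
  have := layer_characteristic (G := G)
  inferInstance

end Cfsg.Agent.SignalizersComponents.ComponentNormalize
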