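import Mathlib
import Cfsg.Prelude.Def_Local
import Cfsg.Agent.Lib.Cores
import Cfsg.Agent.Lib.GenFitting

set_option autoImplicit false
set_option linter.style.haveILetI false

/-!
# Bender's maximal subgroup theorem: the local argument

For a subgroup `H` of `G` we write `coreIn p H` for `O_p(H)` regarded as a subgroup of `G`.
-/

namespace Cfsg.Agent.SignalizersComponents.Bender

open Cfsg Subgroup
open Cfsg.Agent.Lib.Cores Cfsg.Agent.Lib.GenFitting

variable {G : Type*} [Group G]

/-- `O_p(H)` as a subgroup of `G`. -/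
def coreIn (p : ℕ) (H : Subgroup G) : Subgroup G := (pCore p ↥H).map H.subtype

theorem coreIn_def (p : ℕ) (H : Subgroup G) : coreIn p H = (pCore p ↥H).map H.subtype := rfl

theorem coreIn_le (p : ℕ) (H : Subgroup G) : coreIn p H ≤ H := map_subtype_le _

theorem coreIn_isPGroup (p : ℕ) (H : Subgroup G) : IsPGroup p (coreIn p H) :=
  (pCore_isPGroup p).map _

theorem le_normalizer_map_of_normal {H : Subgroup G} {K : Subgroup H} (hK : K.Normal) :
    H ≤ normalizer ((K.map H.subtype : Subgroup G) : Set G) := by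
  have h := le_normalizer_map (H := K) H.subtype
  rw [normalizer_eq_top, ← MonoidHom.range_eq_map, range_subtype] at h
  exact h

theorem le_normalizer_coreIn (p : ℕ) (H : Subgroup G) :
    H ≤ normalizer (coreIn p H : Set G) :=
  le_normalizer_map_of_normal inferInstance

theorem conj_mem_coreIn {p : ℕ} {H : Subgroup G} {h x : G} (hh : h ∈ H) (hx : x ∈ coreIn p H) :
    h * x * h⁻¹ ∈ coreIn p H :=
  (mem_normalizer_iff.1 (le_normalizer_coreIn p H hh) x).1 hx

theorem conj_mem_coreIn' {p : ℕ} {H : Subgroup G} {h x : G} (hh : h ∈ H) (hx : x ∈ coreIn p H) :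
    h⁻¹ * x * h ∈ coreIn p H := by
  have := conj_mem_coreIn (H.inv_mem hh) hx
  rwa [inv_inv] at this

theorem mem_coreIn {p : ℕ} {H : Subgroup G} {x : G} :
    x ∈ coreIn p H ↔ ∃ h : x ∈ H, (⟨x, h⟩ : H) ∈ pCore p H := by
  constructor
  · rintro ⟨⟨y, hy⟩, hy', rfl⟩
    exact ⟨hy, hy'⟩
  · rintro ⟨h, h'⟩
    exact ⟨⟨x, h⟩, h', rfl⟩

/-- Elements of `O_r(H)` and `O_s(H)` commute for distinct primes. -/
theorem coreIn_commute [Finite G] {r s : ℕ} (hr : r.Prime) (hs : s.Prime) (hrs : r ≠ s)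
    {H : Subgroup G} {x y : G} (hx : x ∈ coreIn r H) (hy : y ∈ coreIn s H) : x * y = y * x := by
  haveI := Fact.mk hr
  haveI := Fact.mk hs
  obtain ⟨hxH, hx⟩ := mem_coreIn.1 hx
  obtain ⟨hyH, hy⟩ := mem_coreIn.1 hy
  have hd : Disjoint (pCore r H) (pCore s H) :=
    IsPGroup.disjoint_of_ne r s hrs _ _ (pCore_isPGroup r) (pCore_isPGroup s)
  have h1 : ⁅pCore r H, pCore s H⁆ = ⊥ := commutator_eq_bot_of_disjoint hd
  rw [commutator_eq_bot_iff_le_centralizer] at h1
  have h2 := mem_centralizer_iff.1 (h1 hx) ⟨y, hyH⟩ hy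
  exact (congrArg Subtype.val h2).symm

/-- The commutator of `x` and `y` centralizes any subgroup `P` normalized by both and centralized
by one of them. -/
theorem comm_commutes {P : Subgroup G} {x y : G} (hx : x ∈ normalizer (P : Set G))
    (hy : y ∈ normalizer (P : Set G))
    (h : (∀ w ∈ P, w * x = x * w) ∨ (∀ w ∈ P, w * y = y * w)) :
    ∀ w ∈ P, w * (y⁻¹ * (x⁻¹ * y * x)) = (y⁻¹ * (x⁻¹ * y * x)) * w := by
  intro w hw
  have hC : ∀ g : G, g ∈ centralizer (P : Set G) ↔ ∀ w ∈ P, w * g = g * w := by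
    intro g; rw [mem_centralizer_iff]; rfl
  have hnorm : ∀ g ∈ normalizer (P : Set G), ∀ c ∈ centralizer (P : Set G),
      g⁻¹ * c * g ∈ centralizer (P : Set G) := by
    intro g hg c hc
    rw [hC] at hc ⊢
    intro w hw
    have h1 : g * w * g⁻¹ ∈ P := (mem_normalizer_iff.1 hg w).1 hw
    have h2 := hc _ h1
    calc w * (g⁻¹ * c * g) = g⁻¹ * ((g * w * g⁻¹) * c) * g := by group
      _ = g⁻¹ * (c * (g * w * g⁻¹)) * g := by rw [h2]
      _ = g⁻¹ * c * g * w := by group
  have key : y⁻¹ * (x⁻¹ * y * x) ∈ centralizer (P : Set G) := by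
    rcases h with h | h
    · have hxc : x ∈ centralizer (P : Set G) := (hC x).2 h
      have h1 : y⁻¹ * x⁻¹ * y ∈ centralizer (P : Set G) :=
        hnorm y hy _ (inv_mem hxc)
      have h2 := mul_mem h1 hxc
      have h3 : y⁻¹ * (x⁻¹ * y * x) = y⁻¹ * x⁻¹ * y * x := by group
      rw [h3]; exact h2
    · have hyc : y ∈ centralizer (P : Set G) := (hC y).2 h
      exact mul_mem (inv_mem hyc) (hnorm x hx _ hyc)
  exact (hC _).1 key w hw

/-- Main step.  `M, N ≤ G`, `D = M ∩ N`, `E(M) = 1`, every `O_r(M) ≤ N`, and the centralizer of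
`O_p(D)` lies in `N`.  Then `O_q(D) ≤ O_q(M)` for `q ≠ p`. -/
theorem coreIn_inf_le [Finite G] {M N : Subgroup G} (hl : layer M = ⊥)
    (hMN : (fittingSubgroup M).map M.subtype ≤ N) {p q : ℕ} (hp : p.Prime) (hq : q.Prime)
    (hpq : p ≠ q)
    (hc : centralizer (coreIn p (M ⊓ N) : Set G) ≤ N) :
    coreIn q (M ⊓ N) ≤ coreIn q M := by
  haveI := Fact.mk hp
  haveI := Fact.mk hq
  set D := M ⊓ N with hD
  have hDM : D ≤ M := inf_le_left
  have hDN : D ≤ N := inf_le_right
  have hcoreF : ∀ r : ℕ, r.Prime → coreIn r M ≤ (fittingSubgroup M).map M.subtype := by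
    intro r hr
    haveI := Fact.mk hr
    exact Subgroup.map_mono (pCore_le_fittingSubgroup r)
  -- O_r(M) ≤ O_r(D)
  have hMD : ∀ r : ℕ, r.Prime → coreIn r M ≤ coreIn r D := by
    intro r hr
    have h1 : pCore r M ≤ D.subgroupOf M := by
      intro x hx
      rw [mem_subgroupOf]
      exact ⟨x.2, hMN (hcoreF r hr ⟨x, hx, rfl⟩)⟩
    have h2 := pCore_le_of_le r h1
    have h3 := Subgroup.map_mono (f := M.subtype) h2
    rw [pCore_subgroupOf r hDM] at h3
    exact h3
  -- elements centralizing all `O_r(M)`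
  have hF : ∀ z ∈ M, (∀ r : ℕ, r.Prime → ∀ w ∈ coreIn r M, w * z = z * w) →
      z ∈ (fittingSubgroup M).map M.subtype := by
    intro z hz h
    have h1 := mem_fitting_of_layer_eq_bot (x := (⟨z, hz⟩ : M)) hl (by
      intro r hr y hy
      apply Subtype.ext
      exact h r hr y ⟨y, hy, rfl⟩)
    exact ⟨⟨z, hz⟩, h1.2, rfl⟩
  have hFp : ∀ z ∈ (fittingSubgroup M).map M.subtype, ∀ k : ℕ, z ^ p ^ k = 1 → z ∈ coreIn p M := by
    rintro _ ⟨z, hz, rfl⟩ k hk
    refine ⟨z, mem_pCore_of_mem_fitting hz (k := k) ?_, rfl⟩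
    apply Subtype.ext
    exact hk
  -- the main commutation
  have key : ∀ x ∈ M, (orderOf x).Coprime p →
      (∀ r : ℕ, r.Prime → r ≠ q → ∀ w ∈ coreIn r M, w * x = x * w) →
      ∀ y ∈ coreIn p D, y * x = x * y := by
    intro x hx hxo hxc y hy
    have hyM : y ∈ M := hDM (coreIn_le p D hy)
    set z := y⁻¹ * (x⁻¹ * y * x) with hz
    have hzM : z ∈ M := M.mul_mem (M.inv_mem hyM) (M.mul_mem (M.mul_mem (M.inv_mem hx) hyM) hx)
    have hzF : z ∈ (fittingSubgroup M).map M.subtype := by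
      apply hF z hzM
      intro r hr
      apply comm_commutes (le_normalizer_coreIn r M hx) (le_normalizer_coreIn r M hyM)
      by_cases hrq : r = q
      · right
        intro w hw
        have hrp : r ≠ p := fun h => hpq (h ▸ hrq)
        exact coreIn_commute hr hp hrp (hMD r hr hw) hy
      · left
        exact hxc r hr hrq
    have hzD : z ∈ D := ⟨hzM, hMN hzF⟩
    -- y * z is conjugate to y
    have hyz : y * z = x⁻¹ * y * x := by rw [hz]; group
    obtain ⟨k, hk⟩ := coreIn_isPGroup p D ⟨y, hy⟩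
    have hk' : y ^ p ^ k = 1 := congrArg Subtype.val hk
    have hyzk : (y * z) ^ p ^ k = 1 := by
      have : x⁻¹ * y * x = x⁻¹ * y * (x⁻¹)⁻¹ := by rw [inv_inv]
      rw [hyz, this, conj_pow, hk']
      group
    -- (y z)^n ∈ O_p(D) z^n
    have hpow : ∀ n : ℕ, ∃ c ∈ coreIn p D, (y * z) ^ n = c * z ^ n := by
      intro n
      induction n with
      | zero => exact ⟨1, one_mem _, by simp⟩
      | succ n ih =>
        obtain ⟨c, hc', hcn⟩ := ih
        refine ⟨c * (z ^ n * y * (z ^ n)⁻¹), mul_mem hc' (conj_mem_coreIn (pow_mem hzD n) hy), ?_⟩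
        rw [pow_succ, hcn, pow_succ]
        group
    obtain ⟨c, hcD, hcn⟩ := hpow (p ^ k)
    rw [hyzk] at hcn
    have hzc : z ^ p ^ k ∈ coreIn p D := by
      have : z ^ p ^ k = c⁻¹ := by
        rw [eq_inv_iff_mul_eq_one, ← mul_eq_one_iff_eq_inv.2]
        rw [← inv_eq_of_mul_eq_one_right hcn.symm]
      rw [this]
      exact inv_mem hcD
    obtain ⟨l, hl'⟩ := coreIn_isPGroup p D ⟨_, hzc⟩
    have hl'' : (z ^ p ^ k) ^ p ^ l = 1 := congrArg Subtype.val hl'
    have hzp : z ^ p ^ (k + l) = 1 := by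
      rw [pow_add, pow_mul]; exact hl''
    have hzcore : z ∈ coreIn p M := hFp z hzF _ hzp
    have hzx : z * x = x * z := hxc p hp hpq z hzcore
    -- conjugating by powers of x
    have hconj : ∀ n : ℕ, (x ^ n)⁻¹ * y * x ^ n = y * z ^ n := by
      intro n
      induction n with
      | zero => simp
      | succ n ih =>
        have hzn : x⁻¹ * z ^ n * x = z ^ n := by
          have : Commute z x := hzx
          have h2 := (this.pow_left n).eq
          rw [mul_assoc, h2]; group
        calc (x ^ (n + 1))⁻¹ * y * x ^ (n + 1)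
            = x⁻¹ * ((x ^ n)⁻¹ * y * x ^ n) * x := by rw [pow_succ]; group
          _ = x⁻¹ * (y * z ^ n) * x := by rw [ih]
          _ = (x⁻¹ * y * x) * (x⁻¹ * z ^ n * x) := by group
          _ = (y * z) * z ^ n := by rw [hzn, hyz]
          _ = y * z ^ (n + 1) := by rw [pow_succ']; group
    have h1 := hconj (orderOf x)
    rw [pow_orderOf_eq_one] at h1
    have h2 : z ^ orderOf x = 1 := by
      have : y = y * z ^ orderOf x := by simpa using h1
      exact (mul_eq_left (a := y)).1 this.symm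
    have h3 : orderOf z = 1 := by
      have hd1 : orderOf z ∣ orderOf x := orderOf_dvd_of_pow_eq_one h2
      have hd2 : orderOf z ∣ p ^ (k + l) := orderOf_dvd_of_pow_eq_one hzp
      have hcop : (orderOf x).Coprime (p ^ (k + l)) := Nat.Coprime.pow_right _ hxo
      exact Nat.eq_one_of_dvd_coprimes hcop hd1 hd2
    have h4 : z = 1 := orderOf_eq_one_iff.1 h3
    rw [h4, mul_one] at hyz
    calc y * x = x * (x⁻¹ * y * x) := by group
      _ = x * y := by rw [← hyz]
  -- the subgroup X
  set S : Set G := {x | x ∈ M ∧ (orderOf x).Coprime p ∧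
      ∀ r : ℕ, r.Prime → r ≠ q → ∀ w ∈ coreIn r M, w * x = x * w} with hS
  set X : Subgroup G := closure S with hX
  have hXD : X ≤ D := by
    rw [hX, closure_le]
    rintro x ⟨hxM, hxo, hxc⟩
    refine ⟨hxM, hc ?_⟩
    rw [mem_centralizer_iff]
    exact fun y hy => key x hxM hxo hxc y hy
  have hXM : X ≤ M := hXD.trans hDM
  have hMX : M ≤ normalizer (X : Set G) := by
    rw [hX, le_normalizer_closure_iff]
    intro m hm x hx
    obtain ⟨hxM, hxo, hxc⟩ := hx
    apply Subgroup.subset_closure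
    refine ⟨M.mul_mem (M.mul_mem hm hxM) (M.inv_mem hm), ?_, ?_⟩
    · have : orderOf (m * x * m⁻¹) = orderOf x := by
        rw [← MulAut.conj_apply]
        exact orderOf_injective (MulAut.conj m).toMonoidHom (MulAut.conj m).injective x
      rw [this]; exact hxo
    · intro r hr hrq w hw
      have h1 := hxc r hr hrq _ (conj_mem_coreIn' hm hw)
      calc w * (m * x * m⁻¹) = m * ((m⁻¹ * w * m) * x) * m⁻¹ := by group
        _ = m * (x * (m⁻¹ * w * m)) * m⁻¹ := by rw [h1]
        _ = m * x * m⁻¹ * w := by group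
  have hRX : coreIn q D ≤ X := by
    intro y hy
    apply Subgroup.subset_closure
    refine ⟨hDM (coreIn_le q D hy), ?_, ?_⟩
    · obtain ⟨k, hk⟩ := coreIn_isPGroup q D ⟨y, hy⟩
      have hk' : y ^ q ^ k = 1 := congrArg Subtype.val hk
      exact Nat.Coprime.coprime_dvd_left (orderOf_dvd_of_pow_eq_one hk')
        (Nat.Coprime.pow_left _ ((Nat.coprime_primes hq hp).2 hpq.symm))
    · intro r hr hrq w hw
      exact coreIn_commute hr hq hrq (hMD r hr hw) hy
  -- conclude inside the group M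
  have hXn : (X.subgroupOf M).Normal := normal_subgroupOf_of_le_normalizer hMX
  have hfin : (coreIn q D).subgroupOf M ≤ pCore q M := by
    refine le_pCore_of_normal_in_normal (X := X.subgroupOf M) hXn ?_ ?_ ?_
    · exact Subgroup.comap_mono hRX
    · intro x hx
      rw [mem_subgroupOf] at hx
      have h1 := le_normalizer_coreIn q D (hXD hx)
      rw [mem_normalizer_iff] at h1 ⊢
      intro w
      exact h1 w
    · exact (coreIn_isPGroup q D).comap_subtype
  intro y hy
  have hyM : y ∈ M := hDM (coreIn_le q D hy)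
  exact mem_coreIn.2 ⟨hyM, hfin hy⟩

end Cfsg.Agent.SignalizersComponents.Bender
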