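import Mathlib
import Cfsg.Agent.SignalizersComponents.CoprimeBasic

/-!
A generalised signalizer functor inside a solvable `p'`-group `H`, all of whose values `X D` are normalised by
the centralizer `C_H(D)`, is complete: the subgroup generated by the values meets `C(D)` in `X D`.
-/

set_option autoImplicit false

namespace Cfsg.Agent.SignalizersComponents.NormalFunctor

open Subgroup
open scoped commutatorElement

theorem conj_mem_iSup {G : Type*} [Group G] {ι : Sort*} (S : ι → Subgroup G) (T : Subgroup G) (a : G)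
    (h : ∀ i, ∀ x ∈ S i, a * x * a⁻¹ ∈ T) : ∀ x ∈ ⨆ i, S i, a * x * a⁻¹ ∈ T := by
  have h1 : (⨆ i, S i) ≤ T.comap (MulAut.conj a).toMonoidHom := iSup_le fun i x hx => h i x hx
  exact fun x hx => h1 hx

/-- The derived subgroup of a nontrivial solvable subgroup is a proper subgroup of it. -/
theorem commutator_lt {G : Type*} [Group G] {H : Subgroup G} (hH : Group.IsSolvable H) (h1 : H ≠ ⊥) :
    ⁅H, H⁆ < H := by
  rw [← nontrivial_iff_ne_bot] at h1
  have h2 := Group.IsSolvable.commutator_lt_top_of_nontrivial H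
  rw [← map_subtype_lt_map_subtype, map_subtype_commutator] at h2
  rwa [← MonoidHom.range_eq_map, range_subtype] at h2

theorem conj_mem_commutator {G : Type*} [Group G] {H : Subgroup G} {h x : G} (hh : h ∈ H)
    (hx : x ∈ H) {L : Subgroup G} (hL : ⁅H, H⁆ ≤ L) (hxL : x ∈ L) : h * x * h⁻¹ ∈ L := by
  have h1 : ⁅h, x⁆ ∈ L := hL (commutator_mem_commutator hh hx)
  have h2 : h * x * h⁻¹ = ⁅h, x⁆ * x := by rw [commutatorElement_def]; group
  rw [h2]
  exact mul_mem h1 hxL

/-- Let `A` be a `p`-subgroup of the finite group `G` normalising the solvable `p'`-subgroup `H`, let `𝒟` be a set of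
subgroups of `A`, `ℱ ⊆ 𝒟` such that any two members of `ℱ` contain a common member of `𝒟`, and such that every
`A`-invariant subgroup `K` of `H` is generated by the `C_K(F)`, `F ∈ ℱ`. Suppose that for `D ∈ 𝒟` an `A`-invariant subgroup
`X D` of `C_H(D)` is given which is normalised by `C_H(D)` and that `X D ⊓ C(E) ≤ X E` for `D, E ∈ 𝒟`. Then the subgroup
generated by all `X D` meets `C(D)` in `X D`, for every `D ∈ 𝒟`. -/
theorem iSup_inf_centralizer_le_aux {G : Type*} [Group G] [Finite G] {p : ℕ} [Fact p.Prime]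
    (A : Subgroup G) (hA : IsPGroup p A) (𝒟 ℱ : Set (Subgroup G)) (h𝒟 : ∀ D ∈ 𝒟, D ≤ A)
    (hℱ : ℱ ⊆ 𝒟) (hint : ∀ F ∈ ℱ, ∀ F' ∈ ℱ, ∃ D ∈ 𝒟, D ≤ F ∧ D ≤ F')
    (n : ℕ) : ∀ (H : Subgroup G) (X : Subgroup G → Subgroup G), Nat.card H = n → Group.IsSolvable H →
    ¬ p ∣ Nat.card H → (∀ a ∈ A, ∀ x ∈ H, a * x * a⁻¹ ∈ H) →
    (∀ K ≤ H, (∀ a ∈ A, ∀ x ∈ K, a * x * a⁻¹ ∈ K) →
      K ≤ ⨆ F : ℱ, K ⊓ centralizer ((F : Subgroup G) : Set G)) →
    (∀ D ∈ 𝒟, X D ≤ H) → (∀ D ∈ 𝒟, X D ≤ centralizer (D : Set G)) →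
    (∀ D ∈ 𝒟, ∀ h ∈ H, h ∈ centralizer (D : Set G) → ∀ x ∈ X D, h * x * h⁻¹ ∈ X D) →
    (∀ D ∈ 𝒟, ∀ a ∈ A, ∀ x ∈ X D, a * x * a⁻¹ ∈ X D) →
    (∀ D ∈ 𝒟, ∀ E ∈ 𝒟, X D ⊓ centralizer (E : Set G) ≤ X E) →
    ∀ D ∈ 𝒟, (⨆ E : 𝒟, X E) ⊓ centralizer (D : Set G) ≤ X D := by
  induction n using Nat.strong_induction_on with
  | _ n ih =>
    intro H X hcard hsolv hp hAH hgen hXH hXC hXN hXA hbal D hD
    have hle : (⨆ E : 𝒟, X E) ≤ H := iSup_le fun E => hXH E E.2
    have hsub : ∀ K : Subgroup G, K ≤ H → ¬ p ∣ Nat.card K := fun K hK h =>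
      hp (h.trans (card_dvd_of_le hK))
    have hcardlt : ∀ K : Subgroup G, K < H → Nat.card K < n := by
      intro K hK
      rw [← hcard]
      exact Set.ncard_lt_ncard (s := (K : Set G)) (t := (H : Set G))
        (SetLike.coe_ssubset_coe.mpr hK) (Set.toFinite _)
    -- monotonicity
    have hmono : ∀ D ∈ 𝒟, ∀ E ∈ 𝒟, D ≤ E → X E ≤ X D := by
      intro D hD E hE hDE
      refine le_trans (le_inf le_rfl ?_) (hbal E hE D hD)
      exact (hXC E hE).trans (centralizer_le hDE)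
    -- generation by the members of `ℱ`
    have hXgen : ∀ L : Subgroup G, (∀ a ∈ A, ∀ x ∈ L, a * x * a⁻¹ ∈ L) → ∀ E ∈ 𝒟,
        X E ⊓ L ≤ ⨆ F : ℱ, X F ⊓ L := by
      intro L hL E hE
      refine (hgen (X E ⊓ L) (inf_le_left.trans (hXH E hE)) ?_).trans ?_
      · intro a ha x hx
        exact ⟨hXA E hE a ha x hx.1, hL a ha x hx.2⟩
      · refine iSup_mono fun F => ?_
        intro x hx
        exact ⟨hbal E hE F (hℱ F.2) ⟨hx.1.1, hx.2⟩, hx.1.2⟩
    rcases lt_or_eq_of_le hle with hlt | heq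
    · -- the subgroup generated by the values is proper
      refine ih _ (hcardlt _ hlt) (⨆ E : 𝒟, X E) X rfl ?_ (hsub _ hle) ?_ ?_ ?_ hXC ?_ hXA hbal D hD
      · exact Group.isSolvable_of_isSolvable_injective (inclusion_injective hle)
      · intro a ha
        exact conj_mem_iSup _ _ a fun i x hx => mem_iSup_of_mem i (hXA i i.2 a ha x hx)
      · intro K hK hKA
        exact hgen K (hK.trans hle) hKA
      · intro E hE
        exact le_iSup_of_le (⟨E, hE⟩ : 𝒟) le_rfl
      · intro E hE h hh hhE x hx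
        exact hXN E hE h (hle hh) hhE x hx
    · rcases eq_or_ne H ⊥ with hbot | hbot
      · rw [heq, hbot]
        exact inf_le_left.trans bot_le
      have hlt := commutator_lt hsolv hbot
      -- `H` is generated by the values at the members of `ℱ`
      have hHF : H ≤ ⨆ F : ℱ, X F := by
        rw [← heq]
        refine iSup_le fun E => ?_
        have h1 := hXgen ⊤ (fun _ _ _ _ => mem_top _) E E.2
        rw [inf_top_eq] at h1
        refine h1.trans (iSup_mono fun F => inf_le_left)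
      -- the derived subgroup
      have hCA : ∀ a ∈ A, ∀ x ∈ ⁅H, H⁆, a * x * a⁻¹ ∈ ⁅H, H⁆ := by
        intro a ha x hx
        have h1 : H.map (MulAut.conj a).toMonoidHom ≤ H := by
          rintro _ ⟨y, hy, rfl⟩
          exact hAH a ha y hy
        have h2 : (⁅H, H⁆).map (MulAut.conj a).toMonoidHom ≤ ⁅H, H⁆ := by
          rw [map_commutator]
          exact commutator_mono h1 h1
        exact h2 ⟨x, hx, rfl⟩
      have hCH : ∀ h ∈ H, ∀ x ∈ ⁅H, H⁆, h * x * h⁻¹ ∈ ⁅H, H⁆ := fun h hh x hx =>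
        conj_mem_commutator hh (hlt.le hx) le_rfl hx
      let Y : Subgroup G := ⨆ E : 𝒟, X E ⊓ ⁅H, H⁆
      have hYle : ∀ E ∈ 𝒟, X E ⊓ ⁅H, H⁆ ≤ Y := fun E hE =>
        le_iSup_of_le (f := fun E : 𝒟 => X E ⊓ ⁅H, H⁆) (⟨E, hE⟩ : 𝒟) le_rfl
      have hYF : Y ≤ ⨆ F : ℱ, X F ⊓ ⁅H, H⁆ := iSup_le fun E => hXgen _ hCA E E.2
      have hXY : ∀ F : ℱ, ∀ g ∈ X F, ∀ y ∈ Y, g * y * g⁻¹ ∈ Y := by
        intro F g hg y hy
        refine conj_mem_iSup (fun F : ℱ => X F ⊓ ⁅H, H⁆) Y g ?_ y (hYF hy)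
        intro F' x hx
        obtain ⟨D, hD, hDF, hDF'⟩ := hint F F.2 F' F'.2
        have hg' : g ∈ X D := hmono D hD F (hℱ F.2) hDF hg
        have hx' : x ∈ X D := hmono D hD F' (hℱ F'.2) hDF' hx.1
        refine hYle D hD ⟨(X D).mul_mem ((X D).mul_mem hg' hx') ((X D).inv_mem hg'), hCH g (hXH _ (hℱ F.2) hg) x hx.2⟩
      have hHN : H ≤ normalizer (Y : Set G) := by
        refine hHF.trans (iSup_le fun F g hg => ?_)
        rw [mem_normalizer_iff]
        intro y
        refine ⟨hXY F g hg y, fun hy => ?_⟩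
        have h1 := hXY F g⁻¹ (inv_mem hg) _ hy
        have h2 : g⁻¹ * (g * y * g⁻¹) * g⁻¹⁻¹ = y := by group
        rwa [h2] at h1
      have hHY : ∀ h ∈ H, ∀ y ∈ Y, h * y * h⁻¹ ∈ Y := fun h hh y hy =>
        (mem_normalizer_iff.mp (hHN hh) y).mp hy
      -- commutators of generators
      have hcomm1 : ∀ F : ℱ, ∀ g ∈ X F, ∀ F' : ℱ, ∀ h ∈ H ⊓ centralizer ((F' : Subgroup G) : Set G),
          ⁅g, h⁆ ∈ Y := by
        intro F g hg F' h hh
        obtain ⟨D, hD, hDF, hDF'⟩ := hint F F.2 F' F'.2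
        have hg' : g ∈ X D := hmono D hD F (hℱ F.2) hDF hg
        have hhD : h ∈ centralizer (D : Set G) := centralizer_le hDF' hh.2
        have h1 : h * g⁻¹ * h⁻¹ ∈ X D := hXN D hD h hh.1 hhD _ (inv_mem hg')
        refine hYle D hD ⟨?_, commutator_mem_commutator (hXH _ (hℱ F.2) hg) hh.1⟩
        have h2 : ⁅g, h⁆ = g * (h * g⁻¹ * h⁻¹) := by rw [commutatorElement_def]; group
        rw [h2]
        exact mul_mem hg' h1
      have hcomm2 : ∀ F : ℱ, ∀ g ∈ X F, ∀ h ∈ H, ⁅g, h⁆ ∈ Y := by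
        intro F g hg h hh
        have h1 := hgen H le_rfl hAH hh
        have h2 : h ∈ H ∧ ⁅g, h⁆ ∈ Y := by
          refine iSup_induction _ (C := fun h => h ∈ H ∧ ⁅g, h⁆ ∈ Y) h1 ?_ ?_ ?_
          · intro F' x hx
            exact ⟨hx.1, hcomm1 F g hg F' x hx⟩
          · simp
          · rintro x y ⟨hxH, hx⟩ ⟨hyH, hy⟩
            refine ⟨mul_mem hxH hyH, ?_⟩
            have h3 : ⁅g, x * y⁆ = ⁅g, x⁆ * (x * ⁅g, y⁆ * x⁻¹) := by
              simp only [commutatorElement_def]; group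
            rw [h3]
            exact mul_mem hx (hHY x hxH _ hy)
        exact h2.2
      have hcomm3 : ⁅H, H⁆ ≤ Y := by
        rw [commutator_le]
        intro g hg h hh
        have h2 : g ∈ H ∧ ∀ h ∈ H, ⁅g, h⁆ ∈ Y := by
          refine iSup_induction _ (C := fun g => g ∈ H ∧ ∀ h ∈ H, ⁅g, h⁆ ∈ Y) (hHF hg) ?_ ?_ ?_
          · intro F x hx
            exact ⟨hXH _ (hℱ F.2) hx, hcomm2 F x hx⟩
          · simp
          · rintro x y ⟨hxH, hx⟩ ⟨hyH, hy⟩
            refine ⟨mul_mem hxH hyH, fun h hh => ?_⟩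
            have h3 : ⁅x * y, h⁆ = (x * ⁅y, h⁆ * x⁻¹) * ⁅x, h⁆ := by
              simp only [commutatorElement_def]; group
            rw [h3]
            exact mul_mem (hHY x hxH _ (hy h hh)) (hx h hh)
        exact h2.2 h hh
      -- induction, for the derived subgroup
      have hder : ∀ D ∈ 𝒟, ⁅H, H⁆ ⊓ centralizer (D : Set G) ≤ X D := by
        intro D hD
        have h1 := ih _ (hcardlt _ hlt) ⁅H, H⁆ (fun E => X E ⊓ ⁅H, H⁆) rfl
          (Group.isSolvable_of_isSolvable_injective (inclusion_injective hlt.le)) (hsub _ hlt.le) hCA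
          (fun K hK hKA => hgen K (hK.trans hlt.le) hKA) (fun E _ => inf_le_right)
          (fun E hE => inf_le_left.trans (hXC E hE))
          (fun E hE h hh hhE x hx => ⟨hXN E hE h (hlt.le hh) hhE x hx.1,
            (⁅H, H⁆ : Subgroup G).mul_mem ((⁅H, H⁆ : Subgroup G).mul_mem hh hx.2)
              ((⁅H, H⁆ : Subgroup G).inv_mem hh)⟩)
          (fun E hE a ha x hx => ⟨hXA E hE a ha x hx.1, hCA a ha x hx.2⟩)
          (fun E hE E' hE' x hx => ⟨hbal E hE E' hE' ⟨hx.1.1, hx.2⟩, hx.1.2⟩) D hD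
        intro x hx
        exact (h1 ⟨hcomm3 hx.1, hx.2⟩).1
      -- the abelian quotient
      have hfin : ∀ S : Finset ℱ, (⁅H, H⁆ ⊔ S.sup fun F => X F) ⊓ centralizer (D : Set G) ≤ X D := by
        classical
        intro S
        induction S using Finset.induction_on with
        | empty =>
          rw [Finset.sup_empty, sup_bot_eq]
          exact hder D hD
        | insert F S hFS ihS =>
          have hleH : (⁅H, H⁆ ⊔ S.sup fun F : ℱ => X F) ≤ H :=
            sup_le hlt.le (Finset.sup_le fun F _ => hXH _ (hℱ F.2))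
          rw [Finset.sup_insert, sup_comm (X (F : Subgroup G)), ← sup_assoc]
          have hn1 : X (F : Subgroup G) ≤
              normalizer ((⁅H, H⁆ ⊔ S.sup fun F : ℱ => X F : Subgroup G) : Set G) := by
            intro g hg
            have h3 : ∀ g ∈ H, ∀ x ∈ (⁅H, H⁆ ⊔ S.sup fun F : ℱ => X F),
                g * x * g⁻¹ ∈ (⁅H, H⁆ ⊔ S.sup fun F : ℱ => X F) := fun g hg x hx =>
              conj_mem_commutator hg (hleH hx) le_sup_left hx
            have hgH := hXH _ (hℱ F.2) hg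
            rw [mem_normalizer_iff]
            intro x
            refine ⟨h3 g hgH x, fun hx => ?_⟩
            have h4 := h3 g⁻¹ (inv_mem hgH) _ hx
            have h5 : g⁻¹ * (g * x * g⁻¹) * g⁻¹⁻¹ = x := by group
            rwa [h5] at h4
          have hn2 : ∀ a ∈ D, ∀ x ∈ (⁅H, H⁆ ⊔ S.sup fun F : ℱ => X F),
              a * x * a⁻¹ ∈ (⁅H, H⁆ ⊔ S.sup fun F : ℱ => X F) := by
            intro a ha x hx
            have h3 : (⁅H, H⁆ ⊔ S.sup fun F : ℱ => X F) ≤
                (⁅H, H⁆ ⊔ S.sup fun F : ℱ => X F).comap (MulAut.conj a).toMonoidHom := by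
              refine sup_le (fun x hx => mem_sup_left (hCA a (h𝒟 D hD ha) x hx)) ?_
              refine Finset.sup_le fun F hF x hx => mem_sup_right ?_
              exact (Finset.le_sup (f := fun F : ℱ => X F) hF) (hXA F (hℱ F.2) a (h𝒟 D hD ha) x hx)
            exact h3 hx
          rintro g ⟨hg, hgD⟩
          obtain ⟨x, hx, y, hy, hxD, hyD, rfl⟩ := CoprimeBasic.exists_factorization_of_centralizing
            (p := p) (X := ⁅H, H⁆ ⊔ S.sup fun F : ℱ => X F) (Y := X F) hn1 D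
            (hA.to_le (h𝒟 D hD)) hn2
            (fun a ha x hx => hXA F (hℱ F.2) a (h𝒟 D hD ha) x hx)
            (hsub _ (inf_le_left.trans hleH)) g hg (fun a ha => (mem_centralizer_iff.mp hgD a ha))
          refine mul_mem (ihS ⟨hx, mem_centralizer_iff.mpr hxD⟩) ?_
          exact hbal F (hℱ F.2) D hD ⟨hy, mem_centralizer_iff.mpr hyD⟩
      -- conclusion
      have : Fintype ℱ := Fintype.ofFinite _
      refine le_trans (inf_le_inf_right _ ?_) (hfin Finset.univ)
      rw [heq]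
      refine hHF.trans (le_trans ?_ le_sup_right)
      exact iSup_le fun F => Finset.le_sup (f := fun F : ℱ => X F) (Finset.mem_univ F)

end Cfsg.Agent.SignalizersComponents.NormalFunctor
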