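import Mathlib
import Cfsg.Prelude.Def_Balance
import Cfsg.Agent.SignalizersComponents.ThetaRadicalEnd

set_option autoImplicit false

/-!
The solvable signalizer functor theorem for primes `p` that are not Fermat primes, in particular for
`p = 2`, in the form of statement S0217 and with `SolComplete`.
-/

namespace Cfsg.Agent.SignalizersComponents.GoldschmidtTwo

open Subgroup
open Cfsg.Agent.SignalizersComponents.FunctorTools
open Cfsg.Agent.SignalizersComponents.FunctorInduction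

universe u

/-- No minimal counterexample for `p = 2`. -/
theorem no_minCounter_two (G : Type u) [Group G] [Finite G] (A : Subgroup G) (θ : G → Subgroup G)
    (h : MinCounter 2 A θ) : False :=
  ThetaRadicalEnd.false_of_minCounter_of_not_fermat ThetaRadicalEnd.two_not_fermat G A θ h

/-- Solvable signalizer functors on elementary abelian `2`-groups of rank at least 3 are complete. -/
theorem solComplete_two {G : Type u} [Group G] [Finite G] {A : Subgroup G} {θ : G → Subgroup G}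
    (hA : Cfsg.IsElementaryAbelian 2 A) (hA3 : 2 ^ 3 ≤ Nat.card A)
    (hθ : Cfsg.IsSolvableSignalizerFunctor 2 A θ) : SolComplete 2 A θ :=
  ThetaRadicalEnd.solComplete_two hA hA3 hθ

/-- The closure of a solvable signalizer functor on an elementary abelian `2`-group of rank at least 3 is a
member: solvable, of odd order, `A`-invariant, and it meets `C(a)` in `θ a`. -/
theorem closure_mem_two {G : Type u} [Group G] [Finite G] {A : Subgroup G} {θ : G → Subgroup G}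
    (hA : Cfsg.IsElementaryAbelian 2 A) (hA3 : 2 ^ 3 ≤ Nat.card A)
    (hθ : Cfsg.IsSolvableSignalizerFunctor 2 A θ) :
    (⨆ a : {a : G // a ∈ A ∧ a ≠ 1}, θ (a : G)) ∈ Cfsg.signalizerFamily 2 A θ ∧
      ∀ a ∈ A, a ≠ 1 →
        (⨆ b : {a : G // a ∈ A ∧ a ≠ 1}, θ (b : G)) ⊓ centralizer {a} = θ a :=
  SolComplete.conclusion hA hθ (solComplete_two hA hA3 hθ)

/-- S0217 for primes that are not Fermat primes. -/
theorem solvable_signalizer_functor_of_not_fermat {G : Type*} [Group G] [Finite G] {p : ℕ}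
    [Fact p.Prime] (hF : ∀ m : ℕ, m ≠ 0 → p ≠ 2 ^ m + 1) (A : Subgroup G)
    (hAcomm : ∀ a ∈ A, ∀ b ∈ A, a * b = b * a) (hAexp : ∀ a ∈ A, a ^ p = 1)
    (hArank : p ^ 3 ≤ Nat.card A) (θ : G → Subgroup G)
    (hθC : ∀ a ∈ A, a ≠ 1 → θ a ≤ Subgroup.centralizer {a})
    (hθp : ∀ a ∈ A, a ≠ 1 → ¬ p ∣ Nat.card (θ a))
    (hθinv : ∀ a ∈ A, a ≠ 1 → ∀ b ∈ A, ∀ x ∈ θ a, b * x * b⁻¹ ∈ θ a)
    (hθsolv : ∀ a ∈ A, a ≠ 1 → Group.IsSolvable (θ a))
    (hbal : ∀ a ∈ A, a ≠ 1 → ∀ b ∈ A, b ≠ 1 → θ a ⊓ Subgroup.centralizer {b} ≤ θ b) :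
    ¬ p ∣ Nat.card ↥(⨆ a : {a : G // a ∈ A ∧ a ≠ 1}, θ a) ∧
      ∀ a ∈ A, a ≠ 1 →
        (⨆ b : {a : G // a ∈ A ∧ a ≠ 1}, θ b) ⊓ Subgroup.centralizer {a} = θ a := by
  have hA : Cfsg.IsElementaryAbelian p A :=
    ⟨⟨⟨fun x y => Subtype.ext (hAcomm x x.2 y y.2)⟩⟩, hAexp⟩
  have hθ : Cfsg.IsSolvableSignalizerFunctor p A θ :=
    ⟨⟨hθC, hθp, hθinv, fun a ha ha1 b hb hb1 => hbal a ha ha1 b hb hb1⟩, hθsolv⟩
  obtain ⟨h1, h2⟩ := SolComplete.conclusion hA hθ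
    (ThetaRadicalEnd.solComplete_of_not_fermat hF hA hArank hθ)
  exact ⟨h1.2.1, h2⟩

/-- **The solvable signalizer functor theorem for `2`-groups `A`** (S0217 with `p = 2`). -/
theorem solvable_signalizer_functor_two {G : Type*} [Group G] [Finite G] (A : Subgroup G)
    (hAcomm : ∀ a ∈ A, ∀ b ∈ A, a * b = b * a) (hAexp : ∀ a ∈ A, a ^ 2 = 1)
    (hArank : 2 ^ 3 ≤ Nat.card A) (θ : G → Subgroup G)
    (hθC : ∀ a ∈ A, a ≠ 1 → θ a ≤ Subgroup.centralizer {a})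
    (hθp : ∀ a ∈ A, a ≠ 1 → ¬ 2 ∣ Nat.card (θ a))
    (hθinv : ∀ a ∈ A, a ≠ 1 → ∀ b ∈ A, ∀ x ∈ θ a, b * x * b⁻¹ ∈ θ a)
    (hθsolv : ∀ a ∈ A, a ≠ 1 → Group.IsSolvable (θ a))
    (hbal : ∀ a ∈ A, a ≠ 1 → ∀ b ∈ A, b ≠ 1 → θ a ⊓ Subgroup.centralizer {b} ≤ θ b) :
    ¬ 2 ∣ Nat.card ↥(⨆ a : {a : G // a ∈ A ∧ a ≠ 1}, θ a) ∧
      ∀ a ∈ A, a ≠ 1 →
        (⨆ b : {a : G // a ∈ A ∧ a ≠ 1}, θ b) ⊓ Subgroup.centralizer {a} = θ a :=
  solvable_signalizer_functor_of_not_fermat ThetaRadicalEnd.two_not_fermat A hAcomm hAexp hArank θ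
    hθC hθp hθinv hθsolv hbal

end Cfsg.Agent.SignalizersComponents.GoldschmidtTwo
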