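import Mathlib
import Cfsg.Prelude.Def_Transfer
import Cfsg.Agent.Lib.NormalAbelian

/-!
A finite `p`-group (any prime `p`) containing an elementary abelian subgroup of order greater than `p ^ 2`
has a normal elementary abelian subgroup of order `p ^ 2`.
-/

set_option autoImplicit false
open Cfsg

namespace Cfsg.Agent.SignalizersComponents.NormalRankTwo

universe u

variable {G : Type u} [Group G]

/-- For odd `p`, `r ^ p ≡ 1 mod p ^ (m+1)` forces `r ≡ 1 mod p ^ m`. -/
theorem dvd_sub_one_of_pow {p : ℕ} (hp : p.Prime) (hp2 : p ≠ 2) (m : ℕ) (r : ℤ)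
    (h : (p : ℤ) ^ (m + 1) ∣ r ^ p - 1) : (p : ℤ) ^ m ∣ r - 1 := by
  have : Fact p.Prime := ⟨hp⟩
  have hodd : Odd p := hp.odd_of_ne_two hp2
  have h1 : (p : ℤ) ∣ r ^ p - 1 := dvd_trans (dvd_pow_self _ (Nat.succ_ne_zero m)) h
  have h2 : (p : ℤ) ∣ r - 1 := by
    have h3 : ((r ^ p - 1 : ℤ) : ZMod p) = 0 := (ZMod.intCast_zmod_eq_zero_iff_dvd _ _).2 h1
    have h4 : ((r - 1 : ℤ) : ZMod p) = 0 := by
      push_cast at h3 ⊢
      rwa [ZMod.pow_card] at h3
    exact (ZMod.intCast_zmod_eq_zero_iff_dvd _ _).1 h4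
  have h5 : ¬ (p : ℤ) ∣ r := by
    intro h6
    have h7 : (p : ℤ) ∣ 1 := by
      have := dvd_sub h6 h2
      simpa using this
    have h8 : IsUnit (p : ℤ) := isUnit_of_dvd_one h7
    exact (Nat.prime_iff_prime_int.1 hp).not_isUnit h8
  have h6 := Int.emultiplicity_pow_sub_pow hp hodd (x := r) (y := 1) h2 h5 p
  rw [one_pow] at h6
  rw [pow_dvd_iff_le_emultiplicity] at h ⊢
  rw [h6] at h
  have h7 : emultiplicity (p : ℕ) p = 1 := by
    have : FiniteMultiplicity p p := Nat.finiteMultiplicity_iff.2 ⟨hp.one_lt.ne', hp.pos⟩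
    rw [this.emultiplicity_self]
  rw [h7] at h
  push_cast at h
  exact (ENat.add_le_add_iff_right (by simp)).1 h

/-- `r ^ 2 ≡ 1 mod 2 ^ (m+1)` forces `r ≡ ± 1 mod 2 ^ m`. -/
theorem two_pow_dvd {m : ℕ} {r : ℤ} (h : (2 : ℤ) ^ (m + 1) ∣ r ^ 2 - 1) :
    (2 : ℤ) ^ m ∣ r - 1 ∨ (2 : ℤ) ^ m ∣ r + 1 := by
  have hodd : ¬ (2 : ℤ) ∣ r := by
    intro h2
    have h3 : (2 : ℤ) ∣ r ^ 2 - 1 := dvd_trans (dvd_pow_self _ (Nat.succ_ne_zero m)) h
    have h4 : (2 : ℤ) ∣ r ^ 2 := dvd_pow h2 two_ne_zero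
    have h5 : (2 : ℤ) ∣ 1 := by
      have := dvd_sub h4 h3
      simpa using this
    norm_num at h5
  have hfac : r ^ 2 - 1 = (r - 1) * (r + 1) := by ring
  rw [hfac] at h
  obtain ⟨s, hs⟩ : ∃ s, r = 2 * s + 1 := by
    have := Int.emod_two_eq_zero_or_one r
    rcases this with h0 | h1
    · exact absurd (Int.dvd_of_emod_eq_zero h0) hodd
    · exact ⟨r / 2, by omega⟩
  subst hs
  have h1 : (2 * s + 1 - 1) * (2 * s + 1 + 1) = 2 * (2 * (s * (s + 1))) := by ring
  rw [h1, pow_succ', mul_dvd_mul_iff_left (by norm_num)] at h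
  -- 2^m ∣ 2 * (s * (s+1))
  have h2 : (2 * s + 1 - 1) = 2 * s := by ring
  have h3 : (2 * s + 1 + 1) = 2 * (s + 1) := by ring
  rw [h2, h3]
  cases m with
  | zero => left; simp
  | succ k =>
    rw [pow_succ', mul_dvd_mul_iff_left (by norm_num)] at h
    rw [pow_succ', mul_dvd_mul_iff_left (by norm_num), mul_dvd_mul_iff_left (by norm_num)]
    rcases Int.even_or_odd s with he | ho
    · left
      have hc : IsCoprime ((2 : ℤ) ^ k) (s + 1) := by
        apply IsCoprime.pow_left
        obtain ⟨t, ht⟩ := he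
        exact ⟨-t, 1, by rw [ht]; ring⟩
      exact hc.dvd_of_dvd_mul_right h
    · right
      have hc : IsCoprime ((2 : ℤ) ^ k) s := by
        apply IsCoprime.pow_left
        obtain ⟨t, ht⟩ := ho
        exact ⟨-t, 1, by rw [ht]; ring⟩
      exact hc.dvd_of_dvd_mul_left h

/-- Product formula in class two. -/
theorem mul_pow_class_two {m a c : G} (h : a * m * a⁻¹ = m * c) (hc : ∀ g : G, g * c = c * g) (k : ℕ) :
    (m * a) ^ k = m ^ k * c ^ (k * (k - 1) / 2) * a ^ k := by
  have ham : ∀ k : ℕ, a ^ k * m = m * c ^ k * a ^ k := by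
    intro k
    induction k with
    | zero => simp
    | succ k ih =>
      have h1 : a * m = m * c * a := by rw [← h]; group
      calc a ^ (k + 1) * m = a * (a ^ k * m) := by rw [pow_succ']; group
        _ = a * (m * c ^ k * a ^ k) := by rw [ih]
        _ = (a * m) * c ^ k * a ^ k := by group
        _ = m * c * a * c ^ k * a ^ k := by rw [h1]
        _ = m * c * (a * c ^ k) * a ^ k := by group
        _ = m * c * (c ^ k * a) * a ^ k := by
            have : a * c ^ k = c ^ k * a := by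
              have h2 : Commute a c := hc a
              exact (h2.pow_right k).eq
            rw [this]
        _ = m * c ^ (k + 1) * a ^ (k + 1) := by rw [pow_succ' c, pow_succ' a]; group
  induction k with
  | zero => simp
  | succ k ih =>
    have hT : (k + 1) * (k + 1 - 1) / 2 = k * (k - 1) / 2 + k := by
      rw [← Finset.sum_range_id_mul_two, ← Finset.sum_range_id_mul_two,
        Nat.mul_div_cancel _ (by norm_num), Nat.mul_div_cancel _ (by norm_num), Finset.sum_range_succ]
    have hcm : ∀ (i : ℕ) (g : G), c ^ i * g = g * c ^ i := by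
      intro i g
      have h2 : Commute g c := hc g
      exact ((h2.pow_right i).eq).symm
    calc (m * a) ^ (k + 1) = (m * a) ^ k * (m * a) := pow_succ _ _
      _ = m ^ k * c ^ (k * (k - 1) / 2) * (a ^ k * m) * a := by rw [ih]; group
      _ = m ^ k * (c ^ (k * (k - 1) / 2) * m) * c ^ k * a ^ k * a := by rw [ham]; group
      _ = m ^ k * m * (c ^ (k * (k - 1) / 2) * c ^ k) * (a ^ k * a) := by rw [hcm]; group
      _ = m ^ (k + 1) * c ^ ((k + 1) * (k + 1 - 1) / 2) * a ^ (k + 1) := by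
          rw [← pow_succ, ← pow_add, ← pow_succ, hT]

/-- The rank two normal subgroup generated by a central element `z` of order `p` and an element `a` of order `p`
that is central modulo `z`. -/
theorem build [Finite G] {p : ℕ} [hp : Fact p.Prime] {z a : G} (hz : orderOf z = p)
    (hzc : z ∈ Subgroup.center G) (ha : a ^ p = 1) (haz : a ∉ Subgroup.zpowers z)
    (hcomm : ∀ g : G, a * g * a⁻¹ * g⁻¹ ∈ Subgroup.zpowers z) :
    ∃ U : Subgroup G, U.Normal ∧ IsElementaryAbelian p U ∧ Nat.card U = p ^ 2 := by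
  have hZn : (Subgroup.zpowers z).Normal := by
    constructor
    rintro _ ⟨k, rfl⟩ g
    have h1 : Commute g z := Subgroup.mem_center_iff.mp hzc g
    have h2 : g * z ^ k * g⁻¹ = z ^ k := by rw [(h1.zpow_right k).eq, mul_inv_cancel_right]
    change g * z ^ k * g⁻¹ ∈ Subgroup.zpowers z
    rw [h2]
    exact ⟨k, rfl⟩
  have hac : a ∈ Subgroup.centralizer (Subgroup.zpowers z : Set G) := by
    rw [Subgroup.mem_centralizer_iff]
    rintro _ ⟨k, rfl⟩
    have h1 : Commute a z := Subgroup.mem_center_iff.mp hzc a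
    exact (h1.zpow_right k).eq.symm
  obtain ⟨hN, hC⟩ := Lib.NormalAbelian.sup_zpowers_normal_abelian hZn inferInstance hac hcomm
  refine ⟨Subgroup.zpowers z ⊔ Subgroup.zpowers a, hN, ⟨hC, ?_⟩, ?_⟩
  · intro u hu
    obtain ⟨y, ⟨i, rfl⟩, w, ⟨j, rfl⟩, rfl⟩ := Subgroup.mem_sup_of_normal_left.mp hu
    have h1 : Commute z a := (Subgroup.mem_center_iff.mp hzc a).symm
    have h2 : Commute (z ^ i) (a ^ j) := (h1.zpow_right j).zpow_left i
    change (z ^ i * a ^ j) ^ p = 1
    rw [h2.mul_pow, ← zpow_natCast, ← zpow_natCast, zpow_comm z, zpow_comm a, zpow_natCast, zpow_natCast,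
      ha, ← hz, pow_orderOf_eq_one, one_zpow, one_zpow, mul_one]
  · have h1 := Subgroup.relIndex_mul_relIndex ⊥ (Subgroup.zpowers z)
      (Subgroup.zpowers z ⊔ Subgroup.zpowers a) bot_le le_sup_left
    rw [Subgroup.relIndex_bot_left, Subgroup.relIndex_bot_left, Subgroup.relIndex_sup_left,
      ← Subgroup.inf_relIndex_right, Nat.card_zpowers, hz] at h1
    have ha1 : a ≠ 1 := fun h => haz (h ▸ one_mem _)
    have hao : orderOf a = p := orderOf_eq_prime ha ha1
    have hca : Nat.card ↥(Subgroup.zpowers a) = p := by rw [Nat.card_zpowers, hao]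
    have h2 : Subgroup.zpowers z ⊓ Subgroup.zpowers a = ⊥ := by
      by_contra hne
      have h3 : Nat.card ↥(Subgroup.zpowers z ⊓ Subgroup.zpowers a) ∣ p := by
        rw [← hca]
        exact Subgroup.card_dvd_of_le inf_le_right
      rcases (Nat.dvd_prime hp.out).mp h3 with h4 | h4
      · exact hne (Subgroup.card_eq_one.mp h4)
      · have h5 : Subgroup.zpowers z ⊓ Subgroup.zpowers a = Subgroup.zpowers a :=
          Subgroup.eq_of_le_of_card_ge inf_le_right (by rw [h4, hca])
        apply haz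
        have h6 : a ∈ Subgroup.zpowers z ⊓ Subgroup.zpowers a := by
          rw [h5]; exact Subgroup.mem_zpowers a
        exact h6.1
    rw [h2, Subgroup.relIndex_bot_left, hca] at h1
    rw [← h1, sq]

/-- An element of `C` outside `A`, of order `p` modulo `A` and central modulo `A`. -/
theorem exists_central_order_p_mod [Finite G] {p : ℕ} [hp : Fact p.Prime] (hG : IsPGroup p G)
    {A C : Subgroup G} (hA : A.Normal) (hC : C.Normal) (hAC : ¬ C ≤ A) :
    ∃ x ∈ C, x ∉ A ∧ x ^ p ∈ A ∧ ∀ g : G, x * g * x⁻¹ * g⁻¹ ∈ A := by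
  have hnil : Group.IsNilpotent G := hG.isNilpotent
  obtain ⟨y, hyC, hyA, hyc⟩ := Lib.NormalAbelian.exists_mem_not_mem_central_mod hA hC hAC
  -- the image of y in G/A is central, of p-power order
  let π := QuotientGroup.mk' A
  have hπc : π y ∈ Subgroup.center (G ⧸ A) := by
    rw [Subgroup.mem_center_iff]
    intro g
    obtain ⟨g, rfl⟩ := QuotientGroup.mk'_surjective A g
    have h1 : π (y * g * y⁻¹ * g⁻¹) = 1 := (QuotientGroup.eq_one_iff _).mpr (hyc g)
    have h2 : π y * π g * (π y)⁻¹ * (π g)⁻¹ = 1 := by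
      rw [← map_inv, ← map_inv, ← map_mul, ← map_mul, ← map_mul]; exact h1
    have h3 := mul_inv_eq_one.mp h2
    have h4 := mul_inv_eq_iff_eq_mul.mp h3
    exact h4.symm
  have hPq : IsPGroup p (G ⧸ A) := hG.to_quotient A
  have hπ1 : π y ≠ 1 := fun h => hyA ((QuotientGroup.eq_one_iff _).mp h)
  obtain ⟨k, hk⟩ := (IsPGroup.iff_orderOf.mp hPq) (π y)
  have hk0 : k ≠ 0 := by
    rintro rfl
    rw [pow_zero, orderOf_eq_one_iff] at hk
    exact hπ1 hk
  obtain ⟨l, rfl⟩ := Nat.exists_eq_succ_of_ne_zero hk0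
  refine ⟨y ^ p ^ l, pow_mem hyC _, ?_, ?_, ?_⟩
  · intro h
    have h1 : (π y) ^ p ^ l = 1 := by
      rw [← map_pow]; exact (QuotientGroup.eq_one_iff _).mpr h
    have h2 := orderOf_dvd_of_pow_eq_one h1
    rw [hk, Nat.pow_dvd_pow_iff_le_right hp.out.one_lt] at h2
    omega
  · rw [← pow_mul, ← pow_succ, ← QuotientGroup.eq_one_iff]
    change π (y ^ p ^ (l + 1)) = 1
    rw [map_pow, ← Nat.succ_eq_add_one, ← hk, pow_orderOf_eq_one]
  · intro g
    rw [← QuotientGroup.eq_one_iff]
    change π (y ^ p ^ l * g * (y ^ p ^ l)⁻¹ * g⁻¹) = 1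
    rw [map_mul, map_mul, map_mul, map_inv, map_inv, map_pow]
    have h1 : Commute (π g) (π y) := Subgroup.mem_center_iff.mp hπc (π g)
    have h2 := (h1.pow_right (p ^ l)).eq
    rw [← h2, mul_inv_cancel_right, mul_inv_cancel]

/-- In a cyclic `p`-group generated by `x`, a power of `x` to an exponent prime to `p` generates. -/
theorem mem_zpowers_pow_of_not_dvd {p : ℕ} [hp : Fact p.Prime] {x : G} {n j : ℕ}
    (hx : orderOf x = p ^ n) (hj : ¬ p ∣ j) : x ∈ Subgroup.zpowers (x ^ j) := by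
  have h : j.Coprime (orderOf x) := by
    rw [hx]
    exact Nat.Coprime.pow_right n ((Nat.Prime.coprime_iff_not_dvd hp.out).mpr hj).symm
  obtain ⟨m, hm⟩ := exists_pow_eq_self_of_coprime h
  exact ⟨m, by rw [← hm]; simp [hm]⟩

/-- Two automorphisms of a cyclic normal subgroup commute: the commutator of two elements of `G`
centralizes a generator of a cyclic normal subgroup. -/
theorem commutator_centralizes {N : Subgroup G} (hN : N.Normal) {x : G} (hx : N = Subgroup.zpowers x)
    (g h : G) : (g * h * g⁻¹ * h⁻¹) * x = x * (g * h * g⁻¹ * h⁻¹) := by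
  have key : ∀ g : G, ∃ r : ℤ, g * x * g⁻¹ = x ^ r := by
    intro g
    have h1 : g * x * g⁻¹ ∈ N := hN.conj_mem x (by rw [hx]; exact Subgroup.mem_zpowers x) g
    rw [hx] at h1
    obtain ⟨r, hr⟩ := Subgroup.mem_zpowers_iff.mp h1
    exact ⟨r, hr.symm⟩
  obtain ⟨r, hr⟩ := key g⁻¹
  obtain ⟨s, hs⟩ := key h⁻¹
  have h1 : (g⁻¹ * h⁻¹) * x * (g⁻¹ * h⁻¹)⁻¹ = x ^ (r * s) := by
    have : (g⁻¹ * h⁻¹) * x * (g⁻¹ * h⁻¹)⁻¹ = g⁻¹ * (h⁻¹ * x * h⁻¹⁻¹) * g⁻¹⁻¹ := by group
    rw [this, hs, ← conj_zpow, hr, ← zpow_mul]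
  have h2 : (h⁻¹ * g⁻¹) * x * (h⁻¹ * g⁻¹)⁻¹ = x ^ (r * s) := by
    have : (h⁻¹ * g⁻¹) * x * (h⁻¹ * g⁻¹)⁻¹ = h⁻¹ * (g⁻¹ * x * g⁻¹⁻¹) * h⁻¹⁻¹ := by group
    rw [this, hr, ← conj_zpow, hs, ← zpow_mul, mul_comm s r]
  have h3 : (g * h * g⁻¹ * h⁻¹) * x * (g * h * g⁻¹ * h⁻¹)⁻¹ = x := by
    have : (g * h * g⁻¹ * h⁻¹) * x * (g * h * g⁻¹ * h⁻¹)⁻¹
        = (h⁻¹ * g⁻¹)⁻¹ * ((g⁻¹ * h⁻¹) * x * (g⁻¹ * h⁻¹)⁻¹) * (h⁻¹ * g⁻¹) := by group
    rw [this, h1, ← h2]; group
  exact mul_inv_eq_iff_eq_mul.mp h3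

/-- If every element of `A` centralizes or inverts `y`, then the centralizer of `y` in `A` has index at
most two. -/
theorem card_le_two_mul [Finite G] (A : Subgroup G) (y : G)
    (h : ∀ a ∈ A, a * y * a⁻¹ = y ∨ a * y * a⁻¹ = y⁻¹) :
    Nat.card A ≤ 2 * Nat.card ↥(A ⊓ Subgroup.centralizer {y}) := by
  by_cases hA : A ≤ Subgroup.centralizer {y}
  · rw [inf_of_le_left hA]; omega
  · have h1 := Subgroup.relIndex_mul_relIndex ⊥ (A ⊓ Subgroup.centralizer {y}) A bot_le inf_le_left
    rw [Subgroup.relIndex_bot_left, Subgroup.relIndex_bot_left, Subgroup.inf_relIndex_left] at h1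
    obtain ⟨a, haA, haC⟩ := SetLike.not_le_iff_exists.mp hA
    have hmem : ∀ g : G, g ∈ Subgroup.centralizer {y} ↔ g * y * g⁻¹ = y := by
      intro g
      rw [Subgroup.mem_centralizer_singleton_iff, mul_inv_eq_iff_eq_mul]
    have h2 : (Subgroup.centralizer {y}).relIndex A = 2 := by
      rw [Subgroup.relIndex, Subgroup.index_eq_two_iff_exists_notMem_and]
      refine ⟨⟨a, haA⟩, ?_, ?_⟩
      · rw [Subgroup.mem_subgroupOf]; exact haC
      · rintro ⟨b, hbA⟩
        by_cases hb : b ∈ Subgroup.centralizer {y}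
        · right; rw [Subgroup.mem_subgroupOf]; exact hb
        · left
          rw [Subgroup.mem_subgroupOf]
          change b * a ∈ Subgroup.centralizer {y}
          rw [hmem] at hb haC ⊢
          have ha' := (h a haA).resolve_left haC
          have hb' := (h b hbA).resolve_left hb
          have : b * a * y * (b * a)⁻¹ = b * (a * y * a⁻¹) * b⁻¹ := by group
          rw [this, ha', ← conj_inv, hb', inv_inv]
    rw [h2] at h1
    omega

theorem exists_normal_elem_sq [Finite G] {p : ℕ} [hp : Fact p.Prime] (hG : IsPGroup p G)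
    (A : Subgroup G) (hA : IsElementaryAbelian p A) (hcard : p ^ 2 < Nat.card A) :
    ∃ U : Subgroup G, U.Normal ∧ IsElementaryAbelian p U ∧ Nat.card U = p ^ 2 := by
  have hnil : Group.IsNilpotent G := hG.isNilpotent
  have hGnt : Nontrivial G := by
    by_contra hnt
    rw [not_nontrivial_iff_subsingleton] at hnt
    have h1 : Nat.card A = 1 := Nat.card_of_subsingleton (1 : A)
    rw [h1] at hcard
    have := pow_pos hp.out.pos 2
    omega
  let S : Set (Subgroup G) := {N | N.Normal ∧ IsCyclic N}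
  obtain ⟨N, ⟨hN, hNc⟩, hmax⟩ := Set.exists_max_image S (fun N => Nat.card N) (Set.toFinite S)
    ⟨⊥, ⟨inferInstance, inferInstance⟩⟩
  obtain ⟨x, hx⟩ := (Subgroup.isCyclic_iff_exists_zpowers_eq_top N).mp hNc
  -- N is nontrivial
  have hNne : N ≠ ⊥ := by
    intro h
    have hZ := hG.center_nontrivial
    obtain ⟨⟨y, hy⟩, hy1⟩ := exists_ne (1 : ↥(Subgroup.center G))
    have hy1' : y ≠ 1 := fun h => hy1 (Subtype.ext h)
    have h1 : (Subgroup.zpowers y).Normal := by
      constructor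
      rintro _ ⟨k, rfl⟩ g
      have h1 : Commute g y := Subgroup.mem_center_iff.mp hy g
      have h2 : g * y ^ k * g⁻¹ = y ^ k := by rw [(h1.zpow_right k).eq, mul_inv_cancel_right]
      change g * y ^ k * g⁻¹ ∈ Subgroup.zpowers y
      rw [h2]
      exact ⟨k, rfl⟩
    have h2 := hmax (Subgroup.zpowers y) ⟨h1, inferInstance⟩
    rw [h] at h2
    simp only [Subgroup.card_bot, Nat.card_zpowers] at h2
    have h3 : orderOf y ≠ 1 := fun h => hy1' (orderOf_eq_one_iff.mp h)
    have h4 := orderOf_pos y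
    omega
  -- a central element of order p in N
  have hNZ := Lib.NormalAbelian.normal_inf_center_ne_bot N hNne
  have hdvd : p ∣ Nat.card ↥(N ⊓ Subgroup.center G) := by
    refine ((hG.to_subgroup _).card_eq_or_dvd).resolve_left ?_
    intro h
    exact hNZ (Subgroup.card_eq_one.mp h)
  obtain ⟨⟨z, hzNc⟩, hzo⟩ := exists_prime_orderOf_dvd_card' p hdvd
  rw [Subgroup.orderOf_mk] at hzo
  obtain ⟨hzN, hzc⟩ := Subgroup.mem_inf.mp hzNc
  -- order of x
  obtain ⟨n, hn⟩ := (IsPGroup.iff_orderOf.mp hG) x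
  have hn0 : n ≠ 0 := by
    rintro rfl
    rw [pow_zero, orderOf_eq_one_iff] at hn
    rw [hn, Subgroup.zpowers_one_eq_bot] at hx
    exact hNne hx.symm
  obtain ⟨m, rfl⟩ := Nat.exists_eq_succ_of_ne_zero hn0
  have hmem : ∀ y ∈ N, ∃ j : ℕ, y = x ^ j := by
    intro y hy
    rw [← hx, ← mem_powers_iff_mem_zpowers] at hy
    obtain ⟨j, hj⟩ := hy
    exact ⟨j, hj.symm⟩
  have hxN : x ∈ N := by rw [← hx]; exact Subgroup.mem_zpowers x
  -- elements of order p in N
  have F1 : ∀ y ∈ N, y ^ p = 1 → y ∈ Subgroup.zpowers z := by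
    have key : ∀ y ∈ N, y ^ p = 1 → y ∈ Subgroup.zpowers (x ^ p ^ m) := by
      intro y hy hyp
      obtain ⟨j, rfl⟩ := hmem y hy
      rw [← pow_mul] at hyp
      have h1 := orderOf_dvd_of_pow_eq_one hyp
      rw [hn, Nat.succ_eq_add_one, pow_succ] at h1
      have h2 := Nat.dvd_of_mul_dvd_mul_right hp.out.pos h1
      obtain ⟨k, rfl⟩ := h2
      rw [pow_mul]
      exact pow_mem (Subgroup.mem_zpowers _) k
    have hwo : orderOf (x ^ p ^ m) = p := by
      rw [orderOf_pow_of_dvd (pow_ne_zero _ hp.out.ne_zero) (by rw [hn]; exact pow_dvd_pow p (Nat.le_succ m)),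
        hn, Nat.succ_eq_add_one, pow_succ, Nat.mul_div_cancel_left _ (pow_pos hp.out.pos m)]
    have h1 : z ∈ Subgroup.zpowers (x ^ p ^ m) := key z hzN (by rw [← hzo]; exact pow_orderOf_eq_one z)
    have h2 : Subgroup.zpowers z = Subgroup.zpowers (x ^ p ^ m) := by
      apply Subgroup.eq_of_le_of_card_ge
      · rw [Subgroup.zpowers_le]; exact h1
      · rw [Nat.card_zpowers, Nat.card_zpowers, hwo, hzo]
    rw [h2]
    exact key
  have hNcomm : ∀ y ∈ N, ∀ w ∈ N, y * w = w * y := by
    intro y hy w hw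
    obtain ⟨i, rfl⟩ := hmem y hy
    obtain ⟨j, rfl⟩ := hmem w hw
    rw [← pow_add, ← pow_add, add_comm]
  have hzNle : Subgroup.zpowers z ≤ N := by rw [Subgroup.zpowers_le]; exact hzN
  by_cases hCN : Subgroup.centralizer (N : Set G) ≤ N
  swap
  · -- Step A
    have hCn : (Subgroup.centralizer (N : Set G)).Normal := inferInstance
    obtain ⟨c, hcC, hcN, hcp, hcc⟩ := exists_central_order_p_mod hG hN hCn hCN
    rw [Subgroup.mem_centralizer_iff] at hcC
    obtain ⟨j, hj⟩ := hmem _ hcp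
    by_cases hpj : p ∣ j
    · obtain ⟨i, rfl⟩ := hpj
      have hyN : (x ^ i)⁻¹ ∈ N := inv_mem (pow_mem hxN i)
      have hcomm : Commute c (x ^ i)⁻¹ := (hcC _ hyN).symm
      have hc'N : c * (x ^ i)⁻¹ ∉ N := by
        intro h
        apply hcN
        have := mul_mem h (pow_mem hxN i)
        rwa [inv_mul_cancel_right] at this
      have hc'p : (c * (x ^ i)⁻¹) ^ p = 1 := by
        rw [hcomm.mul_pow, hj, inv_pow, ← pow_mul, mul_comm i p, mul_inv_cancel]
      have hc'C : ∀ y ∈ N, y * (c * (x ^ i)⁻¹) = (c * (x ^ i)⁻¹) * y := by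
        intro y hy
        rw [← mul_assoc, hcC y hy, mul_assoc, hNcomm y hy _ hyN, mul_assoc]
      refine build hzo hzc hc'p (fun h => hc'N (hzNle h)) ?_
      intro g
      have hmN : (c * (x ^ i)⁻¹) * g * (c * (x ^ i)⁻¹)⁻¹ * g⁻¹ ∈ N := by
        have h1 : (c * (x ^ i)⁻¹) * g * (c * (x ^ i)⁻¹)⁻¹ * g⁻¹
            = (c * ((x ^ i)⁻¹ * (g * (x ^ i) * g⁻¹)) * c⁻¹) * (c * g * c⁻¹ * g⁻¹) := by group
        rw [h1]
        refine mul_mem (hN.conj_mem _ (mul_mem hyN (hN.conj_mem _ (pow_mem hxN i) g)) c) (hcc g)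
      refine F1 _ hmN ?_
      have h2 : (g * (c * (x ^ i)⁻¹)⁻¹ * g⁻¹) = (c * (x ^ i)⁻¹)⁻¹ *
          ((c * (x ^ i)⁻¹) * g * (c * (x ^ i)⁻¹)⁻¹ * g⁻¹) := by group
      have h3 : (g * (c * (x ^ i)⁻¹)⁻¹ * g⁻¹) ^ p = 1 := by
        rw [conj_pow, inv_pow, hc'p, inv_one, mul_one, mul_inv_cancel]
      have h4 : Commute (c * (x ^ i)⁻¹)⁻¹ ((c * (x ^ i)⁻¹) * g * (c * (x ^ i)⁻¹)⁻¹ * g⁻¹) :=
        Commute.inv_left (hc'C _ hmN).symm
      rw [h2, h4.mul_pow, inv_pow, hc'p, inv_one, one_mul] at h3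
      exact h3
    · exfalso
      have h1 : x ∈ Subgroup.zpowers c := by
        have h2 := mem_zpowers_pow_of_not_dvd hn hpj
        rw [← hj] at h2
        have h3 : Subgroup.zpowers (c ^ p) ≤ Subgroup.zpowers c := by
          rw [Subgroup.zpowers_le]; exact pow_mem (Subgroup.mem_zpowers c) p
        exact h3 h2
      have h2 : N ≤ Subgroup.zpowers c := by rw [← hx, Subgroup.zpowers_le]; exact h1
      have h3 : (Subgroup.zpowers c).Normal := by
        constructor
        rintro _ ⟨k, rfl⟩ g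
        change g * c ^ k * g⁻¹ ∈ Subgroup.zpowers c
        rw [← conj_zpow]
        apply zpow_mem
        have h4 : g * c * g⁻¹ = (c * g * c⁻¹ * g⁻¹)⁻¹ * c := by group
        rw [h4]
        exact mul_mem (inv_mem (h2 (hcc g))) (Subgroup.mem_zpowers c)
      have h4 := hmax (Subgroup.zpowers c) ⟨h3, inferInstance⟩
      have h5 := Subgroup.eq_of_le_of_card_ge h2 h4
      exact hcN (by rw [h5]; exact Subgroup.mem_zpowers c)
  · -- Step B
    -- action of elements of A on x
    have hact : ∀ a ∈ A, ∃ r : ℤ, a * x * a⁻¹ = x ^ r ∧ (p : ℤ) ^ (m + 1) ∣ r ^ p - 1 := by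
      intro a ha
      have h1 : a * x * a⁻¹ ∈ N := hN.conj_mem x hxN a
      rw [← hx] at h1
      obtain ⟨r, hr⟩ := Subgroup.mem_zpowers_iff.mp h1
      refine ⟨r, hr.symm, ?_⟩
      have h2 : ∀ k : ℕ, a ^ k * x * (a ^ k)⁻¹ = x ^ (r ^ k) := by
        intro k
        induction k with
        | zero => simp
        | succ k ih =>
          have : a ^ (k + 1) * x * (a ^ (k + 1))⁻¹ = a * (a ^ k * x * (a ^ k)⁻¹) * a⁻¹ := by
            rw [pow_succ']; group
          rw [this, ih, ← conj_zpow, ← hr, ← zpow_mul, pow_succ']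
      have h3 := h2 p
      rw [hA.2 a ha, inv_one, mul_one, one_mul] at h3
      have h4 : x ^ (r ^ p - 1) = 1 := by
        rw [zpow_sub, ← h3, zpow_one, mul_inv_cancel]
      have h5 := orderOf_dvd_iff_zpow_eq_one.mpr h4
      rw [hn] at h5
      exact_mod_cast h5
    have hxp : ∀ s t : ℤ, (p : ℤ) ^ (m + 1) ∣ s - t → x ^ s = x ^ t := by
      intro s t hst
      have h1 : x ^ (s - t) = 1 := by
        rw [← orderOf_dvd_iff_zpow_eq_one, hn]
        exact_mod_cast hst
      rwa [zpow_sub, mul_inv_eq_one] at h1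
    -- enough elements centralizing x ^ p
    have hbig : p < Nat.card ↥(A ⊓ Subgroup.centralizer {x ^ p}) := by
      by_cases hp2 : p = 2
      · subst hp2
        have h1 := card_le_two_mul A (x ^ 2) (by
          intro a ha
          obtain ⟨r, hr, hr2⟩ := hact a ha
          rw [← conj_pow, hr]
          rcases two_pow_dvd hr2 with h | h
          · left
            rw [← zpow_natCast, ← zpow_natCast, ← zpow_mul]
            apply hxp
            obtain ⟨t, ht⟩ := h
            refine ⟨t, ?_⟩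
            push_cast
            rw [pow_succ]
            linear_combination 2 * ht
          · right
            rw [← zpow_natCast, ← zpow_natCast, ← zpow_mul, ← zpow_neg]
            apply hxp
            obtain ⟨t, ht⟩ := h
            refine ⟨t, ?_⟩
            push_cast
            rw [pow_succ]
            linear_combination 2 * ht)
        omega
      · have h1 : A ≤ Subgroup.centralizer {x ^ p} := by
          intro a ha
          rw [Subgroup.mem_centralizer_singleton_iff, ← mul_inv_eq_iff_eq_mul, ← conj_pow]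
          obtain ⟨r, hr, hr2⟩ := hact a ha
          rw [hr]
          have h2 := dvd_sub_one_of_pow hp.out hp2 m r hr2
          rw [← zpow_natCast, ← zpow_natCast, ← zpow_mul]
          apply hxp
          obtain ⟨t, ht⟩ := h2
          refine ⟨t, ?_⟩
          rw [pow_succ]
          linear_combination (p : ℤ) * ht
        rw [inf_of_le_left h1]
        refine lt_trans ?_ hcard
        have := hp.out.one_lt
        nlinarith
    -- intersections with N are small
    have hsmall : ∀ B : Subgroup G, B ≤ A → B ≤ N → Nat.card B ≤ p := by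
      intro B hBA hBN
      have h1 : B ≤ Subgroup.zpowers z := fun b hb => F1 b (hBN hb) (hA.2 b (hBA hb))
      have h2 := Subgroup.card_le_of_le h1
      rwa [Nat.card_zpowers, hzo] at h2
    obtain ⟨a, haA, hax, haN⟩ : ∃ a ∈ A, a ∈ Subgroup.centralizer {x ^ p} ∧ a ∉ N := by
      by_contra hcon
      push Not at hcon
      have := hsmall (A ⊓ Subgroup.centralizer {x ^ p}) inf_le_left (fun b hb => hcon b hb.1 hb.2)
      omega
    have hap : a ^ p = 1 := hA.2 a haA
    obtain ⟨c, hc⟩ : ∃ c, a * x * a⁻¹ = x * c := ⟨x⁻¹ * (a * x * a⁻¹), by group⟩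
    have hcN : c ∈ N := by
      have h1 : c = x⁻¹ * (a * x * a⁻¹) := by rw [hc]; group
      rw [h1]
      exact mul_mem (inv_mem hxN) (hN.conj_mem x hxN a)
    have hcp : c ^ p = 1 := by
      have h1 : (a * x * a⁻¹) ^ p = x ^ p := by
        rw [conj_pow, mul_inv_eq_iff_eq_mul]
        exact Subgroup.mem_centralizer_singleton_iff.mp hax
      have h2 : Commute x c := hNcomm x hxN c hcN
      rw [hc, h2.mul_pow] at h1
      exact mul_eq_left.mp h1
    have hcz : c ∈ Subgroup.zpowers z := F1 c hcN hcp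
    have hzc' : Subgroup.zpowers z ≤ Subgroup.center G := by
      rw [Subgroup.zpowers_le]; exact hzc
    have hccen : c ∈ Subgroup.center G := hzc' hcz
    refine build hzo hzc hap (fun h => haN (hzNle h)) ?_
    intro g
    -- m₀ = a g a⁻¹ g⁻¹ ∈ N
    have hm0 : a * g * a⁻¹ * g⁻¹ ∈ N := by
      apply hCN
      rw [Subgroup.mem_centralizer_iff]
      intro y hy
      obtain ⟨j, rfl⟩ := hmem y hy
      have h1 : Commute (a * g * a⁻¹ * g⁻¹) x := commutator_centralizes hN hx.symm a g
      exact (h1.pow_right j).eq.symm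
    have hm1 : (a * g * a⁻¹ * g⁻¹)⁻¹ ∈ N := inv_mem hm0
    obtain ⟨i, hi⟩ := hmem _ hm1
    have hama : a * x ^ i * a⁻¹ = x ^ i * c ^ i := by
      have h2 : Commute x c := hNcomm x hxN c hcN
      rw [← conj_pow, hc, h2.mul_pow]
    have hci : ∀ g : G, g * c ^ i = c ^ i * g :=
      fun g => Subgroup.mem_center_iff.mp (pow_mem hccen i) g
    have hprod : (x ^ i * a) ^ p = 1 := by
      have h1 : x ^ i * a = g * a * g⁻¹ := by rw [← hi]; group
      rw [h1, conj_pow, hap, mul_one, mul_inv_cancel]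
    rw [mul_pow_class_two hama hci, hap, mul_one] at hprod
    have hfin : (x ^ i) ^ p = 1 := by
      by_cases hp2 : p = 2
      · subst hp2
        by_contra hne
        have hT : 2 * (2 - 1) / 2 = 1 := rfl
        rw [hT, pow_one] at hprod
        -- i is odd
        have hiodd : ¬ 2 ∣ i := by
          rintro ⟨k, rfl⟩
          rw [pow_mul c, hcp, one_pow, mul_one] at hprod
          exact hne hprod
        have hc2 : (c ^ i) ^ 2 = 1 := by rw [← pow_mul, mul_comm, pow_mul, hcp, one_pow]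
        have hx4 : (x ^ 4) ^ i = 1 := by
          have h1 : (x ^ i) ^ 2 = (c ^ i)⁻¹ := eq_inv_of_mul_eq_one_left hprod
          have h2 : ((x ^ i) ^ 2) ^ 2 = 1 := by rw [h1, inv_pow, hc2, inv_one]
          rw [← h2, ← pow_mul, ← pow_mul, ← pow_mul]
          congr 1
          ring
        have hx4' : x ^ 4 = 1 := by
          have h1 := orderOf_dvd_of_pow_eq_one hx4
          have h2 : orderOf (x ^ 4) ∣ 2 ^ (m + 1) := by
            rw [← Nat.succ_eq_add_one, ← hn]
            exact orderOf_pow_dvd 4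
          have h3 : (i : ℕ).Coprime (2 ^ (m + 1)) :=
            Nat.Coprime.pow_right _ ((Nat.Prime.coprime_iff_not_dvd Nat.prime_two).mpr hiodd).symm
          have h4 : orderOf (x ^ 4) = 1 := Nat.eq_one_of_dvd_coprimes h3 h1 h2
          exact orderOf_eq_one_iff.mp h4
        have h1 := card_le_two_mul A x (by
          intro b hb
          obtain ⟨r, hr, hr2⟩ := hact b hb
          have hr1 : ¬ (2 : ℤ) ∣ r := by
            intro h2
            have h3 : (2 : ℤ) ∣ r ^ 2 - 1 :=
              dvd_trans (dvd_pow_self _ (Nat.succ_ne_zero m)) (by exact_mod_cast hr2)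
            have h4 : (2 : ℤ) ∣ r ^ 2 := dvd_pow h2 two_ne_zero
            have h5 : (2 : ℤ) ∣ 1 := by
              have := dvd_sub h4 h3
              simpa using this
            norm_num at h5
          have hx4z : x ^ (4 : ℤ) = 1 := by exact_mod_cast hx4'
          rw [hr]
          have hr4 : r % 4 = 1 ∨ r % 4 = 3 := by omega
          have h6 : x ^ r = x ^ (r % 4) := by
            conv_lhs => rw [← Int.emod_add_mul_ediv r 4]
            rw [zpow_add, zpow_mul, hx4z, one_zpow, mul_one]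
          rw [h6]
          rcases hr4 with h7 | h7
          · left; rw [h7, zpow_one]
          · right
            rw [h7]
            apply eq_inv_of_mul_eq_one_left
            calc x ^ (3 : ℤ) * x = x ^ (3 : ℤ) * x ^ (1 : ℤ) := by rw [zpow_one]
              _ = x ^ (4 : ℤ) := by rw [← zpow_add]; norm_num
              _ = 1 := hx4z)
        have h2 := hsmall (A ⊓ Subgroup.centralizer {x}) inf_le_left (by
          intro b hb
          apply hCN
          rw [Subgroup.mem_centralizer_iff]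
          intro y hy
          obtain ⟨j, rfl⟩ := hmem y hy
          have h1 : Commute b x := Subgroup.mem_centralizer_singleton_iff.mp hb.2
          exact (h1.pow_right j).eq.symm)
        omega
      · have hodd : Odd p := hp.out.odd_of_ne_two hp2
        have h1 : p ∣ p * (p - 1) / 2 := by
          obtain ⟨k, hk⟩ := hodd
          have h2 : p * (p - 1) / 2 = p * k := by
            have : p - 1 = 2 * k := by omega
            rw [this, ← mul_assoc, mul_comm p 2, mul_assoc, Nat.mul_div_cancel_left _ (by norm_num)]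
          rw [h2]
          exact dvd_mul_right p k
        obtain ⟨t, ht⟩ := h1
        rw [ht, pow_mul, ← pow_mul c, mul_comm i p, pow_mul c, hcp, one_pow, one_pow, mul_one] at hprod
        exact hprod
    have hres := F1 (x ^ i) (pow_mem hxN i) hfin
    rw [← hi] at hres
    have := inv_mem hres
    rwa [inv_inv] at this

end Cfsg.Agent.SignalizersComponents.NormalRankTwo
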