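import Mathlib
import Cfsg.Prelude.Def_Balance
import Cfsg.Agent.SignalizersComponents.PLayerAut

/-!
# The extended 2-layer

`extendedTwoLayer_eq` (S1341), `extendedTwoLayer_normal` (S1342), `extendedTwoLayer_odd` (S1343).
-/

set_option autoImplicit false
set_option linter.style.haveILetI false

namespace Cfsg.Agent.SignalizersComponents.ExtendedLayer

open Subgroup Cfsg Cfsg.Agent.Lib.Cores Cfsg.Agent.SignalizersComponents.PLayerAut

variable {X : Type*} [Group X]

theorem map_centralizer_equiv {Y : Type*} [Group Y] (e : X ≃* Y) (S : Subgroup X) :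
    (centralizer (S : Set X)).map e.toMonoidHom =
      centralizer ((S.map e.toMonoidHom : Subgroup Y) : Set Y) := by
  ext y
  constructor
  · rintro ⟨x, hx, rfl⟩
    rw [mem_centralizer_iff]
    rintro _ ⟨s, hs, rfl⟩
    have := congrArg e (mem_centralizer_iff.1 hx s hs)
    simpa using this
  · intro hy
    refine ⟨e.symm y, ?_, by simp⟩
    rw [SetLike.mem_coe, mem_centralizer_iff]
    intro s hs
    apply e.injective
    have := mem_centralizer_iff.1 hy (e s) ⟨s, hs, rfl⟩
    simpa using this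

/-- The image in `X` of a Sylow subgroup of a subgroup `M`. -/
def big {p : ℕ} {M : Subgroup X} (T : Sylow p M) : Subgroup X := (T : Subgroup M).map M.subtype

theorem big_def {p : ℕ} {M : Subgroup X} (T : Sylow p M) :
    big T = (T : Subgroup M).map M.subtype := rfl

theorem big_le {p : ℕ} {M : Subgroup X} (T : Sylow p M) : big T ≤ M := map_subtype_le _

theorem big_isPGroup {p : ℕ} {M : Subgroup X} (T : Sylow p M) : IsPGroup p (big T) :=
  T.isPGroup'.map _

theorem big_relIndex {p : ℕ} {M : Subgroup X} (T : Sylow p M) :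
    (big T).relIndex M = (T : Subgroup M).index := by
  rw [relIndex, big_def, subgroupOf]
  rw [Subgroup.comap_map_eq_self_of_injective M.subtype_injective]

theorem big_smul {p : ℕ} {M : Subgroup X} (T : Sylow p M) (m : M) :
    big (m • T) = (big T).map (MulAut.conj (m : X)).toMonoidHom := by
  rw [big_def, big_def, Sylow.coe_subgroup_smul, Subgroup.map_map]
  ext x
  simp only [mem_map, Subgroup.mem_pointwise_smul_iff_inv_smul_mem]
  constructor
  · rintro ⟨y, hy, rfl⟩
    exact ⟨_, hy, by simp [mul_assoc]⟩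
  · rintro ⟨y, hy, rfl⟩
    refine ⟨m * y * m⁻¹, ?_, by simp⟩
    have : ((MulAut.conj m)⁻¹ • (m * y * m⁻¹) : M) = y := by
      simp [← map_inv, MulAut.smul_def, mul_assoc]
    rw [this]
    exact hy

/-- Conjugation by any element permutes the Sylow subgroups of a normal subgroup. -/
theorem exists_big_conj {p : ℕ} {M : Subgroup X} (hM : M.Normal) (T : Sylow p M) (x : X) :
    ∃ T' : Sylow p M, big T' = (big T).map (MulAut.conj x).toMonoidHom := by
  haveI := hM
  refine ⟨(MulAut.conjNormal x : MulAut M) • T, ?_⟩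
  rw [big_def, big_def, Sylow.pointwise_smul_def, Subgroup.map_map]
  ext z
  simp only [mem_map, Subgroup.mem_pointwise_smul_iff_inv_smul_mem]
  constructor
  · rintro ⟨y, hy, rfl⟩
    refine ⟨_, hy, ?_⟩
    have : ((MulAut.conjNormal x : MulAut M)⁻¹ • y : M) = MulAut.conjNormal x⁻¹ y := by
      rw [← map_inv]; rfl
    rw [this]
    simp [mul_assoc]
  · rintro ⟨y, hy, rfl⟩
    refine ⟨MulAut.conjNormal x y, ?_, by simp⟩
    have : ((MulAut.conjNormal x : MulAut M)⁻¹ • (MulAut.conjNormal x y) : M) = y := by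
      change (MulAut.conjNormal x : MulAut M)⁻¹ (MulAut.conjNormal x y) = y
      rw [MulAut.inv_apply_self]
    rw [this]
    exact hy

/-- If the index of `N` in `M` divides a power of `p` then `M` is generated by `N` and any of its
Sylow `p`-subgroups. -/
theorem sup_big [Finite X] {p : ℕ} [hp : Fact p.Prime] {M N : Subgroup X} (hNM : N ≤ M)
    (h : ∃ k, N.relIndex M ∣ p ^ k) (T : Sylow p M) : N ⊔ big T = M := by
  refine le_antisymm (sup_le hNM (big_le T)) ?_
  rw [← relIndex_eq_one]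
  obtain ⟨k, hk⟩ := h
  have h1 : (N ⊔ big T).relIndex M ∣ p ^ k :=
    (relIndex_dvd_of_le_left M le_sup_left).trans hk
  have h2 : (N ⊔ big T).relIndex M ∣ (T : Subgroup M).index := by
    rw [← big_relIndex]
    exact relIndex_dvd_of_le_left M le_sup_right
  have h3 : Nat.Coprime (p ^ k) (T : Subgroup M).index :=
    Nat.Coprime.pow_left k ((Nat.Prime.coprime_iff_not_dvd hp.1).2 T.not_dvd_index)
  exact Nat.eq_one_of_dvd_coprimes h3 h1 h2

/-- With `N` normal of `p`-power index in `M`, the Sylow `p`-subgroups of `M` are conjugate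
under `N`. -/
theorem exists_big_conj_mem [Finite X] {p : ℕ} [hp : Fact p.Prime] {M N : Subgroup X}
    (hN : N.Normal) (hNM : N ≤ M) (h : ∃ k, N.relIndex M ∣ p ^ k) (T T' : Sylow p M) :
    ∃ n ∈ N, big T' = (big T).map (MulAut.conj n).toMonoidHom := by
  obtain ⟨m, rfl⟩ := MulAction.exists_smul_eq M T T'
  have h1 : (m : X) ∈ N ⊔ big T := by
    rw [sup_big hNM h T]; exact m.2
  haveI := hN
  obtain ⟨n, hn, t, ht, hnt⟩ := mem_sup_of_normal_left.1 h1
  refine ⟨n, hn, ?_⟩
  rw [big_smul, ← hnt, map_mul]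
  have h2 : (big T).map (MulAut.conj t).toMonoidHom = big T :=
    mem_normalizer_iff_map_conj_eq.1 (le_normalizer ht)
  have h3 : (big T).map (MulAut.conj n * MulAut.conj t).toMonoidHom =
      ((big T).map (MulAut.conj t).toMonoidHom).map (MulAut.conj n).toMonoidHom := by
    rw [Subgroup.map_map]; rfl
  rw [h3, h2]

/-- The core of the centralizer. -/
def cc (p : ℕ) (S : Subgroup X) : Subgroup X := relCore p (centralizer (S : Set X))

theorem cc_def (p : ℕ) (S : Subgroup X) : cc p S = relCore p (centralizer (S : Set X)) := rfl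

theorem cc_map_equiv {Y : Type*} [Group Y] (p : ℕ) (e : X ≃* Y) (S : Subgroup X) :
    cc p (S.map e.toMonoidHom) = (cc p S).map e.toMonoidHom := by
  rw [cc_def, cc_def, ← map_centralizer_equiv, relCore_map_equiv]

theorem normalizer_le_normalizer_cc (p : ℕ) (S : Subgroup X) :
    normalizer (S : Set X) ≤ normalizer (cc p S : Set X) := by
  intro g hg
  have h1 : S.map (MulAut.conj g).toMonoidHom = S := mem_normalizer_iff_map_conj_eq.mp hg
  have h2 := cc_map_equiv p (MulAut.conj g) S
  rw [h1] at h2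
  exact mem_normalizer_iff_map_conj_eq.mpr h2.symm

/-- The normal subgroup `L_{p'}(X) O_{p',p}(X)`. -/
abbrev LP (p : ℕ) (X : Type*) [Group X] : Subgroup X := pLayer p X ⊔ pPrimePCore p X

theorem LP_normal (p : ℕ) : (LP p X).Normal := by
  haveI := pLayer_normal (G := X) p
  haveI := pPrimePCore_normal (G := X) p
  exact sup_normal _ _

theorem LO_normal (p : ℕ) : (pLayer p X ⊔ pPrimeCore p X).Normal := by
  haveI := pLayer_normal (G := X) p
  haveI := Cfsg.Agent.Lib.Cores.pPrimeCore_normal (G := X) p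
  exact sup_normal _ _

theorem relIndex_pPrimePCore [Finite X] (p : ℕ) [hp : Fact p.Prime] :
    ∃ k, (pPrimeCore p X).relIndex (pPrimePCore p X) = p ^ k := by
  have h1 : (pPrimeCore p X).relIndex (pPrimePCore p X) =
      Nat.card (pCore p (X ⧸ pPrimeCore p X)) := by
    have h := relIndex_ker (pPrimePCore p X) (QuotientGroup.mk' (pPrimeCore p X))
    rw [QuotientGroup.ker_mk'] at h
    rw [h, pPrimePCore_def,
      Subgroup.map_comap_eq_self_of_surjective (QuotientGroup.mk'_surjective _)]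
  rw [h1]
  exact IsPGroup.iff_card.mp (pCore_isPGroup p)

theorem relIndex_LO_LP [Finite X] (p : ℕ) [hp : Fact p.Prime] :
    ∃ k, (pLayer p X ⊔ pPrimeCore p X).relIndex (LP p X) ∣ p ^ k := by
  obtain ⟨k, hk⟩ := relIndex_pPrimePCore (X := X) p
  refine ⟨k, ?_⟩
  haveI := LO_normal (X := X) p
  have h1 : LP p X = (pLayer p X ⊔ pPrimeCore p X) ⊔ pPrimePCore p X := by
    rw [sup_assoc, sup_eq_right.2 (pPrimeCore_le_pPrimePCore (G := X) p)]
  rw [h1, relIndex_sup_left, ← hk]
  exact relIndex_dvd_of_le_left _ le_sup_right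

theorem LO_le_LP (p : ℕ) : pLayer p X ⊔ pPrimeCore p X ≤ LP p X :=
  sup_le_sup le_rfl (pPrimeCore_le_pPrimePCore p)

theorem cc_le_of_conj {p : ℕ} {N S : Subgroup X} {n : X} (hn : n ∈ N) :
    cc p (S.map (MulAut.conj n).toMonoidHom) ≤ N ⊔ cc p S := by
  rw [cc_map_equiv]
  rintro _ ⟨x, hx, rfl⟩
  have h1 : n ∈ N ⊔ cc p S := le_sup_left (a := N) hn
  exact mul_mem (mul_mem h1 (le_sup_right (a := N) hx)) (inv_mem h1)

/-- All Sylow subgroups give the same join. -/
theorem iSup_cc_eq [Finite X] (p : ℕ) [hp : Fact p.Prime] (T : Sylow p (LP p X)) :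
    pLayer p X ⊔ pPrimeCore p X ⊔ ⨆ T' : Sylow p (LP p X), cc p (big T') =
      pLayer p X ⊔ pPrimeCore p X ⊔ cc p (big T) := by
  refine le_antisymm (sup_le le_sup_left (iSup_le fun T' => ?_))
    (sup_le_sup le_rfl (le_iSup (fun T' => cc p (big T')) T))
  obtain ⟨n, hn, h⟩ := exists_big_conj_mem (LO_normal p) (LO_le_LP p) (relIndex_LO_LP p) T T'
  rw [h]
  exact cc_le_of_conj hn

theorem extendedTwoLayer_def : extendedTwoLayer X =
    pLayer 2 X ⊔ pPrimeCore 2 X ⊔ ⨆ T : Sylow 2 (LP 2 X), cc 2 (big T) := rfl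

/-- S1341. -/
theorem extendedTwoLayer_eq [Finite X] (T : Sylow 2 (LP 2 X)) :
    extendedTwoLayer X = pLayer 2 X ⊔ pPrimeCore 2 X ⊔ cc 2 (big T) := by
  haveI : Fact (Nat.Prime 2) := ⟨Nat.prime_two⟩
  rw [extendedTwoLayer_def, iSup_cc_eq]

/-- S1342. -/
theorem extendedTwoLayer_normal : (extendedTwoLayer X).Normal := by
  haveI := LO_normal (X := X) 2
  haveI : (⨆ T : Sylow 2 (LP 2 X), cc 2 (big T)).Normal := by
    refine normal_iff_map_conj_eq.2 fun x => ?_
    have key : ∀ y : X, (⨆ T : Sylow 2 (LP 2 X), cc 2 (big T)).map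
        (MulAut.conj y).toMonoidHom ≤ ⨆ T : Sylow 2 (LP 2 X), cc 2 (big T) := by
      intro y
      rw [Subgroup.map_iSup]
      refine iSup_le fun T => ?_
      obtain ⟨T', hT'⟩ := exists_big_conj (LP_normal (X := X) 2) T y
      rw [← cc_map_equiv, ← hT']
      exact le_iSup (fun T' => cc 2 (big T')) T'
    refine le_antisymm (key x) ?_
    intro z hz
    exact ⟨x⁻¹ * z * x, key x⁻¹ ⟨z, hz, by simp⟩, by simp [mul_assoc]⟩
  rw [extendedTwoLayer_def]
  exact sup_normal _ _

/-- S1343, general form with the explicit subgroup `O(X) O(C_X(T))`. -/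
theorem exists_odd [Finite X] :
    ∃ F : Subgroup X, Odd (Nat.card ↥F) ∧
      (∃ S : Sylow 2 X, (S : Subgroup X) ≤ Subgroup.normalizer (F : Set X)) ∧
      extendedTwoLayer X = pLayer 2 X ⊔ F := by
  haveI : Fact (Nat.Prime 2) := ⟨Nat.prime_two⟩
  haveI hM := LP_normal (X := X) 2
  obtain ⟨T⟩ : Nonempty (Sylow 2 (LP 2 X)) := inferInstance
  obtain ⟨S, hS⟩ : ∃ S : Sylow 2 X, big T ≤ S := (big_isPGroup T).exists_le_sylow
  haveI hO := Cfsg.Agent.Lib.Cores.pPrimeCore_normal (G := X) 2
  refine ⟨pPrimeCore 2 X ⊔ cc 2 (big T), ?_, ⟨S, ?_⟩, ?_⟩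
  · rw [← Nat.coprime_two_right]
    refine Nat.Coprime.coprime_dvd_left (card_sup_dvd _ _ hO) ?_
    exact Nat.Coprime.mul_left (pPrimeCore_coprime 2) (relCore_coprime 2 _)
  · have h1 : (S : Subgroup X) ≤ normalizer (big T : Set X) := by
      have h2 : big T = (S : Subgroup X) ⊓ LP 2 X := by
        refine le_antisymm (le_inf hS (big_le T)) ?_
        have h3 : IsPGroup 2 ((S : Subgroup X) ⊓ LP 2 X : Subgroup X) := S.isPGroup'.to_le inf_le_left
        have h4 : IsPGroup 2 (((S : Subgroup X) ⊓ LP 2 X).subgroupOf (LP 2 X)) :=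
          h3.comap_subtype
        have h5 : (T : Subgroup (LP 2 X)) ≤ ((S : Subgroup X) ⊓ LP 2 X).subgroupOf (LP 2 X) := by
          intro t ht
          rw [mem_subgroupOf]
          exact ⟨hS ⟨t, ht, rfl⟩, t.2⟩
        have h6 := T.is_maximal' h4 h5
        intro x hx
        have h7 : (⟨x, hx.2⟩ : LP 2 X) ∈ ((S : Subgroup X) ⊓ LP 2 X).subgroupOf (LP 2 X) := by
          rw [mem_subgroupOf]; exact hx
        rw [h6] at h7
        exact ⟨_, h7, rfl⟩
      rw [h2]
      intro s hs
      refine mem_normalizer_iff_map_conj_eq.2 ?_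
      rw [Subgroup.map_inf _ _ _ (MulAut.conj s).injective]
      have h8 : (S : Subgroup X).map (MulAut.conj s).toMonoidHom = S :=
        mem_normalizer_iff_map_conj_eq.1 (le_normalizer hs)
      have h9 : (LP 2 X).map (MulAut.conj s).toMonoidHom = LP 2 X :=
        normal_iff_map_conj_eq.1 hM s
      change (S : Subgroup X).map (MulAut.conj s).toMonoidHom ⊓ (LP 2 X).map (MulAut.conj s).toMonoidHom = _
      rw [h8, h9]
    intro s hs
    refine mem_normalizer_iff_map_conj_eq.2 ?_
    rw [Subgroup.map_sup]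
    have h8 : (pPrimeCore 2 X).map (MulAut.conj s).toMonoidHom = pPrimeCore 2 X :=
      normal_iff_map_conj_eq.1 hO s
    have h9 : (cc 2 (big T)).map (MulAut.conj s).toMonoidHom = cc 2 (big T) :=
      mem_normalizer_iff_map_conj_eq.1 (normalizer_le_normalizer_cc 2 _ (h1 hs))
    change (pPrimeCore 2 X).map (MulAut.conj s).toMonoidHom ⊔
      (cc 2 (big T)).map (MulAut.conj s).toMonoidHom = _
    rw [h8, h9]
  · rw [extendedTwoLayer_eq T, sup_assoc]

end Cfsg.Agent.SignalizersComponents.ExtendedLayer
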