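import Mathlib
import Cfsg.Prelude.Def_Balance
import Cfsg.Agent.Lib.Cores
import Cfsg.Agent.SignalizersComponents.RelSylow
import Cfsg.Agent.SignalizersComponents.CoprimeBasic
import Cfsg.Agent.SignalizersComponents.PLayerAut
import Cfsg.Agent.SignalizersComponents.ExtendedLayer

/-!
Core balance: `O(C_X(R)) ≤ L*_{2'}(X)` for every 2-subgroup `R`, given that the centralizers of the Sylow 2-subgroups
of `L_{2'}(X) O_{2',2}(X)` have normal 2-complements.
-/

set_option autoImplicit false

namespace Cfsg.Agent.SignalizersComponents.CoreBalance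

open Subgroup Cfsg
open scoped Pointwise
open Cfsg.Agent.SignalizersComponents.RelSylow
open Cfsg.Agent.SignalizersComponents.PLayerAut
open Cfsg.Agent.SignalizersComponents.ExtendedLayer

variable {X : Type*} [Group X]

theorem le_relCore [Finite X] {p : ℕ} {C D : Subgroup X} (hDC : D ≤ C) (hD : (Nat.card D).Coprime p)
    (hn : C ≤ normalizer (D : Set X)) : D ≤ relCore p C := by
  have h1 : (D.subgroupOf C).Normal := normal_subgroupOf_of_le_normalizer hn
  have h2 : (Nat.card (D.subgroupOf C)).Coprime p := by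
    rw [Nat.card_congr (subgroupOfEquivOfLe hDC).toEquiv]
    exact hD
  have h3 := Cfsg.Agent.Lib.Cores.le_pPrimeCore h1 h2
  intro d hd
  exact ⟨⟨d, hDC hd⟩, h3 (by rw [mem_subgroupOf]; exact hd), rfl⟩

theorem le_normalizer_relCore (p : ℕ) (C : Subgroup X) : C ≤ normalizer (relCore p C : Set X) :=
  le_normalizer.trans (normalizer_le_normalizer_relCore p C)

/-- The going-up step. -/
theorem cc_le_step [Finite X] {p : ℕ} [Fact p.Prime] (M : Subgroup X) [hM : M.Normal] {R Q : Subgroup X}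
    (hRQ : R ≤ Q) (hQ : IsPGroup p Q) (hQR : Q ≤ normalizer (R : Set X)) (hQM : Q ≤ M ⊔ R) :
    cc p R ≤ cc p Q ⊔ M := by
  have hcop : (Nat.card (cc p R)).Coprime p := relCore_coprime p _
  have hQn : Q ≤ normalizer (cc p R : Set X) := hQR.trans (normalizer_le_normalizer_cc p R)
  have hE : ¬ p ∣ Nat.card (cc p R ⊓ M : Subgroup X) := by
    intro h
    have h1 : Nat.card (cc p R ⊓ M : Subgroup X) ∣ Nat.card (cc p R) := card_dvd_of_le inf_le_left
    have h2 : p ∣ 1 := by
      have := Nat.dvd_gcd (h.trans h1) (dvd_refl p)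
      rwa [hcop] at this
    exact (Fact.out : p.Prime).one_lt.ne' (Nat.dvd_one.mp h2)
  intro d hd
  obtain ⟨e, he, hfix⟩ := CoprimeBasic.exists_fixed_in_coset Q hQ (cc p R ⊓ M) hE
    (by
      intro q hq x hx
      exact ⟨(mem_normalizer_iff.mp (hQn hq) x).mp hx.1, hM.conj_mem x hx.2 q⟩)
    d
    (by
      intro q hq
      refine ⟨(cc p R).mul_mem ((cc p R).inv_mem hd) ((mem_normalizer_iff.mp (hQn hq) d).mp hd), ?_⟩
      show d⁻¹ * (q * d * q⁻¹) ∈ M
      have h1 := hQM hq
      rw [← SetLike.mem_coe, Subgroup.normal_mul] at h1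
      obtain ⟨m, hm, r, hr, rfl⟩ := h1
      have h2 : r * d = d * r := mem_centralizer_iff.mp (relCore_le p _ hd) r hr
      have h3 : d⁻¹ * ((m * r) * d * (m * r)⁻¹) = (d⁻¹ * m * d⁻¹⁻¹) * m⁻¹ := by
        calc d⁻¹ * ((m * r) * d * (m * r)⁻¹) = d⁻¹ * m * (r * d) * r⁻¹ * m⁻¹ := by group
          _ = _ := by rw [h2]; group
      show d⁻¹ * ((m * r) * d * (m * r)⁻¹) ∈ M
      rw [h3]
      exact M.mul_mem (hM.conj_mem m hm d⁻¹) (M.inv_mem hm))
  have hde : d * e ∈ cc p Q := by
    have h1 : cc p R ⊓ centralizer (Q : Set X) ≤ cc p Q := by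
      apply le_relCore inf_le_right
      · exact Nat.Coprime.coprime_dvd_left (card_dvd_of_le inf_le_left) hcop
      · have h2 : centralizer (Q : Set X) ≤ centralizer (R : Set X) := centralizer_le hRQ
        intro x hx
        rw [mem_normalizer_iff]
        intro y
        have h3 := mem_normalizer_iff.mp (le_normalizer_relCore p _ (h2 hx)) y
        have h4 := mem_normalizer_iff.mp (le_normalizer hx : x ∈ normalizer (centralizer (Q : Set X) : Set X)) y
        exact and_congr h3 h4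
    apply h1
    refine ⟨mul_mem hd he.1, ?_⟩
    show d * e ∈ centralizer (Q : Set X)
    rw [mem_centralizer_iff]
    intro q hq
    exact hfix q hq
  have h1 : d = (d * e) * e⁻¹ := by group
  rw [h1]
  exact mul_mem (mem_sup_left hde) (mem_sup_right (inv_mem he.2))

/-- Going up from `R` to `Q`. -/
theorem cc_le_of_le [Finite X] {p : ℕ} [Fact p.Prime] (M : Subgroup X) [hM : M.Normal] (Q : Subgroup X)
    (hQ : IsPGroup p Q) (n : ℕ) : ∀ R : Subgroup X, Nat.card Q - Nat.card R ≤ n → R ≤ Q →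
      Q ≤ M ⊔ R → cc p R ≤ cc p Q ⊔ M := by
  induction n with
  | zero =>
    intro R hn hRQ _
    have h1 : Nat.card R ≤ Nat.card Q := card_le_of_le hRQ
    have h2 : R = Q := by
      apply eq_of_le_of_card_ge hRQ
      omega
    subst h2
    exact le_sup_left
  | succ n ih =>
    intro R hn hRQ hQM
    by_cases hQR : Q ≤ R
    · have h2 : R = Q := le_antisymm hRQ hQR
      subst h2
      exact le_sup_left
    · obtain ⟨x, hxQ, hxN, hxR⟩ := exists_mem_normalizer hQ hRQ hQR
      have h1 : R ≤ Q ⊓ normalizer (R : Set X) := le_inf hRQ le_normalizer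
      have h2 : ¬ (Q ⊓ normalizer (R : Set X)) ≤ R := fun h => hxR (h ⟨hxQ, hxN⟩)
      have h3 : Nat.card R < Nat.card (Q ⊓ normalizer (R : Set X) : Subgroup X) := by
        have h4 : R < Q ⊓ normalizer (R : Set X) := lt_of_le_not_ge h1 h2
        have := Set.ncard_lt_ncard (s := (R : Set X))
          (t := ((Q ⊓ normalizer (R : Set X) : Subgroup X) : Set X)) h4 (Set.toFinite _)
        simp only [← Nat.card_coe_set_eq] at this
        exact this
      have h5 := cc_le_step (p := p) M h1 (hQ.to_le inf_le_left) inf_le_right (inf_le_left.trans hQM)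
      have h6 := ih (Q ⊓ normalizer (R : Set X)) (by omega) inf_le_left
        (hQM.trans (sup_le_sup_left h1 M))
      exact h5.trans (sup_le h6 le_sup_right)

/-- The intersection of a Sylow subgroup with a normal subgroup is a Sylow subgroup of it. -/
theorem IsMaxP.inf_normal [Finite X] {p : ℕ} [Fact p.Prime] {C Q M : Subgroup X} (h : IsMaxP p C Q)
    (hM : M.Normal) (hMC : M ≤ C) : IsMaxP p M (Q ⊓ M) := by
  refine ⟨h.1.to_le inf_le_left, inf_le_right, ?_⟩
  intro W hW hWM hQW
  obtain ⟨c, _, hcW⟩ := h.exists_conj_le hW (hWM.trans hMC)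
  have h1 : W.map (MulAut.conj c).toMonoidHom ≤ Q ⊓ M := by
    refine le_inf hcW ?_
    rintro _ ⟨w, hw, rfl⟩
    exact hM.conj_mem w (hWM hw) c
  have h2 : Nat.card W ≤ Nat.card (Q ⊓ M : Subgroup X) := by
    rw [← card_map_conj W c]
    exact card_le_of_le h1
  exact (eq_of_le_of_card_ge hQW h2).ge

/-- In a group with a normal `p`-complement, every `p'`-subgroup lies in `O_{p'}`. -/
theorem le_pPrimeCore_of_hasNormalPComplement {Y : Type*} [Group Y] [Finite Y] {p : ℕ} [Fact p.Prime]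
    (h : HasNormalPComplement p Y) (D : Subgroup Y) (hD : (Nat.card D).Coprime p) :
    D ≤ pPrimeCore p Y := by
  obtain ⟨P, N, hN, hc⟩ := h
  have h1 : N.index = Nat.card P := hc.symm.index_eq_card
  have h2 : P.index = Nat.card N := hc.index_eq_card
  have hNp : (Nat.card N).Coprime p := by
    rw [← h2]
    exact ((Nat.Prime.coprime_iff_not_dvd Fact.out).mpr P.not_dvd_index).symm
  refine le_trans ?_ (Cfsg.Agent.Lib.Cores.le_pPrimeCore hN hNp)
  -- D has trivial image in Y / N
  intro d hd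
  have h3 : orderOf (QuotientGroup.mk' N d) ∣ N.index := by
    rw [Subgroup.index_eq_card]
    exact orderOf_dvd_natCard _
  have h4 : orderOf (QuotientGroup.mk' N d) ∣ Nat.card D := by
    refine (orderOf_map_dvd (QuotientGroup.mk' N) d).trans ?_
    rw [← Nat.card_zpowers]
    exact card_dvd_of_le (by rwa [zpowers_le])
  obtain ⟨k, hk⟩ := IsPGroup.iff_card.mp P.2
  have h5 : orderOf (QuotientGroup.mk' N d) ∣ 1 := by
    have h6 : (Nat.card D).Coprime (N.index) := by
      rw [h1]
      rw [show Nat.card P = p ^ k from hk]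
      exact Nat.Coprime.pow_right k hD
    have := Nat.dvd_gcd h4 h3
    rwa [h6] at this
  have h6 : QuotientGroup.mk' N d = 1 := orderOf_eq_one_iff.mp (Nat.dvd_one.mp h5)
  rwa [QuotientGroup.mk'_apply, QuotientGroup.eq_one_iff] at h6

/-- A subgroup of order prime to `p` of `N ⊔ O_{p',p}(X)`, where `N` is normal and contains `O_{p'}(X)`, lies in `N`. -/
theorem le_of_le_sup_pPrimePCore [Finite X] {p : ℕ} [Fact p.Prime] (N : Subgroup X) (hN : N.Normal)
    (hO : pPrimeCore p X ≤ N) (D : Subgroup X) (hD : (Nat.card D).Coprime p)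
    (hDN : D ≤ N ⊔ pPrimePCore p X) : D ≤ N := by
  intro d hd
  have h1 := hDN hd
  rw [← SetLike.mem_coe, Subgroup.normal_mul] at h1
  obtain ⟨n, hn, y, hy, hny⟩ := h1
  obtain ⟨k, hk⟩ : ∃ k, y ^ p ^ k ∈ pPrimeCore p X := by
    have h2 : QuotientGroup.mk' (pPrimeCore p X) y ∈ pCore p (X ⧸ pPrimeCore p X) := hy
    obtain ⟨k, hk⟩ := Cfsg.Agent.Lib.Cores.pCore_isPGroup p ⟨_, h2⟩
    refine ⟨k, ?_⟩
    have h3 : (QuotientGroup.mk' (pPrimeCore p X) y) ^ p ^ k = 1 := congrArg Subtype.val hk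
    rw [← map_pow, QuotientGroup.mk'_apply, QuotientGroup.eq_one_iff] at h3
    exact h3
  have h3 : QuotientGroup.mk' N d = QuotientGroup.mk' N y := by
    rw [← hny]
    show QuotientGroup.mk' N (n * y) = _
    rw [map_mul]
    have : QuotientGroup.mk' N n = 1 := by
      rw [QuotientGroup.mk'_apply, QuotientGroup.eq_one_iff]; exact hn
    rw [this, one_mul]
  have h4 : orderOf (QuotientGroup.mk' N d) ∣ p ^ k := by
    rw [h3]
    apply orderOf_dvd_of_pow_eq_one
    rw [← map_pow, QuotientGroup.mk'_apply, QuotientGroup.eq_one_iff]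
    exact hO hk
  have h5 : orderOf (QuotientGroup.mk' N d) ∣ Nat.card D := by
    refine (orderOf_map_dvd (QuotientGroup.mk' N) d).trans ?_
    rw [← Nat.card_zpowers]
    exact card_dvd_of_le (by rwa [zpowers_le])
  have h6 : orderOf (QuotientGroup.mk' N d) ∣ 1 := by
    have h7 : (Nat.card D).Coprime (p ^ k) := Nat.Coprime.pow_right k hD
    have := Nat.dvd_gcd h5 h4
    rwa [h7] at this
  have h7 : QuotientGroup.mk' N d = 1 := orderOf_eq_one_iff.mp (Nat.dvd_one.mp h6)
  rwa [QuotientGroup.mk'_apply, QuotientGroup.eq_one_iff] at h7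

/-- **Core balance**, given the structure of centralizers of Sylow 2-subgroups of `L_{2'}(X) O_{2',2}(X)`. -/
theorem cc_le_extendedTwoLayer [Finite X]
    (hB : ∀ T : Subgroup X, IsMaxP 2 (LP 2 X) T → HasNormalPComplement 2 ↥(centralizer (T : Set X)))
    (R : Subgroup X) (hR : IsPGroup 2 R) : cc 2 R ≤ extendedTwoLayer X := by
  have : Fact (Nat.Prime 2) := ⟨Nat.prime_two⟩
  have hM : (LP 2 X).Normal := LP_normal 2
  obtain ⟨Q, hQ, hRQ⟩ := exists_isMaxP (C := LP 2 X ⊔ R) hR le_sup_right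
  have hT : IsMaxP 2 (LP 2 X) (Q ⊓ LP 2 X) := IsMaxP.inf_normal hQ hM le_sup_left
  have h1 : cc 2 R ≤ cc 2 Q ⊔ LP 2 X :=
    cc_le_of_le (LP 2 X) Q hQ.1 _ R le_rfl hRQ hQ.2.1
  have h2 : cc 2 Q ≤ cc 2 (Q ⊓ LP 2 X) := by
    have h3 : cc 2 Q ≤ centralizer ((Q ⊓ LP 2 X : Subgroup X) : Set X) :=
      (relCore_le 2 _).trans (centralizer_le (fun x hx => hx.1))
    have h4 := le_pPrimeCore_of_hasNormalPComplement (hB _ hT)
      ((cc 2 Q).subgroupOf (centralizer ((Q ⊓ LP 2 X : Subgroup X) : Set X)))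
      (by
        rw [Nat.card_congr (subgroupOfEquivOfLe h3).toEquiv]
        exact relCore_coprime 2 _)
    intro x hx
    exact ⟨⟨x, h3 hx⟩, h4 (by rw [mem_subgroupOf]; exact hx), rfl⟩
  have h3 : cc 2 (Q ⊓ LP 2 X) ≤ extendedTwoLayer X := by
    have h4 : big hT.toSylow = Q ⊓ LP 2 X := hT.map_subtype_toSylow
    rw [extendedTwoLayer_def]
    refine le_trans ?_ le_sup_right
    refine le_trans ?_ (le_iSup (fun T : Sylow 2 (LP 2 X) => cc 2 (big T)) hT.toSylow)
    rw [h4]
  have hL : pLayer 2 X ≤ extendedTwoLayer X := by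
    rw [extendedTwoLayer_def]; exact le_sup_left.trans le_sup_left
  have hO : pPrimeCore 2 X ≤ extendedTwoLayer X := by
    rw [extendedTwoLayer_def]; exact le_sup_right.trans le_sup_left
  apply le_of_le_sup_pPrimePCore (p := 2) _ extendedTwoLayer_normal hO _ (relCore_coprime 2 _)
  refine h1.trans (sup_le ((h2.trans h3).trans le_sup_left) ?_)
  exact sup_le_sup_right hL _

end Cfsg.Agent.SignalizersComponents.CoreBalance
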