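import Mathlib
import Cfsg.Prelude.Def_Balance
import Cfsg.Agent.Lib.Cores
import Cfsg.Agent.SignalizersComponents.RelSylow
import Cfsg.Agent.SignalizersComponents.PLayerAut
import Cfsg.Agent.SignalizersComponents.ExtendedLayer
import Cfsg.Agent.SignalizersComponents.CoreBalance
import Cfsg.Agent.ClassificationK.PCompTransport

/-!
`L*`-balance from core balance and `L`-balance.
-/

set_option autoImplicit false

namespace Cfsg.Agent.SignalizersComponents.ExtendedBalance

open Subgroup Cfsg
open scoped Pointwise
open Cfsg.Agent.SignalizersComponents.RelSylow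
open Cfsg.Agent.SignalizersComponents.PLayerAut
open Cfsg.Agent.SignalizersComponents.ExtendedLayer
open Cfsg.Agent.SignalizersComponents.CoreBalance

variable {X : Type*} [Group X]

/-- The relative core commutes with injective homomorphisms. -/
theorem relCore_map_of_injective {Y : Type*} [Group Y] (p : ℕ) (f : X →* Y) (hf : Function.Injective f)
    (C : Subgroup X) : relCore p (C.map f) = (relCore p C).map f := by
  rw [relCore_def, relCore_def, ← Cfsg.Agent.Lib.Cores.map_equiv_pPrimeCore
    (C.equivMapOfInjective f hf) p, Subgroup.map_map, Subgroup.map_map]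
  rfl

theorem map_subtype_centralizer {C : Subgroup X} (A : Subgroup ↥C) :
    (centralizer (A : Set ↥C)).map C.subtype = centralizer ((A.map C.subtype : Subgroup X) : Set X) ⊓ C := by
  ext x
  constructor
  · rintro ⟨y, hy, rfl⟩
    refine ⟨?_, y.2⟩
    show (y : X) ∈ centralizer ((A.map C.subtype : Subgroup X) : Set X)
    rw [mem_centralizer_iff]
    rintro _ ⟨a, ha, rfl⟩
    exact congrArg Subtype.val (mem_centralizer_iff.mp hy a ha)
  · rintro ⟨hx, hxC⟩
    have hx' : x ∈ centralizer ((A.map C.subtype : Subgroup X) : Set X) := hx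
    refine ⟨⟨x, hxC⟩, ?_, rfl⟩
    show (⟨x, hxC⟩ : ↥C) ∈ centralizer (A : Set ↥C)
    rw [mem_centralizer_iff] at hx' ⊢
    intro a ha
    exact Subtype.ext (hx' a ⟨a, ha, rfl⟩)

/-- `L*(N) ≤ L*(X)` for normal subgroups `N`, given core balance in `X`. -/
theorem map_le_of_normal [Finite X]
    (hCB : ∀ R : Subgroup X, IsPGroup 2 R → cc 2 R ≤ extendedTwoLayer X) (N : Subgroup X) (hN : N.Normal) :
    (extendedTwoLayer ↥N).map N.subtype ≤ extendedTwoLayer X := by
  have : Fact (Nat.Prime 2) := ⟨Nat.prime_two⟩
  have hker : (Nat.card N.subtype.ker).Coprime 2 := by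
    rw [N.ker_subtype]; simp
  have hrange : N.subtype.range.IsSubnormal := by
    rw [N.range_subtype]; exact hN.isSubnormal
  rw [extendedTwoLayer_def, Subgroup.map_sup, Subgroup.map_sup]
  refine sup_le (sup_le ?_ ?_) ?_
  · rw [Subgroup.map_le_iff_le_comap]
    refine sSup_le fun K hK => ?_
    rw [← Subgroup.map_le_iff_le_comap]
    have h1 : IsPComponent 2 (K.map N.subtype) :=
      ClassificationK.PCompTransport.isPComponent_map 2 N.subtype hker hrange hK
    rw [extendedTwoLayer_def]
    exact (le_sSup (a := K.map N.subtype) h1 : _ ≤ pLayer 2 X).trans (le_sup_left.trans le_sup_left)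
  · rw [← ClassificationK.PCompTransport.comap_pPrimeCore 2 N.subtype hker hrange]
    rw [extendedTwoLayer_def]
    exact (map_comap_le _ _).trans (le_sup_right.trans le_sup_left)
  · rw [Subgroup.map_iSup]
    refine iSup_le fun T => ?_
    have h1 : IsPGroup 2 ((big T).map N.subtype) := (big_isPGroup T).map _
    refine le_trans ?_ (hCB _ h1)
    rw [cc_def, ← relCore_map_of_injective 2 N.subtype N.subtype_injective, map_subtype_centralizer, cc_def]
    apply le_relCore
    · exact (relCore_le 2 _).trans inf_le_left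
    · exact relCore_coprime 2 _
    · refine le_trans ?_ (normalizer_le_normalizer_relCore 2 _)
      intro g hg
      rw [mem_normalizer_iff]
      intro x
      have h2 := mem_normalizer_iff.mp (le_normalizer hg : g ∈ normalizer
        (centralizer (((big T).map N.subtype : Subgroup X) : Set X) : Set X)) x
      have h3 : x ∈ N ↔ g * x * g⁻¹ ∈ N :=
        ⟨fun h => hN.conj_mem x h g, fun h => by
          have := hN.conj_mem _ h g⁻¹
          simpa [mul_assoc] using this⟩
      exact and_congr h2 h3

/-- `L*(C_X(R)) ≤ L*(X)` for 2-subgroups `R`, given core balance and L-balance in `X`. -/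
theorem map_centralizer_le [Finite X]
    (hCB : ∀ R : Subgroup X, IsPGroup 2 R → cc 2 R ≤ extendedTwoLayer X) (R : Subgroup X)
    (hR : IsPGroup 2 R)
    (hLB : (pLayer 2 ↥(centralizer (R : Set X))).map (centralizer (R : Set X)).subtype ≤ pLayer 2 X) :
    (extendedTwoLayer ↥(centralizer (R : Set X))).map (centralizer (R : Set X)).subtype ≤
      extendedTwoLayer X := by
  have : Fact (Nat.Prime 2) := ⟨Nat.prime_two⟩
  rw [extendedTwoLayer_def (X := ↥(centralizer (R : Set X))), Subgroup.map_sup, Subgroup.map_sup]
  refine sup_le (sup_le ?_ ?_) ?_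
  · rw [extendedTwoLayer_def]
    exact hLB.trans (le_sup_left.trans le_sup_left)
  · exact hCB R hR
  · rw [Subgroup.map_iSup]
    refine iSup_le fun T => ?_
    have h1 : IsPGroup 2 ((big T).map (centralizer (R : Set X)).subtype) := (big_isPGroup T).map _
    have h0 : (big T).map (centralizer (R : Set X)).subtype ≤ centralizer (R : Set X) := by
      rintro _ ⟨y, _, rfl⟩; exact y.2
    have h2 : IsPGroup 2 ((big T).map (centralizer (R : Set X)).subtype ⊔ R : Subgroup X) :=
      IsPGroup.to_sup_of_normal_right' h1 hR (h0.trans (centralizer_le_normalizer _))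
    refine le_trans ?_ (hCB _ h2)
    rw [cc_def, ← relCore_map_of_injective 2 _ (centralizer (R : Set X)).subtype_injective,
      map_subtype_centralizer, cc_def]
    have h3 : centralizer (((big T).map (centralizer (R : Set X)).subtype : Subgroup X) : Set X) ⊓
        centralizer (R : Set X) =
        centralizer ((((big T).map (centralizer (R : Set X)).subtype ⊔ R : Subgroup X)) : Set X) := by
      apply le_antisymm
      · intro x hx
        have h4 : (big T).map (centralizer (R : Set X)).subtype ⊔ R ≤ centralizer ({x} : Set X) := by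
          apply sup_le
          · intro y hy
            rw [mem_centralizer_singleton_iff]
            exact mem_centralizer_iff.mp hx.1 y hy
          · intro y hy
            rw [mem_centralizer_singleton_iff]
            exact mem_centralizer_iff.mp hx.2 y hy
        rw [mem_centralizer_iff]
        intro y hy
        exact mem_centralizer_singleton_iff.mp (h4 hy)
      · refine le_inf (centralizer_le ?_) (centralizer_le ?_)
        · exact SetLike.coe_subset_coe.mpr le_sup_left
        · exact SetLike.coe_subset_coe.mpr le_sup_right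
    rw [h3]

/-- The extended 2-layer is transported by isomorphisms. -/
theorem map_equiv_extendedTwoLayer_le {Y : Type*} [Group Y] (e : X ≃* Y) :
    (extendedTwoLayer X).map e.toMonoidHom ≤ extendedTwoLayer Y := by
  rw [extendedTwoLayer_def, extendedTwoLayer_def, Subgroup.map_sup, Subgroup.map_sup]
  refine sup_le_sup (sup_le_sup (map_pLayer_le 2 e) ?_) ?_
  · exact (Cfsg.Agent.Lib.Cores.map_equiv_pPrimeCore e 2).le
  · rw [Subgroup.map_iSup]
    refine iSup_le fun T => ?_
    -- the image of T
    have hLP : (LP 2 X).map e.toMonoidHom = LP 2 Y := by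
      rw [Subgroup.map_sup, map_equiv_pLayer, map_equiv_pPrimePCore]
    have h1 : IsMaxP 2 (LP 2 Y) ((big T).map e.toMonoidHom) := by
      have h2 := isMaxP_of_sylow T
      refine ⟨h2.1.map _, ?_, ?_⟩
      · rw [← hLP]; exact Subgroup.map_mono h2.2.1
      · intro R' h3 h4 h5
        have h6 : R'.map e.symm.toMonoidHom ≤ big T := by
          apply h2.2.2
          · exact h3.map _
          · rw [← hLP] at h4
            rintro _ ⟨y, hy, rfl⟩
            obtain ⟨z, hz, hzy⟩ := h4 hy
            have : e.symm y = z := by rw [← hzy]; exact e.symm_apply_apply z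
            show e.symm y ∈ _
            rw [this]; exact hz
          · intro x hx
            exact ⟨e x, h5 ⟨x, hx, rfl⟩, e.symm_apply_apply x⟩
        intro y hy
        exact ⟨e.symm y, h6 ⟨y, hy, rfl⟩, e.apply_symm_apply y⟩
    have h2 : big h1.toSylow = (big T).map e.toMonoidHom := h1.map_subtype_toSylow
    refine le_trans ?_ (le_iSup (fun T : Sylow 2 (LP 2 Y) => cc 2 (big T)) h1.toSylow)
    rw [h2, cc_map_equiv]

theorem map_equiv_extendedTwoLayer {Y : Type*} [Group Y] (e : X ≃* Y) :
    (extendedTwoLayer X).map e.toMonoidHom = extendedTwoLayer Y := by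
  apply le_antisymm (map_equiv_extendedTwoLayer_le e)
  intro y hy
  have := map_equiv_extendedTwoLayer_le e.symm ⟨y, hy, rfl⟩
  exact ⟨e.symm y, this, e.apply_symm_apply y⟩

/-- `L*(H)` as a subgroup of the ambient group. -/
def rE (H : Subgroup X) : Subgroup X := (extendedTwoLayer ↥H).map H.subtype

theorem rE_def (H : Subgroup X) : rE H = (extendedTwoLayer ↥H).map H.subtype := rfl

theorem rE_map_of_injective {Y : Type*} [Group Y] (f : X →* Y) (hf : Function.Injective f)
    (H : Subgroup X) : rE (H.map f) = (rE H).map f := by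
  rw [rE_def, rE_def, ← map_equiv_extendedTwoLayer (H.equivMapOfInjective f hf), Subgroup.map_map,
    Subgroup.map_map]
  rfl

theorem rE_le (H : Subgroup X) : rE H ≤ H := map_subtype_le _

theorem normalizer_le_normalizer_rE (H : Subgroup X) :
    normalizer (H : Set X) ≤ normalizer (rE H : Set X) := by
  intro g hg
  have h1 : H.map (MulAut.conj g).toMonoidHom = H := mem_normalizer_iff_map_conj_eq.mp hg
  have h2 := rE_map_of_injective (MulAut.conj g).toMonoidHom (MulAut.conj g).injective H
  rw [h1] at h2
  exact mem_normalizer_iff_map_conj_eq.mpr h2.symm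

/-- `L*`-balance for commuting 2-elements. -/
theorem rE_balance.{u} {G : Type u} [Group G] [Finite G]
    (hB : ∀ (Y : Type u) [Group Y] [Finite Y] (T : Subgroup Y), IsMaxP 2 (LP 2 Y) T →
      HasNormalPComplement 2 ↥(centralizer (T : Set Y)))
    (hLB : ∀ (Y : Type u) [Group Y] [Finite Y] (T : Subgroup Y), IsPGroup 2 T →
      (pLayer 2 ↥(centralizer (T : Set Y))).map (centralizer (T : Set Y)).subtype ≤ pLayer 2 Y)
    (x y : G) (hx : IsPGroup 2 (zpowers x)) (hxy : x * y = y * x) :
    rE (rE (centralizer ({x} : Set G)) ⊓ centralizer ({y} : Set G)) ≤ rE (centralizer ({y} : Set G)) := by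
  have hCB : ∀ (Y : Type u) [Group Y] [Finite Y] (R : Subgroup Y), IsPGroup 2 R →
      cc 2 R ≤ extendedTwoLayer Y := fun Y _ _ R hR => cc_le_extendedTwoLayer (hB Y) R hR
  obtain ⟨Cx, hCx⟩ : ∃ C, C = centralizer ({x} : Set G) := ⟨_, rfl⟩
  obtain ⟨Cy, hCy⟩ : ∃ C, C = centralizer ({y} : Set G) := ⟨_, rfl⟩
  rw [← hCx, ← hCy]
  obtain ⟨Z, hZ⟩ : ∃ Z, Z = Cx ⊓ Cy := ⟨_, rfl⟩
  have hHZ : rE Cx ⊓ Cy ≤ Z := hZ ▸ inf_le_inf_right _ (rE_le Cx)
  -- first step
  have h1 : rE (rE Cx ⊓ Cy) ≤ rE Z := by
    have hn : ((rE Cx ⊓ Cy).subgroupOf Z).Normal := by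
      apply normal_subgroupOf_of_le_normalizer
      intro z hz
      rw [hZ] at hz
      have h2 : z ∈ normalizer (rE Cx : Set G) := normalizer_le_normalizer_rE _ (le_normalizer hz.1)
      rw [mem_normalizer_iff]
      intro w
      exact and_congr (mem_normalizer_iff.mp h2 w) (mem_normalizer_iff.mp (le_normalizer hz.2) w)
    have h2 := map_le_of_normal (hCB ↥Z) _ hn
    have h3 := Subgroup.map_mono (f := Z.subtype) h2
    rw [← rE_def, ← rE_map_of_injective Z.subtype Z.subtype_injective, subgroupOf_map_subtype,
      inf_eq_left.mpr hHZ] at h3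
    exact h3
  -- second step
  have hxCy : x ∈ Cy := by rw [hCy, mem_centralizer_singleton_iff]; exact hxy
  obtain ⟨R, hR⟩ : ∃ R : Subgroup ↥Cy, R = zpowers ⟨x, hxCy⟩ := ⟨_, rfl⟩
  have hRmap : R.map Cy.subtype = zpowers x := by
    rw [hR, MonoidHom.map_zpowers]; rfl
  have hRp : IsPGroup 2 R := by
    have h2 : IsPGroup 2 (R.map Cy.subtype) := by rw [hRmap]; exact hx
    exact h2.of_injective ((R.equivMapOfInjective _ Cy.subtype_injective).toMonoidHom)
      (R.equivMapOfInjective _ Cy.subtype_injective).injective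
  have h2 := map_centralizer_le (hCB ↥Cy) R hRp (hLB ↥Cy R hRp)
  have h3 := Subgroup.map_mono (f := Cy.subtype) h2
  have h4 : (centralizer (R : Set ↥Cy)).map Cy.subtype = Z := by
    rw [map_subtype_centralizer, hRmap, hZ, hCx]
    congr 1
    rw [zpowers_eq_closure, centralizer_closure]
  rw [← rE_def, ← rE_map_of_injective Cy.subtype Cy.subtype_injective, h4] at h3
  exact h1.trans h3

end Cfsg.Agent.SignalizersComponents.ExtendedBalance
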