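import Mathlib
import Cfsg.Prelude.Def_Local
import Cfsg.Agent.SignalizersComponents.Components

/-!
# Tools for standard subgroups
-/

set_option autoImplicit false

namespace Cfsg.Agent.SignalizersComponents.StandardTools

open Cfsg Subgroup Cfsg.Agent.SignalizersComponents.Components

variable {G : Type*} [Group G]

/-- If `A` is quasisimple and `A`, `M` normalize each other, then `A ≤ M` or `M` centralizes `A`. -/
theorem le_or_le_centralizer {A M : Subgroup G} (hA : IsQuasisimple A)
    (h1 : M ≤ normalizer (A : Set G)) (h2 : A ≤ normalizer (M : Set G)) :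
    A ≤ M ∨ M ≤ centralizer (A : Set G) := by
  have h3 : (M.subgroupOf A).Normal := normal_subgroupOf_of_le_normalizer h2
  rcases quasisimple_normal hA _ h3 with h | h
  · exact Or.inl (subgroupOf_eq_top.mp h)
  · right
    rw [← commutator_eq_bot_iff_le_centralizer]
    refine commutator_eq_bot_of_commutator_commutator_eq_bot hA.1 ?_
    rw [commutator_eq_bot_iff_le_centralizer]
    intro x hx
    have hxM : x ∈ M := by
      have := le_normalizer_iff_commutator_le_left.mp h2
      exact this hx
    have hxA : x ∈ A := by
      have := le_normalizer_iff_commutator_le_right.mp h1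
      exact this hx
    rw [mem_centralizer_iff]
    intro y hy
    have hxc : (⟨x, hxA⟩ : A) ∈ center A := h (mem_subgroupOf.mpr hxM)
    exact congrArg Subtype.val (mem_center_iff.mp hxc ⟨y, hy⟩)

/-- The fundamental property of a standard subgroup `A`: the normalizer of a subgroup of even
order of `C_G(A)` normalizes `A`. -/
theorem normalizer_le_of_even {A M : Subgroup G} [Finite G] (hA : IsStandardSubgroup A)
    (hM : M ≤ centralizer (A : Set G)) (he : Even (Nat.card M)) :
    normalizer (M : Set G) ≤ normalizer (A : Set G) := by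
  intro g hg
  rw [hA.2.2.2]
  by_contra hgn
  have hodd := hA.2.1.2 g hgn
  have hle : M ≤ centralizer (A : Set G) ⊓
      (centralizer (A : Set G)).map (MulAut.conj g).toMonoidHom := by
    refine le_inf hM ?_
    intro x hx
    refine ⟨g⁻¹ * x * g, hM ?_, by simp [mul_assoc]⟩
    have := (mem_normalizer_iff.mp (inv_mem hg) x).mp hx
    simpa using this
  have h1 := Subgroup.card_dvd_of_le hle
  exact (Nat.not_even_iff_odd.mpr hodd) (even_iff_two_dvd.mpr (he.two_dvd.trans h1))

theorem centralizer_le_of_even {A M : Subgroup G} [Finite G] (hA : IsStandardSubgroup A)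
    (hM : M ≤ centralizer (A : Set G)) (he : Even (Nat.card M)) :
    centralizer (M : Set G) ≤ normalizer (A : Set G) :=
  (centralizer_le_normalizer _).trans (normalizer_le_of_even hA hM he)

/-- A standard subgroup which is a component of `G` is normal. -/
theorem normal_of_isComponent {A : Subgroup G} (hA : IsStandardSubgroup A)
    (hc : IsComponent A) : A.Normal := by
  rw [← normalizer_eq_top_iff, eq_top_iff]
  intro g _
  rw [mem_normalizer_iff_map_conj_eq]
  by_contra hne
  exact hA.2.2.1 g hne
    (component_commutator_eq_bot_of_ne hc (isComponent_conj g hc) (fun h => hne h.symm))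

/-- If the layer normalizes the standard subgroup `A ≤ E(G)` then `A` is normal. -/
theorem normal_of_layer_le {A : Subgroup G} (hA : IsStandardSubgroup A) (hAE : A ≤ layer G)
    (h : layer G ≤ normalizer (A : Set G)) : A.Normal := by
  refine normal_of_isComponent hA ⟨?_, hA.1⟩
  have h1 : (layer G).IsSubnormal := by
    have := layer_normal G
    exact this.isSubnormal
  exact Subgroup.IsSubnormal.step A (layer G) hAE h1 (normal_subgroupOf_of_le_normalizer h)

/-- The normalizer of a normal standard... -/
theorem normal_of_normal_le {A M : Subgroup G} [Finite G] (hA : IsStandardSubgroup A)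
    (hM : M ≤ centralizer (A : Set G)) (he : Even (Nat.card M)) (hn : M.Normal) : A.Normal := by
  have h1 := normalizer_le_of_even hA hM he
  rw [normalizer_eq_top_iff.mpr hn, top_le_iff, normalizer_eq_top_iff] at h1
  exact h1

/-- If the involution `t` normalizes the subgroup `L` of even order, then `t` commutes with an
involution of `L`. -/
theorem exists_involution_commute [Finite G] {L : Subgroup G} (hL : Even (Nat.card L)) {t : G}
    (ht : t * t = 1) (htL : t ∈ normalizer (L : Set G)) :
    ∃ s ∈ L, orderOf s = 2 ∧ t * s = s * t := by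
  classical
  have : Fintype G := Fintype.ofFinite G
  have : Fintype L := Fintype.ofFinite L
  have hti : t⁻¹ = t := inv_eq_of_mul_eq_one_right ht
  -- elements with square one
  let f : Function.End L := fun x => x⁻¹
  have hf : f ^ 2 ^ 1 = 1 := by
    rw [pow_one, pow_two]
    funext x
    show (x⁻¹)⁻¹ = x
    simp
  have h1 := Equiv.Perm.card_fixedPoints_modEq (p := 2) (n := 1) hf
  let β := Function.fixedPoints f
  have hconj : ∀ x : L, t * x * t⁻¹ ∈ L := fun x => (mem_normalizer_iff.mp htL x).mp x.2
  let g : Function.End β := fun x => ⟨⟨t * x.1 * t⁻¹, hconj x.1⟩, by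
    have hx : (x.1)⁻¹ = x.1 := x.2
    show (⟨t * x.1 * t⁻¹, hconj x.1⟩ : L)⁻¹ = _
    apply Subtype.ext
    have hx' : ((x.1 : L) : G)⁻¹ = x.1 := congrArg Subtype.val hx
    show (t * x.1 * t⁻¹)⁻¹ = t * x.1 * t⁻¹
    rw [mul_inv_rev, mul_inv_rev, hx', inv_inv, mul_assoc]⟩
  have hg : g ^ 2 ^ 1 = 1 := by
    rw [pow_one, pow_two]
    funext x
    apply Subtype.ext
    apply Subtype.ext
    show t * (t * x.1 * t⁻¹) * t⁻¹ = x.1
    have : t * (t * x.1 * t⁻¹) * t⁻¹ = (t * t) * x.1 * (t * t)⁻¹ := by group
    rw [this, ht]; simp
  have h2 := Equiv.Perm.card_fixedPoints_modEq (p := 2) (n := 1) hg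
  have h3 : Even (Fintype.card (Function.fixedPoints g)) := by
    rw [Nat.even_iff]
    have h4 : Fintype.card (Function.fixedPoints g) % 2 = Fintype.card L % 2 := by
      rw [← h2]
      exact h1.symm
    rw [h4, ← Nat.even_iff, ← Nat.card_eq_fintype_card]
    exact hL
  -- a nontrivial fixed point
  have h5 : ∃ x : Function.fixedPoints g, (x.1.1 : G) ≠ 1 := by
    by_contra hcon
    push Not at hcon
    have h6 : Fintype.card (Function.fixedPoints g) = 1 := by
      rw [Fintype.card_eq_one_iff]
      refine ⟨⟨⟨1, ?_⟩, ?_⟩, ?_⟩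
      · show (1 : L)⁻¹ = 1
        simp
      · apply Subtype.ext
        apply Subtype.ext
        show t * ((1 : L) : G) * t⁻¹ = ((1 : L) : G)
        simp
      · intro y
        apply Subtype.ext
        apply Subtype.ext
        apply Subtype.ext
        exact hcon y
    rw [h6] at h3
    exact absurd h3 (by decide)
  obtain ⟨x, hx⟩ := h5
  refine ⟨x.1.1, x.1.1.2, ?_, ?_⟩
  · refine orderOf_eq_prime ?_ hx
    have hx' : (x.1.1)⁻¹ = x.1.1 := x.1.2
    have hx'' : ((x.1.1 : L) : G)⁻¹ = x.1.1 := congrArg Subtype.val hx'
    rw [pow_two]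
    nth_rewrite 1 [← hx'']
    simp
  · have hx' : g x.1 = x.1 := x.2
    have h6 : t * (x.1.1 : G) * t⁻¹ = x.1.1 := congrArg (fun z => ((z.1 : L) : G)) hx'
    nth_rewrite 2 [← h6]
    group

end Cfsg.Agent.SignalizersComponents.StandardTools
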