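import Mathlib
import Cfsg.Prelude.Def_Local
import Cfsg.Agent.Lib.Cores
import Cfsg.Agent.SignalizersComponents.ComponentNormalize

set_option autoImplicit false
open Cfsg

namespace Cfsg.Agent.SignalizersComponents.FStarNormal

open Cfsg.Agent.SignalizersComponents.ComponentNormalize Cfsg.Agent.Lib.Cores

variable {G : Type*} [Group G]

theorem le_fitting {N : Subgroup G} (hN : N.Normal) (hn : Group.IsNilpotent N) :
    N ≤ fittingSubgroup G := le_sSup ⟨hN, hn⟩

/-- Homomorphic images of nilpotent subgroups are nilpotent. -/
theorem isNilpotent_map {H : Type*} [Group H] (f : G →* H) (N : Subgroup G)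
    (hn : Group.IsNilpotent N) : Group.IsNilpotent (N.map f) := by
  have := hn
  exact Group.nilpotent_of_surjective (f.subgroupMap N) (f.subgroupMap_surjective N)

/-- `F(N) ≤ F(G)` for `N` normal in the finite group `G`. -/
theorem fitting_map_le_of_normal [Finite G] {N : Subgroup G} (hN : N.Normal) :
    (fittingSubgroup N).map N.subtype ≤ fittingSubgroup G := by
  have := hN
  have := fittingSubgroup_characteristic (G := N)
  exact le_fitting inferInstance (isNilpotent_map _ _ fittingSubgroup_isNilpotent)

/-- `F(H) ≤ F(G)` for `H` subnormal in the finite group `G`. -/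
theorem fitting_map_le_of_subnormal [Finite G] {H : Subgroup G} (hH : H.IsSubnormal) :
    (fittingSubgroup H).map H.subtype ≤ fittingSubgroup G := by
  induction hH with
  | top => exact fitting_map_le_of_normal inferInstance
  | step H K h_le hSubn hN ih =>
    have h1 := fitting_map_le_of_normal hN
    have h2 := Subgroup.map_mono (f := K.subtype) h1
    refine le_trans ?_ (h2.trans ih)
    rw [← map_equiv_fittingSubgroup (Subgroup.subgroupOfEquivOfLe h_le), Subgroup.map_map,
      Subgroup.map_map]
    apply le_of_eq
    rfl

/-- A subnormal nilpotent subgroup of a finite group lies in the Fitting subgroup. -/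
theorem le_fitting_of_subnormal [Finite G] {H : Subgroup G} (hH : H.IsSubnormal)
    (hn : Group.IsNilpotent H) : H ≤ fittingSubgroup G := by
  have h1 := fitting_map_le_of_subnormal hH
  have h2 : fittingSubgroup H = ⊤ := by
    rw [eq_top_iff]
    refine le_fitting inferInstance ?_
    exact (Group.isNilpotent_congr Subgroup.topEquiv).2 hn
  rw [h2, ← MonoidHom.range_eq_map, Subgroup.range_subtype] at h1
  exact h1

/-- `F(H) = F(G) ∩ H` for `H` subnormal in the finite group `G`. -/
theorem fitting_map_of_subnormal [Finite G] {H : Subgroup G} (hH : H.IsSubnormal) :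
    (fittingSubgroup H).map H.subtype = fittingSubgroup G ⊓ H := by
  refine le_antisymm (le_inf (fitting_map_le_of_subnormal hH) (Subgroup.map_subtype_le _)) ?_
  have : (fittingSubgroup G).Normal :=
    have := fittingSubgroup_characteristic (G := G); inferInstance
  have h1 : (fittingSubgroup G).subgroupOf H ≤ fittingSubgroup H := by
    refine le_fitting inferInstance ?_
    have : Group.IsNilpotent (fittingSubgroup G) := fittingSubgroup_isNilpotent
    have hinj : Function.Injective
        ((H.subtype.comp ((fittingSubgroup G).subgroupOf H).subtype).codRestrict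
          (fittingSubgroup G) (fun x => x.2)) := by
      intro a b hab
      have := congrArg Subtype.val hab
      exact Subtype.ext (Subtype.ext this)
    exact Subgroup.isNilpotent_of_ker_le_center _ (by
      rw [(MonoidHom.ker_eq_bot_iff _).2 hinj]; exact bot_le)
  have h2 := Subgroup.map_mono (f := H.subtype) h1
  rwa [Subgroup.subgroupOf_map_subtype] at h2

/-- A component commutes with the Fitting subgroup. -/
theorem component_comm_fitting [Finite G] {K : Subgroup G} (hK : IsComponent K) :
    ⁅K, fittingSubgroup G⁆ = ⊥ := by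
  have h1 : Group.IsNilpotent (fittingSubgroup G) := fittingSubgroup_isNilpotent
  refine Cfsg.Agent.Lib.ComponentSolvable.commutator_component_solvable_eq_bot hK inferInstance ?_
  rw [Subgroup.normalizer_eq_top]
  exact le_top

/-- `E(H) ≤ E(G)` for `H` subnormal in `G`. -/
theorem layer_map_le_of_subnormal {H : Subgroup G} (hH : H.IsSubnormal) :
    (layer H).map H.subtype ≤ layer G := by
  change (sSup _ : Subgroup H).map _ ≤ _
  rw [sSup_eq_iSup', Subgroup.map_iSup]
  refine iSup_le ?_
  rintro ⟨K, hK⟩
  exact le_sSup (component_map_subtype hH hK)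

/-- A component contained in a subgroup `H` lies in the layer of `H`. -/
theorem component_le_layer_map {H K : Subgroup G} (hK : IsComponent K) (h : K ≤ H) :
    K ≤ (layer H).map H.subtype := by
  have h1 : K.subgroupOf H ≤ layer H := le_sSup (component_subgroupOf hK h)
  have h2 := Subgroup.map_mono (f := H.subtype) h1
  rwa [Subgroup.map_subgroupOf_eq_of_le h] at h2

/-- `F*(H) ≤ F*(G)` for `H` subnormal in the finite group `G`. -/
theorem genFitting_map_le_of_subnormal [Finite G] {H : Subgroup G} (hH : H.IsSubnormal) :
    (generalizedFittingSubgroup H).map H.subtype ≤ generalizedFittingSubgroup G := by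
  change (layer H ⊔ fittingSubgroup H).map _ ≤ layer G ⊔ fittingSubgroup G
  rw [Subgroup.map_sup]
  exact sup_le_sup (layer_map_le_of_subnormal hH) (fitting_map_le_of_subnormal hH)

open scoped IsMulCommutative in
/-- For `S` subnormal in the finite group `G` with `S ≤ F*(G)`, one has `S = F(S)E(S)`. -/
theorem fitting_sup_layer_eq_top [Finite G] {S : Subgroup G} (hS : S.IsSubnormal)
    (hle : S ≤ generalizedFittingSubgroup G) : fittingSubgroup S ⊔ layer S = ⊤ := by
  -- E₁: the components inside S; E₂ the components commuting with S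
  set E₁ : Subgroup G := sSup {K | IsComponent K ∧ K ≤ S} with hE₁
  set E₂ : Subgroup G := sSup {K | IsComponent K ∧ ⁅K, S⁆ = ⊥} with hE₂
  have hF : (fittingSubgroup G).Normal :=
    have := fittingSubgroup_characteristic (G := G); inferInstance
  have hE : (layer G).Normal := layer_normal
  have hlay : layer G ≤ E₁ ⊔ E₂ := by
    refine sSup_le ?_
    intro K hK
    rcases component_le_or_comm hK hS with h | h
    · exact (le_sSup (show K ∈ {K | IsComponent K ∧ K ≤ S} from ⟨hK, h⟩)).trans le_sup_left
    · exact (le_sSup (show K ∈ {K | IsComponent K ∧ ⁅K, S⁆ = ⊥} from ⟨hK, h⟩)).trans le_sup_right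
  have hE₁S : E₁ ≤ S := sSup_le fun K hK => hK.2
  have hE₁l : E₁ ≤ layer G := sSup_le fun K hK => le_sSup hK.1
  have hE₂l : E₂ ≤ layer G := sSup_le fun K hK => le_sSup hK.1
  have hE₂S : E₂ ≤ Subgroup.centralizer (S : Set G) := by
    refine sSup_le fun K hK => ?_
    exact Subgroup.commutator_eq_bot_iff_le_centralizer.1 hK.2
  have hlayF : layer G ≤ Subgroup.centralizer (fittingSubgroup G : Set G) := by
    refine sSup_le fun K hK => ?_
    exact Subgroup.commutator_eq_bot_iff_le_centralizer.1 (component_comm_fitting hK)
  -- the centre of the layer lies in F(G)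
  have hZ : ∀ z ∈ layer G, (∀ y ∈ layer G, y * z = z * y) → z ∈ fittingSubgroup G := by
    intro z hz hzc
    have h1 : ((Subgroup.center (layer G)).map (layer G).subtype) ≤ fittingSubgroup G := by
      refine le_fitting inferInstance ?_
      refine isNilpotent_map _ _ ?_
      infer_instance
    refine h1 ⟨⟨z, hz⟩, ?_, rfl⟩
    rw [SetLike.mem_coe, Subgroup.mem_center_iff]
    rintro ⟨y, hy⟩
    exact Subtype.ext (hzc y hy)
  -- the key claim
  have key : S ≤ (fittingSubgroup G ⊓ S) ⊔ E₁ := by
    intro s hs
    have h1 : s ∈ E₁ ⊔ (E₂ ⊔ fittingSubgroup G) := by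
      rw [← sup_assoc]
      exact (sup_le_sup_right hlay _) (hle hs)
    -- E₂ ⊔ F centralizes ... we use E₁ normalized by everything
    have hE₁E₂ : E₂ ≤ Subgroup.centralizer (E₁ : Set G) :=
      hE₂S.trans (Subgroup.centralizer_le hE₁S)
    have hFE₁ : fittingSubgroup G ≤ Subgroup.centralizer (E₁ : Set G) := by
      rw [Subgroup.le_centralizer_iff]
      exact hE₁l.trans hlayF
    have hcen : E₂ ⊔ fittingSubgroup G ≤ Subgroup.centralizer (E₁ : Set G) := sup_le hE₁E₂ hFE₁
    have hnor : E₁ ≤ Subgroup.normalizer ((E₂ ⊔ fittingSubgroup G : Subgroup G) : Set G) := by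
      refine le_trans ?_ (Subgroup.centralizer_le_normalizer _)
      rw [Subgroup.le_centralizer_iff]
      exact hcen
    have h2 : s ∈ ((E₁ ⊔ (E₂ ⊔ fittingSubgroup G) : Subgroup G) : Set G) := h1
    rw [Subgroup.coe_mul_of_left_le_normalizer_right _ _ hnor] at h2
    obtain ⟨a, ha, t, ht, rfl⟩ := h2
    have htS : t ∈ S := by
      have h3 := S.mul_mem (S.inv_mem (hE₁S ha)) hs
      simpa using h3
    obtain ⟨e, he, f, hf, hef⟩ := Subgroup.mem_sup_of_normal_right.1 ht
    have hecom : ∀ y ∈ layer G, y * e = e * y := by
      have h4 : layer G ≤ Subgroup.centralizer ({e} : Set G) := by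
        refine hlay.trans (sup_le ?_ ?_)
        · intro y hy
          rw [Subgroup.mem_centralizer_singleton_iff]
          exact (Subgroup.mem_centralizer_iff.1 (hE₁E₂ he) y hy)
        · intro y hy
          rw [Subgroup.mem_centralizer_singleton_iff]
          have h5 : t * y = y * t := Subgroup.mem_centralizer_iff.1 (hE₂S hy) t htS
          have h6 : f * y = y * f := Subgroup.mem_centralizer_iff.1 (hlayF (hE₂l hy)) f hf
          have h7 : e = t * f⁻¹ := by rw [← hef]; group
          have h8 : f⁻¹ * y = y * f⁻¹ := by
            rw [inv_mul_eq_iff_eq_mul, ← mul_assoc, h6, mul_assoc, mul_inv_cancel, mul_one]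
          rw [h7, ← mul_assoc, ← h5, mul_assoc, ← h8, mul_assoc]
      intro y hy
      exact (Subgroup.mem_centralizer_singleton_iff.1 (h4 hy))
    have heF : e ∈ fittingSubgroup G := hZ e (hE₂l he) hecom
    have htF : t ∈ fittingSubgroup G := by
      rw [← hef]; exact mul_mem heF hf
    exact mul_mem ((le_sup_right : E₁ ≤ _) ha)
      ((le_sup_left : fittingSubgroup G ⊓ S ≤ _) ⟨htF, htS⟩)
  -- conclusion
  have h9 : E₁ ≤ (layer S).map S.subtype := sSup_le fun K hK => component_le_layer_map hK.1 hK.2
  rw [← Subgroup.map_subtype_inj, Subgroup.map_sup, ← MonoidHom.range_eq_map,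
    Subgroup.range_subtype, fitting_map_of_subnormal hS]
  refine le_antisymm (sup_le inf_le_right (Subgroup.map_subtype_le _)) ?_
  exact key.trans (sup_le_sup_left h9 _)

/-- `F*(G)` is normal (any group). -/
theorem genFitting_normal : (generalizedFittingSubgroup G).Normal := by
  have h1 : (layer G).Normal := layer_normal
  have h2 : (fittingSubgroup G).Normal := fittingSubgroup_normal
  change (layer G ⊔ fittingSubgroup G).Normal
  infer_instance

/-- `F*(G) ∩ B = F*(B)` for `B` normal in the finite group `G`. -/
theorem genFitting_inf_normal [Finite G] {B : Subgroup G} (hB : B.Normal) :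
    generalizedFittingSubgroup G ⊓ B = (generalizedFittingSubgroup B).map B.subtype := by
  refine le_antisymm ?_
    (le_inf (genFitting_map_le_of_subnormal hB.isSubnormal) (Subgroup.map_subtype_le _))
  have hFs : (generalizedFittingSubgroup G).Normal := genFitting_normal
  set N : Subgroup G := generalizedFittingSubgroup G ⊓ B with hN
  have hNn : N.Normal := inferInstance
  have h1 := fitting_sup_layer_eq_top hNn.isSubnormal (inf_le_left : N ≤ _)
  have h2 : N = (fittingSubgroup N).map N.subtype ⊔ (layer N).map N.subtype := by
    rw [← Subgroup.map_sup, h1, ← MonoidHom.range_eq_map, Subgroup.range_subtype]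
  rw [h2]
  change _ ≤ (layer B ⊔ fittingSubgroup B).map B.subtype
  rw [Subgroup.map_sup, sup_comm]
  refine sup_le_sup ?_ ?_
  · change (sSup _ : Subgroup N).map _ ≤ _
    rw [sSup_eq_iSup', Subgroup.map_iSup]
    refine iSup_le ?_
    rintro ⟨K, hK⟩
    exact component_le_layer_map (component_map_subtype hNn.isSubnormal hK)
      ((Subgroup.map_subtype_le _).trans inf_le_right)
  · rw [fitting_map_of_subnormal hNn.isSubnormal, fitting_map_of_subnormal hB.isSubnormal]
    exact inf_le_inf_left _ inf_le_right

/-- A subnormal subgroup that is its own layer is a normal subgroup of the layer. -/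
theorem subnormal_layer_normal [Finite G] {A : Subgroup G} (hsn : A.IsSubnormal)
    (hA : layer A = ⊤) : A ≤ layer G ∧ (A.subgroupOf (layer G)).Normal := by
  have h1 : A = (layer A).map A.subtype := by
    rw [hA, ← MonoidHom.range_eq_map, Subgroup.range_subtype]
  have hle : A ≤ layer G := by
    rw [h1]; exact layer_map_le_of_subnormal hsn
  refine ⟨hle, ?_⟩
  rw [Subgroup.normal_subgroupOf_iff_le_normalizer hle]
  refine sSup_le fun K hK => ?_
  rcases component_le_or_comm hK hsn with h | h
  · exact h.trans Subgroup.le_normalizer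
  · exact (Subgroup.commutator_eq_bot_iff_le_centralizer.1 h).trans
      (Subgroup.centralizer_le_normalizer _)

end Cfsg.Agent.SignalizersComponents.FStarNormal
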