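import Mathlib
import Cfsg.Prelude.Def_Balance
import Cfsg.Agent.S1270
import Cfsg.Agent.Lib.Cores
import Cfsg.Agent.SignalizersComponents.Components

/-!
# The automizer of a component has trivial `p'`-core, when `O_{p'}(G) = 1`

* `pPrimeCore_quotient_centralizer_eq_bot`: for `L` a component of the finite group `G` with
  `O_{p'}(G) = 1` and `L ≤ H ≤ N_G(L)`, `O_{p'}(H / C_H(L)) = 1`.
-/

set_option autoImplicit false

namespace Cfsg.Agent.SignalizersComponents.BalanceCore

open Cfsg Subgroup
open scoped commutatorElement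
open Cfsg.Agent.SignalizersComponents.Components

variable {G : Type*} [Group G]

/-- An element normalizing `L` normalizes `C_G(L)`. -/
theorem normalizer_le_normalizer_centralizer (L : Subgroup G) :
    normalizer (L : Set G) ≤ normalizer ((centralizer (L : Set G) : Subgroup G) : Set G) := by
  have key : ∀ g ∈ normalizer (L : Set G), ∀ c ∈ centralizer (L : Set G),
      g * c * g⁻¹ ∈ centralizer (L : Set G) := by
    intro g hg c hc
    rw [mem_centralizer_iff] at hc ⊢
    intro l hl
    have h1 : g⁻¹ * l * g ∈ L := by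
      have := (mem_normalizer_iff.mp (inv_mem hg) l).mp hl
      rwa [inv_inv] at this
    have h2 := hc _ h1
    calc l * (g * c * g⁻¹) = g * ((g⁻¹ * l * g) * c) * g⁻¹ := by group
      _ = g * (c * (g⁻¹ * l * g)) * g⁻¹ := by rw [h2]
      _ = g * c * g⁻¹ * l := by group
  intro g hg
  rw [mem_normalizer_iff]
  intro c
  refine ⟨key g hg c, fun h => ?_⟩
  have := key g⁻¹ (inv_mem hg) _ h
  have h3 : g⁻¹ * (g * c * g⁻¹) * g⁻¹⁻¹ = c := by group
  rwa [h3] at this

/-- `C_H(L)` is normal in `H` if `H` normalizes `L`. -/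
theorem centralizer_subgroupOf_normal {L H : Subgroup G} (h : H ≤ normalizer (L : Set G)) :
    ((centralizer (L : Set G)).subgroupOf H).Normal :=
  normal_subgroupOf_of_le_normalizer (h.trans (normalizer_le_normalizer_centralizer L))

/-- If `O_{p'}(G) = 1`, `L` is a component of `G` and `L ⊲ H`, then `O_{p'}(H / C_H(L)) = 1`. -/
theorem pPrimeCore_quotient_centralizer_eq_bot [Finite G] (p : ℕ) [Fact p.Prime]
    (hO : pPrimeCore p G = ⊥) {L H : Subgroup G} (hL : IsComponent L) (hLH : L ≤ H)
    (hn : (L.subgroupOf H).Normal) [hC : ((centralizer (L : Set G)).subgroupOf H).Normal] :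
    pPrimeCore p (H ⧸ (centralizer (L : Set G)).subgroupOf H) = ⊥ := by
  have hperf := hL.2.1
  set C : Subgroup H := (centralizer (L : Set G)).subgroupOf H with hCdef
  set N : Subgroup (H ⧸ C) := pPrimeCore p (H ⧸ C) with hN
  have hNn : N.Normal := Lib.Cores.pPrimeCore_normal p
  have hNc : (Nat.card N).Coprime p := Lib.Cores.pPrimeCore_coprime p
  let φ : L →* H ⧸ C := (QuotientGroup.mk' C).comp (inclusion hLH)
  have hφ : ∀ l : L, φ l = 1 → l ∈ center L := by
    intro l hl
    have h1 : inclusion hLH l ∈ C := (QuotientGroup.eq_one_iff _).mp hl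
    have h2 : (l : G) ∈ centralizer (L : Set G) := h1
    rw [mem_center_iff]
    intro m
    exact Subtype.ext (mem_centralizer_iff.mp h2 m m.2)
  have hR : N.comap φ ≤ center L := by
    refine (quasisimple_normal hL.2 (N.comap φ) inferInstance).resolve_left ?_
    intro htop
    apply S1270.component_not_coprime hO hL
    refine S1270.coprime_of_pow_mem_center hperf hNc ?_
    intro l
    apply hφ
    have h1 : φ l ∈ N := by
      have : l ∈ N.comap φ := htop ▸ mem_top l
      exact this
    rw [map_pow]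
    have := pow_card_eq_one' (G := N) (x := ⟨φ l, h1⟩)
    exact congrArg Subtype.val this
  have hHn : H ≤ normalizer (L : Set G) := (normal_subgroupOf_iff_le_normalizer hLH).mp hn
  set X : Subgroup G := (N.comap (QuotientGroup.mk' C)).map H.subtype with hX
  have h1 : ⁅X, L⁆ ≤ (center L).map L.subtype := by
    rw [commutator_le]
    rintro _ ⟨h, hh, rfl⟩ l hl
    have h2 : (h : G) * l * (h : G)⁻¹ ∈ L := (mem_normalizer_iff.mp (hHn h.2) l).mp hl
    have h3 : (h : G) * l * (h : G)⁻¹ * l⁻¹ ∈ L := mul_mem h2 (inv_mem hl)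
    have h4 : (⟨(h : G) * l * (h : G)⁻¹ * l⁻¹, h3⟩ : L) ∈ N.comap φ := by
      rw [mem_comap]
      have h5 : φ ⟨(h : G) * l * (h : G)⁻¹ * l⁻¹, h3⟩ =
          (QuotientGroup.mk' C h) * (φ ⟨l, hl⟩ * (QuotientGroup.mk' C h)⁻¹ * (φ ⟨l, hl⟩)⁻¹) := by
        have h6 : inclusion hLH ⟨(h : G) * l * (h : G)⁻¹ * l⁻¹, h3⟩ =
            h * (inclusion hLH ⟨l, hl⟩ * h⁻¹ * (inclusion hLH ⟨l, hl⟩)⁻¹) := by
          apply Subtype.ext
          simp [mul_assoc]
        show QuotientGroup.mk' C (inclusion hLH _) = _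
        rw [h6]
        simp only [map_mul, map_inv]
        rfl
      rw [h5]
      exact mul_mem hh (hNn.conj_mem _ (inv_mem hh) _)
    exact ⟨_, hR h4, rfl⟩
  have h2 : ⁅⁅X, L⁆, L⁆ = ⊥ := by
    rw [commutator_eq_bot_iff_le_centralizer]
    intro y hy
    obtain ⟨z, hz, rfl⟩ := h1 hy
    rw [mem_centralizer_iff]
    intro k hk
    exact congrArg Subtype.val (mem_center_iff.mp hz ⟨k, hk⟩)
  have h3 : X ≤ centralizer (L : Set G) :=
    commutator_eq_bot_iff_le_centralizer.mp (commutator_eq_bot_of_commutator_commutator_eq_bot hperf h2)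
  rw [eq_bot_iff]
  intro n hn'
  obtain ⟨h, rfl⟩ := QuotientGroup.mk'_surjective C n
  rw [mem_bot]
  have h4 : (h : G) ∈ X := ⟨h, hn', rfl⟩
  exact (QuotientGroup.eq_one_iff h).mpr (h3 h4)

end Cfsg.Agent.SignalizersComponents.BalanceCore
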