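import Mathlib
import Cfsg.Prelude.Def_Local
import Cfsg.Prelude.Def_ClassificationK
import Cfsg.Prelude.Def_Involutions
import Cfsg.Agent.Lib.Cores
import Cfsg.Agent.Lib.GenFitting
import Cfsg.Agent.Lib.KleinGen
import Cfsg.Agent.S0542
import Cfsg.Agent.SignalizersComponents.Components
import Cfsg.Agent.SignalizersComponents.CompBasic
import Cfsg.Agent.SignalizersComponents.CompOrbit
import Cfsg.Agent.SignalizersComponents.BalanceCore
import Cfsg.Agent.SignalizersComponents.FStarNormal
import Cfsg.Agent.TwoGenCore.Basic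
import Cfsg.Agent.TwoGenCore.Involution

/-!
# Completed balance functors: reduction to simple groups with a proper 2-generated core

`Setup S W` : the odd order subgroup `W` meets `C_G(x)` in `O(C_G(x))` for every involution `x` of the
Sylow 2-subgroup `S`, and is normalized by the normalizers of the subgroups of `S` of 2-rank at
least 2.  If `O(G) = 1` and `W ≠ 1`, then `F*(G) = L` is a nonabelian simple group.
-/

set_option autoImplicit false

namespace Cfsg.Agent.SignalizersComponents.BalRed

open Cfsg Subgroup
open Cfsg.Agent.TwoGenCore (Four fourSub)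
open Cfsg.Agent.SignalizersComponents

variable {G : Type*} [Group G]

/-- `W` completes the functor `x ↦ O(C_G(x))` over the involutions of `S`. -/
structure Setup (S : Sylow 2 G) (W : Subgroup G) : Prop where
  odd : Odd (Nat.card W)
  fix : ∀ x ∈ (S : Subgroup G), orderOf x = 2 → W ⊓ centralizer {x} = centralizerPPrimeCore 2 x
  norm : ∀ X : Subgroup G, X ≤ (S : Subgroup G) → ¬ PRankLE 2 1 X →
    normalizer (X : Set G) ≤ normalizer (W : Set G)
  rank : ¬ PRankLE 2 1 (S : Subgroup G)

/-! ### general lemmas -/

theorem le_centralizer_of_inf_eq_bot {A B : Subgroup G} (hA : A ≤ normalizer (B : Set G))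
    (hB : B ≤ normalizer (A : Set G)) (h : A ⊓ B = ⊥) : A ≤ centralizer (B : Set G) := by
  rw [← commutator_eq_bot_iff_le_centralizer, eq_bot_iff, ← h, commutator_le]
  intro a ha b hb
  rw [commutatorElement_def]
  refine ⟨?_, ?_⟩
  · have h1 : b * a⁻¹ * b⁻¹ ∈ A := (mem_normalizer_iff.mp (hB hb) _).mp (A.inv_mem ha)
    have := A.mul_mem ha h1
    simpa [mul_assoc] using this
  · have h1 : a * b * a⁻¹ ∈ B := (mem_normalizer_iff.mp (hA ha) _).mp hb
    exact B.mul_mem h1 (B.inv_mem hb)

theorem inf_eq_bot_of_odd [Finite G] {A B : Subgroup G} (hA : Odd (Nat.card A))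
    (hB : IsPGroup 2 B) : A ⊓ B = ⊥ := by
  obtain ⟨n, hn⟩ := IsPGroup.iff_card.mp hB
  refine (disjoint_of_coprime_natCard ?_).eq_bot
  rw [hn]
  exact Nat.Coprime.pow_right n (Nat.coprime_two_right.mpr hA)

theorem orderOf_eq_two {x : G} (h1 : x ≠ 1) (h2 : x * x = 1) : orderOf x = 2 :=
  orderOf_eq_prime (by rw [pow_two]; exact h2) h1

/-- A Sylow 2-subgroup of a group with two commuting involutions has two commuting involutions. -/
theorem four_sylow [Finite G] (h : Four (⊤ : Subgroup G)) (Q : Sylow 2 G) :
    Four (Q : Subgroup G) := by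
  obtain ⟨x, -, y, -, h1, h2, h3, h4, h5, h6⟩ := h
  have hV : IsPGroup 2 (fourSub x y h4 h5 h6) := by
    rintro ⟨a, ha⟩
    refine ⟨1, Subtype.ext ?_⟩
    show a ^ (2 ^ 1) = 1
    rw [pow_one, pow_two]
    rcases ha with rfl | rfl | rfl | rfl
    · simp
    · exact h4
    · exact h5
    · calc x * y * (x * y) = x * y * (y * x) := by rw [h6]
        _ = x * (y * y) * x := by group
        _ = 1 := by rw [h5, mul_one, h4]
  obtain ⟨P, hP⟩ := hV.exists_le_sylow
  have hFP : Four (P : Subgroup G) :=
    ⟨x, hP (Or.inr (Or.inl rfl)), y, hP (Or.inr (Or.inr (Or.inl rfl))), h1, h2, h3, h4, h5, h6⟩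
  obtain ⟨g, hg⟩ := MulAction.exists_smul_eq G P Q
  have := hFP.conj g
  rw [← hg]
  exact this

/-- `O(C_G(x))` centralizes every component of `G` which commutes with `x`, if `O(G) = 1`. -/
theorem core_le_centralizer_component [Finite G] (hO : pPrimeCore 2 G = ⊥) {K : Subgroup G}
    (hK : IsComponent K) {x : G} (hx : K ≤ centralizer {x}) :
    centralizerPPrimeCore 2 x ≤ centralizer (K : Set G) := by
  have hK' := Components.isComponent_subgroupOf hx hK
  have hR : (pPrimeCore 2 ↥(centralizer ({x} : Set G))).Normal := Lib.Cores.pPrimeCore_normal 2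
  rcases Components.component_le_or_commutator_eq_bot hK' hR.isSubnormal with h | h
  · exfalso
    have hc : (Nat.card K).Coprime 2 := by
      have h1 := Lib.Cores.pPrimeCore_coprime (G := ↥(centralizer ({x} : Set G))) 2
      have h2 := card_dvd_of_le h
      have h3 : Nat.card (K.subgroupOf (centralizer ({x} : Set G))) = Nat.card K :=
        Nat.card_congr (subgroupOfEquivOfLe hx).toEquiv
      rw [h3] at h2
      exact h1.coprime_dvd_left h2
    have h4 := CompBasic.subnormal_coprime_le_pPrimeCore hK.1 hc
    rw [hO, le_bot_iff] at h4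
    exact Components.component_ne_bot hK h4
  · have h1 := congrArg (Subgroup.map (centralizer ({x} : Set G)).subtype) h
    rw [map_commutator, Subgroup.map_bot, subgroupOf_map_subtype, inf_eq_left.2 hx] at h1
    rw [← commutator_eq_bot_iff_le_centralizer, commutator_comm]
    exact h1

/-- An odd order subgroup centralizing the components and `O_2(G)` is trivial if `O(G) = 1`. -/
theorem eq_bot_of_centralizes [Finite G] (hO : pPrimeCore 2 G = ⊥) {W : Subgroup G}
    (hodd : Odd (Nat.card W)) (h1 : ∀ K : Subgroup G, IsComponent K → W ≤ centralizer (K : Set G))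
    (h2 : W ≤ centralizer (pCore 2 G : Set G)) : W = ⊥ := by
  have hl : W ≤ centralizer (layer G : Set G) := by
    rw [le_centralizer_iff, Components.layer_le_iff]
    intro K hK
    rw [le_centralizer_iff]
    exact h1 K hK
  have hF : W ≤ centralizer (fittingSubgroup G : Set G) := by
    rw [le_centralizer_iff] at h2 ⊢
    exact (CompOrbit.fittingSubgroup_le_pCore hO).trans h2
  have hFs : W ≤ centralizer (generalizedFittingSubgroup G : Set G) := by
    rw [le_centralizer_iff] at hl hF ⊢
    exact sup_le hl hF
  have h3 : W ≤ generalizedFittingSubgroup G ⊓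
      centralizer (generalizedFittingSubgroup G : Set G) :=
    le_inf (hFs.trans Lib.GenFitting.centralizer_genFitting_le) hFs
  have h4 := h3.trans
    (CompOrbit.inf_centralizer_self_le_pCore hO Lib.GenFitting.genFitting_normal)
  have h5 := inf_eq_bot_of_odd hodd (Lib.Cores.pCore_isPGroup (G := G) 2)
  rwa [inf_eq_left.2 h4] at h5

section

variable {S : Sylow 2 G} {W : Subgroup G}

theorem Setup.le_normalizer (h : Setup S W) : (S : Subgroup G) ≤ normalizer (W : Set G) :=
  Subgroup.le_normalizer.trans (h.norm _ le_rfl h.rank)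

/-- Generation of `W` by the fixed points of two commuting involutions of `S` and their
product. -/
theorem Setup.le_of_four [Finite G] (h : Setup S W) {x y : G} (hx : x ∈ (S : Subgroup G))
    (hy : y ∈ (S : Subgroup G)) (hx2 : x * x = 1) (hy2 : y * y = 1) (hxy : x * y = y * x)
    {M : Subgroup G} (h1 : W ⊓ centralizer {x} ≤ M) (h2 : W ⊓ centralizer {y} ≤ M)
    (h3 : W ⊓ centralizer {x * y} ≤ M) : W ≤ M :=
  Lib.KleinGen.le_of_klein W M h.odd x y hx2 hy2 hxy
    (fun w hw => (mem_normalizer_iff.mp (h.le_normalizer hx) w).mp hw)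
    (fun w hw => (mem_normalizer_iff.mp (h.le_normalizer hy) w).mp hw) h1 h2 h3

/-- Step 1: `O_2(G) = 1`. -/
theorem Setup.pCore_eq_bot [Finite G] (h : Setup S W) (hO : pPrimeCore 2 G = ⊥) (hW : W ≠ ⊥) :
    pCore 2 G = ⊥ := by
  by_contra hne
  apply hW
  have hp := Lib.Cores.pCore_isPGroup (G := G) 2
  have hcent : W ≤ centralizer (pCore 2 G : Set G) := by
    refine le_centralizer_of_inf_eq_bot ?_ ?_ (inf_eq_bot_of_odd h.odd hp)
    · rw [normalizer_eq_top_iff.mpr (Lib.Cores.pCore_normal 2)]
      exact le_top
    · exact (Lib.Cores.pCore_le_sylow S).trans h.le_normalizer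
  -- a central involution of `O_2(G)`
  have : Nontrivial (pCore 2 G) := (nontrivial_iff_ne_bot _).mpr hne
  have : Nontrivial (center (pCore 2 G)) := hp.center_nontrivial
  have hcp : IsPGroup 2 (center (pCore 2 G)) := hp.to_subgroup _
  obtain ⟨n, hn, hcard⟩ := hcp.nontrivial_iff_card.mp this
  have hdvd : 2 ∣ Nat.card (center (pCore 2 G)) := by
    rw [hcard]; exact dvd_pow_self 2 (by omega)
  obtain ⟨z, hz⟩ := exists_prime_orderOf_dvd_card' 2 hdvd
  set t : G := ((z : pCore 2 G) : G) with ht
  have ht2 : orderOf t = 2 := by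
    rw [ht, Subgroup.orderOf_coe, Subgroup.orderOf_coe]; exact hz
  have htc : pCore 2 G ≤ centralizer {t} := by
    intro x hx
    rw [mem_centralizer_singleton_iff]
    have := mem_center_iff.mp z.2 ⟨x, hx⟩
    exact congrArg Subtype.val this
  have htO : t ∈ pCore 2 G := (z : pCore 2 G).2
  have htS : t ∈ (S : Subgroup G) := Lib.Cores.pCore_le_sylow S htO
  have hWt : W = centralizerPPrimeCore 2 t := by
    rw [← h.fix t htS ht2]
    refine (inf_eq_left.2 ?_).symm
    intro w hw
    rw [mem_centralizer_singleton_iff]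
    exact ((mem_centralizer_iff.mp (hcent hw)) t htO).symm
  refine eq_bot_of_centralizes hO h.odd ?_ hcent
  intro K hK
  rw [hWt]
  refine core_le_centralizer_component hO hK ?_
  -- components centralize `O_2(G)`
  have hs : ⁅K, pCore 2 G⁆ = ⊥ := by
    refine Components.component_commutator_solvable hK ?_ ?_
    · rw [normalizer_eq_top_iff.mpr (Lib.Cores.pCore_normal 2)]
      exact le_top
    · have := hp.isNilpotent
      infer_instance
  intro k hk
  rw [mem_centralizer_singleton_iff]
  have := (mem_centralizer_iff.mp (commutator_eq_bot_iff_le_centralizer.mp hs hk)) t htO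
  exact this.symm

/-- Step 2a: if `K` is a component of 2-rank at least 2, `W` centralizes the other components. -/
theorem Setup.le_centralizer_of_ne [Finite G] (h : Setup S W) (hO : pPrimeCore 2 G = ⊥)
    {K L : Subgroup G} (hK : IsComponent K) (hr : ¬ PRankLE 2 1 K) (hL : IsComponent L)
    (hne : L ≠ K) : W ≤ centralizer (L : Set G) := by
  obtain ⟨Q, hQ⟩ := Cfsg.Agent.S0542.result 2 K hK.1 S
  have hF : Four (⊤ : Subgroup K) := by
    rw [← Cfsg.Agent.TwoGenCore.not_pRankLE_one_iff]
    intro h1
    apply hr
    exact Cfsg.Agent.TwoGenCore.Involution.pRankLE_of_injective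
      (topEquiv (G := K)).symm.toMonoidHom (topEquiv (G := K)).symm.injective h1
  obtain ⟨x, hx, y, hy, h1, h2, h3, h4, h5, h6⟩ := four_sylow hF Q
  rw [hQ, mem_subgroupOf] at hx hy
  have hxK : (x : G) ∈ K := x.2
  have hyK : (y : G) ∈ K := y.2
  have h1' : (x : G) ≠ 1 := fun e => h1 (Subtype.ext e)
  have h2' : (y : G) ≠ 1 := fun e => h2 (Subtype.ext e)
  have h4' : (x : G) * x = 1 := congrArg Subtype.val h4
  have h5' : (y : G) * y = 1 := congrArg Subtype.val h5
  have h6' : (x : G) * y = y * x := congrArg Subtype.val h6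
  have h3' : (x : G) * y ≠ 1 := by
    intro e
    apply h3
    apply Subtype.ext
    have : (x : G) * y = x * x := by rw [e, h4']
    exact (mul_left_cancel this).symm
  have h7 : ((x : G) * y) * (x * y) = 1 := by
    calc (x : G) * y * (x * y) = x * y * (y * x) := by rw [h6']
      _ = x * (y * y) * x := by group
      _ = 1 := by rw [h5', mul_one, h4']
  have key : ∀ z ∈ K, z ∈ (S : Subgroup G) → z ≠ 1 → z * z = 1 →
      W ⊓ centralizer {z} ≤ centralizer (L : Set G) := by
    intro z hzK hzS hz1 hz2
    rw [h.fix z hzS (orderOf_eq_two hz1 hz2)]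
    refine core_le_centralizer_component hO hL ?_
    intro l hl
    rw [mem_centralizer_singleton_iff]
    exact (mem_centralizer_iff.mp (Components.component_le_centralizer_of_ne hL hK hne hl)
      z hzK).symm
  exact h.le_of_four hx hy h4' h5' h6' (key x hxK hx h1' h4') (key y hyK hy h2' h5')
    (key _ (K.mul_mem hxK hyK) ((S : Subgroup G).mul_mem hx hy) h3' h7)

/-- Step 2: `F*(G)` is simple. The hypothesis `hBS` (Brauer–Suzuki and transfer) says that components
have 2-rank at least 2. -/
theorem Setup.exists_simple [Finite G] (h : Setup S W) (hO : pPrimeCore 2 G = ⊥) (hW : W ≠ ⊥)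
    (hBS : ∀ K : Subgroup G, IsComponent K → center K = ⊥ → Even (Nat.card K) →
      ¬ PRankLE 2 1 K) :
    ∃ L : Subgroup G, L.Normal ∧ IsSimpleGroup L ∧ ¬ IsMulCommutative L ∧ Even (Nat.card L) ∧
      ¬ PRankLE 2 1 L ∧ centralizer (L : Set G) = ⊥ := by
  have hp := h.pCore_eq_bot hO hW
  have hF : fittingSubgroup G = ⊥ := by
    rw [eq_bot_iff, ← hp]
    exact CompOrbit.fittingSubgroup_le_pCore hO
  have hcW : W ≤ centralizer (pCore 2 G : Set G) := by
    rw [hp, le_centralizer_iff]
    exact bot_le
  have hcenter : ∀ K : Subgroup G, IsComponent K → center K = ⊥ := by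
    intro K hK
    have hn : Group.IsNilpotent (center K) := open scoped IsMulCommutative in inferInstance
    have h1 : ((center K).map K.subtype).IsSubnormal :=
      (Normal.isSubnormal (inferInstance : (center K).Normal)).trans' hK.1
    have h2 : Group.IsNilpotent ((center K).map K.subtype) :=
      FStarNormal.isNilpotent_map _ _ hn
    have h3 := FStarNormal.le_fitting_of_subnormal h1 h2
    rw [hF, le_bot_iff, Subgroup.map_eq_bot_iff, ker_subtype, le_bot_iff] at h3
    exact h3
  have heven : ∀ K : Subgroup G, IsComponent K → Even (Nat.card K) := by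
    intro K hK
    by_contra hodd
    rw [Nat.not_even_iff_odd] at hodd
    have h4 := CompBasic.subnormal_coprime_le_pPrimeCore (p := 2) hK.1
      (Nat.coprime_two_right.mpr hodd)
    rw [hO, le_bot_iff] at h4
    exact Components.component_ne_bot hK h4
  have hrank : ∀ K : Subgroup G, IsComponent K → ¬ PRankLE 2 1 K :=
    fun K hK => hBS K hK (hcenter K hK) (heven K hK)
  -- existence of a component
  obtain ⟨K, hK⟩ : ∃ K : Subgroup G, IsComponent K := by
    by_contra hno
    push Not at hno
    exact hW (eq_bot_of_centralizes hO h.odd (fun K hK => absurd hK (hno K)) hcW)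
  -- uniqueness
  have huniq : ∀ L : Subgroup G, IsComponent L → L = K := by
    intro L hL
    by_contra hne
    apply hW
    refine eq_bot_of_centralizes hO h.odd (fun M hM => ?_) hcW
    by_cases hMK : M = K
    · exact h.le_centralizer_of_ne hO hL (hrank L hL) hM (by rw [hMK]; exact fun e => hne e.symm)
    · exact h.le_centralizer_of_ne hO hK (hrank K hK) hM hMK
  have hnormal : K.Normal := by
    refine ⟨fun n hn g => ?_⟩
    have h1 := huniq _ (Components.isComponent_conj g hK)
    rw [← h1]
    exact ⟨n, hn, rfl⟩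
  refine ⟨K, hnormal, ?_, Components.quasisimple_not_isMulCommutative hK.2, heven K hK,
    hrank K hK, ?_⟩
  · have h1 : IsSimpleGroup (K ⧸ center K) := hK.2.2
    have e : K ⧸ center K ≃* K :=
      (QuotientGroup.quotientMulEquivOfEq (hcenter K hK)).trans (QuotientGroup.quotientBot (G := K))
    exact (MulEquiv.isSimpleGroup_congr e).mp h1
  · have h1 : layer G = K := by
      apply le_antisymm
      · rw [Components.layer_le_iff]
        intro L hL
        rw [huniq L hL]
      · exact Components.component_le_layer hK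
    have h2 : generalizedFittingSubgroup G = K := by
      rw [Lib.GenFitting.genFitting_def, h1, hF, sup_bot_eq]
    have h3 := Lib.GenFitting.centralizer_genFitting_le (G := G)
    have h4 := CompOrbit.inf_centralizer_self_le_pCore hO
      (Lib.GenFitting.genFitting_normal (G := G))
    rw [inf_eq_right.2 h3, hp, le_bot_iff, h2] at h4
    exact h4

end

end Cfsg.Agent.SignalizersComponents.BalRed
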