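import Mathlib
import Cfsg.Agent.SignalizersComponents.BalRed

/-!
# Completed balance functors: `W` meets the simple group `F*(G)` nontrivially
-/

set_option autoImplicit false

namespace Cfsg.Agent.SignalizersComponents.BalRedTwo

open Cfsg Subgroup
open Cfsg.Agent.TwoGenCore (Four fourSub)
open Cfsg.Agent.TwoGenCore.Involution (Closed pRankLE_map normalizer_conj mem_conj_iff)
open Cfsg.Agent.SignalizersComponents Cfsg.Agent.SignalizersComponents.BalRed

universe u

variable {G : Type u} [Group G]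

/-- Conjugation of a 2-subgroup of `H ≥ S` into `S` inside `H`. -/
theorem exists_conj_le [Finite G] (S : Sylow 2 G) {H X : Subgroup G} (hSH : (S : Subgroup G) ≤ H)
    (hX : X ≤ H) (hp : IsPGroup 2 X) :
    ∃ h ∈ H, X.map (MulAut.conj h).toMonoidHom ≤ (S : Subgroup G) := by
  have hpH : IsPGroup 2 (X.subgroupOf H) := hp.comap_of_injective H.subtype H.subtype_injective
  obtain ⟨P, hXP⟩ := hpH.exists_le_sylow
  obtain ⟨h, hh⟩ := MulAction.exists_smul_eq H P (S.subtype hSH)
  refine ⟨h, h.2, ?_⟩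
  rintro _ ⟨x, hx, rfl⟩
  have h1 : (⟨x, hX hx⟩ : H) ∈ (P : Subgroup H) :=
    hXP (Subgroup.mem_subgroupOf.mpr hx)
  have h2 : h * ⟨x, hX hx⟩ * h⁻¹ ∈ ((h • P : Sylow 2 H) : Subgroup H) := by
    rw [Sylow.coe_subgroup_smul, Subgroup.mem_pointwise_smul_iff_inv_smul_mem]
    simpa [MulAut.smul_def, MulAut.conj_apply, mul_assoc] using h1
  rw [hh] at h2
  have h3 : h * ⟨x, hX hx⟩ * h⁻¹ ∈ (S : Subgroup G).subgroupOf H := h2
  rw [Subgroup.mem_subgroupOf] at h3
  simpa [MulAut.conj_apply] using h3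

/-- A subgroup containing `S` and the normalizers of the subgroups of `S` of 2-rank at least 2 is
closed. -/
theorem closed_of_le [Finite G] (S : Sylow 2 G) {H : Subgroup G} (hSH : (S : Subgroup G) ≤ H)
    (hn : ∀ X : Subgroup G, X ≤ (S : Subgroup G) → ¬ PRankLE 2 1 X → normalizer (X : Set G) ≤ H) :
    Closed H := by
  intro X hX hp hr
  obtain ⟨h, hh, hconj⟩ := exists_conj_le S hSH hX hp
  have hr' : ¬ PRankLE 2 1 (X.map (MulAut.conj h).toMonoidHom) := by
    rwa [pRankLE_map _ (MulAut.conj h).injective]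
  have h4 := hn _ hconj hr'
  rw [normalizer_conj] at h4
  intro x hx
  have h5 : h * x * h⁻¹ ∈ H := h4 ⟨x, hx, by simp [MulAut.conj_apply]⟩
  have h6 := H.mul_mem (H.mul_mem (H.inv_mem hh) h5) hh
  simpa [mul_assoc] using h6

/-- `C_G(x)` normalizes `O(C_G(x))`. -/
theorem centralizer_le_normalizer_core (x : G) :
    centralizer ({x} : Set G) ≤ normalizer (centralizerPPrimeCore 2 x : Set G) := by
  intro c hc
  have hN : (pPrimeCore 2 ↥(centralizer ({x} : Set G))).Normal := Lib.Cores.pPrimeCore_normal 2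
  rw [mem_normalizer_iff]
  intro g
  constructor
  · rintro ⟨y, hy, rfl⟩
    exact ⟨⟨c, hc⟩ * y * ⟨c, hc⟩⁻¹, hN.conj_mem y hy _, rfl⟩
  · rintro ⟨y, hy, hyg⟩
    refine ⟨⟨c, hc⟩⁻¹ * y * ⟨c, hc⟩⁻¹⁻¹, hN.conj_mem y hy _, ?_⟩
    have h1 : (y : G) = c * g * c⁻¹ := hyg
    show c⁻¹ * (y : G) * (c⁻¹)⁻¹ = g
    rw [h1]
    group

variable {S : Sylow 2 G} {W : Subgroup G}

theorem Setup.closed [Finite G] (h : Setup S W) : Closed (normalizer (W : Set G)) :=
  closed_of_le S h.le_normalizer h.norm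

/-- An element of order 2 of `S ∩ L`, for `L` normal of 2-rank at least 2. -/
theorem exists_four_inf [Finite G] (S : Sylow 2 G) {L : Subgroup G} (hL : L.Normal)
    (hr : ¬ PRankLE 2 1 L) : Four ((S : Subgroup G) ⊓ L) := by
  obtain ⟨Q, hQ⟩ := Cfsg.Agent.S0542.result 2 L hL.isSubnormal S
  have hF : Four (⊤ : Subgroup L) := by
    rw [← Cfsg.Agent.TwoGenCore.not_pRankLE_one_iff]
    intro h1
    apply hr
    exact Cfsg.Agent.TwoGenCore.Involution.pRankLE_of_injective
      (topEquiv (G := L)).symm.toMonoidHom (topEquiv (G := L)).symm.injective h1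
  obtain ⟨x, hx, y, hy, h1, h2, h3, h4, h5, h6⟩ := four_sylow hF Q
  rw [hQ, mem_subgroupOf] at hx hy
  exact ⟨x, ⟨hx, x.2⟩, y, ⟨hy, y.2⟩, fun e => h1 (Subtype.ext e), fun e => h2 (Subtype.ext e),
    fun e => h3 (Subtype.ext e), congrArg Subtype.val h4, congrArg Subtype.val h5,
    congrArg Subtype.val h6⟩

/-- Step 3: `W` meets the simple normal subgroup `L` nontrivially, by the theorem on the cores of
strongly embedded subgroups (hypothesis `hSE`, statement S1221). -/
theorem Setup.inf_ne_bot [Finite G] (h : Setup S W) (hW : W ≠ ⊥) {L : Subgroup G} (hL : L.Normal)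
    (hsimple : IsSimpleGroup L) (heven : Even (Nat.card L)) (hr : ¬ PRankLE 2 1 L)
    (hcent : centralizer (L : Set G) = ⊥)
    (hSE : ∀ (J : Subgroup G) (H : Subgroup J), IsStronglyEmbedded H →
      (oddCore ↥H).map H.subtype ≤ oddCore J) :
    W ⊓ L ≠ ⊥ := by
  intro hbot
  apply hW
  set M := normalizer (W : Set G) with hM
  have hSM : (S : Subgroup G) ≤ M := h.le_normalizer
  have hWM : W ≤ M := Subgroup.le_normalizer
  -- `M ∩ L` centralizes `W`
  have hML : M ⊓ L ≤ centralizer (W : Set G) := by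
    refine le_centralizer_of_inf_eq_bot inf_le_left ?_ ?_
    · intro w hw
      rw [mem_normalizer_iff]
      intro x
      constructor
      · rintro ⟨h1, h2⟩
        exact ⟨M.mul_mem (M.mul_mem (hWM hw) h1) (M.inv_mem (hWM hw)), hL.conj_mem _ h2 w⟩
      · rintro ⟨h1, h2⟩
        refine ⟨?_, ?_⟩
        · have := M.mul_mem (M.mul_mem (M.inv_mem (hWM hw)) h1) (hWM hw)
          simpa [mul_assoc] using this
        · have := hL.conj_mem _ h2 w⁻¹
          simpa [mul_assoc] using this
    · rw [eq_bot_iff, ← hbot]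
      exact fun x hx => ⟨hx.2, hx.1.2⟩
  -- centralizers of involutions of `M ∩ L`
  have hcx : ∀ x ∈ (S : Subgroup G) ⊓ L, orderOf x = 2 → centralizer ({x} : Set G) ≤ M := by
    rintro x ⟨hxS, hxL⟩ hx2
    have h1 : W = centralizerPPrimeCore 2 x := by
      rw [← h.fix x hxS hx2]
      refine (inf_eq_left.2 ?_).symm
      intro w hw
      rw [mem_centralizer_singleton_iff]
      exact (mem_centralizer_iff.mp (hML ⟨hSM hxS, hxL⟩)) w hw
    rw [hM, h1]
    exact centralizer_le_normalizer_core x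
  have hct : ∀ t ∈ M ⊓ L, orderOf t = 2 → centralizer ({t} : Set G) ≤ M := by
    rintro t ⟨htM, htL⟩ ht2
    have hZ : IsPGroup 2 (zpowers t) := by
      rw [IsPGroup.iff_card]
      exact ⟨1, by rw [Nat.card_zpowers, ht2, pow_one]⟩
    obtain ⟨m, hm, hconj⟩ := exists_conj_le S hSM (by rw [zpowers_le]; exact htM) hZ
    have hx : m * t * m⁻¹ ∈ (S : Subgroup G) ⊓ L :=
      ⟨hconj ⟨t, mem_zpowers t, by simp [MulAut.conj_apply]⟩, hL.conj_mem _ htL m⟩
    have hx2 : orderOf (m * t * m⁻¹) = 2 := by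
      rw [← ht2]
      have := orderOf_injective (MulAut.conj m).toMonoidHom (MulAut.conj m).injective t
      simpa [MulAut.conj_apply] using this
    have h2 := hcx _ hx hx2
    intro c hc
    have h3 : m * c * m⁻¹ ∈ M := by
      apply h2
      rw [mem_centralizer_singleton_iff] at hc ⊢
      calc m * c * m⁻¹ * (m * t * m⁻¹) = m * (c * t) * m⁻¹ := by group
        _ = m * (t * c) * m⁻¹ := by rw [hc]
        _ = m * t * m⁻¹ * (m * c * m⁻¹) := by group
    have := M.mul_mem (M.mul_mem (M.inv_mem hm) h3) hm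
    simpa [mul_assoc] using this
  obtain ⟨x, hx, y, hy, hx1, -, -, hx2, -, -⟩ := exists_four_inf S hL hr
  have hxo : orderOf x = 2 := orderOf_eq_two hx1 hx2
  -- the strongly embedded subgroup of `W L`
  set J := W ⊔ L with hJ
  have hLJ : L ≤ J := le_sup_right
  have hWJ : W ≤ J := le_sup_left
  set H := M.subgroupOf J with hH
  have hclosed : Closed H := (Setup.closed h).subgroupOf J
  have htop : H ≠ ⊤ := by
    intro e
    rw [hH, subgroupOf_eq_top] at e
    have h1 : L ≤ centralizer (W : Set G) := fun l hl => hML ⟨e (hLJ hl), hl⟩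
    rw [le_centralizer_iff, hcent, le_bot_iff] at h1
    exact hW h1
  have hevenH : Even (Nat.card H) := by
    have h1 : (⟨⟨x, hLJ hx.2⟩, hSM hx.1⟩ : H) ≠ 1 := by
      intro e
      apply hx1
      exact congrArg (fun z : H => ((z : J) : G)) e
    have h2 : orderOf (⟨⟨x, hLJ hx.2⟩, hSM hx.1⟩ : H) = 2 := by
      rw [← Subgroup.orderOf_coe, ← Subgroup.orderOf_coe]
      exact hxo
    rw [even_iff_two_dvd, ← h2]
    exact orderOf_dvd_natCard _
  have hodd : ∀ t ∈ J, orderOf t = 2 → t ∈ L := by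
    intro t ht ht2
    rw [← QuotientGroup.eq_one_iff (N := L)]
    have h1 : (QuotientGroup.mk' L t) ∈ W.map (QuotientGroup.mk' L) := by
      have h2 : (QuotientGroup.mk' L t) ∈ J.map (QuotientGroup.mk' L) := ⟨t, ht, rfl⟩
      have h3 : L.map (QuotientGroup.mk' L) = ⊥ :=
        (Subgroup.map_eq_bot_iff _).mpr (by rw [QuotientGroup.ker_mk'])
      rw [hJ, Subgroup.map_sup, h3, sup_bot_eq] at h2
      exact h2
    have h3 : Odd (Nat.card (W.map (QuotientGroup.mk' L))) := by
      obtain ⟨k, hk⟩ := Subgroup.card_map_dvd (H := W) (QuotientGroup.mk' L)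
      have := h.odd
      rw [hk, Nat.odd_mul] at this
      exact this.1
    have h4 : orderOf (QuotientGroup.mk' L t) ∣ 2 := by
      apply orderOf_dvd_of_pow_eq_one
      rw [← map_pow, ← ht2, pow_orderOf_eq_one, map_one]
    have h5 : orderOf (QuotientGroup.mk' L t) ∣ Nat.card (W.map (QuotientGroup.mk' L)) :=
      Subgroup.orderOf_dvd_natCard _ h1
    have h6 : orderOf (QuotientGroup.mk' L t) = 1 := by
      rcases (Nat.dvd_prime Nat.prime_two).mp h4 with h7 | h7
      · exact h7
      · exfalso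
        rw [h7] at h5
        rw [Nat.odd_iff] at h3
        omega
    exact orderOf_eq_one_iff.mp h6
  have hse : IsStronglyEmbedded H := by
    refine hclosed.isStronglyEmbedded htop hevenH ?_
    intro t ht ht2 c hc
    rw [hH, mem_subgroupOf]
    have ht2' : orderOf (t : G) = 2 := by rw [Subgroup.orderOf_coe]; exact ht2
    refine hct t ⟨ht, hodd t t.2 ht2'⟩ ht2' ?_
    rw [mem_centralizer_singleton_iff] at hc ⊢
    exact congrArg Subtype.val hc
  have hcore := hSE J H hse
  -- `W ≤ O(H)`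
  have hWO : (W.subgroupOf J).subgroupOf H ≤ oddCore H := by
    refine Lib.Cores.le_pPrimeCore ?_ ?_
    · refine ⟨fun w hw g => ?_⟩
      rw [mem_subgroupOf, mem_subgroupOf] at hw ⊢
      have hg : ((g : J) : G) ∈ normalizer (W : Set G) := g.2
      exact (mem_normalizer_iff.mp hg _).mp hw
    · have h1 : Nat.card ((W.subgroupOf J).subgroupOf H) ∣ Nat.card W := by
        have h2 := Subgroup.card_dvd_of_injective
          (((J.subtype.comp H.subtype).subgroupMap ((W.subgroupOf J).subgroupOf H)))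
          (by
            intro a b hab
            have := congrArg Subtype.val hab
            exact Subtype.ext (Subtype.ext (Subtype.ext this)))
        refine h2.trans (card_dvd_of_le ?_)
        rintro _ ⟨a, ha, rfl⟩
        exact ha
      exact (Nat.coprime_two_right.mpr h.odd).coprime_dvd_left h1
  have hWO2 : W.subgroupOf J ≤ oddCore J := by
    refine le_trans ?_ hcore
    intro w hw
    exact ⟨⟨w, hWM hw⟩, hWO (by
      rw [mem_subgroupOf]
      exact hw), rfl⟩
  set R := (oddCore J).map J.subtype with hR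
  have hRodd : Odd (Nat.card R) := by
    have h1 := Lib.Cores.pPrimeCore_coprime (G := J) 2
    rw [Nat.coprime_two_right] at h1
    rw [hR, card_map_of_injective J.subtype_injective]
    exact h1
  have hRJ : R ≤ J := map_subtype_le _
  have hLR : L ≤ normalizer (R : Set G) := by
    refine hLJ.trans ?_
    have hn : (oddCore J).Normal := Lib.Cores.pPrimeCore_normal 2
    intro g hg
    rw [mem_normalizer_iff]
    intro r
    constructor
    · rintro ⟨r', hr', rfl⟩
      exact ⟨_, hn.conj_mem r' hr' ⟨g, hg⟩, rfl⟩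
    · rintro ⟨r', hr', hrr⟩
      refine ⟨_, hn.conj_mem r' hr' ⟨g, hg⟩⁻¹, ?_⟩
      have h1 : (r' : G) = g * r * g⁻¹ := hrr
      show g⁻¹ * (r' : G) * (g⁻¹)⁻¹ = r
      rw [h1]
      group
  have hRL : R ⊓ L = ⊥ := by
    have hn : ((R ⊓ L).subgroupOf L).Normal := by
      rw [inf_subgroupOf_right]
      exact normal_subgroupOf_of_le_normalizer hLR
    rcases hn.eq_bot_or_eq_top with e | e
    · rwa [subgroupOf_eq_bot, disjoint_iff, inf_assoc, inf_idem] at e
    · exfalso
      rw [subgroupOf_eq_top] at e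
      have h1 := card_dvd_of_le (e.trans inf_le_left)
      obtain ⟨k, hk⟩ := h1
      rw [hk, Nat.odd_mul] at hRodd
      exact (Nat.not_even_iff_odd.mpr hRodd.1) heven
  have hRc : R ≤ centralizer (L : Set G) := by
    refine le_centralizer_of_inf_eq_bot ?_ hLR hRL
    rw [normalizer_eq_top_iff.mpr hL]
    exact le_top
  rw [hcent] at hRc
  refine le_bot_iff.mp (le_trans ?_ hRc)
  intro w hw
  exact ⟨⟨w, hWJ hw⟩, hWO2 hw, rfl⟩

end Cfsg.Agent.SignalizersComponents.BalRedTwo
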