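import Mathlib
import Cfsg.Agent.SignalizersComponents.BalRedTwo

/-!
# Local setup on a simple group

`LocalSetup T W` : `W` has odd order, `C_W(x)` is normal in `C_L(x)` for every involution `x` of the
Sylow 2-subgroup `T` of `L`, and the normalizers of the subgroups of `T` of 2-rank at least 2
normalize `W`.
-/

set_option autoImplicit false

namespace Cfsg.Agent.SignalizersComponents.BalLocal

open Cfsg Subgroup
open Cfsg.Agent.TwoGenCore (Four fourSub)
open Cfsg.Agent.TwoGenCore.Involution (Closed pRankLE_map pRankLE_of_injective)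
open Cfsg.Agent.SignalizersComponents Cfsg.Agent.SignalizersComponents.BalRed
open Cfsg.Agent.SignalizersComponents.BalRedTwo

universe u

variable {L : Type u} [Group L]

/-- See the header of the file. -/
structure LocalSetup (T : Sylow 2 L) (W : Subgroup L) : Prop where
  odd : Odd (Nat.card W)
  fix : ∀ x ∈ (T : Subgroup L), orderOf x = 2 →
    centralizer ({x} : Set L) ≤ normalizer ((W ⊓ centralizer {x} : Subgroup L) : Set L)
  equi : ∀ x ∈ (T : Subgroup L), orderOf x = 2 → ∀ g : L, g * x * g⁻¹ ∈ (T : Subgroup L) →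
    ∀ w ∈ W, w * x = x * w → g * w * g⁻¹ ∈ W
  norm : ∀ X : Subgroup L, X ≤ (T : Subgroup L) → ¬ PRankLE 2 1 X →
    normalizer (X : Set L) ≤ normalizer (W : Set L)
  rank : ¬ PRankLE 2 1 (T : Subgroup L)

variable {T : Sylow 2 L} {W : Subgroup L}

/-- Equivariance of the subgroups `C_W(x)`. -/
theorem LocalSetup.map_conj (h : LocalSetup T W) {x : L} (hx : x ∈ (T : Subgroup L))
    (hx2 : orderOf x = 2) {g : L} (hg : g * x * g⁻¹ ∈ (T : Subgroup L)) :
    (W ⊓ centralizer {x}).map (MulAut.conj g).toMonoidHom = W ⊓ centralizer {g * x * g⁻¹} := by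
  ext y
  constructor
  · rintro ⟨w, ⟨hw, hwx⟩, rfl⟩
    have hwx' := mem_centralizer_singleton_iff.mp hwx
    refine ⟨h.equi x hx hx2 g hg w hw hwx', ?_⟩
    show g * w * g⁻¹ ∈ centralizer ({g * x * g⁻¹} : Set L)
    rw [mem_centralizer_singleton_iff]
    calc g * w * g⁻¹ * (g * x * g⁻¹) = g * (w * x) * g⁻¹ := by group
      _ = g * (x * w) * g⁻¹ := by rw [hwx']
      _ = g * x * g⁻¹ * (g * w * g⁻¹) := by group
  · rintro ⟨hy, hyx⟩
    have hyx' := mem_centralizer_singleton_iff.mp hyx
    have hx' : orderOf (g * x * g⁻¹) = 2 := by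
      rw [← hx2]
      have := orderOf_injective (MulAut.conj g).toMonoidHom (MulAut.conj g).injective x
      simpa [MulAut.conj_apply] using this
    have h1 : g⁻¹ * (g * x * g⁻¹) * g⁻¹⁻¹ = x := by group
    have h2 := h.equi (g * x * g⁻¹) hg hx' g⁻¹ (by rw [h1]; exact hx) y hy hyx'
    refine ⟨g⁻¹ * y * g⁻¹⁻¹, ⟨h2, ?_⟩, ?_⟩
    · show g⁻¹ * y * g⁻¹⁻¹ ∈ centralizer ({x} : Set L)
      rw [mem_centralizer_singleton_iff]
      calc g⁻¹ * y * g⁻¹⁻¹ * x = g⁻¹ * (y * (g * x * g⁻¹)) * g := by group
        _ = g⁻¹ * ((g * x * g⁻¹) * y) * g := by rw [hyx']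
        _ = x * (g⁻¹ * y * g⁻¹⁻¹) := by group
    · show g * (g⁻¹ * y * g⁻¹⁻¹) * g⁻¹ = y
      group

theorem LocalSetup.le_normalizer (h : LocalSetup T W) : (T : Subgroup L) ≤ normalizer (W : Set L) :=
  Subgroup.le_normalizer.trans (h.norm _ le_rfl h.rank)

theorem LocalSetup.le_of_four (h : LocalSetup T W) {x y : L} (hx : x ∈ (T : Subgroup L))
    (hy : y ∈ (T : Subgroup L)) (hx2 : x * x = 1) (hy2 : y * y = 1) (hxy : x * y = y * x)
    {M : Subgroup L} (h1 : W ⊓ centralizer {x} ≤ M) (h2 : W ⊓ centralizer {y} ≤ M)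
    (h3 : W ⊓ centralizer {x * y} ≤ M) : W ≤ M :=
  Lib.KleinGen.le_of_klein W M h.odd x y hx2 hy2 hxy
    (fun w hw => (mem_normalizer_iff.mp (h.le_normalizer hx) w).mp hw)
    (fun w hw => (mem_normalizer_iff.mp (h.le_normalizer hy) w).mp hw) h1 h2 h3

theorem LocalSetup.closed [Finite L] (h : LocalSetup T W) : Closed (normalizer (W : Set L)) :=
  closed_of_le T h.le_normalizer h.norm

/-- `C_W(x) ≤ O(C_L(x))`. -/
theorem LocalSetup.inf_le_core [Finite L] (h : LocalSetup T W) {x : L} (hx : x ∈ (T : Subgroup L))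
    (hx2 : orderOf x = 2) : W ⊓ centralizer {x} ≤ centralizerPPrimeCore 2 x := by
  have h1 : (W ⊓ centralizer {x}).subgroupOf (centralizer ({x} : Set L)) ≤
      pPrimeCore 2 (centralizer ({x} : Set L)) := by
    refine Lib.Cores.le_pPrimeCore ?_ ?_
    · exact normal_subgroupOf_of_le_normalizer (h.fix x hx hx2)
    · have h2 : Nat.card ((W ⊓ centralizer {x}).subgroupOf (centralizer ({x} : Set L))) =
          Nat.card (W ⊓ centralizer {x} : Subgroup L) :=
        Nat.card_congr (subgroupOfEquivOfLe inf_le_right).toEquiv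
      rw [h2]
      exact (Nat.coprime_two_right.mpr h.odd).coprime_dvd_left (card_dvd_of_le inf_le_left)
  intro w hw
  exact ⟨⟨w, hw.2⟩, h1 hw, rfl⟩

/-- If the centralizers of the involutions of `L` have trivial cores, then `W = 1`. -/
theorem LocalSetup.eq_bot_of_core [Finite L] (h : LocalSetup T W)
    (hc : ∀ x : L, orderOf x = 2 → centralizerPPrimeCore 2 x = ⊥) : W = ⊥ := by
  obtain ⟨x, hx, y, hy, hx1, hy1, hne, hx2, hy2, hxy⟩ :=
    Cfsg.Agent.TwoGenCore.not_pRankLE_one_iff.mp h.rank
  have key : ∀ z ∈ (T : Subgroup L), z ≠ 1 → z * z = 1 → W ⊓ centralizer {z} ≤ ⊥ := by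
    intro z hz hz1 hz2
    rw [← hc z (orderOf_eq_two hz1 hz2)]
    exact h.inf_le_core hz (orderOf_eq_two hz1 hz2)
  have hxy1 : x * y ≠ 1 := by
    intro e
    apply hne
    have : x * y = x * x := by rw [e, hx2]
    exact (mul_left_cancel this).symm
  have hxy2 : (x * y) * (x * y) = 1 := by
    calc x * y * (x * y) = x * y * (y * x) := by rw [hxy]
      _ = x * (y * y) * x := by group
      _ = 1 := by rw [hy2, mul_one, hx2]
  exact le_bot_iff.mp (h.le_of_four hx hy hx2 hy2 hxy (key x hx hx1 hx2) (key y hy hy1 hy2)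
    (key _ ((T : Subgroup L).mul_mem hx hy) hxy1 hxy2))

/-- A simple group with a nontrivial local setup has a proper 2-generated core. -/
theorem LocalSetup.hasProperTwoGeneratedCore [Finite L] [IsSimpleGroup L] (h : LocalSetup T W)
    (hW : W ≠ ⊥) : HasProperTwoGeneratedCore L := by
  refine h.closed.hasProperTwoGeneratedCore ?_ h.le_normalizer T.isPGroup' h.rank
  intro e
  rw [normalizer_eq_top_iff] at e
  rcases e.eq_bot_or_eq_top with e' | e'
  · exact hW e'
  · -- `L` would have odd order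
    obtain ⟨x, hx, y, hy, hx1, hy1, hne, hx2, hy2, hxy⟩ :=
      Cfsg.Agent.TwoGenCore.not_pRankLE_one_iff.mp h.rank
    have h1 := h.odd
    rw [e', Nat.card_congr topEquiv.toEquiv] at h1
    have h2 := orderOf_dvd_natCard x
    rw [orderOf_eq_two hx1 hx2] at h2
    rw [Nat.odd_iff] at h1
    omega

/-- Transport of a local setup along an isomorphism. -/
theorem LocalSetup.map_equiv [Finite L] {L' : Type*} [Group L'] (h : LocalSetup T W)
    (e : L ≃* L') : ∃ T' : Sylow 2 L', LocalSetup T' (W.map e.toMonoidHom) := by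
  have : Finite L' := Finite.of_equiv _ e.toEquiv
  have hsurj : Function.Surjective e.toMonoidHom := e.surjective
  refine ⟨T.mapSurjective hsurj, ?_⟩
  have hT' : ∀ x : L', x ∈ ((T.mapSurjective hsurj : Sylow 2 L') : Subgroup L') ↔
      e.symm x ∈ (T : Subgroup L) := by
    intro x
    rw [Sylow.coe_mapSurjective, Subgroup.mem_map]
    constructor
    · rintro ⟨y, hy, rfl⟩
      simpa using hy
    · intro hx
      exact ⟨_, hx, by simp⟩
  have hmem : ∀ (K : Subgroup L) (x : L'), x ∈ K.map e.toMonoidHom ↔ e.symm x ∈ K := by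
    intro K x
    rw [Subgroup.mem_map]
    constructor
    · rintro ⟨y, hy, rfl⟩
      simpa using hy
    · intro hx
      exact ⟨_, hx, by simp⟩
  refine ⟨?_, ?_, ?_, ?_, ?_⟩
  · rw [card_map_of_injective e.injective]
    exact h.odd
  · intro x hx hx2 c hc
    have h1 := h.fix (e.symm x) ((hT' x).mp hx) (by rw [← hx2]; exact MulEquiv.orderOf_eq e.symm x)
    have hc' : e.symm c ∈ centralizer ({e.symm x} : Set L) := by
      rw [mem_centralizer_singleton_iff] at hc ⊢
      rw [← map_mul, hc, map_mul]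
    have h2 := mem_normalizer_iff.mp (h1 hc')
    rw [mem_normalizer_iff]
    intro g
    have h3 := h2 (e.symm g)
    have h4 : ∀ g : L', g ∈ (W.map e.toMonoidHom ⊓ centralizer {x} : Subgroup L') ↔
        e.symm g ∈ (W ⊓ centralizer {e.symm x} : Subgroup L) := by
      intro g
      rw [mem_inf, mem_inf, hmem, mem_centralizer_singleton_iff, mem_centralizer_singleton_iff,
        ← map_mul, ← map_mul, e.symm.injective.eq_iff]
    rw [h4, h4, h3, map_mul, map_mul, map_inv]
  · intro x hx hx2 g hg w hw hwx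
    rw [hmem] at hw ⊢
    have h1 := h.equi (e.symm x) ((hT' x).mp hx)
      (by rw [← hx2]; exact MulEquiv.orderOf_eq e.symm x) (e.symm g)
      (by
        have := (hT' _).mp hg
        rwa [map_mul, map_mul, map_inv] at this) (e.symm w) hw (by rw [← map_mul, hwx, map_mul])
    rwa [map_mul, map_mul, map_inv]
  · intro X hX hr c hc
    have hX' : X.map e.symm.toMonoidHom ≤ (T : Subgroup L) := by
      rintro _ ⟨y, hy, rfl⟩
      exact (hT' y).mp (hX hy)
    have h1 := h.norm _ hX' (by rwa [pRankLE_map _ e.symm.injective])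
    have hc' : e.symm c ∈ normalizer ((X.map e.symm.toMonoidHom : Subgroup L) : Set L) := by
      rw [mem_normalizer_iff] at hc ⊢
      intro g
      have h2 : ∀ g : L, g ∈ X.map e.symm.toMonoidHom ↔ e g ∈ X := by
        intro g
        rw [Subgroup.mem_map]
        constructor
        · rintro ⟨y, hy, rfl⟩
          simpa using hy
        · intro hx
          exact ⟨_, hx, by simp⟩
      rw [h2, h2, hc (e g), map_mul, map_mul, map_inv, e.apply_symm_apply]
    have h2 := mem_normalizer_iff.mp (h1 hc')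
    rw [mem_normalizer_iff]
    intro g
    rw [hmem, hmem, h2 (e.symm g), map_mul, map_mul, map_inv]
  · intro h1
    apply h.rank
    have h2 : ((T.mapSurjective hsurj : Sylow 2 L') : Subgroup L') =
        (T : Subgroup L).map e.toMonoidHom := Sylow.coe_mapSurjective _ _
    rw [h2, pRankLE_map _ e.injective] at h1
    exact h1

section Global

variable {G : Type u} [Group G] {S : Sylow 2 G} {V : Subgroup G}

theorem core_conj (g x : G) : (centralizerPPrimeCore 2 x).map (MulAut.conj g).toMonoidHom =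
    centralizerPPrimeCore 2 (g * x * g⁻¹) := by
  have hc : ∀ c : G, c ∈ centralizer ({x} : Set G) ↔
      g * c * g⁻¹ ∈ centralizer ({g * x * g⁻¹} : Set G) := by
    intro c
    rw [mem_centralizer_singleton_iff, mem_centralizer_singleton_iff]
    have h1 : g * c * g⁻¹ * (g * x * g⁻¹) = g * (c * x) * g⁻¹ := by group
    have h2 : g * x * g⁻¹ * (g * c * g⁻¹) = g * (x * c) * g⁻¹ := by group
    rw [h1, h2, mul_left_inj, mul_right_inj]
  have hmap : (centralizer ({x} : Set G)).map (MulAut.conj g).toMonoidHom =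
      centralizer ({g * x * g⁻¹} : Set G) := by
    ext y
    constructor
    · rintro ⟨c, hc', rfl⟩
      exact (hc c).mp hc'
    · intro hy
      refine ⟨g⁻¹ * y * g, (hc _).mpr ?_, ?_⟩
      · have : g * (g⁻¹ * y * g) * g⁻¹ = y := by group
        rwa [this]
      · show g * (g⁻¹ * y * g) * g⁻¹ = y
        group
  let e : centralizer ({x} : Set G) ≃* centralizer ({g * x * g⁻¹} : Set G) :=
    ((MulAut.conj g).subgroupMap (centralizer ({x} : Set G))).trans (MulEquiv.subgroupCongr hmap)
  have he : ∀ c, ((e c : centralizer ({g * x * g⁻¹} : Set G)) : G) = g * c * g⁻¹ := fun c => rfl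
  have h1 := Lib.Cores.map_equiv_pPrimeCore e 2
  unfold centralizerPPrimeCore
  rw [← h1, Subgroup.map_map, Subgroup.map_map]
  rfl

/-- Equivariance of the subgroups `C_W(x)` of a setup. -/
theorem Setup.equi (h : Setup S V) (x : G) (hx : x ∈ (S : Subgroup G)) (hx2 : orderOf x = 2)
    (g : G) (hg : g * x * g⁻¹ ∈ (S : Subgroup G)) (w : G) (hw : w ∈ V) (hwx : w * x = x * w) :
    g * w * g⁻¹ ∈ V := by
  have hx' : orderOf (g * x * g⁻¹) = 2 := by
    rw [← hx2]
    have := orderOf_injective (MulAut.conj g).toMonoidHom (MulAut.conj g).injective x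
    simpa [MulAut.conj_apply] using this
  have h1 : w ∈ V ⊓ centralizer {x} := ⟨hw, mem_centralizer_singleton_iff.mpr hwx⟩
  rw [h.fix x hx hx2] at h1
  have h2 : g * w * g⁻¹ ∈ centralizerPPrimeCore 2 (g * x * g⁻¹) := by
    rw [← core_conj]
    exact ⟨w, h1, rfl⟩
  rw [← h.fix _ hg hx'] at h2
  exact h2.1

/-- A setup of `G` induces a local setup on each normal subgroup of 2-rank at least 2. -/
theorem Setup.localSetup [Finite G] (h : Setup S V) {K : Subgroup G} (hK : K.Normal)
    (hr : ¬ PRankLE 2 1 K) : ∃ T : Sylow 2 K, LocalSetup T (V.subgroupOf K) := by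
  obtain ⟨T, hT⟩ := Cfsg.Agent.S0542.result 2 K hK.isSubnormal S
  refine ⟨T, ?_, ?_, ?_, ?_, ?_⟩
  · have h1 : Nat.card (V.subgroupOf K) ∣ Nat.card V := by
      have h2 := Subgroup.card_dvd_of_injective (K.subtype.subgroupMap (V.subgroupOf K))
        (by
          intro a b hab
          have := congrArg Subtype.val hab
          exact Subtype.ext (Subtype.ext this))
      refine h2.trans (card_dvd_of_le ?_)
      rintro _ ⟨a, ha, rfl⟩
      exact ha
    obtain ⟨k, hk⟩ := h1
    have := h.odd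
    rw [hk, Nat.odd_mul] at this
    exact this.1
  · intro x hx hx2 c hc
    rw [hT, mem_subgroupOf] at hx
    have hx2' : orderOf (x : G) = 2 := by rw [Subgroup.orderOf_coe]; exact hx2
    have h1 := h.fix x hx hx2'
    have hc' : (c : G) ∈ centralizer ({(x : G)} : Set G) := by
      rw [mem_centralizer_singleton_iff] at hc ⊢
      exact congrArg Subtype.val hc
    have h2 := centralizer_le_normalizer_core (x : G) hc'
    rw [← h1] at h2
    rw [mem_normalizer_iff] at h2 ⊢
    intro g
    have h3 := h2 (g : G)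
    have h4 : ∀ g : K, g ∈ (V.subgroupOf K ⊓ centralizer {x} : Subgroup K) ↔
        (g : G) ∈ (V ⊓ centralizer {(x : G)} : Subgroup G) := by
      intro g
      rw [mem_inf, mem_inf, mem_subgroupOf, mem_centralizer_singleton_iff,
        mem_centralizer_singleton_iff]
      constructor
      · rintro ⟨h5, h6⟩
        exact ⟨h5, congrArg Subtype.val h6⟩
      · rintro ⟨h5, h6⟩
        exact ⟨h5, Subtype.ext h6⟩
    rw [h4, h4, h3]
    rfl
  · intro x hx hx2 g hg w hw hwx
    rw [hT, mem_subgroupOf] at hx hg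
    rw [mem_subgroupOf] at hw ⊢
    have hx2' : orderOf (x : G) = 2 := by rw [Subgroup.orderOf_coe]; exact hx2
    exact Setup.equi h x hx hx2' g hg w hw (congrArg Subtype.val hwx)
  · intro X hX hr' c hc
    have hX' : X.map K.subtype ≤ (S : Subgroup G) := by
      rintro _ ⟨y, hy, rfl⟩
      have := hX hy
      rw [hT, mem_subgroupOf] at this
      exact this
    have h1 := h.norm _ hX' (by rwa [pRankLE_map _ K.subtype_injective])
    have hc' : (c : G) ∈ normalizer ((X.map K.subtype : Subgroup G) : Set G) := by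
      rw [mem_normalizer_iff] at hc ⊢
      intro g
      constructor
      · rintro ⟨y, hy, rfl⟩
        exact ⟨_, (hc y).mp hy, rfl⟩
      · rintro ⟨y, hy, hyg⟩
        have hg : g = ((c⁻¹ * y * c⁻¹⁻¹ : K) : G) := by
          have h2 : (y : G) = c * g * (c : G)⁻¹ := hyg
          push_cast
          rw [h2]
          group
        have h3 : c * (c⁻¹ * y * c⁻¹⁻¹) * c⁻¹ = y := by group
        exact ⟨c⁻¹ * y * c⁻¹⁻¹, (hc _).mpr (by rw [h3]; exact hy), hg.symm⟩
    have h2 := mem_normalizer_iff.mp (h1 hc')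
    rw [mem_normalizer_iff]
    intro g
    rw [mem_subgroupOf, mem_subgroupOf, h2 (g : G)]
    rfl
  · rw [Cfsg.Agent.TwoGenCore.not_pRankLE_one_iff]
    apply four_sylow
    rw [← Cfsg.Agent.TwoGenCore.not_pRankLE_one_iff]
    intro h1
    apply hr
    exact pRankLE_of_injective (topEquiv (G := K)).symm.toMonoidHom
      (topEquiv (G := K)).symm.injective h1

/-- The reduction theorem. -/
theorem Setup.eq_bot [Finite G] (h : Setup S V) (hO : oddCore G = ⊥)
    (hBS : ∀ K : Subgroup G, IsComponent K → center K = ⊥ → Even (Nat.card K) →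
      ¬ PRankLE 2 1 K)
    (hSE : ∀ (J : Subgroup G) (H : Subgroup J), IsStronglyEmbedded H →
      (oddCore ↥H).map H.subtype ≤ oddCore J)
    (hEnd : ∀ (K : Subgroup G) (T : Sylow 2 K) (V' : Subgroup K), IsSimpleGroup K →
      ¬ IsMulCommutative K → HasProperTwoGeneratedCore K → LocalSetup T V' → V' = ⊥) : V = ⊥ := by
  by_contra hV
  obtain ⟨K, hK, hs, hna, heven, hr, hc⟩ := Setup.exists_simple h hO hV hBS
  have h1 := Setup.inf_ne_bot h hV hK hs heven hr hc hSE
  obtain ⟨T, hT⟩ := Setup.localSetup h hK hr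
  have h2 : V.subgroupOf K ≠ ⊥ := by
    intro e
    rw [subgroupOf_eq_bot, disjoint_iff] at e
    exact h1 e
  exact h2 (hEnd K T _ hs hna (hT.hasProperTwoGeneratedCore h2) hT)

end Global

end Cfsg.Agent.SignalizersComponents.BalLocal
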