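import Mathlib

set_option autoImplicit false

/-!
The subgroup generated by an involution `a` and an element `x` inverted by `a` is dihedral.
-/

namespace Cfsg.Agent.SignalizersComponents.DihedralIso

variable {G : Type*} [Group G]

/-- The additive homomorphism `ZMod n → Additive G` sending `1` to `x`, for `x ^ n = 1`. -/
noncomputable def rot (n : ℕ) (x : G) (hx : x ^ n = 1) : ZMod n →+ Additive G :=
  ZMod.lift n ⟨zmultiplesHom (Additive G) (Additive.ofMul x), by
    rw [zmultiplesHom_apply, natCast_zsmul, ← ofMul_pow, hx, ofMul_one]⟩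

theorem rot_intCast (n : ℕ) (x : G) (hx : x ^ n = 1) (k : ℤ) :
    (rot n x hx (k : ZMod n)).toMul = x ^ k := by
  unfold rot
  rw [ZMod.lift_coe]
  simp

/-- The homomorphism from the dihedral group `DihedralGroup n` defined by an element `x` with
`x ^ n = 1` and an element `a` with `a * a = 1` inverting `x`. -/
noncomputable def dihHom (n : ℕ) (a x : G) (hx : x ^ n = 1) (ha : a * a = 1)
    (hax : a * x * a⁻¹ = x⁻¹) : DihedralGroup n →* G where
  toFun g := match g with
    | .r i => (rot n x hx i).toMul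
    | .sr i => a * (rot n x hx i).toMul
  map_one' := by
    show (rot n x hx 0).toMul = 1
    rw [map_zero]; rfl
  map_mul' := by
    have key : ∀ i : ZMod n, (rot n x hx i).toMul * a = a * (rot n x hx (-i)).toMul := by
      intro i
      obtain ⟨k, rfl⟩ := ZMod.intCast_surjective i
      rw [← Int.cast_neg, rot_intCast, rot_intCast]
      have h1 : a * x ^ k * a⁻¹ = x ^ (-k) := by
        rw [← conj_zpow, hax, inv_zpow']
      have ha' : a⁻¹ = a := by
        rw [inv_eq_iff_mul_eq_one, ha]
      have h2 : a * x ^ (-k) * a⁻¹ = x ^ k := by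
        rw [← conj_zpow, hax, inv_zpow', neg_neg]
      calc x ^ k * a = (a * x ^ (-k) * a⁻¹) * a := by rw [h2]
        _ = a * x ^ (-k) := by group
    have add : ∀ i j : ZMod n, (rot n x hx (i + j)).toMul
        = (rot n x hx i).toMul * (rot n x hx j).toMul := by
      intro i j
      rw [map_add]; rfl
    rintro (i | i) (j | j)
    · show (rot n x hx (i + j)).toMul = (rot n x hx i).toMul * (rot n x hx j).toMul
      exact add i j
    · show a * (rot n x hx (j - i)).toMul = (rot n x hx i).toMul * (a * (rot n x hx j).toMul)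
      rw [← mul_assoc, key, mul_assoc, ← add, sub_eq_neg_add]
    · show a * (rot n x hx (i + j)).toMul = (a * (rot n x hx i).toMul) * (rot n x hx j).toMul
      rw [add, mul_assoc]
    · show (rot n x hx (j - i)).toMul = (a * (rot n x hx i).toMul) * (a * (rot n x hx j).toMul)
      rw [mul_assoc, ← mul_assoc (rot n x hx i).toMul, key, ← mul_assoc, ← mul_assoc, ha, one_mul,
        ← add, sub_eq_neg_add]

theorem dihHom_r (n : ℕ) (a x : G) (hx : x ^ n = 1) (ha : a * a = 1)
    (hax : a * x * a⁻¹ = x⁻¹) (k : ℤ) :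
    dihHom n a x hx ha hax (DihedralGroup.r (k : ZMod n)) = x ^ k :=
  rot_intCast n x hx k

theorem dihHom_sr (n : ℕ) (a x : G) (hx : x ^ n = 1) (ha : a * a = 1)
    (hax : a * x * a⁻¹ = x⁻¹) (k : ℤ) :
    dihHom n a x hx ha hax (DihedralGroup.sr (k : ZMod n)) = a * x ^ k :=
  congrArg (a * ·) (rot_intCast n x hx k)

theorem dihHom_range (n : ℕ) (a x : G) (hx : x ^ n = 1) (ha : a * a = 1)
    (hax : a * x * a⁻¹ = x⁻¹) :
    (dihHom n a x hx ha hax).range = Subgroup.zpowers a ⊔ Subgroup.zpowers x := by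
  apply le_antisymm
  · rintro _ ⟨g, rfl⟩
    rcases g with i | i
    · obtain ⟨k, rfl⟩ := ZMod.intCast_surjective i
      rw [dihHom_r]
      exact (le_sup_right : Subgroup.zpowers x ≤ _) (Subgroup.zpow_mem_zpowers x k)
    · obtain ⟨k, rfl⟩ := ZMod.intCast_surjective i
      rw [dihHom_sr]
      exact mul_mem ((le_sup_left : Subgroup.zpowers a ≤ _) (Subgroup.mem_zpowers a))
        ((le_sup_right : Subgroup.zpowers x ≤ _) (Subgroup.zpow_mem_zpowers x k))
  · apply sup_le
    · rw [Subgroup.zpowers_le]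
      refine ⟨DihedralGroup.sr ((0 : ℤ) : ZMod n), ?_⟩
      rw [dihHom_sr, zpow_zero, mul_one]
    · rw [Subgroup.zpowers_le]
      refine ⟨DihedralGroup.r ((1 : ℤ) : ZMod n), ?_⟩
      rw [dihHom_r, zpow_one]

/-- If `x` has order `n`, `a` is an element with `a * a = 1`, inverting `x` and not lying in `⟨x⟩`,
then `⟨a⟩ ⊔ ⟨x⟩` is dihedral of order `2 * n`. -/
theorem nonempty_mulEquiv_of_notMem (a x : G) (ha : a * a = 1) (hax : a * x * a⁻¹ = x⁻¹)
    (hn : a ∉ Subgroup.zpowers x) :
    Nonempty (↥(Subgroup.zpowers a ⊔ Subgroup.zpowers x) ≃* DihedralGroup (orderOf x)) := by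
  have hx : x ^ orderOf x = 1 := pow_orderOf_eq_one x
  have hinj : Function.Injective (dihHom (orderOf x) a x hx ha hax) := by
    rw [injective_iff_map_eq_one]
    rintro (i | i) h
    · obtain ⟨k, rfl⟩ := ZMod.intCast_surjective i
      rw [dihHom_r] at h
      have h1 : (orderOf x : ℤ) ∣ k := orderOf_dvd_iff_zpow_eq_one.mpr h
      rw [(ZMod.intCast_zmod_eq_zero_iff_dvd k (orderOf x)).mpr h1]
      rfl
    · obtain ⟨k, rfl⟩ := ZMod.intCast_surjective i
      rw [dihHom_sr] at h
      exfalso
      apply hn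
      rw [mul_eq_one_iff_eq_inv] at h
      rw [h, ← zpow_neg]
      exact Subgroup.zpow_mem_zpowers x _
  have e1 : DihedralGroup (orderOf x) ≃* (dihHom (orderOf x) a x hx ha hax).range :=
    MonoidHom.ofInjective hinj
  have e2 : (dihHom (orderOf x) a x hx ha hax).range ≃*
      ↥(Subgroup.zpowers a ⊔ Subgroup.zpowers x) :=
    MulEquiv.subgroupCongr (dihHom_range (orderOf x) a x hx ha hax)
  exact ⟨(e1.trans e2).symm⟩

/-- If `x` has odd order and `a` is an element of order `2` inverting `x`, then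
`⟨a⟩ ⊔ ⟨x⟩` is dihedral of order `2 * orderOf x`. -/
theorem nonempty_mulEquiv_of_odd (a x : G) (ha : orderOf a = 2) (hax : a * x * a⁻¹ = x⁻¹)
    (hn : Odd (orderOf x)) :
    Nonempty (↥(Subgroup.zpowers a ⊔ Subgroup.zpowers x) ≃* DihedralGroup (orderOf x)) := by
  apply nonempty_mulEquiv_of_notMem a x _ hax
  · intro h
    have h1 : orderOf a ∣ orderOf x := by
      obtain ⟨k, rfl⟩ := Subgroup.mem_zpowers_iff.mp h
      exact orderOf_dvd_of_mem_zpowers h
    rw [ha] at h1
    exact (Nat.not_even_iff_odd.mpr hn) (even_iff_two_dvd.mpr h1)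
  · rw [← pow_two, ← ha, pow_orderOf_eq_one]

end Cfsg.Agent.SignalizersComponents.DihedralIso
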