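import Mathlib
import Cfsg.Prelude.Def_Local
import Cfsg.Agent.Lib.Cores
import Cfsg.Agent.Lib.PComponents
import Cfsg.Agent.Lib.GenFitting
import Cfsg.Agent.Transfer.NormalPComplement
import Cfsg.Agent.SignalizersComponents.PConstrained
import Cfsg.Agent.SignalizersComponents.CentSylowPerfect
import Cfsg.Agent.SignalizersComponents.RelSylow
import Cfsg.Agent.SignalizersComponents.AutSylow
import Cfsg.Agent.SignalizersComponents.LBalanceTwo

/-!
The centralizer of a Sylow 2-subgroup of `L_{2'}(X) O_{2',2}(X)` has a normal 2-complement (given the `Z*`-theorem).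
-/

set_option autoImplicit false

namespace Cfsg.Agent.SignalizersComponents.CentSylowFStar

open Subgroup Cfsg Cfsg.Agent.Lib Cfsg.Agent.SignalizersComponents
open Cfsg.Agent.Transfer

/-- A group with derived group of order prime to `p` has a normal `p`-complement. -/
theorem hasNormalPComplement_of_comm {A : Type*} [Group A] [Finite A] {p : ℕ} [Fact p.Prime]
    (h : ∀ a b : A, a * b = b * a) : HasNormalPComplement p A := by
  obtain ⟨P⟩ : Nonempty (Sylow p A) := inferInstance
  have hP : normalizer (P : Set A) ≤ centralizer (P : Set A) := by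
    intro x _
    rw [mem_centralizer_iff]
    intro y _
    exact h y x
  exact ⟨P, _, inferInstance, MonoidHom.ker_transferSylow_isComplement' P hP⟩

theorem hasNormalPComplement_of_coprime_commutator {A : Type*} [Group A] [Finite A] {p : ℕ} [Fact p.Prime]
    (h : (Nat.card (commutator A)).Coprime p) : HasNormalPComplement p A := by
  apply NormalPComplement.of_quotient (commutator A) h
  apply hasNormalPComplement_of_comm
  intro a b
  exact mul_comm (G := Abelianization A) a b

/-- Central extension by a `p`-group. -/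
theorem hasNormalPComplement_of_central {G H : Type*} [Group G] [Finite G] [Group H] {p : ℕ} [Fact p.Prime]
    (f : G →* H) (hf : Function.Surjective f) (hker : IsPGroup p f.ker)
    (hc : ∀ z ∈ f.ker, ∀ g : G, g * z = z * g) (h : HasNormalPComplement p H) :
    HasNormalPComplement p G := by
  have : Finite H := Finite.of_surjective f hf
  obtain ⟨M, hM, h1, h2⟩ := NormalPComplement.hasNormalPComplement_iff.mp h
  obtain ⟨W, hW⟩ : ∃ W, W = M.comap f := ⟨_, rfl⟩
  have hWn : W.Normal := hW ▸ hM.comap f
  have hkW : f.ker ≤ W := by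
    rw [hW]
    intro z hz
    rw [mem_comap, MonoidHom.mem_ker.mp hz]
    exact M.one_mem
  -- the kernel is a central Sylow subgroup of W
  have hidx : ¬ p ∣ f.ker.relIndex W := by
    have h3 : f.ker.relIndex W = Nat.card (W.map f) := relIndex_ker W f
    rw [h3, hW, map_comap_eq_self_of_surjective hf]
    exact (Nat.Prime.coprime_iff_not_dvd Fact.out).mp h1.symm
  let P : Sylow p ↥W := (hker.comap_subtype (K := W)).toSylow (P := f.ker.subgroupOf W) hidx
  have hPdef : (P : Subgroup ↥W) = f.ker.subgroupOf W := rfl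
  have hPc : ∀ x ∈ P, ∀ k : ↥W, k * x = x * k := by
    intro x hx k
    apply Subtype.ext
    exact hc x hx k
  have hP : normalizer (P : Set ↥W) ≤ centralizer (P : Set ↥W) := by
    intro x _
    rw [mem_centralizer_iff]
    intro y hy
    exact (hPc y hy x).symm
  have hcompl := MonoidHom.ker_transferSylow_isComplement' P hP
  set K := (MonoidHom.transferSylow P hP).ker with hK
  have hKn : K.Normal := by rw [hK]; infer_instance
  have hKcop : (Nat.card K).Coprime p := NormalPComplement.coprime_of_isComplement' P hcompl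
  have hmem : ∀ x : ↥W, x ∈ K ↔ (orderOf x).Coprime p :=
    fun x => NormalPComplement.mem_iff_coprime_orderOf P K hcompl x
  have hNn : (K.map W.subtype).Normal := by
    refine ⟨?_⟩
    rintro _ ⟨k, hk, rfl⟩ g
    have hgk : g * (k : G) * g⁻¹ ∈ W := hWn.conj_mem k k.2 g
    refine ⟨⟨g * k * g⁻¹, hgk⟩, ?_, rfl⟩
    show _ ∈ K
    rw [hmem]
    have h3 : orderOf (⟨g * (k : G) * g⁻¹, hgk⟩ : ↥W) = orderOf k := by
      rw [← orderOf_coe, ← orderOf_coe]
      exact orderOf_injective (MulAut.conj g).toMonoidHom (MulAut.conj g).injective (k : G)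
    rw [h3]
    exact (hmem k).mp hk
  have hNcard : Nat.card (K.map W.subtype) = Nat.card K :=
    (Nat.card_congr (K.equivMapOfInjective _ W.subtype_injective).toEquiv).symm
  refine NormalPComplement.hasNormalPComplement_iff.mpr ⟨K.map W.subtype, hNn, ?_, ?_⟩
  · rw [hNcard]; exact hKcop
  · rw [NormalPComplement.isPGroup_quotient_iff]
    intro g
    obtain ⟨k, hk⟩ := (NormalPComplement.isPGroup_quotient_iff M).mp h2 (f g)
    rw [← map_pow] at hk
    have hgW : g ^ p ^ k ∈ W := by rw [hW]; exact hk
    have hq : IsPGroup p (↥W ⧸ K) :=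
      NormalPComplement.isPGroup_quotient_of_isComplement' P.2 hcompl
    obtain ⟨m, hm⟩ := (NormalPComplement.isPGroup_quotient_iff K).mp hq ⟨_, hgW⟩
    refine ⟨k + m, ⟨_, hm, ?_⟩⟩
    show (g ^ p ^ k) ^ p ^ m = g ^ p ^ (k + m)
    rw [← pow_mul, pow_add]

/-- Extension by a `p'`-group. -/
theorem hasNormalPComplement_of_ker {G H : Type*} [Group G] [Finite G] [Group H] [Finite H] {p : ℕ}
    [Fact p.Prime] (f : G →* H) (hker : (Nat.card f.ker).Coprime p) (h : HasNormalPComplement p H) :
    HasNormalPComplement p G := by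
  apply NormalPComplement.of_quotient f.ker hker
  exact NormalPComplement.of_injective (QuotientGroup.kerLift f) (QuotientGroup.kerLift_injective f) h

/-- Centralizer of a Sylow 2-subgroup of a self-centralizing normal subgroup with trivial odd core. -/
theorem hasNormalPComplement_centralizer_aux.{u} (hZ : AutSylow.ZStar.{u}) {Y : Type u} [Group Y] [Finite Y]
    {F : Subgroup Y} [hFn : F.Normal] (hF : centralizer (F : Set Y) ≤ F) (hO : pPrimeCore 2 Y = ⊥)
    {T : Subgroup Y} (hT : IsPGroup 2 T) (hTF : T ≤ F) (hTi : ¬ 2 ∣ T.relIndex F) :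
    HasNormalPComplement 2 ↥(centralizer (T : Set Y)) := by
  have h2 : Fact (Nat.Prime 2) := ⟨Nat.prime_two⟩
  let ρ : Y →* MulAut F := MulAut.conjNormal
  have hρ : ∀ (g : Y) (x : F), ((ρ g x : F) : Y) = g * x * g⁻¹ := fun g x => MulAut.conjNormal_apply g x
  let S : Sylow 2 F := (hT.comap_subtype (K := F)).toSylow (P := T.subgroupOf F) hTi
  have hS : (S : Subgroup F) = T.subgroupOf F := rfl
  have hOF : pPrimeCore 2 F = ⊥ := LBalanceTwo.pPrimeCore_eq_bot_of_normal hO hFn
  have hodd := AutSylow.odd_card_commutator hZ (X := F) (fun N hN hodd => by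
    rw [eq_bot_iff, ← hOF]
    exact Cores.le_pPrimeCore hN (Nat.coprime_two_right.mpr hodd)) S
    ((centralizer (T : Set Y)).map ρ) (by
      rintro _ ⟨h, hh, rfl⟩ s hs
      apply Subtype.ext
      rw [hρ]
      have hs' : (s : Y) ∈ T := hs
      have h1 := mem_centralizer_iff.mp hh s hs'
      exact mul_inv_eq_of_eq_mul h1.symm)
  have hcomp : HasNormalPComplement 2 ↥((centralizer (T : Set Y)).map ρ) := by
    apply hasNormalPComplement_of_coprime_commutator
    have h3 : Nat.card (commutator ↥((centralizer (T : Set Y)).map ρ)) =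
        Nat.card ↥⁅(centralizer (T : Set Y)).map ρ, (centralizer (T : Set Y)).map ρ⁆ := by
      rw [← map_subtype_commutator]
      exact Nat.card_congr ((commutator ↥((centralizer (T : Set Y)).map ρ)).equivMapOfInjective _
        (subtype_injective _)).toEquiv
    rw [h3]
    exact Nat.coprime_two_right.mpr hodd
  -- the restriction
  let f : ↥(centralizer (T : Set Y)) →* ↥((centralizer (T : Set Y)).map ρ) :=
    ρ.subgroupMap (centralizer (T : Set Y))
  have hf : Function.Surjective f := MonoidHom.subgroupMap_surjective ρ _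
  -- `C_Y(F)` is a 2-group
  have hCF : IsPGroup 2 (centralizer (F : Set Y)) := by
    have hn : (centralizer (F : Set Y)).Normal := inferInstance
    have hnil : Group.IsNilpotent (centralizer (F : Set Y)) := by
      have hcomm : ∀ a b : (centralizer (F : Set Y)), a * b = b * a := by
        intro a b
        apply Subtype.ext
        exact (mem_centralizer_iff.mp b.2 a (hF a.2))
      let _ : CommGroup (centralizer (F : Set Y)) :=
        { (inferInstance : Group (centralizer (F : Set Y))) with mul_comm := hcomm }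
      exact CommGroup.isNilpotent
    have h3 : centralizer (F : Set Y) ≤ fittingSubgroup Y := Cores.le_fittingSubgroup hn hnil
    rw [PConstrained.fittingSubgroup_eq_pCore_of_pPrimeCore_eq_bot 2 hO] at h3
    exact (Cores.pCore_isPGroup 2).to_le h3
  have hTle : ∀ x ∈ centralizer (F : Set Y), x ∈ T := by
    -- C_Y(F) is a normal 2-subgroup of F
    intro x hx
    have h3 : IsPGroup 2 ((centralizer (F : Set Y)).subgroupOf F) := hCF.comap_subtype
    have h4 : ((centralizer (F : Set Y)).subgroupOf F).Normal := inferInstance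
    have h5 := IsPGroup.le_sylow_of_normal h3 S
    have h6 : (⟨x, hF hx⟩ : F) ∈ (S : Subgroup F) := h5 (by rw [mem_subgroupOf]; exact hx)
    exact h6
  have hkerf : ∀ z ∈ f.ker, (z : Y) ∈ centralizer (F : Set Y) := by
    intro z hz
    have h3 : ρ (z : Y) = 1 := congrArg Subtype.val (MonoidHom.mem_ker.mp hz)
    rw [mem_centralizer_iff]
    intro y hy
    have h4 := congrArg (fun φ : MulAut F => ((φ ⟨y, hy⟩ : F) : Y)) h3
    simp only [hρ, MulAut.one_apply] at h4
    exact (mul_inv_eq_iff_eq_mul.mp h4).symm
  refine hasNormalPComplement_of_central f hf ?_ ?_ hcomp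
  · intro z
    obtain ⟨k, hk⟩ := hCF ⟨(z : Y), hkerf z z.2⟩
    have h3 : ((z : ↥(centralizer (T : Set Y))) : Y) ^ 2 ^ k = 1 :=
      congrArg (fun w : ↥(centralizer (F : Set Y)) => (w : Y)) hk
    refine ⟨k, ?_⟩
    apply Subtype.ext
    apply Subtype.ext
    exact h3
  · intro z hz g
    apply Subtype.ext
    exact (mem_centralizer_iff.mp g.2 z (hTle _ (hkerf z hz))).symm

/-- **(B)**: the centralizer of a Sylow 2-subgroup of `L_{2'}(X) O_{2',2}(X)` has a normal 2-complement. -/
theorem hasNormalPComplement_centralizer.{u} (hZ : AutSylow.ZStar.{u}) {X : Type u} [Group X] [Finite X]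
    (T : Subgroup X) (hT : RelSylow.IsMaxP 2 (pLayer 2 X ⊔ pPrimePCore 2 X) T) :
    HasNormalPComplement 2 ↥(centralizer (T : Set X)) := by
  have h2 : Fact (Nat.Prime 2) := ⟨Nat.prime_two⟩
  have hOn : (pPrimeCore 2 X).Normal := Cores.pPrimeCore_normal 2
  obtain ⟨M, hM⟩ : ∃ M, M = pLayer 2 X ⊔ pPrimePCore 2 X := ⟨_, rfl⟩
  rw [← hM] at hT
  let π := QuotientGroup.mk' (pPrimeCore 2 X)
  have hMF : M.map π = generalizedFittingSubgroup (X ⧸ pPrimeCore 2 X) := by
    rw [hM]; exact CentSylowPerfect.map_pLayer_sup_pPrimePCore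
  have hFn : (generalizedFittingSubgroup (X ⧸ pPrimeCore 2 X)).Normal := GenFitting.genFitting_normal
  have h1 : HasNormalPComplement 2 ↥(centralizer ((T.map π : Subgroup (X ⧸ pPrimeCore 2 X)) :
      Set (X ⧸ pPrimeCore 2 X))) := by
    apply hasNormalPComplement_centralizer_aux hZ
      (F := generalizedFittingSubgroup (X ⧸ pPrimeCore 2 X)) GenFitting.centralizer_genFitting_le
      (PComponents.pPrimeCore_quotient_eq_bot 2) (hT.1.map π)
    · rw [← hMF]; exact Subgroup.map_mono hT.2.1
    · rw [← hMF]
      intro h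
      apply hT.not_dvd_index
      refine h.trans ?_
      have hker : π.ker ≤ M := by
        rw [QuotientGroup.ker_mk', hM]
        exact (PConstrained.pPrimeCore_le_pPrimePCore 2).trans le_sup_right
      rw [Subgroup.relIndex_map_map, sup_eq_left.mpr hker]
      exact Subgroup.relIndex_dvd_of_le_left M le_sup_left
  have hmap : ∀ x : ↥(centralizer (T : Set X)), π (x : X) ∈ centralizer ((T.map π :
      Subgroup (X ⧸ pPrimeCore 2 X)) : Set (X ⧸ pPrimeCore 2 X)) := by
    intro x
    rw [mem_centralizer_iff]
    rintro _ ⟨t, ht, rfl⟩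
    rw [← map_mul, ← map_mul, mem_centralizer_iff.mp x.2 t ht]
  let f : ↥(centralizer (T : Set X)) →* ↥(centralizer ((T.map π : Subgroup (X ⧸ pPrimeCore 2 X)) :
      Set (X ⧸ pPrimeCore 2 X))) := (π.comp (centralizer (T : Set X)).subtype).codRestrict _ hmap
  refine hasNormalPComplement_of_ker f ?_ h1
  have h3 : (Nat.card (f.ker.map (centralizer (T : Set X)).subtype)) = Nat.card f.ker :=
    (Nat.card_congr (f.ker.equivMapOfInjective _ (subtype_injective _)).toEquiv).symm
  rw [← h3]
  refine Nat.Coprime.coprime_dvd_left (card_dvd_of_le ?_) (Cores.pPrimeCore_coprime (G := X) 2)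
  rintro _ ⟨z, hz, rfl⟩
  have h4 : f z = 1 := hz
  have h5 : π (z : X) = 1 := congrArg Subtype.val h4
  rwa [QuotientGroup.mk'_apply, QuotientGroup.eq_one_iff] at h5

end Cfsg.Agent.SignalizersComponents.CentSylowFStar
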