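import Mathlib
import Cfsg.Prelude.Def_PLocal
import Cfsg.Agent.Lib.Cores
import Cfsg.Agent.Lib.CoprimeAbelian
import Cfsg.Agent.Transfer.ThompsonFactor
import Cfsg.Agent.PLocal.ThompsonJ
import Cfsg.Agent.S0044
import Cfsg.Agent.S0621

set_option autoImplicit false

/-!
A `p`-subgroup `J` of a solvable group centralising all conjugates (under `N T`) of the fixed points of `T` on
`V` centralises `V`; Thompson factorisation for groups with operators whose fixed points are `p`-closed.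
-/

namespace Cfsg.Agent.SignalizersComponents.NoOffender

open Subgroup
open scoped commutatorElement
open Cfsg.Agent.Lib

/-- A `p`-group acting on a nontrivial `p`-group has a nontrivial fixed point. -/
theorem exists_fixed {G : Type*} [Group G] [Finite G] {p : ℕ} [hp : Fact p.Prime] {P N : Subgroup G}
    (hP : IsPGroup p P) (hN : IsPGroup p N) (hne : N ≠ ⊥) (hPN : P ≤ normalizer (N : Set G)) :
    ∃ z ∈ N, z ≠ 1 ∧ ∀ x ∈ P, x * z = z * x := by
  classical
  have hconj : ∀ x ∈ P, ∀ n ∈ N, x * n * x⁻¹ ∈ N := fun x hx n hn =>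
    (mem_normalizer_iff.mp (hPN hx) n).mp hn
  let act : MulAction P N :=
    { smul := fun x n => ⟨x.1 * n.1 * x.1⁻¹, hconj x.1 x.2 n.1 n.2⟩
      one_smul := fun n => Subtype.ext (by
        show (1 : G) * n.1 * (1 : G)⁻¹ = n.1
        group)
      mul_smul := fun x y n => Subtype.ext (by
        show (x.1 * y.1) * n.1 * (x.1 * y.1)⁻¹ = x.1 * (y.1 * n.1 * y.1⁻¹) * x.1⁻¹
        group) }
  have hfix1 : (1 : N) ∈ MulAction.fixedPoints P N := by
    intro x
    apply Subtype.ext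
    show x.1 * (1 : G) * x.1⁻¹ = 1
    group
  haveI : Nontrivial N := (Subgroup.nontrivial_iff_ne_bot N).mpr hne
  obtain ⟨n, hn, hc⟩ := hN.nontrivial_iff_card.mp inferInstance
  obtain ⟨z, hz, hz1⟩ := hP.exists_fixed_point_of_prime_dvd_card_of_fixed_point N
    (by rw [hc]; exact dvd_pow_self p hn.ne') hfix1
  refine ⟨z.1, z.2, fun h => hz1 (Subtype.ext h.symm), fun x hx => ?_⟩
  have h1 := congrArg Subtype.val (hz ⟨x, hx⟩)
  have h2 : x * z.1 * x⁻¹ = z.1 := h1
  calc x * z.1 = (x * z.1 * x⁻¹) * x := by group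
    _ = z.1 * x := by rw [h2]

/-- In a solvable group with `O_p = 1`, `O_{p'}` contains its centraliser. -/
theorem centralizer_pPrimeCore_le {Q : Type*} [Group Q] [Finite Q] (hQ : Group.IsSolvable Q) {p : ℕ}
    [hp : Fact p.Prime] (h : pCore p Q = ⊥) :
    centralizer (pPrimeCore p Q : Set Q) ≤ pPrimeCore p Q := by
  have h1 : fittingSubgroup Q ≤ pPrimeCore p Q := by
    rw [Cores.fittingSubgroup_eq_iSup_pCore]
    refine iSup_le fun q => ?_
    by_cases hq : (q : ℕ) = p
    · rw [hq, h]; exact bot_le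
    · refine Cores.le_pPrimeCore (Cores.pCore_normal _) ?_
      haveI := Fact.mk q.2
      obtain ⟨m, hm⟩ := IsPGroup.iff_card.mp (Cores.pCore_isPGroup (G := Q) (q : ℕ))
      rw [hm]
      exact Nat.Coprime.pow_left m ((Nat.coprime_primes q.2 hp.out).mpr hq)
  haveI := hQ
  exact (centralizer_le h1).trans (Cfsg.Agent.S0044.result.trans h1)

section action

variable {Γ : Type*} [Group Γ]

/-- The action of `Γ / C(V)` on the normal subgroup `V`. -/
noncomputable def quotAct (V : Subgroup Γ) [hV : V.Normal] : (Γ ⧸ centralizer (V : Set Γ)) →* MulAut V :=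
  QuotientGroup.lift (centralizer (V : Set Γ)) (MulAut.conjNormal (H := V)) (by
    intro x hx
    apply MulEquiv.ext
    intro v
    apply Subtype.ext
    rw [MulAut.conjNormal_apply]
    have h1 := (mem_centralizer_iff.mp hx) v v.2
    rw [← h1]
    simp)

theorem quotAct_mk (V : Subgroup Γ) [hV : V.Normal] (g : Γ) (v : V) :
    ((quotAct V (QuotientGroup.mk' _ g) v : V) : Γ) = g * v * g⁻¹ := by
  show ((MulAut.conjNormal g v : V) : Γ) = _
  rw [MulAut.conjNormal_apply]

/-- `[V, B] ∩ C_V(B) = 1` when `B` acts on the abelian normal subgroup `V` through a group of order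
prime to that of `V`. -/
theorem inf_commutator_eq_bot [Finite Γ] (V B : Subgroup Γ) [hV : V.Normal]
    (hab : ∀ x ∈ V, ∀ y ∈ V, x * y = y * x)
    (hcop : (Nat.card (B.map (QuotientGroup.mk' (centralizer (V : Set Γ))))).Coprime (Nat.card V)) :
    ⁅V, B⁆ ⊓ centralizer (B : Set Γ) = ⊥ := by
  rw [eq_bot_iff]
  rintro x ⟨hx1, hx2⟩
  have hVB : ⁅V, B⁆ ≤ V := Subgroup.commutator_le_left V B
  have hxV : x ∈ V := hVB hx1
  let cg : CommGroup V := { (inferInstance : Group V) with
    mul_comm := fun a b => Subtype.ext (hab a a.2 b b.2) }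
  let φ : (B.map (QuotientGroup.mk' (centralizer (V : Set Γ)))) →* MulAut V :=
    (quotAct V).comp (Subgroup.subtype _)
  have hfix : ∀ a, φ a ⟨x, hxV⟩ = ⟨x, hxV⟩ := by
    rintro ⟨_, b, hb, rfl⟩
    apply Subtype.ext
    show ((quotAct V (QuotientGroup.mk' _ b) ⟨x, hxV⟩ : V) : Γ) = x
    rw [quotAct_mk]
    have h1 := (mem_centralizer_iff.mp hx2) b hb
    show b * x * b⁻¹ = x
    rw [h1]; group
  have hmem : (⟨x, hxV⟩ : V) ∈ Subgroup.closure {w : V | ∃ a u, w = φ a u * u⁻¹} := by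
    have h1 : ⁅V, B⁆ ≤ (Subgroup.closure {w : V | ∃ a u, w = φ a u * u⁻¹}).map V.subtype := by
      rw [Subgroup.commutator_comm, Subgroup.commutator_le]
      intro b hb v hv
      refine ⟨φ ⟨_, b, hb, rfl⟩ ⟨v, hv⟩ * (⟨v, hv⟩ : V)⁻¹, Subgroup.subset_closure ⟨_, _, rfl⟩, ?_⟩
      show ((quotAct V (QuotientGroup.mk' _ b) ⟨v, hv⟩ : V) : Γ) * v⁻¹ = ⁅b, v⁆
      rw [quotAct_mk, commutatorElement_def]
    obtain ⟨w, hw, hwx⟩ := h1 hx1
    have h2 : w = ⟨x, hxV⟩ := Subtype.ext hwx
    rwa [h2] at hw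
  have h2 := @CoprimeAbelian.eq_one_of_fixed_of_mem_closure _ _ _ _ _ φ hcop ⟨x, hxV⟩ hfix hmem
  rw [mem_bot]
  exact congrArg Subtype.val h2

end action

/-- **No offenders.** `Γ` solvable, `S` a Sylow `p`-subgroup, `V` the normal closure of a set of elements
centralised by `S`, `N` the preimage of `O_{p'}(Γ / C(V))`, `T` a `p`-subgroup and `J ≤ T` a subgroup
centralising all `N T`-conjugates of the elements of `C_V(T)`.  Then `J` centralises `V`. -/
theorem le_centralizer {Γ : Type*} [Group Γ] [Finite Γ] (hΓ : Group.IsSolvable Γ) {p : ℕ}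
    [hp : Fact p.Prime] (S : Sylow p Γ) (Z : Set Γ) (hZ : ∀ z ∈ Z, ∀ x ∈ (S : Subgroup Γ), x * z = z * x)
    (hVp : IsPGroup p (normalClosure Z))
    (hab : ∀ x ∈ normalClosure Z, ∀ y ∈ normalClosure Z, x * y = y * x)
    (N : Subgroup Γ) (hN : N = (pPrimeCore p (Γ ⧸ centralizer (normalClosure Z : Set Γ))).comap
      (QuotientGroup.mk' (centralizer (normalClosure Z : Set Γ))))
    (T J : Subgroup Γ) (hT : IsPGroup p T) (hJT : J ≤ T)
    (hfix : ∀ g ∈ N ⊔ T, ∀ v ∈ normalClosure Z, (∀ t ∈ T, t * v = v * t) →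
      ∀ j ∈ J, j * (g * v * g⁻¹) = (g * v * g⁻¹) * j) :
    J ≤ centralizer (normalClosure Z : Set Γ) := by
  classical
  have hO := Cfsg.Agent.Transfer.ThompsonFactor.pCore_quotient_centralizer_eq_bot S Z hZ
  set V : Subgroup Γ := normalClosure Z with hV
  set C : Subgroup Γ := centralizer (V : Set Γ) with hC
  set π := QuotientGroup.mk' C with hπ
  have hNn : N.Normal := by rw [hN]; exact (Cores.pPrimeCore_normal p).comap _
  -- `V₁`
  let X : Set Γ := {w | ∃ g ∈ N ⊔ T, ∃ v ∈ V, (∀ t ∈ T, t * v = v * t) ∧ w = g * v * g⁻¹}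
  set B : Subgroup Γ := N ⊓ centralizer X with hB
  have hXK : ∀ g ∈ N ⊔ T, ∀ w ∈ X, g * w * g⁻¹ ∈ X := by
    rintro g hg _ ⟨g', hg', v, hv, hvt, rfl⟩
    exact ⟨g * g', mul_mem hg hg', v, hv, hvt, by group⟩
  have hCX : ∀ g ∈ N ⊔ T, ∀ b ∈ centralizer X, g * b * g⁻¹ ∈ centralizer X := by
    intro g hg b hb
    rw [mem_centralizer_iff]
    intro w hw
    have h1 := (mem_centralizer_iff.mp hb) _ (hXK g⁻¹ (inv_mem hg) w hw)
    have h2 : g⁻¹ * w * g⁻¹⁻¹ * b = b * (g⁻¹ * w * g⁻¹⁻¹) := h1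
    calc w * (g * b * g⁻¹) = g * (g⁻¹ * w * g⁻¹⁻¹ * b) * g⁻¹ := by group
      _ = g * (b * (g⁻¹ * w * g⁻¹⁻¹)) * g⁻¹ := by rw [h2]
      _ = g * b * g⁻¹ * w := by group
  have hBK : ∀ g ∈ N ⊔ T, ∀ b ∈ B, g * b * g⁻¹ ∈ B := fun g hg b hb =>
    ⟨hNn.conj_mem b hb.1 g, hCX g hg b hb.2⟩
  have hJX : J ≤ centralizer X := by
    intro j hj
    rw [mem_centralizer_iff]
    rintro _ ⟨g, hg, v, hv, hvt, rfl⟩
    exact (hfix g hg v hv hvt j hj).symm
  -- `B ≤ C`
  have hBC : B ≤ C := by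
    -- the image of `B` is a `p'`-group
    have hcop : (Nat.card (B.map π)).Coprime (Nat.card V) := by
      obtain ⟨m, hm⟩ := IsPGroup.iff_card.mp hVp
      rw [hm]
      apply Nat.Coprime.pow_right
      have h1 : B.map π ≤ pPrimeCore p (Γ ⧸ C) := by
        refine (Subgroup.map_mono inf_le_left).trans ?_
        rw [hN]; exact Subgroup.map_comap_le _ _
      exact (Cores.pPrimeCore_coprime p).coprime_dvd_left (card_dvd_of_le h1)
    have h1 := inf_commutator_eq_bot V B hab hcop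
    have h2 : ⁅V, B⁆ = ⊥ := by
      by_contra hne
      have hUV : ⁅V, B⁆ ≤ V := Subgroup.commutator_le_left V B
      have hTU : T ≤ normalizer ((⁅V, B⁆ : Subgroup Γ) : Set Γ) := by
        intro t ht
        have htK : t ∈ N ⊔ T := mem_sup_right ht
        rw [mem_normalizer_iff_map_conj_eq]
        rw [Subgroup.map_commutator]
        congr 1
        · have hVn : V.Normal := Subgroup.normalClosure_normal
          exact mem_normalizer_iff_map_conj_eq.mp (by rw [normalizer_eq_top_iff.mpr hVn]; trivial)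
        · apply le_antisymm
          · rintro _ ⟨b, hb, rfl⟩
            exact hBK t htK b hb
          · intro b hb
            refine ⟨t⁻¹ * b * t, ?_, ?_⟩
            · have := hBK t⁻¹ (inv_mem htK) b hb
              simpa using this
            · show t * (t⁻¹ * b * t) * t⁻¹ = b
              group
      obtain ⟨z, hz, hz1, hzT⟩ := exists_fixed hT (hVp.to_le hUV) hne hTU
      have h3 : z ∈ X := ⟨1, one_mem _, z, hUV hz, hzT, by group⟩
      have h4 : z ∈ centralizer (B : Set Γ) := by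
        rw [mem_centralizer_iff]
        intro b hb
        exact ((mem_centralizer_iff.mp hb.2) z h3).symm
      have h5 : z ∈ ⁅V, B⁆ ⊓ centralizer (B : Set Γ) := ⟨hz, h4⟩
      rw [h1, mem_bot] at h5
      exact hz1 h5
    rw [Subgroup.commutator_comm, Subgroup.commutator_eq_bot_iff_le_centralizer] at h2
    exact h2
  -- `J` centralises `N` modulo `C`
  have h3 : J.map π ≤ centralizer (pPrimeCore p (Γ ⧸ C) : Set (Γ ⧸ C)) := by
    rintro _ ⟨j, hj, rfl⟩
    rw [mem_centralizer_iff]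
    intro y hy
    obtain ⟨n, rfl⟩ := QuotientGroup.mk'_surjective C y
    have hn : n ∈ N := by rw [hN]; exact hy
    have hjK : j ∈ N ⊔ T := mem_sup_right (hJT hj)
    have h4 : j * n * j⁻¹ * n⁻¹ ∈ B := by
      refine ⟨N.mul_mem (hNn.conj_mem n hn j) (N.inv_mem hn), ?_⟩
      have h5 := mul_mem (hJX hj) (hCX n (mem_sup_left hn) j⁻¹ (inv_mem (hJX hj)))
      have h6 : j * (n * j⁻¹ * n⁻¹) = j * n * j⁻¹ * n⁻¹ := by group
      rwa [h6] at h5
    have h5 : QuotientGroup.mk' C (j * n * j⁻¹ * n⁻¹) = 1 := by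
      rw [← MonoidHom.mem_ker, QuotientGroup.ker_mk']
      exact hBC h4
    have h6 : QuotientGroup.mk' C j * QuotientGroup.mk' C n =
        QuotientGroup.mk' C n * QuotientGroup.mk' C j := by
      have h7 : (j * n * j⁻¹ * n⁻¹) * (n * j) = j * n := by group
      rw [← map_mul, ← h7, map_mul, h5, one_mul, map_mul]
    exact h6.symm
  haveI := hΓ
  have h4 : J.map π ≤ pPrimeCore p (Γ ⧸ C) :=
    h3.trans (centralizer_pPrimeCore_le inferInstance hO)
  have h5 : J.map π = ⊥ := by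
    have h6 : IsPGroup p (J.map π) := (hT.to_le hJT).map π
    obtain ⟨m, hm⟩ := IsPGroup.iff_card.mp h6
    have h7 : (Nat.card (J.map π)).Coprime p :=
      (Cores.pPrimeCore_coprime p).coprime_dvd_left (card_dvd_of_le h4)
    rw [← Subgroup.card_eq_one]
    rw [hm] at h7 ⊢
    rcases Nat.eq_zero_or_pos m with h8 | h8
    · rw [h8, pow_zero]
    · exact absurd h7 (by
        rw [Nat.coprime_pow_left_iff h8, Nat.coprime_self]
        exact hp.out.one_lt.ne')
  rw [Subgroup.map_eq_bot_iff, hπ, QuotientGroup.ker_mk'] at h5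
  exact h5

end Cfsg.Agent.SignalizersComponents.NoOffender
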