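import Mathlib

set_option autoImplicit false

/-!
An elementary abelian `2`-group acting on a group of odd order: the group is generated by its
"weight elements" (elements which are centralized or inverted by each element of the acting group).
-/

namespace Cfsg.Agent.SignalizersComponents.OddWeights

variable {G : Type*} [Group G]

/-- Splitting lemma: `u` in a subgroup `L` of odd order `2 * m + 1`, `b` an element with `b * b = 1`
normalizing `L`. Then `u = s * t * s` with `s` centralized by `b` and `t` inverted by `b`, both in `L`, and each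
element commuting with `b` which centralizes (inverts) `u` centralizes (inverts) both `s` and `t`. -/
theorem split (L : Subgroup G) (m : ℕ) (hL : ∀ x ∈ L, x ^ (2 * m + 1) = 1) (b : G) (hb : b * b = 1)
    (hbL : ∀ x ∈ L, b * x * b⁻¹ ∈ L) (u : G) (hu : u ∈ L) :
    ∃ s ∈ L, ∃ t ∈ L, u = s * t * s ∧ b * s * b⁻¹ = s ∧ b * t * b⁻¹ = t⁻¹ ∧
      ∀ a : G, a * b = b * a →
        (a * u * a⁻¹ = u → a * s * a⁻¹ = s ∧ a * t * a⁻¹ = t) ∧
        (a * u * a⁻¹ = u⁻¹ → a * s * a⁻¹ = s⁻¹ ∧ a * t * a⁻¹ = t⁻¹) := by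
  have hb' : b⁻¹ = b := by rw [inv_eq_iff_mul_eq_one, hb]
  -- square roots
  have sq : ∀ x ∈ L, x ^ (m + 1) * x ^ (m + 1) = x := by
    intro x hx
    rw [← pow_add, show m + 1 + (m + 1) = (2 * m + 1) + 1 by ring, pow_succ, hL x hx, one_mul]
  set v : G := b * u * b⁻¹ with hv
  have hvL : v ∈ L := hbL u hu
  have hbv : b * v * b⁻¹ = u := by
    rw [hv, hb']
    calc b * (b * u * b) * b = (b * b) * u * (b * b) := by group
      _ = u := by rw [hb]; group
  set w : G := v * u⁻¹ with hw
  have hwL : w ∈ L := mul_mem hvL (inv_mem hu)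
  have hbw : b * w * b⁻¹ = w⁻¹ := by
    calc b * w * b⁻¹ = (b * v * b⁻¹) * (b * u * b⁻¹)⁻¹ := by rw [hw]; group
      _ = u * v⁻¹ := by rw [hbv, ← hv]
      _ = w⁻¹ := by rw [hw]; group
  set q : G := w ^ (m + 1) with hq
  have hqq : q * q = w := sq w hwL
  have hqL : q ∈ L := pow_mem hwL _
  have hbq : b * q * b⁻¹ = q⁻¹ := by
    rw [hq, ← conj_pow, hbw, inv_pow]
  set r : G := q * u with hr
  have hrL : r ∈ L := mul_mem hqL hu
  have hbr : b * r * b⁻¹ = r := by
    calc b * r * b⁻¹ = (b * q * b⁻¹) * (b * u * b⁻¹) := by rw [hr]; group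
      _ = q⁻¹ * v := by rw [hbq, ← hv]
      _ = q⁻¹ * (w * u) := by rw [hw]; group
      _ = q⁻¹ * (q * q * u) := by rw [hqq]
      _ = r := by rw [hr]; group
  set s : G := r ^ (m + 1) with hs
  have hss : s * s = r := sq r hrL
  have hsL : s ∈ L := pow_mem hrL _
  have hbs : b * s * b⁻¹ = s := by
    rw [hs, ← conj_pow, hbr]
  set t : G := s⁻¹ * u * s⁻¹ with ht
  have htL : t ∈ L := mul_mem (mul_mem (inv_mem hsL) hu) (inv_mem hsL)
  refine ⟨s, hsL, t, htL, ?_, hbs, ?_, ?_⟩
  · rw [ht]; group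
  · calc b * t * b⁻¹ = (b * s * b⁻¹)⁻¹ * (b * u * b⁻¹) * (b * s * b⁻¹)⁻¹ := by rw [ht]; group
      _ = s⁻¹ * v * s⁻¹ := by rw [hbs, ← hv]
      _ = s⁻¹ * (w * u) * s⁻¹ := by rw [hw]; group
      _ = s⁻¹ * (q * q * u) * s⁻¹ := by rw [hqq]
      _ = s⁻¹ * (r * u⁻¹ * r) * s⁻¹ := by rw [hr]; group
      _ = s⁻¹ * ((s * s) * u⁻¹ * (s * s)) * s⁻¹ := by rw [hss]
      _ = t⁻¹ := by rw [ht]; group
  · intro a hab
    have hav : a * v * a⁻¹ = b * (a * u * a⁻¹) * b⁻¹ := by
      rw [hv]
      calc a * (b * u * b⁻¹) * a⁻¹ = (a * b) * u * (a * b)⁻¹ := by group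
        _ = (b * a) * u * (b * a)⁻¹ := by rw [hab]
        _ = b * (a * u * a⁻¹) * b⁻¹ := by group
    constructor
    · intro hau
      rw [hau, ← hv] at hav
      have haw : a * w * a⁻¹ = w := by
        calc a * w * a⁻¹ = (a * v * a⁻¹) * (a * u * a⁻¹)⁻¹ := by rw [hw]; group
          _ = w := by rw [hav, hau]
      have haq : a * q * a⁻¹ = q := by rw [hq, ← conj_pow, haw]
      have har : a * r * a⁻¹ = r := by
        calc a * r * a⁻¹ = (a * q * a⁻¹) * (a * u * a⁻¹) := by rw [hr]; group
          _ = r := by rw [haq, hau]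
      have has : a * s * a⁻¹ = s := by rw [hs, ← conj_pow, har]
      refine ⟨has, ?_⟩
      calc a * t * a⁻¹ = (a * s * a⁻¹)⁻¹ * (a * u * a⁻¹) * (a * s * a⁻¹)⁻¹ := by rw [ht]; group
        _ = t := by rw [has, hau]
    · intro hau
      have hav' : a * v * a⁻¹ = v⁻¹ := by
        rw [hav, hau]
        calc b * u⁻¹ * b⁻¹ = (b * u * b⁻¹)⁻¹ := by group
          _ = v⁻¹ := by rw [← hv]
      have haw : a * w * a⁻¹ = u⁻¹ * w⁻¹ * (u⁻¹)⁻¹ := by
        calc a * w * a⁻¹ = (a * v * a⁻¹) * (a * u * a⁻¹)⁻¹ := by rw [hw]; group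
          _ = v⁻¹ * (u⁻¹)⁻¹ := by rw [hav', hau]
          _ = u⁻¹ * w⁻¹ * (u⁻¹)⁻¹ := by rw [hw]; group
      have haq : a * q * a⁻¹ = u⁻¹ * q⁻¹ * u := by
        rw [hq, ← conj_pow, haw, conj_pow, inv_pow, inv_inv]
      have har : a * r * a⁻¹ = r⁻¹ := by
        calc a * r * a⁻¹ = (a * q * a⁻¹) * (a * u * a⁻¹) := by rw [hr]; group
          _ = u⁻¹ * q⁻¹ * u * u⁻¹ := by rw [haq, hau]
          _ = r⁻¹ := by rw [hr]; group
      have has : a * s * a⁻¹ = s⁻¹ := by rw [hs, ← conj_pow, har, inv_pow]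
      refine ⟨has, ?_⟩
      calc a * t * a⁻¹ = (a * s * a⁻¹)⁻¹ * (a * u * a⁻¹) * (a * s * a⁻¹)⁻¹ := by rw [ht]; group
        _ = s * u⁻¹ * s := by rw [has, hau, inv_inv]
        _ = t⁻¹ := by rw [ht]; group

/-- The weight elements of `L` for a set `S` of elements: those elements of `L` which each element of `S`
centralizes or inverts. -/
def weights (L : Subgroup G) (S : Set G) : Set G :=
  {x | x ∈ L ∧ ∀ a ∈ S, a * x * a⁻¹ = x ∨ a * x * a⁻¹ = x⁻¹}

theorem mem_weights {L : Subgroup G} {S : Set G} {x : G} :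
    x ∈ weights L S ↔ x ∈ L ∧ ∀ a ∈ S, a * x * a⁻¹ = x ∨ a * x * a⁻¹ = x⁻¹ := Iff.rfl

/-- A subgroup `L` of odd order acted on by an elementary abelian `2`-group `A` (`A` and `L` subgroups of a
common group, `A` normalizing `L`) is generated by its weight elements: elements of `L` which are centralized or
inverted by each element of `A`. -/
theorem closure_weights [Finite G] (L A : Subgroup G) (hL : Odd (Nat.card ↥L))
    (hAc : ∀ a ∈ A, ∀ b ∈ A, a * b = b * a) (hA2 : ∀ a ∈ A, a * a = 1)
    (hAL : ∀ a ∈ A, ∀ x ∈ L, a * x * a⁻¹ ∈ L) :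
    Subgroup.closure (weights L (A : Set G)) = L := by
  classical
  obtain ⟨m, hm⟩ := hL
  have hLm : ∀ x ∈ L, x ^ (2 * m + 1) = 1 := by
    intro x hx
    have := pow_card_eq_one' (G := ↥L) (x := ⟨x, hx⟩)
    rw [hm] at this
    simpa using congrArg Subtype.val this
  apply le_antisymm
  · rw [Subgroup.closure_le]
    exact fun x hx => hx.1
  · -- induction on a finite set of elements of `A`
    have key : ∀ S : Finset G, (S : Set G) ⊆ A → L ≤ Subgroup.closure (weights L (S : Set G)) := by
      intro S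
      induction S using Finset.induction_on with
      | empty =>
        intro _ x hx
        apply Subgroup.subset_closure
        exact ⟨hx, fun a ha => absurd ha (by simp)⟩
      | insert b S hbS ih =>
        intro hS
        have hbA : b ∈ A := hS (by simp)
        have hSA : (S : Set G) ⊆ A := fun x hx => hS (by simp [Finset.mem_coe.mp hx])
        refine (ih hSA).trans ?_
        rw [Subgroup.closure_le]
        rintro u ⟨huL, hu⟩
        obtain ⟨s, hs, t, ht, hust, hbs, hbt, hst⟩ :=
          split L m hLm b (hA2 b hbA) (hAL b hbA) u huL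
        have hsw : s ∈ weights L ((insert b S : Finset G) : Set G) := by
          refine ⟨hs, fun a ha => ?_⟩
          rcases Finset.mem_insert.mp (Finset.mem_coe.mp ha) with rfl | haS
          · exact Or.inl hbs
          · rcases hu a haS with h | h
            · exact Or.inl (((hst a (hAc a (hSA haS) b hbA)).1 h).1)
            · exact Or.inr (((hst a (hAc a (hSA haS) b hbA)).2 h).1)
        have htw : t ∈ weights L ((insert b S : Finset G) : Set G) := by
          refine ⟨ht, fun a ha => ?_⟩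
          rcases Finset.mem_insert.mp (Finset.mem_coe.mp ha) with rfl | haS
          · exact Or.inr hbt
          · rcases hu a haS with h | h
            · exact Or.inl (((hst a (hAc a (hSA haS) b hbA)).1 h).2)
            · exact Or.inr (((hst a (hAc a (hSA haS) b hbA)).2 h).2)
        rw [hust]
        exact mul_mem (mul_mem (Subgroup.subset_closure hsw) (Subgroup.subset_closure htw))
          (Subgroup.subset_closure hsw)
    have hfin : (A : Set G).Finite := Set.toFinite _
    have := key hfin.toFinset (by simp)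
    simpa using this

end Cfsg.Agent.SignalizersComponents.OddWeights
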