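import Mathlib

set_option autoImplicit false

/-!
Two facts on self-centralizing subgroups, for coprime actions by conjugation in a finite group:
* a solvable subgroup `L` normalized by `S` contains a subgroup `W` of class at most two, normalized by
  `L` and `S`, containing its centralizer in `L`;
* an element `a` (of order dividing `2`) normalizing a nilpotent subgroup of odd order whose fixed points
  contain their own centralizer acts trivially.
-/

namespace Cfsg.Agent.SignalizersComponents.ClassTwo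

open scoped commutatorElement

variable {G : Type*} [Group G]

/-- A nontrivial solvable subgroup properly contains its commutator subgroup. -/
theorem commutator_lt {V : Subgroup G} (hV : Group.IsSolvable ↥V) (hne : V ≠ ⊥) : ⁅V, V⁆ < V := by
  have := hV
  have : Nontrivial ↥V := (Subgroup.nontrivial_iff_ne_bot V).mpr hne
  have h := Group.IsSolvable.commutator_lt_top_of_nontrivial (G := ↥V)
  have h2 : (commutator ↥V).map V.subtype < (⊤ : Subgroup ↥V).map V.subtype := by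
    rwa [Subgroup.map_subtype_lt_map_subtype]
  rwa [commutator_def, Subgroup.map_commutator, ← MonoidHom.range_eq_map, Subgroup.range_subtype]
    at h2

/-- Normalizing `H` and `K` implies normalizing `⁅H, K⁆`. -/
theorem le_normalizer_commutator {T H K : Subgroup G} (hH : T ≤ Subgroup.normalizer (H : Set G))
    (hK : T ≤ Subgroup.normalizer (K : Set G)) :
    T ≤ Subgroup.normalizer ((⁅H, K⁆ : Subgroup G) : Set G) := by
  intro g hg
  rw [Subgroup.mem_normalizer_iff_map_conj_eq]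
  have h1 := (Subgroup.mem_normalizer_iff_map_conj_eq).mp (hH hg)
  have h2 := (Subgroup.mem_normalizer_iff_map_conj_eq).mp (hK hg)
  rw [Subgroup.map_commutator, h1, h2]

/-- Normalizing `H` implies normalizing the centralizer of `H`. -/
theorem le_normalizer_centralizer {T H : Subgroup G} (hH : T ≤ Subgroup.normalizer (H : Set G)) :
    T ≤ Subgroup.normalizer ((Subgroup.centralizer (H : Set G) : Subgroup G) : Set G) := by
  rw [Subgroup.le_normalizer_iff]
  intro g hg c hc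
  rw [Subgroup.mem_centralizer_iff] at hc ⊢
  intro h hh
  have hh' : g⁻¹ * h * g ∈ H := by
    have := (Subgroup.le_normalizer_iff.mp hH) g⁻¹ (inv_mem hg) h hh
    simpa using this
  have := hc _ hh'
  calc h * (g * c * g⁻¹) = g * ((g⁻¹ * h * g) * c) * g⁻¹ := by group
    _ = g * (c * (g⁻¹ * h * g)) * g⁻¹ := by rw [this]
    _ = g * c * g⁻¹ * h := by group

theorem le_normalizer_inf {T H K : Subgroup G} (hH : T ≤ Subgroup.normalizer (H : Set G))
    (hK : T ≤ Subgroup.normalizer (K : Set G)) :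
    T ≤ Subgroup.normalizer ((H ⊓ K : Subgroup G) : Set G) := by
  rw [Subgroup.le_normalizer_iff] at hH hK ⊢
  intro g hg x hx
  exact ⟨hH g hg x hx.1, hK g hg x hx.2⟩

/-- A solvable subgroup `L` of a finite group, normalized by `S`, contains a subgroup `W` of nilpotency
class at most two, normalized by `L` and by `S`, with `C_L(W) ≤ W`. -/
theorem exists_classTwo [Finite G] (L S : Subgroup G) (hL : Group.IsSolvable ↥L)
    (hSL : S ≤ Subgroup.normalizer (L : Set G)) :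
    ∃ W : Subgroup G, W ≤ L ∧ ⁅W, W⁆ ≤ Subgroup.centralizer (W : Set G) ∧
      L ⊔ S ≤ Subgroup.normalizer (W : Set G) ∧ L ⊓ Subgroup.centralizer (W : Set G) ≤ W := by
  have hTL : L ⊔ S ≤ Subgroup.normalizer (L : Set G) := sup_le Subgroup.le_normalizer hSL
  have hne : {W : Subgroup G | W ≤ L ∧ ⁅W, W⁆ ≤ Subgroup.centralizer (W : Set G) ∧
      L ⊔ S ≤ Subgroup.normalizer (W : Set G)}.Nonempty := by
    refine ⟨⊥, bot_le, by simp, ?_⟩
    rw [Subgroup.le_normalizer_iff]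
    intro g _ k hk
    rw [Subgroup.mem_bot] at hk ⊢
    subst hk
    simp
  obtain ⟨W, ⟨hWL, hWc, hWT⟩, hmax⟩ := (Set.toFinite _).exists_maximal hne
  refine ⟨W, hWL, hWc, hWT, ?_⟩
  by_contra hcon
  set C : Subgroup G := L ⊓ Subgroup.centralizer (W : Set G) with hC
  have hTC : L ⊔ S ≤ Subgroup.normalizer (C : Set G) :=
    le_normalizer_inf hTL (le_normalizer_centralizer hWT)
  obtain ⟨V, ⟨hVC, hVT, hVW⟩, hmin⟩ := (Set.toFinite {V : Subgroup G | V ≤ C ∧
      L ⊔ S ≤ Subgroup.normalizer (V : Set G) ∧ ¬ V ≤ W}).exists_minimal ⟨C, le_rfl, hTC, hcon⟩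
  have hVL : V ≤ L := hVC.trans inf_le_left
  have hVcW : V ≤ Subgroup.centralizer (W : Set G) := hVC.trans inf_le_right
  have hVsol : Group.IsSolvable ↥V := by
    have := hL
    exact Group.isSolvable_of_isSolvable_injective (Subgroup.inclusion_injective hVL)
  have hVbot : V ≠ ⊥ := by
    rintro rfl
    exact hVW bot_le
  have hlt := commutator_lt hVsol hVbot
  have hVV : ⁅V, V⁆ ≤ W := by
    by_contra h
    exact hlt.not_ge (hmin ⟨hlt.le.trans hVC, le_normalizer_commutator hVT hVT, h⟩ hlt.le)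
  -- `W ⊔ V` is again in the family
  have hVnW : V ≤ Subgroup.normalizer (W : Set G) := (hVL.trans le_sup_left).trans hWT
  have hmem : ∀ x ∈ W ⊔ V, ∃ w ∈ W, ∃ v ∈ V, w * v = x := by
    intro x hx
    have : x ∈ ((W ⊔ V : Subgroup G) : Set G) := hx
    rw [Subgroup.coe_mul_of_right_le_normalizer_left W V hVnW] at this
    obtain ⟨w, hw, v, hv, rfl⟩ := this
    exact ⟨w, hw, v, hv, rfl⟩
  have hcomm : ∀ w ∈ W, ∀ v ∈ V, w * v = v * w := by
    intro w hw v hv
    exact (Subgroup.mem_centralizer_iff.mp (hVcW hv)) w hw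
  have hWV : ⁅W ⊔ V, W ⊔ V⁆ ≤ Subgroup.centralizer ((W ⊔ V : Subgroup G) : Set G) := by
    rw [Subgroup.commutator_le]
    intro g₁ hg₁ g₂ hg₂
    obtain ⟨w₁, hw₁, v₁, hv₁, rfl⟩ := hmem g₁ hg₁
    obtain ⟨w₂, hw₂, v₂, hv₂, rfl⟩ := hmem g₂ hg₂
    have e : ⁅w₁ * v₁, w₂ * v₂⁆ = ⁅w₁, w₂⁆ * ⁅v₁, v₂⁆ := by
      have c1 := hcomm w₁ hw₁ v₂ hv₂
      have c2 := hcomm w₂ hw₂ v₁ hv₁
      have c3 := hcomm w₁ hw₁ v₁ hv₁
      have c4 := hcomm w₂ hw₂ v₂ hv₂
      have c5 : Commute (w₁ : G) (v₁ : G) := c3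
      have c6 : Commute (w₂ : G) (v₂ : G) := c4
      have c7 : Commute (w₁ : G) (v₂ : G) := c1
      have c8 : Commute (w₂ : G) (v₁ : G) := c2
      simp only [commutatorElement_def, mul_inv_rev]
      calc w₁ * v₁ * (w₂ * v₂) * (v₁⁻¹ * w₁⁻¹) * (v₂⁻¹ * w₂⁻¹)
          = w₁ * (v₁ * w₂) * v₂ * (v₁⁻¹ * w₁⁻¹) * (v₂⁻¹ * w₂⁻¹) := by group
        _ = w₁ * (w₂ * v₁) * v₂ * (v₁⁻¹ * w₁⁻¹) * (v₂⁻¹ * w₂⁻¹) := by rw [c8.eq]
        _ = w₁ * w₂ * (v₁ * v₂ * v₁⁻¹) * (w₁⁻¹ * v₂⁻¹) * w₂⁻¹ := by group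
        _ = w₁ * w₂ * (v₁ * v₂ * v₁⁻¹) * (v₂⁻¹ * w₁⁻¹) * w₂⁻¹ := by
            rw [(c7.inv_inv).eq]
        _ = w₁ * w₂ * ((v₁ * v₂ * v₁⁻¹ * v₂⁻¹) * (w₁⁻¹ * w₂⁻¹)) := by group
        _ = w₁ * w₂ * ((w₁⁻¹ * w₂⁻¹) * (v₁ * v₂ * v₁⁻¹ * v₂⁻¹)) := by
            congr 1
            have d1 : Commute (v₁ * v₂ * v₁⁻¹ * v₂⁻¹) (w₁⁻¹ * w₂⁻¹) := by
              apply Commute.mul_right
              · exact ((((c5.symm).mul_left c7.symm).mul_left c5.symm.inv_left).mul_left
                  c7.symm.inv_left).inv_right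
              · exact ((((c8.symm).mul_left c6.symm).mul_left c8.symm.inv_left).mul_left
                  c6.symm.inv_left).inv_right
            exact d1.eq
        _ = w₁ * w₂ * w₁⁻¹ * w₂⁻¹ * (v₁ * v₂ * v₁⁻¹ * v₂⁻¹) := by group
    rw [e]
    -- both factors centralize `W` and `V`
    have hcen : ∀ z ∈ W, z ∈ Subgroup.centralizer (W : Set G) →
        z ∈ Subgroup.centralizer ((W ⊔ V : Subgroup G) : Set G) := by
      intro z hzW hz
      rw [Subgroup.mem_centralizer_iff] at hz ⊢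
      intro h hh
      obtain ⟨w, hw, v, hv, rfl⟩ := hmem h hh
      rw [mul_assoc, ← hcomm z hzW v hv, ← mul_assoc, hz w hw, mul_assoc]
    apply mul_mem
    · exact hcen _ (by
        rw [commutatorElement_def]
        exact mul_mem (mul_mem (mul_mem hw₁ hw₂) (inv_mem hw₁)) (inv_mem hw₂))
        (hWc (Subgroup.commutator_mem_commutator hw₁ hw₂))
    · have hv12 := Subgroup.commutator_mem_commutator hv₁ hv₂
      exact hcen _ (hVV hv12) (hVcW (hlt.le hv12))
  have hWVT : L ⊔ S ≤ Subgroup.normalizer ((W ⊔ V : Subgroup G) : Set G) :=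
    (le_inf hWT hVT).trans (Subgroup.normalizer_inf_normalizer_le_normalizer_sup W V)
  exact hVW (le_sup_right.trans (hmax ⟨sup_le hWL hVL, hWV, hWVT⟩ le_sup_left))

/-- A subgroup `W` with `⁅W, W⁆ ≤ C(W)` is nilpotent. -/
theorem isNilpotent_of_classTwo {W : Subgroup G} (h : ⁅W, W⁆ ≤ Subgroup.centralizer (W : Set G)) :
    Group.IsNilpotent ↥W := by
  rw [Subgroup.isNilpotent_iff_lowerCentralSeries]
  refine ⟨2, ?_⟩
  rw [Subgroup.lowerCentralSeries_succ, Subgroup.lowerCentralSeries_succ,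
    Subgroup.lowerCentralSeries_zero, Subgroup.commutator_eq_bot_iff_le_centralizer]
  exact h

/-- Core computation: if `a * a` is trivial, `g⁻¹ * (a * g * a⁻¹)` has odd order and is fixed by `a`, then
`a` fixes `g`. -/
theorem fixed_of_comm_fixed (m : ℕ) (a g : G) (ha : a * a = 1)
    (h : (g⁻¹ * (a * g * a⁻¹)) ^ (2 * m + 1) = 1)
    (hfix : a * (g⁻¹ * (a * g * a⁻¹)) * a⁻¹ = g⁻¹ * (a * g * a⁻¹)) : a * g * a⁻¹ = g := by
  set k := g⁻¹ * (a * g * a⁻¹) with hk
  have ha' : a⁻¹ = a := by rw [inv_eq_iff_mul_eq_one, ha]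
  have h1 : a * k * a⁻¹ = k⁻¹ := by
    rw [hk, ha']
    calc a * (g⁻¹ * (a * g * a)) * a = (a * g⁻¹ * a) * g * (a * a) := by group
      _ = (a * g⁻¹ * a) * g := by rw [ha, mul_one]
      _ = (a⁻¹ * g⁻¹ * a⁻¹) * g := by rw [ha']
      _ = (g⁻¹ * (a * g * a))⁻¹ := by group
  have h2 : k⁻¹ = k := h1.symm.trans hfix
  have h3 : k * k = 1 := by rwa [inv_eq_iff_mul_eq_one] at h2
  have h4 : k = 1 := by
    have : k ^ (2 * m + 1) = k := by
      rw [pow_succ, pow_mul, pow_two, h3, one_pow, one_mul]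
    rw [← this, h]
  rw [hk, inv_mul_eq_one] at h4
  exact h4.symm

/-- If `W` is normalized by `g` and by `a`, where `a * a = 1` and `a` centralizes `W`, and
`g⁻¹ * (a * g * a⁻¹)` is centralized by `a` as soon as it centralizes `W`, then `a` centralizes `g`. -/
theorem fixed_of_centralizes (m : ℕ) (W : Subgroup G) (a g : G) (ha : a * a = 1)
    (haW : a ∈ Subgroup.centralizer (W : Set G)) (hg : ∀ w ∈ W, g * w * g⁻¹ ∈ W)
    (hodd : (g⁻¹ * (a * g * a⁻¹)) ^ (2 * m + 1) = 1)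
    (hC : g⁻¹ * (a * g * a⁻¹) ∈ Subgroup.centralizer (W : Set G) →
      a * (g⁻¹ * (a * g * a⁻¹)) * a⁻¹ = g⁻¹ * (a * g * a⁻¹)) : a * g * a⁻¹ = g := by
  apply fixed_of_comm_fixed m a g ha hodd
  apply hC
  rw [Subgroup.mem_centralizer_iff] at haW ⊢
  intro w hw
  have h1 : a * w * a⁻¹ = w := by rw [← haW w hw]; group
  have h2 : a * (g * w * g⁻¹) * a⁻¹ = g * w * g⁻¹ := by rw [← haW _ (hg w hw)]; group
  have h3 : (a * g * a⁻¹) * w * (a * g * a⁻¹)⁻¹ = g * w * g⁻¹ := by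
    calc (a * g * a⁻¹) * w * (a * g * a⁻¹)⁻¹
        = a * g * (a⁻¹ * w * a) * g⁻¹ * a⁻¹ := by group
      _ = a * g * w * g⁻¹ * a⁻¹ := by
          congr 3
          calc a⁻¹ * w * a = a⁻¹ * (a * w * a⁻¹) * a := by rw [h1]
            _ = w := by group
      _ = a * (g * w * g⁻¹) * a⁻¹ := by group
      _ = g * w * g⁻¹ := h2
  calc w * (g⁻¹ * (a * g * a⁻¹)) = g⁻¹ * (g * w * g⁻¹) * (a * g * a⁻¹) := by group
    _ = g⁻¹ * ((a * g * a⁻¹) * w * (a * g * a⁻¹)⁻¹) * (a * g * a⁻¹) := by rw [h3]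
    _ = g⁻¹ * (a * g * a⁻¹) * w := by group

/-- `L` nilpotent of odd order normalized by `a` with `a * a = 1`; if `C_L(a)` contains its own centralizer
in `L`, then `a` centralizes `L`. -/
theorem centralizes_of_nilpotent [Finite G] (L : Subgroup G) (hL : Group.IsNilpotent ↥L)
    (hodd : Odd (Nat.card ↥L)) (a : G) (ha : a * a = 1) (haL : ∀ x ∈ L, a * x * a⁻¹ ∈ L)
    (h : ∀ y ∈ L, (∀ x ∈ L, a * x * a⁻¹ = x → x * y = y * x) → a * y * a⁻¹ = y) :
    ∀ x ∈ L, a * x * a⁻¹ = x := by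
  obtain ⟨m, hm⟩ := hodd
  have hLm : ∀ x ∈ L, x ^ (2 * m + 1) = 1 := by
    intro x hx
    have := pow_card_eq_one' (G := ↥L) (x := ⟨x, hx⟩)
    rw [hm] at this
    simpa using congrArg Subtype.val this
  have := hL
  have hnc : NormalizerCondition ↥L := Group.normalizerCondition_of_isNilpotent
  rw [normalizerCondition_iff_only_full_group_self_normalizing] at hnc
  set D : Subgroup ↥L := (Subgroup.centralizer {a}).subgroupOf L with hD
  have memD : ∀ x : ↥L, x ∈ D ↔ a * x * a⁻¹ = x := by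
    intro x
    rw [hD, Subgroup.mem_subgroupOf, Subgroup.mem_centralizer_singleton_iff,
      mul_inv_eq_iff_eq_mul]
    exact eq_comm
  have key : D = ⊤ := by
    apply hnc
    apply le_antisymm _ Subgroup.le_normalizer
    intro g hg
    rw [memD]
    have hg' : ∀ w ∈ D.map L.subtype, (g : G) * w * (g : G)⁻¹ ∈ D.map L.subtype := by
      rintro _ ⟨w, hw, rfl⟩
      exact ⟨g * w * g⁻¹, (Subgroup.mem_normalizer_iff.mp hg w).mp hw, by simp⟩
    have hgL : (g : G)⁻¹ * (a * g * a⁻¹) ∈ L := mul_mem (inv_mem g.2) (haL g g.2)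
    apply fixed_of_centralizes m (D.map L.subtype) a g ha _ hg' (hLm _ hgL)
    · intro hcen
      apply h _ hgL
      intro x hx hax
      rw [Subgroup.mem_centralizer_iff] at hcen
      exact hcen x ⟨⟨x, hx⟩, (memD ⟨x, hx⟩).mpr hax, rfl⟩
    · rw [Subgroup.mem_centralizer_iff]
      rintro _ ⟨w, hw, rfl⟩
      have := (memD w).mp hw
      rw [mul_inv_eq_iff_eq_mul] at this
      exact this.symm
  intro x hx
  exact (memD ⟨x, hx⟩).mp (by rw [key]; trivial)

end Cfsg.Agent.SignalizersComponents.ClassTwo
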