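import Mathlib
import Cfsg.Prelude.Def_Spor_J1
import Cfsg.Agent.SignalizersComponents.BalLocal
import Cfsg.Agent.SignalizersComponents.BalEndSz
import Cfsg.Agent.Lib.KleinOrder
import Cfsg.Agent.SporadicB.J1.Main

/-!
# The local setup on `J₁`

In a simple group with one class of involutions and order not divisible by the square of an odd
prime the subgroup `W` of a local setup is trivial: the order formula for four-groups shows that
`W` centralizes all involutions of `T`, so `N(W)` is strongly embedded if `W ≠ 1`.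
-/

set_option autoImplicit false

namespace Cfsg.Agent.SignalizersComponents.BalEndJ1

open Cfsg Subgroup
open Cfsg.Agent.SignalizersComponents.BalRed Cfsg.Agent.SignalizersComponents.BalLocal

universe u

theorem card_arith {w c v : ℕ} (h : w * v ^ 2 = c * c * c) (hcw : c ∣ w) (hw : Odd w)
    (hsq : ∀ p : ℕ, p.Prime → p ≠ 2 → ¬ p ^ 2 ∣ w) : c = w := by
  obtain ⟨k, hk⟩ := hcw
  by_contra hne
  have hk1 : k ≠ 1 := by
    rintro rfl
    apply hne
    rw [hk, mul_one]
  obtain ⟨p, hp, hpk⟩ := Nat.exists_prime_and_dvd hk1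
  have hp2 : p ≠ 2 := by
    rintro rfl
    have : 2 ∣ w := hk ▸ hpk.mul_left c
    rw [Nat.odd_iff] at hw
    omega
  have h1 : p ∣ c * c * c := by
    rw [← h, hk]
    exact (hpk.mul_left c).mul_right _
  have h2 : p ∣ c := by
    rcases (hp.dvd_mul).1 h1 with h1 | h1
    · rcases (hp.dvd_mul).1 h1 with h1 | h1 <;> exact h1
    · exact h1
  exact hsq p hp hp2 (by rw [hk, pow_two]; exact Nat.mul_dvd_mul h2 hpk)

/-- See the header of the file. -/
theorem eq_bot_of_squarefree {K : Type u} [Group K] [Finite K] [IsSimpleGroup K] {T : Sylow 2 K}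
    {W : Subgroup K} (hl : LocalSetup T W)
    (hconj : ∀ x y : K, orderOf x = 2 → orderOf y = 2 → ∃ g, g * x * g⁻¹ = y)
    (hsq : ∀ p : ℕ, p.Prime → p ≠ 2 → ¬ p ^ 2 ∣ Nat.card K)
    (hSE : ∀ H : Subgroup K, IsStronglyEmbedded H →
      (oddCore ↥H).map H.subtype ≤ oddCore K) : W = ⊥ := by
  obtain ⟨x, hx, y, hy, hx1, hy1, hne, hx2, hy2, hxy⟩ :=
    Cfsg.Agent.TwoGenCore.not_pRankLE_one_iff.mp hl.rank
  have hox := orderOf_eq_two hx1 hx2
  have hxy1 : x * y ≠ 1 := by
    intro e
    apply hne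
    have : x * y = x * x := by rw [e, hx2]
    exact (mul_left_cancel this).symm
  have hxy2 : (x * y) * (x * y) = 1 := by
    calc x * y * (x * y) = x * y * (y * x) := by rw [hxy]
      _ = x * (y * y) * x := by group
      _ = 1 := by rw [hy2, mul_one, hx2]
  -- all `C_W(z)` have the same order
  have hcard : ∀ z ∈ (T : Subgroup K), orderOf z = 2 →
      Nat.card (W ⊓ centralizer {z} : Subgroup K) = Nat.card (W ⊓ centralizer {x} : Subgroup K) := by
    intro z hz hz2
    obtain ⟨g, hg⟩ := hconj x z hox hz2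
    have h1 := hl.map_conj hx hox (g := g) (by rw [hg]; exact hz)
    rw [hg] at h1
    rw [← h1]
    exact Nat.card_congr (Subgroup.equivMapOfInjective _ _ (MulAut.conj g).injective).symm.toEquiv
  have hform := Lib.KleinOrder.card_klein W hl.odd hx2 hy2 hxy
    (fun w hw => (mem_normalizer_iff.mp (hl.le_normalizer hx) w).mp hw)
    (fun w hw => (mem_normalizer_iff.mp (hl.le_normalizer hy) w).mp hw)
  rw [hcard y hy (orderOf_eq_two hy1 hy2),
    hcard (x * y) ((T : Subgroup K).mul_mem hx hy) (orderOf_eq_two hxy1 hxy2)] at hform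
  have hcw : Nat.card (W ⊓ centralizer {x} : Subgroup K) = Nat.card W :=
    card_arith hform (card_dvd_of_le inf_le_left) hl.odd
      (fun p hp hp2 h => hsq p hp hp2 (h.trans (card_subgroup_dvd_card W)))
  have hcen : ∀ z ∈ (T : Subgroup K), orderOf z = 2 → W ⊓ centralizer {z} = W := by
    intro z hz hz2
    exact eq_of_le_of_card_ge inf_le_left (by rw [hcard z hz hz2, hcw])
  have hCT : ∀ z ∈ (T : Subgroup K), orderOf z = 2 →
      centralizer ({z} : Set K) ≤ normalizer (W : Set K) := by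
    intro z hz hz2
    have := hl.fix z hz hz2
    rwa [hcen z hz hz2] at this
  by_contra hW
  have hTN := hl.le_normalizer
  have heven : Even (Nat.card (normalizer (W : Set K) : Subgroup K)) := by
    rw [even_iff_two_dvd, ← hox, ← Subgroup.orderOf_mk x (hTN hx)]
    exact orderOf_dvd_natCard _
  have htop : normalizer (W : Set K) ≠ ⊤ := by
    intro e
    rw [normalizer_eq_top_iff] at e
    rcases e.eq_bot_or_eq_top with e' | e'
    · exact hW e'
    · have h1 := hl.odd
      rw [e', Nat.card_congr topEquiv.toEquiv] at h1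
      have h2 := orderOf_dvd_natCard x
      rw [hox] at h2
      rw [Nat.odd_iff] at h1
      omega
  have hemb : IsStronglyEmbedded (normalizer (W : Set K)) := by
    refine hl.closed.isStronglyEmbedded htop heven ?_
    intro t ht ht2
    -- conjugate `t` into `T`
    have hz : IsPGroup 2 (zpowers t) := by
      rw [IsPGroup.iff_card]
      exact ⟨1, by rw [Nat.card_zpowers, ht2, pow_one]⟩
    obtain ⟨g, hg, hgt⟩ := BalRedTwo.exists_conj_le T hTN (zpowers_le.mpr ht) hz
    have hgt' : g * t * g⁻¹ ∈ (T : Subgroup K) := hgt ⟨t, mem_zpowers t, rfl⟩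
    have hgt2 : orderOf (g * t * g⁻¹) = 2 := by
      rw [← ht2]
      exact orderOf_injective (MulAut.conj g).toMonoidHom (MulAut.conj g).injective t
    intro c hc
    rw [mem_centralizer_singleton_iff] at hc
    have h1 : g * c * g⁻¹ ∈ normalizer (W : Set K) := by
      apply hCT _ hgt' hgt2
      rw [mem_centralizer_singleton_iff]
      calc g * c * g⁻¹ * (g * t * g⁻¹) = g * (c * t) * g⁻¹ := by group
        _ = g * (t * c) * g⁻¹ := by rw [hc]
        _ = g * t * g⁻¹ * (g * c * g⁻¹) := by group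
    have h2 := mul_mem (mul_mem (inv_mem hg) h1) hg
    have h3 : g⁻¹ * (g * c * g⁻¹) * g = c := by group
    rwa [h3] at h2
  have h1 := hSE _ hemb
  -- `W ≤ O(N(W))`
  have h2 : W ≤ (oddCore ↥(normalizer (W : Set K))).map (normalizer (W : Set K)).subtype := by
    have h3 : W.subgroupOf (normalizer (W : Set K)) ≤ oddCore ↥(normalizer (W : Set K)) := by
      refine Lib.Cores.le_pPrimeCore ?_ ?_
      · exact normal_subgroupOf_of_le_normalizer le_rfl
      · have h4 : Nat.card (W.subgroupOf (normalizer (W : Set K))) = Nat.card W :=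
          Nat.card_congr (subgroupOfEquivOfLe le_normalizer).toEquiv
        rw [h4]
        exact Nat.coprime_two_right.mpr hl.odd
    intro w hw
    exact ⟨⟨w, le_normalizer hw⟩, h3 hw, rfl⟩
  have h3 : W ≤ oddCore K := h2.trans h1
  have h4 : oddCore K = ⊥ := by
    have hn : (oddCore K).Normal := Lib.Cores.pPrimeCore_normal 2
    rcases hn.eq_bot_or_eq_top with h5 | h5
    · exact h5
    · exfalso
      have h6 : (Nat.card (oddCore K)).Coprime 2 := Lib.Cores.pPrimeCore_coprime 2
      rw [h5, Nat.card_congr topEquiv.toEquiv] at h6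
      have h7 := orderOf_dvd_natCard x
      rw [hox] at h7
      exact absurd (Nat.Coprime.eq_one_of_dvd h6.symm h7) (by norm_num)
  exact hW (le_bot_iff.mp (h4 ▸ h3))

/-! ### `J₁` has one class of involutions -/

section J1

open Cfsg.Agent.SporadicB.J1.Mat Cfsg.Agent.SporadicB.J1.Main
open Cfsg.Spor (J1)

/-- an element of order 7 normalizing `E` -/
def n : J1 := ev [2, 3, 3, 0, 0, 3, 0, 3, 3, 0, 0]

def cn : Nat := evC [2, 3, 3, 0, 0, 3, 0, 3, 3, 0, 0]

theorem rep_n : Rep n cn := rep_ev _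

def perm : Fin 8 → Fin 8 := ![0, 5, 4, 1, 3, 6, 7, 2]

theorem code_n : ∀ i : Fin 8, mulC cn (ce i) = mulC (ce (perm i)) cn := by decide +kernel

theorem n_mul (i : Fin 8) : n * e i = e (perm i) * n :=
  (rep_n.mul (rep_e i)).eq ((rep_e (perm i)).mul rep_n) (code_n i)

theorem conj_pow_e (k : ℕ) : ∀ i : Fin 8, n ^ k * e i * (n ^ k)⁻¹ = e (perm^[k] i) := by
  induction k with
  | zero => intro i; simp
  | succ k ih =>
    intro i
    rw [Function.iterate_succ_apply, ← ih (perm i), pow_succ]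
    have h := n_mul i
    have h' : e (perm i) = n * e i * n⁻¹ := by rw [h, mul_inv_cancel_right]
    rw [h']
    group

theorem perm_trans : ∀ i j : Fin 8, i ≠ 0 → j ≠ 0 → ∃ k < 7, perm^[k] i = j := by decide

theorem exists_conj (i j : Fin 8) (hi : i ≠ 0) (hj : j ≠ 0) :
    ∃ g : J1, g * e i * g⁻¹ = e j := by
  obtain ⟨k, -, hk⟩ := perm_trans i j hi hj
  exact ⟨n ^ k, by rw [conj_pow_e, hk]⟩

theorem card_J1 : Nat.card J1 = 175560 := isJ1.2

instance : Finite J1 := Nat.finite_of_card_ne_zero (by rw [card_J1]; norm_num)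

theorem isConj_J1 (x y : J1) (hx : orderOf x = 2) (hy : orderOf y = 2) :
    ∃ g, g * x * g⁻¹ = y := by
  have : Fact (Nat.Prime 2) := ⟨Nat.prime_two⟩
  -- `E` is a Sylow 2-subgroup
  have hE : Nat.card data.E = 8 := by
    have h : Nat.card (Set.range data.e) = 8 := by
      rw [Nat.card_congr (Equiv.ofInjective data.e data.he).symm]
      simp
    exact h
  have hmul : Nat.card data.E = 2 ^ (Nat.card J1).factorization 2 := by
    rw [hE, card_J1, show (175560 : ℕ) = 2 ^ 3 * 21945 by norm_num,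
      Nat.factorization_mul (by norm_num) (by norm_num), Nat.Prime.factorization_pow Nat.prime_two]
    rw [Finsupp.add_apply, Finsupp.single_eq_same,
      Nat.factorization_eq_zero_of_not_dvd (by norm_num : ¬ 2 ∣ 21945)]
    norm_num
  let P : Sylow 2 J1 := Sylow.ofCard data.E hmul
  have key : ∀ x : J1, orderOf x = 2 → ∃ g : J1, ∃ i : Fin 8, i ≠ 0 ∧ g * x * g⁻¹ = e i := by
    intro x hx
    have hz : IsPGroup 2 (zpowers x) := by
      rw [IsPGroup.iff_card]
      exact ⟨1, by rw [Nat.card_zpowers, hx, pow_one]⟩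
    obtain ⟨Q, hQ⟩ := hz.exists_le_sylow
    obtain ⟨g, hg⟩ := MulAction.exists_smul_eq J1 Q P
    have h1 : g * x * g⁻¹ ∈ (P : Subgroup J1) := by
      rw [← hg]
      have h2 : x ∈ (Q : Subgroup J1) := hQ (mem_zpowers x)
      exact smul_mem_pointwise_smul _ (MulAut.conj g) _ h2
    obtain ⟨i, hi⟩ : g * x * g⁻¹ ∈ Set.range data.e := h1
    refine ⟨g, i, ?_, hi.symm⟩
    rintro rfl
    have h3 : g * x * g⁻¹ = 1 := by rw [← hi]; rfl
    have h4 : x = 1 := by rwa [conj_eq_one_iff] at h3
    rw [h4, orderOf_one] at hx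
    omega
  obtain ⟨g, i, hi, hgi⟩ := key x hx
  obtain ⟨h, j, hj, hhj⟩ := key y hy
  obtain ⟨k, hk⟩ := exists_conj i j hi hj
  refine ⟨h⁻¹ * k * g, ?_⟩
  have h1 : h⁻¹ * k * g * x * (h⁻¹ * k * g)⁻¹ = h⁻¹ * (k * (g * x * g⁻¹) * k⁻¹) * h := by group
  rw [h1, hgi, hk, ← hhj]
  group

theorem squarefree_J1 (p : ℕ) (hp : p.Prime) (hp2 : p ≠ 2) : ¬ p ^ 2 ∣ 175560 := by
  intro h
  have h1 : p ^ 2 ∣ 21945 := by
    have h2 : (p ^ 2).Coprime 8 := by
      have : p.Coprime 2 := (Nat.coprime_primes hp Nat.prime_two).2 hp2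
      exact Nat.Coprime.pow 2 3 this
    exact h2.dvd_of_dvd_mul_left (show p ^ 2 ∣ 8 * 21945 from h)
  have hsq : Squarefree 21945 := by
    rw [show (21945 : ℕ) = 3 * (5 * (7 * (11 * 19))) by norm_num]
    refine (Nat.squarefree_mul (by norm_num)).2 ⟨Nat.prime_three.squarefree, ?_⟩
    refine (Nat.squarefree_mul (by norm_num)).2 ⟨(by norm_num : Nat.Prime 5).squarefree, ?_⟩
    refine (Nat.squarefree_mul (by norm_num)).2 ⟨(by norm_num : Nat.Prime 7).squarefree, ?_⟩
    exact (Nat.squarefree_mul (by norm_num)).2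
      ⟨(by norm_num : Nat.Prime 11).squarefree, (by norm_num : Nat.Prime 19).squarefree⟩
  have h3 := hsq p (by rw [← pow_two]; exact h1)
  exact hp.one_lt.ne' (Nat.isUnit_iff.mp h3)

end J1

/-- `W = 1` for a local setup on `J₁`. -/
theorem eq_bot_J1 {K : Type u} [Group K] [Finite K] [IsSimpleGroup K] {T : Sylow 2 K}
    {W : Subgroup K} (hl : LocalSetup T W) (h : Spor.IsoJ1 K)
    (hSE : ∀ H : Subgroup K, IsStronglyEmbedded H →
      (oddCore ↥H).map H.subtype ≤ oddCore K) : W = ⊥ := by
  obtain ⟨f⟩ := h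
  refine eq_bot_of_squarefree hl ?_ ?_ hSE
  · intro x y hx hy
    have hx' : orderOf (f x) = 2 := by
      rw [← hx]; exact orderOf_injective f.toMonoidHom f.injective x
    have hy' : orderOf (f y) = 2 := by
      rw [← hy]; exact orderOf_injective f.toMonoidHom f.injective y
    obtain ⟨g, hg⟩ := isConj_J1 (f x) (f y) hx' hy'
    refine ⟨f.symm g, ?_⟩
    apply f.injective
    rw [map_mul, map_mul, map_inv, f.apply_symm_apply, hg]
  · intro p hp hp2
    rw [Nat.card_congr f.toEquiv, card_J1]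
    exact squarefree_J1 p hp hp2

end Cfsg.Agent.SignalizersComponents.BalEndJ1
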