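import Cfsg.Agent.Lib.PComponents
import Cfsg.Agent.SignalizersComponents.Components
import Cfsg.Agent.SignalizersComponents.CoprimeBasic

set_option autoImplicit false

/-!
A component `L` of the centralizer of an involution `t` which lies in the layer `E(G)`:
there is a component `D` of `G` with `L = D`, or `L < D = [D, t]`, or `D ≠ D ^ t` and
`L` is the layer of the centralizer of `t` in `D D ^ t`.
-/

namespace Cfsg.Agent.SignalizersComponents.InvolutionComponent

open Subgroup Cfsg Cfsg.Agent.SignalizersComponents.Components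
open scoped commutatorElement

section Basic

variable {G : Type*} [Group G]

/-- A relative component `L` of `C` (i.e. a component of `↥C`) which normalizes `N` lies in `N` or
commutes with `N ⊓ C`. -/
theorem le_or_comm_of_component_subgroupOf {C L N : Subgroup G} (hLC : L ≤ C)
    (hL : IsComponent (L.subgroupOf C)) (hn : L ≤ normalizer (N : Set G)) :
    L ≤ N ∨ ⁅L, N ⊓ C⁆ = ⊥ := by
  have h1 : L.subgroupOf C ≤ normalizer ((N.subgroupOf C : Subgroup C) : Set C) := by
    intro x hx
    exact le_normalizer_comap C.subtype (hn hx)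
  rcases component_le_or_commutator_eq_bot_of_le_normalizer hL h1 with h | h
  · left
    intro x hx
    exact h (show (⟨x, hLC hx⟩ : C) ∈ L.subgroupOf C from hx)
  · right
    rw [commutator_eq_bot_iff_le_centralizer] at h ⊢
    intro x hx
    rw [mem_centralizer_iff]
    rintro y ⟨hyN, hyC⟩
    have h2 : (⟨x, hLC hx⟩ : C) ∈ L.subgroupOf C := hx
    have h3 := mem_centralizer_iff.mp (h h2) ⟨y, hyC⟩ hyN
    exact congrArg Subtype.val h3

theorem isPerfect_of_component_subgroupOf {C L : Subgroup G} (hLC : L ≤ C)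
    (hL : IsComponent (L.subgroupOf C)) : Group.IsPerfect L :=
  ((isQuasisimple_congr (Subgroup.subgroupOfEquivOfLe hLC)).mp hL.2).1

/-- Two relative components of `C`, one inside the other, are equal. -/
theorem eq_of_le_of_component_subgroupOf {C L D : Subgroup G} (hLC : L ≤ C) (hDC : D ≤ C)
    (hL : IsComponent (L.subgroupOf C)) (hD : IsComponent (D.subgroupOf C)) (hle : L ≤ D) :
    L = D := by
  by_contra hne
  have hne' : L.subgroupOf C ≠ D.subgroupOf C := by
    intro h
    apply hne
    have := congrArg (Subgroup.map C.subtype) h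
    rwa [Subgroup.map_subgroupOf_eq_of_le hLC, Subgroup.map_subgroupOf_eq_of_le hDC] at this
  have h1 := component_le_centralizer_of_ne hL hD hne'
  have h2 : L.subgroupOf C ≤ centralizer ((L.subgroupOf C : Subgroup C) : Set C) :=
    h1.trans (centralizer_le (Subgroup.comap_mono hle))
  apply quasisimple_center_ne_top hL.2
  rw [eq_top_iff]
  intro x _
  rw [mem_center_iff]
  intro g
  apply Subtype.ext
  exact mem_centralizer_iff.mp (h2 x.2) g.1 g.2

/-- Let `t` normalize `M`, `L` a perfect subgroup commuting with `t`, contained in `M C(M)` and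
centralizing `C_M(t)`. Then `L` centralizes `M`. -/
theorem le_centralizer_of_perfect {M L : Subgroup G} (t : G)
    (htM : t ∈ normalizer (M : Set G)) (hLt : L ≤ centralizer ({t} : Set G))
    (hLp : Group.IsPerfect L) (hLM : L ≤ M ⊔ centralizer (M : Set G))
    (hcomm : ⁅L, M ⊓ centralizer ({t} : Set G)⁆ = ⊥) : L ≤ centralizer (M : Set G) := by
  have hconj : ∀ m ∈ M, t * m * t⁻¹ ∈ M := fun m hm => (mem_normalizer_iff.mp htM m).mp hm
  have hconj' : ∀ m, t * m * t⁻¹ ∈ M → m ∈ M := fun m hm => (mem_normalizer_iff.mp htM m).mpr hm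
  have hcent : ∀ c ∈ centralizer (M : Set G), t * c * t⁻¹ ∈ centralizer (M : Set G) := by
    intro c hc
    rw [mem_centralizer_iff] at hc ⊢
    intro m hm
    have h1 : t⁻¹ * m * t ∈ M := hconj' _ (by
      have : t * (t⁻¹ * m * t) * t⁻¹ = m := by group
      rw [this]; exact hm)
    have h2 := hc _ h1
    have h3 : m * (t * c * t⁻¹) = t * ((t⁻¹ * m * t) * c) * t⁻¹ := by group
    rw [h3, h2]; group
  let R : Subgroup G :=
    { carrier := {m | m ∈ M ∧ m⁻¹ * (t * m * t⁻¹) ∈ centralizer (M : Set G)}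
      mul_mem' := by
        rintro a b ⟨ha, ha'⟩ ⟨hb, hb'⟩
        refine ⟨M.mul_mem ha hb, ?_⟩
        have h1 : b * (a⁻¹ * (t * a * t⁻¹)) = (a⁻¹ * (t * a * t⁻¹)) * b :=
          mem_centralizer_iff.mp ha' b hb
        have h2 : (a * b)⁻¹ * (t * (a * b) * t⁻¹) =
            (a⁻¹ * (t * a * t⁻¹)) * (b⁻¹ * (t * b * t⁻¹)) := by
          calc (a * b)⁻¹ * (t * (a * b) * t⁻¹)
              = b⁻¹ * ((a⁻¹ * (t * a * t⁻¹)) * b) * (b⁻¹ * (t * b * t⁻¹)) := by group
            _ = b⁻¹ * (b * (a⁻¹ * (t * a * t⁻¹))) * (b⁻¹ * (t * b * t⁻¹)) := by rw [h1]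
            _ = _ := by group
        rw [h2]
        exact mul_mem ha' hb'
      one_mem' := ⟨M.one_mem, by simp⟩
      inv_mem' := by
        rintro a ⟨ha, ha'⟩
        refine ⟨M.inv_mem ha, ?_⟩
        have h1 : a * (a⁻¹ * (t * a * t⁻¹)) = (a⁻¹ * (t * a * t⁻¹)) * a :=
          mem_centralizer_iff.mp ha' a ha
        have h2 : (a⁻¹)⁻¹ * (t * a⁻¹ * t⁻¹) = (a⁻¹ * (t * a * t⁻¹))⁻¹ := by
          have h3 : (t * a * t⁻¹) * a⁻¹ = a⁻¹ * (t * a * t⁻¹) := by
            rw [mul_inv_eq_iff_eq_mul, ← h1]; group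
          have h4 : (a⁻¹)⁻¹ * (t * a⁻¹ * t⁻¹) = ((t * a * t⁻¹) * a⁻¹)⁻¹ := by group
          rw [h4, h3]
        rw [h2]
        exact inv_mem ha' }
  have hRM : R ≤ M := fun x hx => hx.1
  have hRR : ⁅R, R⁆ ≤ M ⊓ centralizer ({t} : Set G) := by
    rw [commutator_le]
    rintro a ⟨ha, ha'⟩ b ⟨hb, hb'⟩
    refine mem_inf.mpr ⟨?_, ?_⟩
    · rw [commutatorElement_def]
      exact M.mul_mem (M.mul_mem (M.mul_mem ha hb) (M.inv_mem ha)) (M.inv_mem hb)
    · set z := a⁻¹ * (t * a * t⁻¹) with hz
      set w := b⁻¹ * (t * b * t⁻¹) with hw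
      have hza : t * a * t⁻¹ = a * z := by rw [hz]; group
      have hwb : t * b * t⁻¹ = b * w := by rw [hw]; group
      have hwM : w ∈ M := by
        rw [hw]; exact M.mul_mem (M.inv_mem hb) (hconj b hb)
      have hzM : z ∈ M := by
        rw [hz]; exact M.mul_mem (M.inv_mem ha) (hconj a ha)
      have c1 : a * z = z * a := mem_centralizer_iff.mp ha' a ha
      have c2 : b * z = z * b := mem_centralizer_iff.mp ha' b hb
      have c3 : a * w = w * a := mem_centralizer_iff.mp hb' a ha
      have c4 : b * w = w * b := mem_centralizer_iff.mp hb' b hb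
      have c5 : w * z = z * w := mem_centralizer_iff.mp ha' w hwM
      rw [mem_centralizer_iff]
      rintro y rfl
      have h3 : y * ⁅a, b⁆ * y⁻¹ = ⁅a * z, b * w⁆ := by
        rw [← hza, ← hwb]
        simp only [commutatorElement_def]
        group
      have hz1 : Commute z (b * w) := (Commute.mul_right c2.symm c5.symm)
      have h4 : ⁅a * z, b * w⁆ = ⁅a, b⁆ := by
        have e1 : ⁅a * z, b * w⁆ = a * (z * (b * w) * z⁻¹) * a⁻¹ * (b * w)⁻¹ := by
          simp only [commutatorElement_def]; group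
        have e2 : z * (b * w) * z⁻¹ = b * w := by
          rw [hz1.eq]; group
        rw [e1, e2]
        have e3 : a * (b * w) * a⁻¹ * (b * w)⁻¹ = a * b * (w * a⁻¹ * w⁻¹) * b⁻¹ := by group
        have e4 : w * a⁻¹ * w⁻¹ = a⁻¹ := by
          have : Commute w a⁻¹ := (Commute.inv_right (show Commute w a from c3.symm))
          rw [this.eq]; group
        rw [e3, e4, commutatorElement_def]
      rw [h4] at h3
      calc y * ⁅a, b⁆ = (y * ⁅a, b⁆ * y⁻¹) * y := by group
        _ = ⁅a, b⁆ * y := by rw [h3]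
  have hdec : ∀ x ∈ L, ∃ m ∈ R, ∃ c ∈ centralizer (M : Set G), m * c = x := by
    intro x hx
    obtain ⟨m, hm, c, hc, rfl⟩ := (CoprimeBasic.mem_sup_iff (centralizer_le_normalizer _) x).mp (hLM hx)
    refine ⟨m, ⟨hm, ?_⟩, c, hc, rfl⟩
    have h1 : t * (m * c) * t⁻¹ = m * c := by
      have := mem_centralizer_iff.mp (hLt hx) t rfl
      rw [this]; group
    have h2 : m⁻¹ * (t * m * t⁻¹) = c * (t * c * t⁻¹)⁻¹ := by
      have h3 : (t * m * t⁻¹) * (t * c * t⁻¹) = m * c := by rw [← h1]; group
      rw [eq_mul_inv_iff_mul_eq, mul_assoc, h3]; group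
    rw [h2]
    exact mul_mem hc (inv_mem (hcent c hc))
  have hRL : ⁅R, L⁆ ≤ M ⊓ centralizer ({t} : Set G) := by
    refine le_trans ?_ hRR
    rw [commutator_le]
    intro r hr x hx
    obtain ⟨m, hm, c, hc, rfl⟩ := hdec x hx
    have h1 : ⁅r, m * c⁆ = ⁅r, m⁆ := by
      have h2 : Commute c r⁻¹ := (Commute.inv_right (show Commute c r from
        (mem_centralizer_iff.mp hc r (hRM hr)).symm))
      have h3 : ⁅r, m * c⁆ = r * m * (c * r⁻¹ * c⁻¹) * m⁻¹ := by
        simp only [commutatorElement_def]; group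
      have h4 : c * r⁻¹ * c⁻¹ = r⁻¹ := by rw [h2.eq]; group
      rw [h3, h4, commutatorElement_def]
    rw [h1]
    exact commutator_mem_commutator hr hm
  have hRL0 : ⁅R, L⁆ = ⊥ := by
    apply commutator_eq_bot_of_commutator_commutator_eq_bot hLp
    rw [eq_bot_iff, ← hcomm, commutator_comm L]
    exact commutator_mono hRL le_rfl
  have hcR : ∀ m ∈ R, ∀ x ∈ L, m * x = x * m := by
    intro m hm x hx
    rw [commutator_eq_bot_iff_le_centralizer] at hRL0
    exact (mem_centralizer_iff.mp (hRL0 hm) x hx).symm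
  have hLL : ⁅L, L⁆ = L := Subgroup.isPerfect_iff.mp hLp
  rw [← hLL, commutator_le]
  intro x hx y hy
  obtain ⟨m, hm, c, hc, rfl⟩ := hdec x hx
  have h1 := hcR m hm y hy
  obtain ⟨m', hm', c', hc', rfl⟩ := hdec y hy
  have h2 : Commute c m' := (mem_centralizer_iff.mp hc m' (hRM hm')).symm
  have h5 : Commute m (m' * c') := h1
  have h3 : ⁅m * c, m' * c'⁆ = m * (m' * ⁅c, c'⁆ * m'⁻¹) * m⁻¹ := by
    calc ⁅m * c, m' * c'⁆ = m * (c * (m' * c')) * c⁻¹ * m⁻¹ * (m' * c')⁻¹ := by
          simp only [commutatorElement_def]; group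
      _ = m * (m' * (c * c')) * c⁻¹ * (m⁻¹ * (m' * c')⁻¹) := by
          rw [← mul_assoc c m' c', h2.eq]; group
      _ = m * (m' * (c * c')) * c⁻¹ * ((m' * c')⁻¹ * m⁻¹) := by
          rw [(Commute.inv_inv h5).eq]
      _ = _ := by simp only [commutatorElement_def]; group
  have h4 : ⁅c, c'⁆ ∈ centralizer (M : Set G) := by
    rw [commutatorElement_def]
    exact mul_mem (mul_mem (mul_mem hc hc') (inv_mem hc)) (inv_mem hc')
  have h6 : m' * ⁅c, c'⁆ * m'⁻¹ = ⁅c, c'⁆ := by
    rw [mem_centralizer_iff.mp h4 m' (hRM hm')]; group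
  have h7 : m * ⁅c, c'⁆ * m⁻¹ = ⁅c, c'⁆ := by
    rw [mem_centralizer_iff.mp h4 m (hRM hm)]; group
  rw [h3, h6, h7]
  exact h4

/-- The layer is the product of two components (or one) with the centralizer of their product. -/
theorem layer_le_sup_centralizer {D D' : Subgroup G} (hD : IsComponent D) (hD' : IsComponent D') :
    layer G ≤ (D ⊔ D') ⊔ centralizer ((D ⊔ D' : Subgroup G) : Set G) := by
  rw [layer_le_iff]
  intro K hK
  by_cases h1 : K = D
  · rw [h1]; exact le_sup_left.trans le_sup_left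
  by_cases h2 : K = D'
  · rw [h2]; exact le_sup_right.trans le_sup_left
  refine le_trans ?_ le_sup_right
  rw [le_centralizer_iff]
  refine sup_le ?_ ?_
  · exact component_le_centralizer_of_ne hD hK (fun h => h1 h.symm)
  · exact component_le_centralizer_of_ne hD' hK (fun h => h2 h.symm)

end Basic

section Main

variable {G : Type*} [Group G]

theorem mem_map_conj_iff (t x : G) (D : Subgroup G) :
    x ∈ D.map (MulAut.conj t).toMonoidHom ↔ t⁻¹ * x * t ∈ D := by
  constructor
  · rintro ⟨y, hy, rfl⟩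
    have : t⁻¹ * (MulAut.conj t).toMonoidHom y * t = y := by
      simp [MulAut.conj_apply, mul_assoc]
    rw [this]; exact hy
  · intro h
    refine ⟨_, h, ?_⟩
    simp [MulAut.conj_apply, mul_assoc]

theorem mem_normalizer_sup_map_conj {t : G} (ht : t * t = 1) (D : Subgroup G) :
    t ∈ normalizer ((D ⊔ D.map (MulAut.conj t).toMonoidHom : Subgroup G) : Set G) := by
  have hinv : t⁻¹ = t := inv_eq_of_mul_eq_one_left ht
  have hcomp : (MulAut.conj t).toMonoidHom.comp (MulAut.conj t).toMonoidHom = MonoidHom.id G := by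
    ext x
    show t * (t * x * t⁻¹) * t⁻¹ = x
    have : t * (t * x * t⁻¹) * t⁻¹ = (t * t) * x * (t * t)⁻¹ := by group
    rw [this, ht]; simp
  have hmap : (D ⊔ D.map (MulAut.conj t).toMonoidHom).map (MulAut.conj t).toMonoidHom
      = D ⊔ D.map (MulAut.conj t).toMonoidHom := by
    rw [Subgroup.map_sup, map_map, hcomp, map_id, sup_comm]
  rw [mem_normalizer_iff]
  intro x
  have h1 : ∀ x, x ∈ (D ⊔ D.map (MulAut.conj t).toMonoidHom) →
      t * x * t⁻¹ ∈ (D ⊔ D.map (MulAut.conj t).toMonoidHom) := by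
    intro x hx
    rw [← hmap]
    exact ⟨x, hx, rfl⟩
  refine ⟨h1 x, fun h => ?_⟩
  have h2 := h1 _ h
  have h3 : t * (t * x * t⁻¹) * t⁻¹ = x := by
    have : t * (t * x * t⁻¹) * t⁻¹ = (t * t) * x * (t * t)⁻¹ := by group
    rw [this, ht]; simp
  rwa [h3] at h2

/-- First step: such an `L` lies in `D D ^ t` for some component `D`. -/
theorem exists_component_le_sup (t : G) (ht : t * t = 1) (L : Subgroup G)
    (hLt : L ≤ centralizer ({t} : Set G))
    (hL : IsComponent (L.subgroupOf (centralizer ({t} : Set G)))) (hLE : L ≤ layer G) :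
    ∃ D : Subgroup G, IsComponent D ∧ L ≤ D ⊔ D.map (MulAut.conj t).toMonoidHom := by
  by_contra hcon
  push Not at hcon
  have hp : Group.IsPerfect L := isPerfect_of_component_subgroupOf hLt hL
  have h1 : ∀ D : Subgroup G, IsComponent D → D ≤ centralizer (L : Set G) := by
    intro D hD
    have hD' := isComponent_conj t hD
    have hnorm : L ≤ normalizer
        ((D ⊔ D.map (MulAut.conj t).toMonoidHom : Subgroup G) : Set G) := by
      have h2 := layer_le_normalizer_component hD
      have h3 := layer_le_normalizer_component hD'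
      refine hLE.trans ?_
      intro x hx
      have h4 : Subgroup.map (MulAut.conj x).toMonoidHom
          (D ⊔ D.map (MulAut.conj t).toMonoidHom) = D ⊔ D.map (MulAut.conj t).toMonoidHom := by
        rw [Subgroup.map_sup]
        congr 1
        · exact (mem_normalizer_iff_map_conj_eq.mp (h2 hx))
        · exact (mem_normalizer_iff_map_conj_eq.mp (h3 hx))
      exact mem_normalizer_iff_map_conj_eq.mpr h4
    rcases le_or_comm_of_component_subgroupOf hLt hL hnorm with h | h
    · exact absurd h (hcon D hD)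
    · have h5 := le_centralizer_of_perfect t (mem_normalizer_sup_map_conj ht D) hLt hp
        (hLE.trans (layer_le_sup_centralizer hD hD')) h
      rw [le_centralizer_iff]
      exact h5.trans (centralizer_le (show (D : Set G) ⊆ _ from SetLike.coe_subset_coe.mpr le_sup_left))
  have h2 : L ≤ centralizer (L : Set G) := hLE.trans (layer_le_iff.mpr h1)
  apply quasisimple_center_ne_top hL.2
  rw [eq_top_iff]
  intro x _
  rw [mem_center_iff]
  intro g
  apply Subtype.ext
  apply Subtype.ext
  exact mem_centralizer_iff.mp (h2 x.2) g.1 g.2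

/-- The homomorphism `x ↦ x x ^ t` on a component `D` which commutes with `D ^ t`. -/
theorem exists_diag (t : G) (D : Subgroup G)
    (hDD : ∀ x ∈ D, ∀ y ∈ D, x * (t * y * t⁻¹) = (t * y * t⁻¹) * x) :
    ∃ δ : D →* G, ∀ x : D, δ x = x * (t * x * t⁻¹) := by
  refine ⟨{ toFun := fun x => (x : G) * (t * x * t⁻¹), map_one' := by simp, map_mul' := ?_ }, fun _ => rfl⟩
  rintro ⟨x, hx⟩ ⟨y, hy⟩
  have h := hDD y hy x hx
  calc (x * y) * (t * (x * y) * t⁻¹) = x * (y * (t * x * t⁻¹)) * (t * y * t⁻¹) := by group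
    _ = x * ((t * x * t⁻¹) * y) * (t * y * t⁻¹) := by rw [h]
    _ = (x * (t * x * t⁻¹)) * (y * (t * y * t⁻¹)) := by group

/-- The trichotomy for a component `L` of `C_G(t)` contained in the layer. -/
theorem trichotomy_of_le_layer (t : G) (ht : t * t = 1) (L : Subgroup G)
    (hLt : L ≤ centralizer ({t} : Set G))
    (hL : IsComponent (L.subgroupOf (centralizer ({t} : Set G)))) (hLE : L ≤ layer G) :
    ∃ D : Subgroup G, IsComponent D ∧ (L = D ∨ (L < D ∧ D = ⁅D, Subgroup.zpowers t⁆) ∨
      (D.map (MulAut.conj t).toMonoidHom ≠ D ∧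
        L = (Cfsg.layer ↥((D ⊔ D.map (MulAut.conj t).toMonoidHom) ⊓
          Subgroup.centralizer ({t} : Set G))).map
          ((D ⊔ D.map (MulAut.conj t).toMonoidHom) ⊓
            Subgroup.centralizer ({t} : Set G)).subtype)) := by
  have hinv : t⁻¹ = t := inv_eq_of_mul_eq_one_left ht
  obtain ⟨D, hD, hLD⟩ := exists_component_le_sup t ht L hLt hL hLE
  refine ⟨D, hD, ?_⟩
  by_cases hDt : D.map (MulAut.conj t).toMonoidHom = D
  · rw [hDt, sup_idem] at hLD
    rcases eq_or_lt_of_le hLD with h | h
    · exact Or.inl h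
    refine Or.inr (Or.inl ⟨h, ?_⟩)
    have htD : Subgroup.zpowers t ≤ normalizer (D : Set G) := by
      rw [Subgroup.zpowers_le]
      exact mem_normalizer_iff_map_conj_eq.mpr hDt
    have hle : ⁅D, Subgroup.zpowers t⁆ ≤ D :=
      le_normalizer_iff_commutator_le_left.mp htD
    rcases component_le_or_commutator_eq_bot_of_le_normalizer hD
      (normalizer_commutator_ge_left D (Subgroup.zpowers t)) with h1 | h1
    · exact le_antisymm h1 hle
    · exfalso
      have h2 : ⁅Subgroup.zpowers t, D⁆ = ⊥ := by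
        apply commutator_eq_bot_of_commutator_commutator_eq_bot hD.2.1
        rw [commutator_comm (Subgroup.zpowers t) D, commutator_comm]
        exact h1
      have hDC : D ≤ centralizer ({t} : Set G) := by
        rw [commutator_eq_bot_iff_le_centralizer, Subgroup.zpowers_le] at h2
        intro x hx
        rw [mem_centralizer_iff]
        rintro y rfl
        exact (mem_centralizer_iff.mp h2 x hx).symm
      have h3 := eq_of_le_of_component_subgroupOf hLt hDC hL (isComponent_subgroupOf hDC hD) h.le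
      exact h.ne h3
  · right; right
    refine ⟨hDt, ?_⟩
    have hcomp := component_commutator_eq_bot_of_ne hD (isComponent_conj t hD) (fun h => hDt h.symm)
    have hDD : ∀ x ∈ D, ∀ y ∈ D, x * (t * y * t⁻¹) = (t * y * t⁻¹) * x := by
      intro x hx y hy
      rw [commutator_eq_bot_iff_le_centralizer] at hcomp
      have := mem_centralizer_iff.mp (hcomp hx) (t * y * t⁻¹)
        ((mem_map_conj_iff t _ D).mpr (by
          have : t⁻¹ * (t * y * t⁻¹) * t = y := by group
          rw [this]; exact hy))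
      exact this.symm
    obtain ⟨δ, hδ⟩ := exists_diag t D hDD
    -- elements of `N`
    have htt : ∀ x : G, t * (t * x * t⁻¹) * t⁻¹ = x := by
      intro x
      have : t * (t * x * t⁻¹) * t⁻¹ = (t * t) * x * (t * t)⁻¹ := by group
      rw [this, ht]; simp
    have hsup : ∀ n ∈ (D ⊔ D.map (MulAut.conj t).toMonoidHom) ⊓
        Subgroup.centralizer ({t} : Set G), ∃ x : D, ∃ z : G,
          z ∈ centralizer ((D ⊔ D.map (MulAut.conj t).toMonoidHom : Subgroup G) : Set G) ∧
          δ x * z = n := by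
      rintro n ⟨hn1, hn2⟩
      have hcen : D.map (MulAut.conj t).toMonoidHom ≤ centralizer (D : Set G) := by
        rw [← commutator_eq_bot_iff_le_centralizer, commutator_comm]; exact hcomp
      obtain ⟨x, hx, y', hy', rfl⟩ :=
        (CoprimeBasic.mem_sup_iff (hcen.trans (centralizer_le_normalizer _)) n).mp hn1
      obtain ⟨y, hy, rfl⟩ := hy'
      have hyy : (MulAut.conj t).toMonoidHom y = t * y * t⁻¹ := rfl
      rw [hyy] at hn2 ⊢
      -- invariance
      have h1 : t * (x * (t * y * t⁻¹)) * t⁻¹ = x * (t * y * t⁻¹) := by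
        rw [mem_centralizer_iff.mp hn2 t rfl]; group
      have h2 : (t * x * t⁻¹) * y = x * (t * y * t⁻¹) := by
        rw [← h1]
        have : t * (x * (t * y * t⁻¹)) * t⁻¹ = (t * x * t⁻¹) * (t * (t * y * t⁻¹) * t⁻¹) := by group
        rw [this, htt]
      have h3 : y * (t * x * t⁻¹) = x * (t * y * t⁻¹) := by rw [hDD y hy x hx, h2]
      -- z = x⁻¹ y
      have hzD : x⁻¹ * y ∈ D := D.mul_mem (D.inv_mem hx) hy
      have hz : t * (x⁻¹ * y) * t⁻¹ = x⁻¹ * y := by
        have e1 : t * (x⁻¹ * y) * t⁻¹ = (t * x * t⁻¹)⁻¹ * (t * y * t⁻¹) := by group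
        have e2 : (t * y * t⁻¹) = x⁻¹ * (y * (t * x * t⁻¹)) := by rw [h3]; group
        have e3 : x⁻¹ * y * (t * x * t⁻¹) = (t * x * t⁻¹) * (x⁻¹ * y) := hDD _ hzD x hx
        rw [e1]
        rw [e2, ← mul_assoc x⁻¹ y, e3]
        group
      refine ⟨⟨x, hx⟩, x⁻¹ * y, ?_, ?_⟩
      · rw [← Subgroup.zpowers_le, le_centralizer_iff]
        refine sup_le ?_ ?_
        · rw [le_centralizer_iff, Subgroup.zpowers_le, mem_centralizer_iff]
          intro d hd
          have := hDD d hd _ hzD
          rwa [hz] at this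
        · rw [le_centralizer_iff, Subgroup.zpowers_le, mem_centralizer_iff]
          rintro d ⟨d, hd, rfl⟩
          exact (hDD _ hzD d hd).symm
      · rw [hδ]
        show x * (t * x * t⁻¹) * (x⁻¹ * y) = x * (t * y * t⁻¹)
        have e2 : (t * y * t⁻¹) = x⁻¹ * (y * (t * x * t⁻¹)) := by rw [h3]; group
        have e3 : x⁻¹ * y * (t * x * t⁻¹) = (t * x * t⁻¹) * (x⁻¹ * y) := hDD _ hzD x hx
        rw [e2, ← mul_assoc x⁻¹ y, e3]
        group
    set N := (D ⊔ D.map (MulAut.conj t).toMonoidHom) ⊓ Subgroup.centralizer ({t} : Set G) with hN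
    have hδN : ∀ x : D, δ x ∈ N := by
      rintro ⟨x, hx⟩
      rw [hδ, hN]
      refine mem_inf.mpr ⟨mul_mem (mem_sup_left hx) (mem_sup_right ?_), ?_⟩
      · exact ⟨x, hx, rfl⟩
      · rw [mem_centralizer_iff]
        rintro s rfl
        show s * (x * (s * x * s⁻¹)) = x * (s * x * s⁻¹) * s
        have e1 : s * (x * (s * x * s⁻¹)) = (s * x * s⁻¹) * (s * (s * x * s⁻¹) * s⁻¹) * s := by group
        rw [e1, htt, ← hDD x hx x hx]
    have hNN : ⁅N, N⁆ ≤ δ.range := by
      rw [commutator_le]
      intro a ha b hb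
      obtain ⟨x, z, hz, rfl⟩ := hsup a ha
      obtain ⟨y, w, hw, rfl⟩ := hsup b hb
      have hMx : ∀ x : D, δ x ∈ (D ⊔ D.map (MulAut.conj t).toMonoidHom) := fun x =>
        (mem_inf.mp (hδN x)).1
      have hwM : w ∈ (D ⊔ D.map (MulAut.conj t).toMonoidHom) := by
        have h1 := (mem_inf.mp hb).1
        have : w = (δ y)⁻¹ * (δ y * w) := by group
        rw [this]
        exact mul_mem (inv_mem (hMx y)) h1
      have c1 : Commute z (δ y * w) := by
        refine Commute.mul_right ?_ ?_
        · exact (mem_centralizer_iff.mp hz _ (hMx y)).symm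
        · exact (mem_centralizer_iff.mp hz _ hwM).symm
      have c2 : Commute w (δ x)⁻¹ := Commute.inv_right (mem_centralizer_iff.mp hw _ (hMx x)).symm
      have e : ⁅δ x * z, δ y * w⁆ = ⁅δ x, δ y⁆ := by
        calc ⁅δ x * z, δ y * w⁆ = δ x * (z * (δ y * w)) * z⁻¹ * (δ x)⁻¹ * (δ y * w)⁻¹ := by
              simp only [commutatorElement_def]; group
          _ = δ x * δ y * (w * (δ x)⁻¹) * w⁻¹ * (δ y)⁻¹ := by rw [c1.eq]; group
          _ = _ := by rw [c2.eq]; simp only [commutatorElement_def]; group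
      rw [e, ← map_commutatorElement]
      exact ⟨_, rfl⟩
    have hp : Group.IsPerfect L := isPerfect_of_component_subgroupOf hLt hL
    have hLN : L ≤ N := le_inf hLD hLt
    have hLδ : L ≤ δ.range := by
      rw [← Subgroup.isPerfect_iff.mp hp]
      exact (commutator_mono hLN hLN).trans hNN
    have hδL : δ.range ≤ L := by
      -- the preimage of `L` in `D` is subnormal
      let δ' : D →* centralizer ({t} : Set G) := δ.codRestrict _ (fun x => (mem_inf.mp (hδN x)).2)
      have h1 : ((L.subgroupOf (centralizer ({t} : Set G))).comap δ').IsSubnormal := hL.1.comap δ'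
      have h2 : (L.subgroupOf (centralizer ({t} : Set G))).comap δ' = L.comap δ := rfl
      rw [h2] at h1
      rcases quasisimple_subnormal hD.2 h1 with h | h
      · rintro _ ⟨x, rfl⟩
        have : x ∈ L.comap δ := by rw [h]; trivial
        exact this
      · exfalso
        apply quasisimple_center_ne_top hL.2
        rw [eq_top_iff]
        intro x _
        rw [mem_center_iff]
        intro g
        apply Subtype.ext
        apply Subtype.ext
        obtain ⟨x', hx'⟩ := hLδ x.2
        obtain ⟨g', hg'⟩ := hLδ g.2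
        have h3 : x' ∈ center D := h (by rw [mem_comap, hx']; exact x.2)
        have h4 := mem_center_iff.mp h3 g'
        have h5 := congrArg δ h4
        rw [map_mul, map_mul, hx', hg'] at h5
        exact h5
    have hLeq : L = δ.range := le_antisymm hLδ hδL
    apply le_antisymm
    · -- `L` is a component of `N`
      have h1 : IsComponent (L.subgroupOf N) := by
        refine ⟨?_, ?_⟩
        · have h2 : L.subgroupOf N =
              (L.subgroupOf (centralizer ({t} : Set G))).comap (Subgroup.inclusion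
                (show N ≤ centralizer ({t} : Set G) from inf_le_right)) := rfl
          rw [h2]
          exact hL.1.comap _
        · have e1 := Subgroup.subgroupOfEquivOfLe hLN
          have e2 := Subgroup.subgroupOfEquivOfLe hLt
          exact isQuasisimple_of_mulEquiv (e2.trans e1.symm) hL.2
      have h2 := Subgroup.map_mono (f := N.subtype) (component_le_layer h1)
      rwa [Subgroup.map_subgroupOf_eq_of_le hLN] at h2
    · rw [map_le_iff_le_comap, layer_le_iff]
      intro K hK
      rw [← component_commutator_self hK, ← map_le_iff_le_comap, Subgroup.map_commutator]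
      refine (commutator_mono (map_subtype_le K) (map_subtype_le K)).trans ?_
      exact hNN.trans hδL

end Main

end Cfsg.Agent.SignalizersComponents.InvolutionComponent
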