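import Mathlib
import Cfsg.Agent.SignalizersComponents.Components

/-!
Commuting products of subgroups: the centre of a commuting product is the product of the centres.
Application to the layer.
-/

set_option autoImplicit false

namespace Cfsg.Agent.SignalizersComponents.LayerCenter

open Cfsg Subgroup
open Cfsg.Agent.SignalizersComponents.Components

variable {G : Type*} [Group G]

theorem mem_map_center_iff {A : Subgroup G} {x : G} :
    x ∈ (center A).map A.subtype ↔ x ∈ A ∧ ∀ y ∈ A, y * x = x * y := by
  constructor
  · rintro ⟨⟨x, hx⟩, hxc, rfl⟩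
    refine ⟨hx, fun y hy => ?_⟩
    exact congrArg Subtype.val (mem_center_iff.mp hxc ⟨y, hy⟩)
  · rintro ⟨hx, h⟩
    refine ⟨⟨x, hx⟩, mem_center_iff.mpr fun y => Subtype.ext (h y y.2), rfl⟩

/-- `Z(A) = A ∩ C_G(A)`. -/
theorem map_center_eq (A : Subgroup G) :
    (center A).map A.subtype = A ⊓ centralizer (A : Set G) := by
  ext x
  rw [mem_map_center_iff, mem_inf, mem_centralizer_iff]
  rfl

theorem map_center_iSup {ι : Type*} [Finite ι] {H : ι → Subgroup G}
    (hc : Pairwise fun i j => ∀ x y : G, x ∈ H i → y ∈ H j → Commute x y) :
    (center ↥(⨆ i, H i)).map (⨆ i, H i).subtype = ⨆ i, (center ↥(H i)).map (H i).subtype := by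
  classical
  have := Fintype.ofFinite ι
  apply le_antisymm
  · intro z hz
    rw [mem_map_center_iff] at hz
    obtain ⟨hz1, hz2⟩ := hz
    rw [← noncommPiCoprod_range (hcomm := hc)] at hz1
    obtain ⟨f, rfl⟩ := hz1
    have hf : ∀ i, ((f i : G)) ∈ (center ↥(H i)).map (H i).subtype := by
      intro i
      rw [mem_map_center_iff]
      refine ⟨(f i).2, fun y hy => ?_⟩
      have e1 : f = Pi.mulSingle i (f i) * Function.update f i 1 := by
        ext j
        by_cases hj : j = i
        · subst hj; simp
        · simp [hj]
      have e2 : noncommPiCoprod hc f = f i * noncommPiCoprod hc (Function.update f i 1) := by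
        conv_lhs => rw [e1]
        rw [map_mul, noncommPiCoprod_mulSingle]
      have e3 : y = noncommPiCoprod hc (Pi.mulSingle i ⟨y, hy⟩) := by
        rw [noncommPiCoprod_mulSingle]
      have e4 : y * noncommPiCoprod hc (Function.update f i 1)
          = noncommPiCoprod hc (Function.update f i 1) * y := by
        rw [e3, ← map_mul, ← map_mul]
        congr 1
        ext j
        by_cases hj : j = i
        · subst hj; simp
        · simp [hj]
      have e5 := hz2 y (le_iSup H i hy)
      rw [e2, mul_assoc, ← e4, ← mul_assoc, ← mul_assoc] at e5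
      exact mul_right_cancel e5
    rw [noncommPiCoprod_apply]
    exact Subgroup.noncommProd_mem _ _ fun i _ => le_iSup (fun i => (center ↥(H i)).map (H i).subtype) i (hf i)
  · refine iSup_le fun i => ?_
    intro x hx
    rw [mem_map_center_iff] at hx ⊢
    refine ⟨le_iSup H i hx.1, fun y hy => ?_⟩
    have h1 : (⨆ i, H i) ≤ centralizer {x} := by
      refine iSup_le fun j => ?_
      intro y hy
      rw [mem_centralizer_singleton_iff]
      by_cases hj : j = i
      · subst hj; exact hx.2 y hy
      · exact hc hj y x hy hx.1
    have := h1 hy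
    rw [mem_centralizer_singleton_iff] at this
    exact this

theorem layer_eq_iSup : layer G = ⨆ L : {K : Subgroup G // IsComponent K}, (L : Subgroup G) :=
  sSup_eq_iSup' _

theorem pairwise_commute_component :
    Pairwise fun K L : {K : Subgroup G // IsComponent K} =>
      ∀ x y : G, x ∈ (K : Subgroup G) → y ∈ (L : Subgroup G) → Commute x y := by
  intro K L hne x y hx hy
  have h := component_le_centralizer_of_ne K.2 L.2 (fun h => hne (Subtype.ext h)) hx
  exact (mem_centralizer_iff.mp h y hy).symm

theorem map_center_layer [Finite G] : (center ↥(layer G)).map (layer G).subtype =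
    ⨆ L : {K : Subgroup G // IsComponent K}, (center ↥(L : Subgroup G)).map (L : Subgroup G).subtype := by
  have h := map_center_iSup (pairwise_commute_component (G := G))
  rw [← layer_eq_iSup] at h
  exact h

end Cfsg.Agent.SignalizersComponents.LayerCenter
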