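import Cfsg.Agent.SignalizersComponents.BalanceAux

/-!
The image of `O_{p'}(C_X(a))` in a quotient by (a subgroup of) the centralizer of a component.
-/

set_option autoImplicit false

namespace Cfsg.Agent.SignalizersComponents.BalanceLocal

open Cfsg Subgroup BalanceAux

/-- An element of `C` which is central modulo `O_{p'}(C)` and has a power prime to `p` in `O_{p'}(C)` lies in
`O_{p'}(C)`. -/
theorem mem_pPrimeCore_of_central {C : Type*} [Group C] [Finite C] {p : ℕ} (e : C) (n : ℕ)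
    (hn : n.Coprime p) (he : e ^ n ∈ pPrimeCore p C)
    (hc : ∀ c : C, c * e * c⁻¹ * e⁻¹ ∈ pPrimeCore p C) : e ∈ pPrimeCore p C := by
  have hN : (pPrimeCore p C).Normal := Lib.Cores.pPrimeCore_normal p
  let π : C →* C ⧸ pPrimeCore p C := QuotientGroup.mk' (pPrimeCore p C)
  have hπ : Function.Surjective π := QuotientGroup.mk'_surjective _
  have hcore : pPrimeCore p (C ⧸ pPrimeCore p C) = ⊥ := Lib.Cores.pPrimeCore_quotient_pPrimeCore p
  have h1 : (zpowers (π e)).Normal := by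
    have h2 : π e ∈ center (C ⧸ pPrimeCore p C) := by
      rw [mem_center_iff]
      intro y
      obtain ⟨c, rfl⟩ := hπ y
      have h3 : π (c * e * c⁻¹ * e⁻¹) = 1 := (QuotientGroup.eq_one_iff _).mpr (hc c)
      rw [map_mul, map_mul, map_mul, map_inv, map_inv, mul_inv_eq_one, mul_inv_eq_iff_eq_mul] at h3
      exact h3
    constructor
    intro x hx g
    have h3 : x ∈ center (C ⧸ pPrimeCore p C) := (zpowers_le.mpr h2) hx
    rw [mem_center_iff.mp h3 g, mul_inv_cancel_right]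
    exact hx
  have h2 : (Nat.card (zpowers (π e))).Coprime p := by
    rw [Nat.card_zpowers]
    have h3 : (π e) ^ n = 1 := by
      rw [← map_pow]
      exact (QuotientGroup.eq_one_iff _).mpr he
    exact Nat.Coprime.coprime_dvd_left (orderOf_dvd_of_pow_eq_one h3) hn
  have h3 := Lib.Cores.le_pPrimeCore h1 h2
  rw [hcore] at h3
  have h4 : π e = 1 := mem_bot.mp (h3 (mem_zpowers _))
  exact (QuotientGroup.eq_one_iff _).mp h4

/-- `O_{p'}(C)` as a subgroup of the whole group. -/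
def coreIn {X : Type*} [Group X] (p : ℕ) (C : Subgroup X) : Subgroup X :=
  (pPrimeCore p C).map C.subtype

theorem coreIn_le {X : Type*} [Group X] (p : ℕ) (C : Subgroup X) : coreIn p C ≤ C := by
  rintro _ ⟨y, -, rfl⟩
  exact y.2

theorem coreIn_coprime {X : Type*} [Group X] [Finite X] (p : ℕ) (C : Subgroup X) :
    (Nat.card (coreIn p C)).Coprime p := by
  have h := Lib.Cores.pPrimeCore_coprime (G := C) p
  have e : Nat.card (coreIn p C) = Nat.card (pPrimeCore p C) :=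
    Nat.card_congr ((pPrimeCore p C).equivMapOfInjective C.subtype C.subtype_injective).symm.toEquiv
  rw [e]
  exact h

/-- Whatever normalizes `C` normalizes `O_{p'}(C)`. -/
theorem normalizer_le_normalizer_coreIn {X : Type*} [Group X] (p : ℕ) (C : Subgroup X) :
    normalizer (C : Set X) ≤ normalizer (coreIn p C : Set X) := by
  have key : ∀ g ∈ normalizer (C : Set X), ∀ x ∈ coreIn p C, g * x * g⁻¹ ∈ coreIn p C := by
    rintro g hg _ ⟨y, hy, rfl⟩
    have h1 := Lib.Cores.map_equiv_pPrimeCore (C.normalizerMonoidHom ⟨g, hg⟩) p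
    have h2 : (C.normalizerMonoidHom ⟨g, hg⟩) y ∈ pPrimeCore p C := by
      rw [← h1]
      exact ⟨y, hy, rfl⟩
    exact ⟨_, h2, rfl⟩
  intro g hg
  rw [mem_normalizer_iff]
  intro x
  constructor
  · exact key g hg x
  · intro hx
    have h1 := key g⁻¹ (inv_mem hg) _ hx
    have h2 : g⁻¹ * (g * x * g⁻¹) * g⁻¹⁻¹ = x := by group
    rwa [h2] at h1

/-- A subgroup of `C`, normalized by `C`, of order prime to `p`, lies in `O_{p'}(C)`. -/
theorem le_coreIn {X : Type*} [Group X] {p : ℕ} {C M : Subgroup X} (h1 : M ≤ C)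
    (h2 : (Nat.card M).Coprime p) (h3 : C ≤ normalizer (M : Set X)) : M ≤ coreIn p C := by
  have hn : (M.subgroupOf C).Normal := by
    constructor
    intro m hm g
    rw [mem_subgroupOf] at hm ⊢
    exact (mem_normalizer_iff.mp (h3 g.2) m).mp hm
  have hc : (Nat.card (M.subgroupOf C)).Coprime p := by
    rw [Nat.card_congr (subgroupOfEquivOfLe h1).toEquiv]
    exact h2
  have h4 := Lib.Cores.le_pPrimeCore hn hc
  intro m hm
  exact ⟨⟨m, h1 hm⟩, h4 (mem_subgroupOf.mpr hm), rfl⟩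

/-- The main commutator computation. Let `D` be a `p'`-subgroup of `O_{p'}(C_X(a))` normalizing `K` and
centralizing `Z(K)`. If `r ∈ K` and `[r, a] ∈ Z(K)`, then `[r, D] ≤ O_{p'}(C_K(a))`. -/
theorem commutator_mem_coreIn {X : Type*} [Group X] [Finite X] {p : ℕ} (K D : Subgroup X)
    (a : X) (haK : a ∈ normalizer (K : Set X)) (hDK : D ≤ normalizer (K : Set X))
    (hDa : D ≤ centralizerPPrimeCore p a)
    (hDZ : ∀ z ∈ K ⊓ centralizer (K : Set X), ∀ d ∈ D, d * z = z * d)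
    (r : X) (hr : r ∈ K) (hra : r⁻¹ * (a * r * a⁻¹) ∈ centralizer (K : Set X))
    (d : X) (hd : d ∈ D) :
    r⁻¹ * (d * r * d⁻¹) ∈ coreIn p (K ⊓ centralizer ({a} : Set X)) := by
  obtain ⟨C, hC⟩ : ∃ C : Subgroup X, C = K ⊓ centralizer ({a} : Set X) := ⟨_, rfl⟩
  obtain ⟨N, hN⟩ : ∃ N : Subgroup X, N = coreIn p C := ⟨_, rfl⟩
  have hW := CoreOfCentralizer.card_centralizerPPrimeCore_coprime p a
  have hWa := CoreOfCentralizer.centralizerPPrimeCore_le p a
  have hWn := CoreOfCentralizer.centralizer_le_normalizer_centralizerPPrimeCore p a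
  rw [← hC, ← hN]
  have hmC : ∀ x : X, x ∈ C ↔ x ∈ K ∧ a * x * a⁻¹ = x := by
    intro x
    rw [hC, mem_inf, mem_centralizer_singleton_iff, mul_inv_eq_iff_eq_mul, eq_comm (a := x * a)]
  -- normalizers
  have hDC : D ≤ normalizer (C : Set X) := by
    intro d hd
    apply mem_normalizer_fintype
    intro x hx
    have hx' := (hmC x).mp hx
    refine (hmC _).mpr ⟨(mem_normalizer_iff.mp (hDK hd) x).mp hx'.1, ?_⟩
    have hda : a * d = d * a := (mem_centralizer_singleton_iff.mp (hWa (hDa hd))).symm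
    calc a * (d * x * d⁻¹) * a⁻¹ = (a * d) * x * (a * d)⁻¹ := by group
      _ = d * (a * x * a⁻¹) * d⁻¹ := by rw [hda]; group
      _ = d * x * d⁻¹ := by rw [hx'.2]
  obtain ⟨z, hz⟩ : ∃ z : X, z = r⁻¹ * (a * r * a⁻¹) := ⟨_, rfl⟩
  rw [← hz] at hra
  have har : a * r * a⁻¹ = r * z := by rw [hz]; group
  have hzK : z ∈ K := by
    rw [hz]
    exact K.mul_mem (K.inv_mem hr) ((mem_normalizer_iff.mp haK r).mp hr)
  have hrC : r ∈ normalizer (C : Set X) := by
    apply mem_normalizer_fintype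
    intro x hx
    have hx' := (hmC x).mp hx
    refine (hmC _).mpr ⟨K.mul_mem (K.mul_mem hr hx'.1) (K.inv_mem hr), ?_⟩
    have hzx : x * z = z * x := mem_centralizer_iff.mp hra x hx'.1
    calc a * (r * x * r⁻¹) * a⁻¹ = (a * r * a⁻¹) * (a * x * a⁻¹) * (a * r * a⁻¹)⁻¹ := by group
      _ = (r * z) * x * (r * z)⁻¹ := by rw [har, hx'.2]
      _ = r * (z * x) * z⁻¹ * r⁻¹ := by group
      _ = r * x * r⁻¹ := by rw [← hzx]; group
  have hCN : normalizer (C : Set X) ≤ normalizer (N : Set X) := by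
    rw [hN]
    exact normalizer_le_normalizer_coreIn p C
  have hCCN : C ≤ normalizer (N : Set X) := le_normalizer.trans hCN
  -- `[C, D] ≤ N`
  have hCD : ∀ c ∈ C, ∀ d ∈ D, d * c * d⁻¹ * c⁻¹ ∈ N := by
    intro c hc d hd
    have hc' := (hmC c).mp hc
    have hca : c ∈ centralizer ({a} : Set X) := by rw [hC] at hc; exact hc.2
    have h1 : centralizerPPrimeCore p a ⊓ K ≤ N := by
      rw [hN]
      apply le_coreIn
      · rw [hC]
        exact le_inf inf_le_right (inf_le_left.trans hWa)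
      · exact Nat.Coprime.coprime_dvd_left (card_dvd_of_le inf_le_left) hW
      · intro c hc
        rw [hC] at hc
        apply mem_normalizer_fintype
        rintro x ⟨hx1, hx2⟩
        exact ⟨(mem_normalizer_iff.mp (hWn hc.2) x).mp hx1,
          K.mul_mem (K.mul_mem hc.1 hx2) (K.inv_mem hc.1)⟩
    apply h1
    constructor
    · have h2 : c * d⁻¹ * c⁻¹ ∈ centralizerPPrimeCore p a :=
        (mem_normalizer_iff.mp (hWn hca) _).mp (inv_mem (hDa hd))
      have h3 := mul_mem (hDa hd) h2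
      have e : d * (c * d⁻¹ * c⁻¹) = d * c * d⁻¹ * c⁻¹ := by group
      rwa [e] at h3
    · exact K.mul_mem ((mem_normalizer_iff.mp (hDK hd) c).mp hc'.1) (K.inv_mem hc'.1)
  -- `[r, D] ⊆ C`
  have hrD : ∀ d ∈ D, r⁻¹ * (d * r * d⁻¹) ∈ C := by
    intro d hd
    have hdr : d * r * d⁻¹ ∈ K := (mem_normalizer_iff.mp (hDK hd) r).mp hr
    have hda : a * d * a⁻¹ = d := by
      have hda : a * d = d * a := (mem_centralizer_singleton_iff.mp (hWa (hDa hd))).symm
      rw [hda]; group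
    have hdz : d * z * d⁻¹ = z := by rw [hDZ z ⟨hzK, hra⟩ d hd]; group
    have hzr : r * z = z * r := mem_centralizer_iff.mp hra r hr
    have hzdr : (d * r * d⁻¹) * z = z * (d * r * d⁻¹) := mem_centralizer_iff.mp hra _ hdr
    refine (hmC _).mpr ⟨K.mul_mem (K.inv_mem hr) hdr, ?_⟩
    calc a * (r⁻¹ * (d * r * d⁻¹)) * a⁻¹
        = (a * r * a⁻¹)⁻¹ * ((a * d * a⁻¹) * (a * r * a⁻¹) * (a * d * a⁻¹)⁻¹) := by group
      _ = (r * z)⁻¹ * (d * (r * z) * d⁻¹) := by rw [har, hda]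
      _ = (r * z)⁻¹ * ((d * r * d⁻¹) * (d * z * d⁻¹)) := by group
      _ = (z * r)⁻¹ * (z * (d * r * d⁻¹)) := by rw [hdz, hzdr, hzr]
      _ = r⁻¹ * (d * r * d⁻¹) := by group
  obtain ⟨e, he⟩ : ∃ e : X, e = r⁻¹ * (d * r * d⁻¹) := ⟨_, rfl⟩
  have heC : e ∈ C := he ▸ hrD d hd
  have hdr : d * r * d⁻¹ = r * e := by rw [he]; group
  rw [← he]
  -- `e` is central modulo `N`
  have hcent : ∀ c ∈ C, c * e * c⁻¹ * e⁻¹ ∈ N := by
    intro c hc
    have hc1 : r * c * r⁻¹ ∈ C := (mem_normalizer_iff.mp hrC c).mp hc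
    obtain ⟨ν, hν⟩ : ∃ ν : X, ν = d * (r * c * r⁻¹) * d⁻¹ * (r * c * r⁻¹)⁻¹ := ⟨_, rfl⟩
    have hνN : ν ∈ N := hν ▸ hCD _ hc1 d hd
    obtain ⟨ν₂, hν₂⟩ : ∃ ν₂ : X, ν₂ = d * c * d⁻¹ * c⁻¹ := ⟨_, rfl⟩
    have hν₂N : ν₂ ∈ N := hν₂ ▸ hCD c hc d hd
    have h1 : r⁻¹ * ν * r ∈ N := by
      have := (mem_normalizer_iff.mp (inv_mem (hCN hrC)) ν).mp hνN
      simpa using this
    have h2 : e * ν₂ * e⁻¹ ∈ N := (mem_normalizer_iff.mp (hCCN heC) ν₂).mp hν₂N
    have h3 : c * e * c⁻¹ * e⁻¹ = (r⁻¹ * ν * r)⁻¹ * (e * ν₂ * e⁻¹) := by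
      have h4 : d * (r * c * r⁻¹) * d⁻¹ = r * e * (ν₂ * c) * e⁻¹ * r⁻¹ := by
        calc d * (r * c * r⁻¹) * d⁻¹
            = (d * r * d⁻¹) * (d * c * d⁻¹) * (d * r * d⁻¹)⁻¹ := by group
          _ = (r * e) * (d * c * d⁻¹) * (r * e)⁻¹ := by rw [hdr]
          _ = r * e * (ν₂ * c) * e⁻¹ * r⁻¹ := by rw [hν₂]; group
      have h5 : r⁻¹ * ν * r = e * ν₂ * c * e⁻¹ * c⁻¹ := by
        rw [hν, h4]; group
      rw [h5]; group
    rw [h3]
    exact mul_mem (inv_mem h1) h2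
  -- powers
  have hpow : ∀ j : ℕ, r⁻¹ * (d ^ j * r * (d ^ j)⁻¹) * (e ^ j)⁻¹ ∈ N := by
    intro j
    induction j with
    | zero => simp
    | succ j ih =>
      obtain ⟨f, hf⟩ : ∃ f : X, f = r⁻¹ * (d ^ j * r * (d ^ j)⁻¹) := ⟨_, rfl⟩
      rw [← hf] at ih
      have hfC : f ∈ C := hf ▸ hrD _ (pow_mem hd j)
      have h1 : r⁻¹ * (d ^ (j + 1) * r * (d ^ (j + 1))⁻¹) = e * (d * f * d⁻¹) := by
        rw [hf, he, pow_succ']; group
      have h2 : d * f * d⁻¹ * f⁻¹ ∈ N := hCD f hfC d hd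
      have h3 : e * ((d * f * d⁻¹ * f⁻¹) * (f * (e ^ j)⁻¹)) * e⁻¹ ∈ N :=
        (mem_normalizer_iff.mp (hCCN heC) _).mp (mul_mem h2 ih)
      have h4 : r⁻¹ * (d ^ (j + 1) * r * (d ^ (j + 1))⁻¹) * (e ^ (j + 1))⁻¹ =
          e * ((d * f * d⁻¹ * f⁻¹) * (f * (e ^ j)⁻¹)) * e⁻¹ := by
        rw [h1, pow_succ']; group
      rw [h4]
      exact h3
  have hdn : d ^ Nat.card (centralizerPPrimeCore p a) = 1 := by
    have h1 := pow_card_eq_one' (x := (⟨d, hDa hd⟩ : centralizerPPrimeCore p a))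
    exact congrArg Subtype.val h1
  have hen : e ^ Nat.card (centralizerPPrimeCore p a) ∈ N := by
    have h1 := hpow (Nat.card (centralizerPPrimeCore p a))
    rw [hdn] at h1
    have h2 := inv_mem h1
    simpa using h2
  -- conclusion
  have hNmem : ∀ x : X, ∀ hx : x ∈ C, x ∈ N ↔ (⟨x, hx⟩ : C) ∈ pPrimeCore p C := by
    intro x hx
    rw [hN]
    constructor
    · rintro ⟨y, hy, hyx⟩
      have : y = ⟨x, hx⟩ := Subtype.ext hyx
      rwa [← this]
    · intro h
      exact ⟨_, h, rfl⟩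
  rw [hNmem e heC]
  apply mem_pPrimeCore_of_central _ (Nat.card (centralizerPPrimeCore p a)) hW
  · have h1 : (⟨e, heC⟩ : C) ^ Nat.card (centralizerPPrimeCore p a) =
        ⟨e ^ Nat.card (centralizerPPrimeCore p a), pow_mem heC _⟩ := rfl
    rw [h1, ← hNmem]
    exact hen
  · rintro ⟨c, hc⟩
    have h1 : (⟨c, hc⟩ : C) * ⟨e, heC⟩ * ⟨c, hc⟩⁻¹ * ⟨e, heC⟩⁻¹ =
        ⟨c * e * c⁻¹ * e⁻¹, C.mul_mem (C.mul_mem (C.mul_mem hc heC) (C.inv_mem hc))
          (C.inv_mem heC)⟩ := rfl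
    rw [h1, ← hNmem]
    exact hcent c hc

/-- If `r ∈ K` and `[r, a] ∈ C(K)` then `r` normalizes `C_K(a)`. -/
theorem mem_normalizer_inf_of_commutator {X : Type*} [Group X] [Finite X] (K : Subgroup X)
    (a r : X) (hr : r ∈ K) (hra : r⁻¹ * (a * r * a⁻¹) ∈ centralizer (K : Set X)) :
    r ∈ normalizer ((K ⊓ centralizer ({a} : Set X) : Subgroup X) : Set X) := by
  apply mem_normalizer_fintype
  rintro x ⟨hx1, hx2⟩
  refine ⟨K.mul_mem (K.mul_mem hr hx1) (K.inv_mem hr), ?_⟩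
  have hx3 : a * x * a⁻¹ = x := by
    rw [mul_inv_eq_iff_eq_mul]; exact (mem_centralizer_singleton_iff.mp hx2).symm
  obtain ⟨z, hz⟩ : ∃ z : X, z = r⁻¹ * (a * r * a⁻¹) := ⟨_, rfl⟩
  rw [← hz] at hra
  have har : a * r * a⁻¹ = r * z := by rw [hz]; group
  have hzx : x * z = z * x := mem_centralizer_iff.mp hra x hx1
  have h1 : a * (r * x * r⁻¹) * a⁻¹ = r * x * r⁻¹ := by
    calc a * (r * x * r⁻¹) * a⁻¹ = (a * r * a⁻¹) * (a * x * a⁻¹) * (a * r * a⁻¹)⁻¹ := by group
      _ = (r * z) * x * (r * z)⁻¹ := by rw [har, hx3]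
      _ = r * (z * x) * z⁻¹ * r⁻¹ := by group
      _ = r * x * r⁻¹ := by rw [← hzx]; group
  show r * x * r⁻¹ ∈ centralizer ({a} : Set X)
  rw [mem_centralizer_singleton_iff]
  rw [mul_inv_eq_iff_eq_mul] at h1
  exact h1.symm

/-- Whatever normalizes `K` and commutes with `a` normalizes `C_K(a)`. -/
theorem mem_normalizer_inf_of_commute {X : Type*} [Group X] [Finite X] (K : Subgroup X)
    (a g : X) (hg : g ∈ normalizer (K : Set X)) (hga : g * a = a * g) :
    g ∈ normalizer ((K ⊓ centralizer ({a} : Set X) : Subgroup X) : Set X) := by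
  apply mem_normalizer_fintype
  rintro x ⟨hx1, hx2⟩
  refine ⟨(mem_normalizer_iff.mp hg x).mp hx1, ?_⟩
  have hx3 : x * a = a * x := mem_centralizer_singleton_iff.mp hx2
  show g * x * g⁻¹ ∈ centralizer ({a} : Set X)
  rw [mem_centralizer_singleton_iff]
  have h1 : g⁻¹ * a = a * g⁻¹ := by
    rw [inv_mul_eq_iff_eq_mul, ← mul_assoc, hga]; group
  calc g * x * g⁻¹ * a = g * x * (g⁻¹ * a) := by group
    _ = g * (x * a) * g⁻¹ := by rw [h1]; group
    _ = (g * a) * x * g⁻¹ := by rw [hx3]; group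
    _ = a * (g * x * g⁻¹) := by rw [hga]; group

theorem mem_normalizer_sup_of {X : Type*} [Group X] [Finite X] {N D : Subgroup X} {g : X}
    (h1 : ∀ x ∈ N, g * x * g⁻¹ ∈ N ⊔ D) (h2 : ∀ x ∈ D, g * x * g⁻¹ ∈ N ⊔ D) :
    g ∈ normalizer ((N ⊔ D : Subgroup X) : Set X) := by
  have h3 : (N ⊔ D).map (MulAut.conj g).toMonoidHom ≤ N ⊔ D := by
    rw [Subgroup.map_sup, sup_le_iff]
    constructor
    · rintro _ ⟨x, hx, rfl⟩
      exact h1 x hx
    · rintro _ ⟨x, hx, rfl⟩
      exact h2 x hx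
  apply mem_normalizer_fintype
  intro x hx
  exact h3 ⟨x, hx, rfl⟩

/-- Let `A`, `D` normalize `K`, let `A` be commutative and commute with `D`, `a ∈ A`, `D ≤ O_{p'}(C_X(a))`, and let
`D` centralize `Z(K)`. Let `f` be a surjection of `H = K D A` such that the elements of `K` in the kernel of `f`
centralize `K`. Then `f(D) ≤ O_{p'}(C(f(a)))`. -/
theorem map_mem_core {X : Type*} [Group X] [Finite X] {p : ℕ} [Fact p.Prime]
    (K A D H : Subgroup X) (hKH : K ≤ H) (hAH : A ≤ H) (hDH : D ≤ H) (hH : H ≤ K ⊔ (D ⊔ A))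
    (hAK : A ≤ normalizer (K : Set X)) (hDK : D ≤ normalizer (K : Set X))
    (hAD : ∀ x ∈ A, ∀ d ∈ D, x * d = d * x) (hA : ∀ x ∈ A, ∀ y ∈ A, x * y = y * x)
    (a : X) (ha : a ∈ A) (hDa : D ≤ centralizerPPrimeCore p a)
    (hDZ : ∀ z ∈ K ⊓ centralizer (K : Set X), ∀ d ∈ D, d * z = z * d)
    {Y : Type*} [Group Y] (f : H →* Y) (hf : Function.Surjective f)
    (hker : ∀ h : H, f h = 1 → (h : X) ∈ K → (h : X) ∈ centralizer (K : Set X))
    (d : X) (hd : d ∈ D) :
    f ⟨d, hDH hd⟩ ∈ centralizerPPrimeCore p (f ⟨a, hAH ha⟩) := by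
  have hW := CoreOfCentralizer.card_centralizerPPrimeCore_coprime p a
  have hWa := CoreOfCentralizer.centralizerPPrimeCore_le p a
  obtain ⟨N, hN⟩ : ∃ N : Subgroup X, N = coreIn p (K ⊓ centralizer ({a} : Set X)) := ⟨_, rfl⟩
  have hCN : normalizer ((K ⊓ centralizer ({a} : Set X) : Subgroup X) : Set X) ≤
      normalizer (N : Set X) := by
    rw [hN]
    exact normalizer_le_normalizer_coreIn p _
  have hNC : N ≤ K ⊓ centralizer ({a} : Set X) := by rw [hN]; exact coreIn_le p _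
  have hDa' : ∀ x ∈ D, x * a = a * x := fun x hx => mem_centralizer_singleton_iff.mp (hWa (hDa hx))
  have hDN : D ≤ normalizer (N : Set X) := fun x hx =>
    hCN (mem_normalizer_inf_of_commute K a x (hDK hx) (hDa' x hx))
  have hAN : A ≤ normalizer (N : Set X) := fun x hx =>
    hCN (mem_normalizer_inf_of_commute K a x (hAK hx) (hA x hx a ha))
  have hMH : N ⊔ D ≤ H := sup_le (hNC.trans (inf_le_left.trans hKH)) hDH
  have hMa : N ⊔ D ≤ centralizer ({a} : Set X) := sup_le (hNC.trans inf_le_right) (hDa.trans hWa)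
  have hMp : (Nat.card ↥(N ⊔ D)).Coprime p := by
    refine Nat.Coprime.coprime_dvd_left (CoprimeBasic.card_sup_dvd hDN) ?_
    apply Nat.Coprime.mul_left
    · rw [hN]; exact coreIn_coprime p _
    · exact Nat.Coprime.coprime_dvd_left (card_dvd_of_le hDa) hW
  have hAM : A ≤ normalizer ((N ⊔ D : Subgroup X) : Set X) := by
    intro x hx
    apply mem_normalizer_sup_of
    · intro y hy
      exact le_sup_left (a := N) ((mem_normalizer_iff.mp (hAN hx) y).mp hy)
    · intro y hy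
      rw [hAD x hx y hy, mul_inv_cancel_right]
      exact le_sup_right (a := N) hy
  have hDM : D ≤ normalizer ((N ⊔ D : Subgroup X) : Set X) := le_sup_right.trans le_normalizer
  have hKM : ∀ k ∈ K, k⁻¹ * (a * k * a⁻¹) ∈ centralizer (K : Set X) →
      k ∈ normalizer ((N ⊔ D : Subgroup X) : Set X) := by
    intro k hk hka
    have hkN : k ∈ normalizer (N : Set X) := hCN (mem_normalizer_inf_of_commutator K a k hk hka)
    rw [← inv_mem_iff]
    apply mem_normalizer_sup_of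
    · intro y hy
      exact le_sup_left (a := N) ((mem_normalizer_iff.mp (inv_mem hkN) y).mp hy)
    · intro y hy
      have h1 : k⁻¹ * (y * k * y⁻¹) ∈ N := by
        rw [hN]
        exact commutator_mem_coreIn K D a (hAK ha) hDK hDa hDZ k hk hka y hy
      have h2 : k⁻¹ * y * k⁻¹⁻¹ = (k⁻¹ * (y * k * y⁻¹)) * y := by group
      rw [h2]
      exact mul_mem (le_sup_left (a := N) h1) (le_sup_right (a := N) hy)
  -- the subgroup of `Y`
  have key : ((N ⊔ D).subgroupOf H).map f ≤ centralizerPPrimeCore p (f ⟨a, hAH ha⟩) := by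
    apply le_centralizerPPrimeCore
    · rintro _ ⟨y, hy, rfl⟩
      rw [mem_centralizer_singleton_iff, ← map_mul, ← map_mul]
      congr 1
      exact Subtype.ext (mem_centralizer_singleton_iff.mp (hMa hy))
    · refine Nat.Coprime.coprime_dvd_left ?_ hMp
      rw [← Nat.card_congr (subgroupOfEquivOfLe hMH).toEquiv]
      exact card_dvd_of_surjective _ (f.subgroupMap_surjective _)
    · intro y hy
      obtain ⟨h, rfl⟩ := hf y
      have hh : (h : X) ∈ normalizer ((N ⊔ D : Subgroup X) : Set X) := by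
        have hDAK : D ⊔ A ≤ normalizer (K : Set X) := sup_le hDK hAK
        obtain ⟨k, hk, x, hx, hkx⟩ := (CoprimeBasic.mem_sup_iff hDAK _).mp (hH h.2)
        have hxM : x ∈ normalizer ((N ⊔ D : Subgroup X) : Set X) := (sup_le hDM hAM) hx
        have hxa : x * a = a * x := by
          have h1 : D ⊔ A ≤ centralizer ({a} : Set X) := by
            apply sup_le (hDa.trans hWa)
            intro y hy
            rw [mem_centralizer_singleton_iff]
            exact hA y hy a ha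
          exact mem_centralizer_singleton_iff.mp (h1 hx)
        rw [← hkx]
        apply mul_mem _ hxM
        apply hKM k hk
        have hxH : x ∈ H := (sup_le hDH hAH) hx
        have h1 : h = ⟨k, hKH hk⟩ * ⟨x, hxH⟩ := Subtype.ext hkx.symm
        have h2 : f ⟨k, hKH hk⟩ * f ⟨a, hAH ha⟩ = f ⟨a, hAH ha⟩ * f ⟨k, hKH hk⟩ := by
          have h3 : f ⟨x, hxH⟩ * f ⟨a, hAH ha⟩ = f ⟨a, hAH ha⟩ * f ⟨x, hxH⟩ := by
            rw [← map_mul, ← map_mul]
            congr 1
            exact Subtype.ext hxa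
          have h4 := mem_centralizer_singleton_iff.mp hy
          rw [h1, map_mul, mul_assoc, h3, ← mul_assoc, ← mul_assoc] at h4
          exact mul_right_cancel h4
        have h5 : (⟨k, hKH hk⟩ : H)⁻¹ * (⟨a, hAH ha⟩ * ⟨k, hKH hk⟩ * ⟨a, hAH ha⟩⁻¹) =
            ⟨k⁻¹ * (a * k * a⁻¹), H.mul_mem (H.inv_mem (hKH hk)) (H.mul_mem (H.mul_mem (hAH ha)
              (hKH hk)) (H.inv_mem (hAH ha)))⟩ := rfl
        have h6 : f ⟨k⁻¹ * (a * k * a⁻¹), H.mul_mem (H.inv_mem (hKH hk)) (H.mul_mem (H.mul_mem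
            (hAH ha) (hKH hk)) (H.inv_mem (hAH ha)))⟩ = 1 := by
          rw [← h5, map_mul, map_mul, map_mul, ← h2]
          simp
        refine hker _ h6 ?_
        exact K.mul_mem (K.inv_mem hk) ((mem_normalizer_iff.mp (hAK ha) k).mp hk)
      have hh' : h ∈ normalizer (((N ⊔ D).subgroupOf H : Subgroup H) : Set H) := by
        rw [mem_normalizer_iff]
        intro y
        rw [mem_subgroupOf, mem_subgroupOf]
        exact mem_normalizer_iff.mp hh y
      exact le_normalizer_map f ⟨h, hh', rfl⟩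
  exact key ⟨⟨d, hDH hd⟩, mem_subgroupOf.mpr (le_sup_right (a := N) hd), rfl⟩

end Cfsg.Agent.SignalizersComponents.BalanceLocal
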