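import Mathlib
import Cfsg.Prelude.Def_Balance
import Cfsg.Agent.SignalizersComponents.FunctorInduction

set_option autoImplicit false

/-!
The action theorem "`C_K(a)` solvable for all `a ∈ A#`, `|A| ≥ p ^ 3`, `K` a `p'`-group ⟹ `K` solvable"
(S0515), as a consequence of the completeness of solvable signalizer functors.
-/

namespace Cfsg.Agent.SignalizersComponents.SolvableAction

open Subgroup
open Cfsg.Agent.SignalizersComponents.GoldschmidtGen (le_normalizer_of_conj_mem
  conj_mem_of_le_normalizer)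
open Cfsg.Agent.SignalizersComponents.CoprimeGen
open Cfsg.Agent.SignalizersComponents.FunctorTools
open Cfsg.Agent.SignalizersComponents.FunctorInduction

universe u

variable {X : Type u} [Group X]

/-- `a ↦ C_K(a)` is a solvable signalizer functor. -/
theorem functor_inf_centralizer (p : ℕ) [hp : Fact p.Prime] (A K : Subgroup X)
    [Finite X] (hA : IsMulCommutative A)
    (hK : (Nat.card K).Coprime p) (hAK : A ≤ normalizer (K : Set X))
    (hC : ∀ a ∈ A, a ≠ 1 → Group.IsSolvable ((K ⊓ centralizer ({a} : Set X) : Subgroup X))) :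
    Cfsg.IsSolvableSignalizerFunctor p A (fun a => K ⊓ centralizer ({a} : Set X)) := by
  have hcomm : ∀ a ∈ A, ∀ b ∈ A, a * b = b * a := fun a ha b hb =>
    congrArg Subtype.val (hA.is_comm.comm (⟨a, ha⟩ : A) ⟨b, hb⟩)
  refine ⟨⟨fun a _ _ => inf_le_right, fun a _ _ hd => ?_, fun a ha _ b hb x hx => ?_,
    fun a ha _ b hb _ x hx => ?_⟩, hC⟩
  · have h1 : p ∣ Nat.card K := hd.trans (card_dvd_of_le inf_le_left)
    exact hp.out.one_lt.ne' (Nat.Coprime.eq_one_of_dvd hK.symm h1)
  · refine ⟨conj_mem_of_le_normalizer hAK hb hx.1, ?_⟩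
    have hb' : b ∈ centralizer ({a} : Set X) := mem_centralizer_singleton.mpr (hcomm a ha b hb)
    exact (centralizer {a}).mul_mem ((centralizer {a}).mul_mem hb' hx.2) ((centralizer {a}).inv_mem hb')
  · exact ⟨hx.1.1, hx.2⟩

/-- S0515 from the completeness of solvable signalizer functors. -/
theorem isSolvable_of_solComplete [Finite X]
    (p : ℕ) [hp : Fact p.Prime] (A K : Subgroup X) (hA : IsMulCommutative A) (hAp : ∀ a ∈ A, a ^ p = 1)
    (hA3 : p ^ 3 ≤ Nat.card A) (hK : (Nat.card K).Coprime p) (hAK : A ≤ normalizer (K : Set X))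
    (hC : ∀ a ∈ A, a ≠ 1 → Group.IsSolvable ((K ⊓ centralizer ({a} : Set X) : Subgroup X)))
    (hcompl : ∀ θ : X → Subgroup X, Cfsg.IsSolvableSignalizerFunctor p A θ → SolComplete p A θ) :
    Group.IsSolvable K := by
  obtain ⟨W, hW, hle⟩ := hcompl _ (functor_inf_centralizer p A K hA hK hAK hC)
  have hKp : ¬ p ∣ Nat.card K := fun hd =>
    hp.out.one_lt.ne' (Nat.Coprime.eq_one_of_dvd hK.symm hd)
  have hA2 : p ^ 2 ≤ Nat.card A := (Nat.pow_le_pow_right hp.out.pos (by norm_num)).trans hA3
  have hKW : K ≤ W := (le_iSup_centralizer_ne_one ⟨hA, hAp⟩ hA2 hKp hAK).trans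
    (iSup_le fun a => hle a.1 a.2.1 a.2.2)
  have := hW.1
  exact Group.isSolvable_of_isSolvable_injective (f := Subgroup.inclusion hKW)
    (Subgroup.inclusion_injective hKW)

/-- S0515 from the non-existence of minimal counterexamples to the signalizer functor theorem. -/
theorem isSolvable_of_no_minCounter {p : ℕ} [hp : Fact p.Prime]
    (hno : ∀ (G : Type u) [Group G] [Finite G] (A : Subgroup G) (θ : G → Subgroup G),
      MinCounter p A θ → False) {X : Type u} [Group X] [Finite X]
    (A K : Subgroup X) (hA : IsMulCommutative A) (hAp : ∀ a ∈ A, a ^ p = 1)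
    (hA3 : p ^ 3 ≤ Nat.card A) (hK : (Nat.card K).Coprime p) (hAK : A ≤ normalizer (K : Set X))
    (hC : ∀ a ∈ A, a ≠ 1 → Group.IsSolvable ((K ⊓ centralizer ({a} : Set X) : Subgroup X))) :
    Group.IsSolvable K :=
  isSolvable_of_solComplete p A K hA hAp hA3 hK hAK hC
    (fun θ hθ => solComplete hno _ X A θ rfl ⟨hA, hAp⟩ hA3 hθ)

end Cfsg.Agent.SignalizersComponents.SolvableAction
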