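import Mathlib
import Cfsg.Prelude.Def_Balance
import Cfsg.Agent.Lib.Cores
import Cfsg.Agent.SignalizersComponents.BalanceAux

/-!
# `O_{p'}(C_G(x))` is normalized by each `y` with `⁅y, x⁆ ∈ O_p(G)`

* `mem_normalizer_map_pPrimeCore`: an element normalizing `C` normalizes `O_{p'}(C)`;
* `mem_normalizer_core`: for `x` of order `p`, `O_{p'}(C_G(x))` is normalized by every `y` with
  `⁅y, x⁆ ∈ O_p(G)`.
-/

set_option autoImplicit false

namespace Cfsg.Agent.SignalizersComponents.BalanceNorm

open Cfsg Subgroup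
open scoped commutatorElement
open Cfsg.Agent.SignalizersComponents.BalanceAux
open Cfsg.Agent.SignalizersComponents.CoreOfCentralizer

variable {G : Type*} [Group G]

/-- An element normalizing `C` normalizes `O_{p'}(C)`. -/
theorem mem_normalizer_map_pPrimeCore (p : ℕ) {C : Subgroup G} {g : G}
    (hg : g ∈ normalizer (C : Set G)) :
    g ∈ normalizer (((pPrimeCore p C).map C.subtype : Subgroup G) : Set G) := by
  have key : ∀ h ∈ normalizer (C : Set G), ∀ n ∈ (pPrimeCore p C).map C.subtype,
      h * n * h⁻¹ ∈ (pPrimeCore p C).map C.subtype := by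
    rintro h hh _ ⟨y, hy, rfl⟩
    let e : C ≃* C := C.normalizerMonoidHom ⟨h, hh⟩
    have h1 := Lib.Cores.map_equiv_pPrimeCore e p
    have h2 : e y ∈ pPrimeCore p C := by
      rw [← h1]
      exact mem_map_of_mem _ hy
    exact ⟨e y, h2, rfl⟩
  rw [mem_normalizer_iff]
  intro n
  constructor
  · exact key g hg n
  · intro hn
    have := key g⁻¹ (inv_mem hg) _ hn
    have h3 : g⁻¹ * (g * n * g⁻¹) * g⁻¹⁻¹ = n := by group
    rwa [h3] at this

/-- `O_{p'}(C_G(x))` is normalized by each `y` with `⁅y, x⁆ ∈ O_p(G)`. -/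
theorem mem_normalizer_core [Finite G] (p : ℕ) [Fact p.Prime] (x : G) (hx : orderOf x = p)
    {y : G} (hy : ⁅y, x⁆ ∈ pCore p G) :
    y ∈ normalizer (centralizerPPrimeCore p x : Set G) := by
  have hN : (pCore p G).Normal := Lib.Cores.pCore_normal p
  have hDc := core_le_centralizer_pCore p x hx
  set Q : Subgroup G := pCore p G ⊔ zpowers x with hQ
  set C : Subgroup G := centralizer (Q : Set G) with hC
  have hxQ : x ∈ Q := (le_sup_right : zpowers x ≤ Q) (mem_zpowers x)
  have hmemC : ∀ c : G, c ∈ C ↔ c ∈ centralizer (pCore p G : Set G) ∧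
      c ∈ centralizer ({x} : Set G) := by
    intro c
    constructor
    · intro hc
      refine ⟨centralizer_le (le_sup_left : pCore p G ≤ Q) hc, ?_⟩
      rw [mem_centralizer_iff] at hc ⊢
      intro h hh
      rw [Set.mem_singleton_iff.mp hh]
      exact hc x hxQ
    · rintro ⟨h1, h2⟩
      have h3 : Q ≤ centralizer ({c} : Set G) := by
        refine sup_le ?_ ?_
        · intro z hz
          rw [mem_centralizer_iff]
          intro h hh
          rw [Set.mem_singleton_iff.mp hh]
          exact (mem_centralizer_iff.mp h1 z hz).symm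
        · rw [zpowers_le, mem_centralizer_iff]
          intro h hh
          rw [Set.mem_singleton_iff.mp hh]
          exact (mem_centralizer_iff.mp h2 x rfl).symm
      rw [mem_centralizer_iff]
      intro h hh
      exact (mem_centralizer_iff.mp (h3 hh) c rfl).symm
  -- elements that normalize `Q` normalize `C`
  have hnorm : ∀ g : G, ⁅g, x⁆ ∈ pCore p G → g ∈ normalizer (C : Set G) := by
    have hstep : ∀ g : G, ⁅g, x⁆ ∈ pCore p G → ∀ c ∈ C, g * c * g⁻¹ ∈ C := by
      intro g hg c hc
      rw [hmemC] at hc ⊢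
      obtain ⟨h1, h2⟩ := hc
      have h4 : g * c * g⁻¹ ∈ centralizer (pCore p G : Set G) :=
        (inferInstance : (centralizer (pCore p G : Set G)).Normal).conj_mem c h1 g
      refine ⟨h4, ?_⟩
      rw [mem_centralizer_iff]
      intro z hz
      rw [Set.mem_singleton_iff.mp hz]
      have h5 : x = ⁅g, x⁆⁻¹ * (g * x * g⁻¹) := by rw [commutatorElement_def]; group
      have h6 : Commute (g * x * g⁻¹) (g * c * g⁻¹) := by
        have : Commute x c := mem_centralizer_iff.mp h2 x rfl
        exact (Commute.conj_iff g).mpr this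
      have h7 : Commute ⁅g, x⁆ (g * c * g⁻¹) := mem_centralizer_iff.mp h4 _ hg
      have h8 : Commute x (g * c * g⁻¹) := by
        rw [h5]
        exact h7.inv_left.mul_left h6
      exact h8.eq
    intro g hg
    rw [mem_normalizer_iff]
    intro c
    refine ⟨hstep g hg c, fun hc => ?_⟩
    have h9 : ⁅g⁻¹, x⁆ ∈ pCore p G := by
      have : ⁅g⁻¹, x⁆ = g⁻¹ * ⁅g, x⁆⁻¹ * g⁻¹⁻¹ := by
        rw [commutatorElement_def, commutatorElement_def]; group
      rw [this]
      exact hN.conj_mem _ (inv_mem hg) _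
    have := hstep g⁻¹ h9 _ hc
    have h3 : g⁻¹ * (g * c * g⁻¹) * g⁻¹⁻¹ = c := by group
    rwa [h3] at this
  set D₁ : Subgroup G := (pPrimeCore p C).map C.subtype with hD₁
  have hD₁n : ∀ g : G, ⁅g, x⁆ ∈ pCore p G → g ∈ normalizer (D₁ : Set G) :=
    fun g hg => mem_normalizer_map_pPrimeCore p (hnorm g hg)
  have hD₁C : D₁ ≤ C := map_subtype_le _
  have hcx : ∀ c : G, c ∈ centralizer ({x} : Set G) → ⁅c, x⁆ ∈ pCore p G := by
    intro c hc
    have : ⁅c, x⁆ = 1 := commutatorElement_eq_one_iff_mul_comm.mpr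
      (mem_centralizer_iff.mp hc x rfl).symm
    rw [this]
    exact one_mem _
  have hcardD₁ : (Nat.card D₁).Coprime p := by
    have h1 : Nat.card D₁ = Nat.card (pPrimeCore p C) :=
      Nat.card_congr ((pPrimeCore p C).equivMapOfInjective _ (subtype_injective _)).symm.toEquiv
    rw [h1]
    exact Lib.Cores.pPrimeCore_coprime p
  have hDC : centralizerPPrimeCore p x ≤ C := fun d hd =>
    (hmemC d).mpr ⟨hDc hd, centralizerPPrimeCore_le p x hd⟩
  -- `D = D₁`
  have h1 : centralizerPPrimeCore p x ≤ D₁ := by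
    have hn : ((centralizerPPrimeCore p x).subgroupOf C).Normal := by
      apply normal_subgroupOf_of_le_normalizer
      intro c hc
      exact centralizer_le_normalizer_centralizerPPrimeCore p x ((hmemC c).mp hc).2
    have hc : (Nat.card ((centralizerPPrimeCore p x).subgroupOf C)).Coprime p := by
      rw [Nat.card_congr (subgroupOfEquivOfLe hDC).toEquiv]
      exact card_centralizerPPrimeCore_coprime p x
    have := Lib.Cores.le_pPrimeCore hn hc
    intro d hd
    exact ⟨⟨d, hDC hd⟩, this hd, rfl⟩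
  have h2 : D₁ ≤ centralizerPPrimeCore p x :=
    le_centralizerPPrimeCore (fun d hd => ((hmemC d).mp (hD₁C hd)).2) hcardD₁
      (fun c hc => hD₁n c (hcx c hc))
  rw [le_antisymm h1 h2]
  exact hD₁n y hy

end Cfsg.Agent.SignalizersComponents.BalanceNorm
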