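import Mathlib
import Cfsg.Agent.SignalizersComponents.BalLocal
import Cfsg.Agent.S0520

/-!
# Local setups in groups where an odd order element commutes with at most one involution

This is the end game of S1290 / S1291 for `PSL₂(q)`, `q` odd.
-/

set_option autoImplicit false

namespace Cfsg.Agent.SignalizersComponents.BalUnique

open Cfsg Subgroup
open scoped Pointwise
open Cfsg.Agent.SignalizersComponents.BalLocal

universe u

variable {L : Type u} [Group L] [Finite L] {T : Sylow 2 L} {W : Subgroup L}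

theorem orderOf_conj' (g t : L) : orderOf (g * t * g⁻¹) = orderOf t := by
  have := orderOf_injective (MulAut.conj g).toMonoidHom (MulAut.conj g).injective t
  simpa [MulAut.conj_apply] using this

/-- A maximal `r`-subgroup of `C_W(u)` is a Sylow subgroup of `W`. -/
theorem sylow_of_max {r : ℕ} [Fact r.Prime] (hodd : Odd (Nat.card W))
    (hU : ∀ c a b : L, c ≠ 1 → Odd (orderOf c) → orderOf a = 2 → orderOf b = 2 → Commute c a →
      Commute c b → a = b) {u : L} (hu : orderOf u = 2) {P Q : Subgroup L}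
    (hP1 : P ≠ ⊥) (hPW : P ≤ W ⊓ centralizer {u})
    (hmax : ∀ R : Subgroup L, IsPGroup r R → P ≤ R → R ≤ W ⊓ centralizer {u} → R = P)
    (hQ : IsPGroup r Q) (hPQ : P ≤ Q) (hQW : Q ≤ W) : Q = P := by
  by_contra hne
  have hlt : P < Q := lt_of_le_of_ne hPQ (fun h => hne h.symm)
  have h1 := S0520.lt_inf_normalizer hQ hlt
  have h2 : Q ⊓ normalizer (P : Set L) ≤ W ⊓ centralizer {u} := by
    rintro n ⟨hnQ, hnN⟩
    refine ⟨hQW hnQ, ?_⟩
    show n ∈ centralizer ({u} : Set L)
    obtain ⟨c, hc, hc1⟩ := P.bot_or_exists_ne_one.resolve_left hP1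
    have hcW : c ∈ W := (hPW hc).1
    have hcu : Commute c u := mem_centralizer_singleton_iff.mp (hPW hc).2
    have hcn : n * c * n⁻¹ ∈ P := (mem_normalizer_iff.mp hnN c).mp hc
    have hcnu : Commute (n * c * n⁻¹) u := mem_centralizer_singleton_iff.mp (hPW hcn).2
    have hodd' : Odd (orderOf c) := by
      refine hodd.of_dvd_nat ?_
      have := orderOf_dvd_natCard (⟨c, hcW⟩ : W)
      rwa [Subgroup.orderOf_mk] at this
    have h3 : u = n⁻¹ * u * n := by
      refine hU c u (n⁻¹ * u * n) hc1 hodd' hu ?_ hcu ?_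
      · have := orderOf_conj' n⁻¹ u
        rw [inv_inv] at this
        rw [this]; exact hu
      · show c * (n⁻¹ * u * n) = n⁻¹ * u * n * c
        have e1 : c * (n⁻¹ * u * n) = n⁻¹ * ((n * c * n⁻¹) * u) * n := by group
        have e2 : n⁻¹ * u * n * c = n⁻¹ * (u * (n * c * n⁻¹)) * n := by group
        rw [e1, e2, hcnu.eq]
    rw [mem_centralizer_singleton_iff]
    calc n * u = n * (n⁻¹ * u * n) := by rw [← h3]
      _ = u * n := by group
  have h3 := hmax _ (hQ.to_le inf_le_left) h1.le h2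
  exact h1.ne h3.symm

/-- The end game. -/
theorem eq_bot (h : LocalSetup T W)
    (hU : ∀ c a b : L, c ≠ 1 → Odd (orderOf c) → orderOf a = 2 → orderOf b = 2 → Commute c a →
      Commute c b → a = b)
    (hconj : ∀ a b : L, orderOf a = 2 → orderOf b = 2 → Commute a b → a ≠ b →
      ∃ g : L, g * a * g⁻¹ = b) : W = ⊥ := by
  obtain ⟨x, hx, y, hy, hx1, hy1, hne, hx2, hy2, hxy⟩ :=
    Cfsg.Agent.TwoGenCore.not_pRankLE_one_iff.mp h.rank
  by_contra hW
  have ho2 : ∀ {z : L}, z ≠ 1 → z * z = 1 → orderOf z = 2 := fun h1 h2 =>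
    orderOf_eq_prime (by rw [pow_two]; exact h2) h1
  have hxy1 : x * y ≠ 1 := by
    intro e
    apply hne
    have : x * y = x * x := by rw [e, hx2]
    exact (mul_left_cancel this).symm
  have hxy2 : (x * y) * (x * y) = 1 := by
    calc x * y * (x * y) = x * y * (y * x) := by rw [hxy]
      _ = x * (y * y) * x := by group
      _ = 1 := by rw [hy2, mul_one, hx2]
  -- a pair with a nontrivial fixed point group
  obtain ⟨u, hu, v, hv, hu2, hv2, huv, huvne, hCu⟩ : ∃ u ∈ (T : Subgroup L), ∃ v ∈ (T : Subgroup L),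
      orderOf u = 2 ∧ orderOf v = 2 ∧ Commute u v ∧ u ≠ v ∧ W ⊓ centralizer {u} ≠ ⊥ := by
    by_contra hcon
    push Not at hcon
    apply hW
    rw [← le_bot_iff]
    refine h.le_of_four hx hy hx2 hy2 hxy ?_ ?_ ?_
    · exact (hcon x hx y hy (ho2 hx1 hx2) (ho2 hy1 hy2) hxy hne).le
    · exact (hcon y hy x hx (ho2 hy1 hy2) (ho2 hx1 hx2) hxy.symm hne.symm).le
    · refine (hcon (x * y) ((T : Subgroup L).mul_mem hx hy) x hx (ho2 hxy1 hxy2) (ho2 hx1 hx2) ?_
        ?_).le
      · show x * y * x = x * (x * y)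
        rw [mul_assoc, ← hxy]
      · intro e
        apply hy1
        have : x * y = x * 1 := by rw [e, mul_one]
        exact mul_left_cancel this
  obtain ⟨g, hg⟩ := hconj u v hu2 hv2 huv huvne
  have hmap := h.map_conj hu hu2 (g := g) (by rw [hg]; exact hv)
  rw [hg] at hmap
  set B : Subgroup L := W ⊓ centralizer {u} with hB
  have hBcard : Nat.card B ≠ 1 := by
    intro h1
    exact hCu (Subgroup.card_eq_one.mp h1)
  obtain ⟨r, hr, hrB⟩ := Nat.exists_prime_and_dvd hBcard
  have : Fact r.Prime := ⟨hr⟩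
  obtain ⟨P₀⟩ : Nonempty (Sylow r B) := inferInstance
  set P : Subgroup L := (P₀ : Subgroup B).map B.subtype with hP
  have hPr : IsPGroup r P := P₀.2.map _
  have hPB : P ≤ B := Subgroup.map_subtype_le _
  have hPne : P ≠ ⊥ := by
    intro h1
    have h2 : (P₀ : Subgroup B) = ⊥ := (Subgroup.map_eq_bot_iff_of_injective _ B.subtype_injective).1 h1
    have h3 := P₀.dvd_card_of_dvd_card hrB
    have h4 : Nat.card P₀ = 1 := by
      show Nat.card (P₀ : Subgroup B) = 1
      rw [h2, Subgroup.card_bot]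
    rw [h4] at h3
    exact hr.one_lt.ne' (Nat.dvd_one.mp h3)
  have hPmax : ∀ R : Subgroup L, IsPGroup r R → P ≤ R → R ≤ B → R = P := by
    intro R hR hPR hRB
    have h1 : (P₀ : Subgroup B) ≤ R.subgroupOf B := by
      intro x hx
      exact Subgroup.mem_subgroupOf.mpr (hPR ⟨x, hx, rfl⟩)
    have h2 := P₀.3 (hR.comap_of_injective B.subtype B.subtype_injective) h1
    have h3 : (R.subgroupOf B).map B.subtype = P := by
      rw [hP]; exact congrArg _ h2
    rwa [Subgroup.subgroupOf_map_subtype, inf_eq_left.mpr hRB] at h3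
  have hPW : P ≤ W := hPB.trans inf_le_left
  -- `P` is a Sylow subgroup of `W`
  have hPcard : Nat.card P = r ^ (Nat.card W).factorization r := by
    have h1 : IsPGroup r (P.subgroupOf W) := hPr.comap_of_injective W.subtype W.subtype_injective
    obtain ⟨Q, hQ⟩ := h1.exists_le_sylow
    have h2 : (Q : Subgroup W).map W.subtype = P := by
      refine sylow_of_max h.odd hU hu2 hPne hPB hPmax (Q.2.map _) ?_ (Subgroup.map_subtype_le _)
      intro x hx
      exact ⟨⟨x, hPW hx⟩, hQ (Subgroup.mem_subgroupOf.mpr hx), rfl⟩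
    rw [← h2, Subgroup.card_map_of_injective W.subtype_injective]
    exact Q.card_eq_multiplicity
  set P' : Subgroup L := P.map (MulAut.conj g).toMonoidHom with hP'
  have hP'le : P' ≤ W ⊓ centralizer {v} := by
    rw [← hmap]
    exact Subgroup.map_mono hPB
  have hP'W : P' ≤ W := hP'le.trans inf_le_left
  have hP'card : Nat.card P' = r ^ (Nat.card W).factorization r := by
    rw [hP', Subgroup.card_map_of_injective (MulAut.conj g).injective]
    exact hPcard
  have c1 : Nat.card (P.subgroupOf W) = r ^ (Nat.card W).factorization r := by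
    rw [Nat.card_congr (Subgroup.subgroupOfEquivOfLe hPW).toEquiv]; exact hPcard
  have c2 : Nat.card (P'.subgroupOf W) = r ^ (Nat.card W).factorization r := by
    rw [Nat.card_congr (Subgroup.subgroupOfEquivOfLe hP'W).toEquiv]; exact hP'card
  obtain ⟨w, hw⟩ := MulAction.exists_smul_eq W (Sylow.ofCard _ c1) (Sylow.ofCard _ c2)
  obtain ⟨c, hc, hc1⟩ := P.bot_or_exists_ne_one.resolve_left hPne
  have hcw : (w : L) * c * (w : L)⁻¹ ∈ P' := by
    have h1 : w * ⟨c, hPW hc⟩ * w⁻¹ ∈ ((w • Sylow.ofCard _ c1 : Sylow r W) : Subgroup W) := by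
      rw [Sylow.coe_subgroup_smul, Subgroup.mem_pointwise_smul_iff_inv_smul_mem]
      have h2 : (⟨c, hPW hc⟩ : W) ∈ P.subgroupOf W := Subgroup.mem_subgroupOf.mpr hc
      simpa [MulAut.smul_def, MulAut.conj_apply, mul_assoc] using h2
    rw [hw] at h1
    exact Subgroup.mem_subgroupOf.mp h1
  have hodd' : Odd (orderOf c) := by
    refine h.odd.of_dvd_nat ?_
    have := orderOf_dvd_natCard (⟨c, hPW hc⟩ : W)
    rwa [Subgroup.orderOf_mk] at this
  have hcu : Commute c u := mem_centralizer_singleton_iff.mp (hPB hc).2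
  have hkey : v = (w : L) * u * (w : L)⁻¹ := by
    refine hU ((w : L) * c * (w : L)⁻¹) v ((w : L) * u * (w : L)⁻¹) ?_ ?_ hv2 ?_ ?_ ?_
    · intro e
      apply hc1
      have h3 : c = (w : L)⁻¹ * ((w : L) * c * (w : L)⁻¹) * w := by group
      rw [h3, e]; group
    · rw [orderOf_conj']; exact hodd'
    · rw [orderOf_conj']; exact hu2
    · exact mem_centralizer_singleton_iff.mp (hP'le hcw).2
    · show (w : L) * c * (w : L)⁻¹ * ((w : L) * u * (w : L)⁻¹) =
        (w : L) * u * (w : L)⁻¹ * ((w : L) * c * (w : L)⁻¹)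
      have e1 : (w : L) * c * (w : L)⁻¹ * ((w : L) * u * (w : L)⁻¹) = w * (c * u) * (w : L)⁻¹ := by
        group
      have e2 : (w : L) * u * (w : L)⁻¹ * ((w : L) * c * (w : L)⁻¹) = w * (u * c) * (w : L)⁻¹ := by
        group
      rw [e1, e2, hcu.eq]
  -- `v u⁻¹ ∈ W`
  have hvu : v * u⁻¹ ∈ W := by
    have e : v * u⁻¹ = (w : L) * (u * (w : L)⁻¹ * u⁻¹) := by rw [hkey]; group
    rw [e]
    exact W.mul_mem w.2 ((mem_normalizer_iff.mp (h.le_normalizer hu) _).mp (W.inv_mem w.2))
  have hui : u⁻¹ = u := by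
    apply inv_eq_of_mul_eq_one_right
    rw [← pow_two, ← hu2]; exact pow_orderOf_eq_one u
  have hvv : v * v = 1 := by rw [← pow_two, ← hv2]; exact pow_orderOf_eq_one v
  have huu : u * u = 1 := by rw [← pow_two, ← hu2]; exact pow_orderOf_eq_one u
  have hvu2 : orderOf (v * u⁻¹) = 2 := by
    apply ho2
    · intro e
      exact huvne (mul_inv_eq_one.mp e).symm
    · rw [hui]
      calc v * u * (v * u) = v * (u * v) * u := by group
        _ = v * (v * u) * u := by rw [huv.eq]
        _ = (v * v) * (u * u) := by group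
        _ = 1 := by rw [hvv, huu, one_mul]
  have h5 := orderOf_dvd_natCard (⟨v * u⁻¹, hvu⟩ : W)
  rw [Subgroup.orderOf_mk, hvu2] at h5
  exact Nat.not_even_iff_odd.mpr h.odd (even_iff_two_dvd.mpr h5)

end Cfsg.Agent.SignalizersComponents.BalUnique
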