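import Mathlib
import Cfsg.Agent.SignalizersComponents.BalUnique

/-!
# Local setups in `PSL₂(F)`, `F` of characteristic different from 2
-/

set_option autoImplicit false

namespace Cfsg.Agent.SignalizersComponents.BalPSL2

open Cfsg Matrix
open Cfsg.Agent.SignalizersComponents.BalLocal

variable {F : Type*} [Field F]

local notation "SL" => Matrix.SpecialLinearGroup (Fin 2) F

/-- the projection -/
def pr : Matrix.SpecialLinearGroup (Fin 2) F →* Matrix.ProjectiveSpecialLinearGroup (Fin 2) F :=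
  QuotientGroup.mk' (Subgroup.center (Matrix.SpecialLinearGroup (Fin 2) F))

theorem pr_surjective : Function.Surjective (pr (F := F)) := QuotientGroup.mk'_surjective _

theorem pr_eq_one_iff {A : SL} : pr A = 1 ↔ A ∈ Subgroup.center SL := by
  show QuotientGroup.mk' _ A = 1 ↔ _
  rw [QuotientGroup.mk'_apply, QuotientGroup.eq_one_iff]

theorem mem_center {A : SL} : A ∈ Subgroup.center SL ↔
    A.1 0 1 = 0 ∧ A.1 1 0 = 0 ∧ A.1 0 0 = A.1 1 1 := by
  rw [Matrix.SpecialLinearGroup.mem_center_iff]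
  constructor
  · rintro ⟨r, -, hr⟩
    have h1 : A.1 = scalar (Fin 2) r := hr.symm
    rw [h1]
    simp [scalar_apply]
  · rintro ⟨h1, h2, h3⟩
    refine ⟨A.1 0 0, ?_, ?_⟩
    · have h4 := A.2
      rw [det_fin_two, h1, ← h3, zero_mul, sub_zero] at h4
      rw [Fintype.card_fin, pow_two]
      exact h4
    · show _ = A.1
      ext i j
      fin_cases i <;> fin_cases j <;> simp [scalar_apply, h1, h2, h3]

theorem det_eq (A : SL) : A.1 0 0 * A.1 1 1 - A.1 0 1 * A.1 1 0 = 1 := by
  rw [← det_fin_two]; exact A.2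

theorem mul_apply' (A B : SL) (i j : Fin 2) :
    (A * B).1 i j = A.1 i 0 * B.1 0 j + A.1 i 1 * B.1 1 j := by
  show (A.1 * B.1) i j = _
  rw [Matrix.mul_apply, Fin.sum_univ_two]

/-- A lift of an involution has trace zero. -/
theorem trace_zero {A : SL} (h1 : pr A ≠ 1) (h2 : pr A * pr A = 1) :
    A.1 1 1 = - A.1 0 0 := by
  rw [← map_mul, pr_eq_one_iff, mem_center] at h2
  obtain ⟨e1, e2, e3⟩ := h2
  rw [mul_apply'] at e1 e2 e3
  rw [mul_apply'] at e3
  by_contra hne
  have ht : A.1 0 0 + A.1 1 1 ≠ 0 := fun h => hne (by linear_combination h)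
  apply h1
  rw [pr_eq_one_iff, mem_center]
  have hb : (A.1 0 0 + A.1 1 1) * A.1 0 1 = 0 := by linear_combination e1
  have hc : (A.1 0 0 + A.1 1 1) * A.1 1 0 = 0 := by linear_combination e2
  have had : (A.1 0 0 + A.1 1 1) * (A.1 0 0 - A.1 1 1) = 0 := by linear_combination e3
  refine ⟨(mul_eq_zero.mp hb).resolve_left ht, (mul_eq_zero.mp hc).resolve_left ht, ?_⟩
  exact sub_eq_zero.mp ((mul_eq_zero.mp had).resolve_left ht)

/-- Commuting elements of `PSL₂` have lifts commuting up to sign. -/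
theorem commute_or {A B : SL} (h : Commute (pr A) (pr B)) :
    (A * B).1 = (B * A).1 ∨ (A * B).1 = - (B * A).1 := by
  have h1 : pr (A * B * (B * A)⁻¹) = 1 := by
    rw [map_mul, map_inv, map_mul, map_mul, h.eq, mul_inv_cancel]
  rw [pr_eq_one_iff, Matrix.SpecialLinearGroup.mem_center_iff] at h1
  obtain ⟨r, hr, hr'⟩ := h1
  rw [Fintype.card_fin, pow_two] at hr
  have hr'' : (scalar (Fin 2) r) = (A * B * (B * A)⁻¹).1 := hr'
  have hAB : (A * B).1 = (scalar (Fin 2) r) * (B * A).1 := by
    rw [hr'']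
    show (A * B).1 = (A * B * (B * A)⁻¹ * (B * A)).1
    rw [inv_mul_cancel_right]
  rcases mul_self_eq_one_iff.mp hr with h2 | h2
  · left
    rw [hAB, h2, map_one, one_mul]
  · right
    rw [hAB, h2, map_neg, map_one, neg_mul, one_mul]

/-- Two trace zero matrices commuting with a non-central matrix agree up to sign. -/
theorem eq_or_neg (h2 : (2 : F) ≠ 0) {A B C : SL} (hC : C ∉ Subgroup.center SL)
    (hA : A.1 1 1 = - A.1 0 0) (hB : B.1 1 1 = - B.1 0 0)
    (hCA : (C * A).1 = (A * C).1) (hCB : (C * B).1 = (B * C).1) : pr A = pr B := by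
  have dA := det_eq A
  have dB := det_eq B
  rw [hA] at dA
  rw [hB] at dB
  have key : ∀ X : SL, X.1 1 1 = - X.1 0 0 → (C * X).1 = (X * C).1 →
      C.1 0 1 * X.1 1 0 = X.1 0 1 * C.1 1 0 ∧ X.1 0 1 * (C.1 0 0 - C.1 1 1) = 2 * X.1 0 0 * C.1 0 1 ∧
      X.1 1 0 * (C.1 0 0 - C.1 1 1) = 2 * X.1 0 0 * C.1 1 0 := by
    intro X hX hCX
    have e00 := congrFun (congrFun hCX 0) 0
    have e01 := congrFun (congrFun hCX 0) 1
    have e10 := congrFun (congrFun hCX 1) 0
    rw [mul_apply', mul_apply'] at e00 e01 e10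
    rw [hX] at e01 e10
    refine ⟨by linear_combination e00, by linear_combination e01, by linear_combination -e10⟩
  obtain ⟨a1, a2, a3⟩ := key A hA hCA
  obtain ⟨b1, b2, b3⟩ := key B hB hCB
  -- proportionality
  have hprop : A.1 0 0 * B.1 0 1 = B.1 0 0 * A.1 0 1 ∧ A.1 0 0 * B.1 1 0 = B.1 0 0 * A.1 1 0 ∧
      A.1 0 1 * B.1 1 0 = B.1 0 1 * A.1 1 0 := by
    by_cases hq : C.1 0 1 = 0
    · by_cases hr : C.1 1 0 = 0
      · have hps : C.1 0 0 - C.1 1 1 ≠ 0 := by
          intro h
          exact hC (mem_center.mpr ⟨hq, hr, sub_eq_zero.mp h⟩)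
        rw [hq, mul_zero] at a2 b2
        rw [hr, mul_zero] at a3 b3
        have x1 := (mul_eq_zero.mp a2).resolve_right hps
        have x2 := (mul_eq_zero.mp a3).resolve_right hps
        have x3 := (mul_eq_zero.mp b2).resolve_right hps
        have x4 := (mul_eq_zero.mp b3).resolve_right hps
        rw [x1, x2, x3, x4]; simp
      · rw [hq, zero_mul] at a1 b1
        have x1 := (mul_eq_zero.mp a1.symm).resolve_right hr
        have x2 := (mul_eq_zero.mp b1.symm).resolve_right hr
        have h4 : (2 * C.1 1 0) ≠ 0 := mul_ne_zero h2 hr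
        rw [x1, x2]
        refine ⟨by ring, ?_, by ring⟩
        apply mul_left_cancel₀ h4
        linear_combination (-B.1 1 0) * a3 + (A.1 1 0) * b3
    · have h4 : (2 * C.1 0 1) ≠ 0 := mul_ne_zero h2 hq
      have h3 : A.1 0 1 * B.1 1 0 = B.1 0 1 * A.1 1 0 := by
        apply mul_left_cancel₀ hq
        linear_combination (-B.1 0 1) * a1 + (A.1 0 1) * b1
      refine ⟨?_, ?_, h3⟩
      · apply mul_left_cancel₀ h4
        linear_combination (-B.1 0 1) * a2 + (A.1 0 1) * b2
      · apply mul_left_cancel₀ h4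
        linear_combination (-B.1 1 0) * a2 + (A.1 1 0) * b2 + (C.1 0 0 - C.1 1 1) * h3
  obtain ⟨p1, p2, p3⟩ := hprop
  set D : F := - A.1 0 0 * B.1 0 0 - A.1 0 1 * B.1 1 0 with hD
  have hx : A.1 0 0 = D * B.1 0 0 := by
    rw [hD]; linear_combination (-A.1 0 0) * dB - B.1 1 0 * p1
  have hy : A.1 0 1 = D * B.1 0 1 := by
    rw [hD]; linear_combination (-A.1 0 1) * dB + B.1 0 0 * p1
  have hz : A.1 1 0 = D * B.1 1 0 := by
    rw [hD]; linear_combination (-A.1 1 0) * dB + B.1 0 0 * p2 + B.1 1 0 * p3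
  have hDD : D * D = 1 := by
    rw [hx, hy, hz] at dA
    linear_combination dA - D * D * dB
  have hw : A.1 1 1 = D * B.1 1 1 := by rw [hA, hB, hx]; ring
  have hAB : A.1 = D • B.1 := by
    ext i j
    fin_cases i <;> fin_cases j
    · simpa using hx
    · simpa using hy
    · simpa using hz
    · simpa using hw
  rcases mul_self_eq_one_iff.mp hDD with h3 | h3
  · have : A = B := Subtype.ext (by rw [hAB, h3, one_smul])
    rw [this]
  · have h4 : pr (A * B⁻¹) = 1 := by
      rw [pr_eq_one_iff, Matrix.SpecialLinearGroup.mem_center_iff]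
      refine ⟨-1, by rw [Fintype.card_fin]; ring, ?_⟩
      show scalar (Fin 2) (-1 : F) = A.1 * (B⁻¹).1
      rw [hAB, h3, neg_smul, one_smul, neg_mul, map_neg, map_one]
      congr 1
      show (1 : SL).1 = (B * B⁻¹).1
      rw [mul_inv_cancel]
    rw [map_mul, map_inv, mul_inv_eq_one] at h4
    exact h4

theorem mul_self_of_orderOf {K : Type*} [Group K] {x : K} (h : orderOf x = 2) : x * x = 1 := by
  rw [← pow_two, ← h]; exact pow_orderOf_eq_one x

theorem ne_one_of_orderOf {K : Type*} [Group K] {x : K} (h : orderOf x = 2) : x ≠ 1 := by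
  rintro rfl
  rw [orderOf_one] at h
  omega

/-- An element of odd order `≠ 1` commutes with at most one involution. -/
theorem unique_involution (h2 : (2 : F) ≠ 0)
    (c a b : Matrix.ProjectiveSpecialLinearGroup (Fin 2) F) (hc1 : c ≠ 1) (hc : Odd (orderOf c))
    (ha : orderOf a = 2) (hb : orderOf b = 2) (hca : Commute c a) (hcb : Commute c b) : a = b := by
  obtain ⟨C, rfl⟩ := pr_surjective c
  obtain ⟨A, rfl⟩ := pr_surjective a
  obtain ⟨B, rfl⟩ := pr_surjective b
  have hC : C ∉ Subgroup.center SL := fun h => hc1 (pr_eq_one_iff.mpr h)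
  have hinv : ∀ {X : SL}, orderOf (pr X) = 2 → X.1 1 1 = - X.1 0 0 := fun hX =>
    trace_zero (ne_one_of_orderOf hX) (mul_self_of_orderOf hX)
  have hcom : ∀ {X : SL}, Commute (pr C) (pr X) → (C * X).1 = (X * C).1 := by
    intro X hX
    rcases commute_or hX with h | h
    · exact h
    · exfalso
      -- `C X = - X C`; with `k` odd `C^k X = - X C^k`
      have hh : C.1 * X.1 = - (X.1 * C.1) := h
      have hsq : (C.1 * C.1) * X.1 = X.1 * (C.1 * C.1) := by
        rw [mul_assoc, hh, mul_neg, ← mul_assoc, hh, neg_mul, neg_neg, mul_assoc]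
      have h3 : ∀ k : ℕ, (C ^ (2 * k + 1)).1 * X.1 = - (X.1 * (C ^ (2 * k + 1)).1) := by
        intro k
        induction k with
        | zero => simpa using hh
        | succ k ih =>
          have e : (C ^ (2 * (k + 1) + 1)).1 = (C ^ (2 * k + 1)).1 * (C.1 * C.1) := by
            have e' : C ^ (2 * (k + 1) + 1) = C ^ (2 * k + 1) * (C * C) := by
              rw [← mul_assoc, ← pow_succ, ← pow_succ]; congr 1
            rw [e']; rfl
          rw [e, mul_assoc, hsq, ← mul_assoc, ih, neg_mul, mul_assoc]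
      obtain ⟨k, hk⟩ := hc
      have h4 : C ^ (2 * k + 1) ∈ Subgroup.center SL := by
        rw [← pr_eq_one_iff, map_pow, ← hk]; exact pow_orderOf_eq_one _
      have h5 := Subgroup.mem_center_iff.mp h4 X
      have h6 : (C ^ (2 * k + 1) * X).1 = - (C ^ (2 * k + 1) * X).1 := by
        have h7 : (C ^ (2 * k + 1) * X).1 = - (X * C ^ (2 * k + 1)).1 := h3 k
        rw [h5] at h7
        exact h7
      -- `Y = -Y` for an invertible matrix `Y`
      set Y : SL := C ^ (2 * k + 1) * X with hY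
      have h7 : ∀ i j, Y.1 i j = 0 := by
        intro i j
        have h8 := congrFun (congrFun h6 i) j
        rw [Matrix.neg_apply] at h8
        have h9 : (2 : F) * Y.1 i j = 0 := by linear_combination h8
        exact (mul_eq_zero.mp h9).resolve_left h2
      have h10 := det_eq Y
      rw [h7 0 0, h7 0 1] at h10
      simp at h10
  exact eq_or_neg h2 hC (hinv ha) (hinv hb) (hcom hca) (hcom hcb)

theorem mul_self_eq {A : SL} (hA : A.1 1 1 = - A.1 0 0) : A.1 * A.1 = -1 := by
  have dA := det_eq A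
  rw [hA] at dA
  ext i j
  rw [Matrix.mul_apply, Fin.sum_univ_two]
  fin_cases i <;> fin_cases j
  · simp; linear_combination -dA
  · simp [hA]; ring
  · simp [hA]; ring
  · simp [hA]; linear_combination -dA

theorem det_one_add {A : SL} (hA : A.1 1 1 = - A.1 0 0) : (1 + A.1).det = 2 := by
  have dA := det_eq A
  rw [hA] at dA
  rw [det_fin_two]
  simp [hA]
  linear_combination dA

/-- Two commuting involutions are conjugate. -/
theorem conj_involution (h2 : (2 : F) ≠ 0)
    (a b : Matrix.ProjectiveSpecialLinearGroup (Fin 2) F) (ha : orderOf a = 2)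
    (hb : orderOf b = 2) (hab : Commute a b) (hne : a ≠ b) :
    ∃ g, g * a * g⁻¹ = b := by
  obtain ⟨A, rfl⟩ := pr_surjective a
  obtain ⟨B, rfl⟩ := pr_surjective b
  have hA1 := ne_one_of_orderOf ha
  have hA := trace_zero hA1 (mul_self_of_orderOf ha)
  have hB := trace_zero (ne_one_of_orderOf hb) (mul_self_of_orderOf hb)
  have hAc : A ∉ Subgroup.center SL := fun h => hA1 (pr_eq_one_iff.mpr h)
  have hneg : A.1 * B.1 = - (B.1 * A.1) := by
    rcases commute_or hab with h | h
    · exact absurd (eq_or_neg h2 hAc hA hB rfl h) hne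
    · exact h
  have hA2 := mul_self_eq hA
  have hB2 := mul_self_eq hB
  have h3 : A.1 * B.1 * A.1 = B.1 := by
    rw [hneg, neg_mul, mul_assoc, hA2, mul_neg, mul_one, neg_neg]
  have h4 : B.1 * A.1 * B.1 = A.1 := by
    have : B.1 * A.1 = - (A.1 * B.1) := by rw [hneg, neg_neg]
    rw [this, neg_mul, mul_assoc, hB2, mul_neg, mul_one, neg_neg]
  let R : SL := ⟨(2 : F)⁻¹ • ((1 + A.1) * (1 + B.1)), by
    rw [det_smul, det_mul, det_one_add hA, det_one_add hB, Fintype.card_fin]
    field_simp⟩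
  have hR : R.1 = (2 : F)⁻¹ • ((1 + A.1) * (1 + B.1)) := rfl
  have h5 : (1 + A.1) * (1 + B.1) * A.1 = B.1 * ((1 + A.1) * (1 + B.1)) := by
    have e1 : (1 + A.1) * (1 + B.1) * A.1 = A.1 + A.1 * A.1 + B.1 * A.1 + A.1 * B.1 * A.1 := by
      noncomm_ring
    have e2 : B.1 * ((1 + A.1) * (1 + B.1)) = B.1 + B.1 * A.1 + B.1 * B.1 + B.1 * A.1 * B.1 := by
      noncomm_ring
    rw [e1, e2, h3, h4, hA2, hB2]
    abel
  have h6 : R * A = B * R := by
    apply Subtype.ext
    show R.1 * A.1 = B.1 * R.1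
    rw [hR, smul_mul_assoc, mul_smul_comm, h5]
  refine ⟨pr R, ?_⟩
  rw [← map_mul, h6, map_mul, mul_inv_cancel_right]

/-- **Local setups in `PSL₂(F)`, `F` finite of odd characteristic.** -/
theorem eq_bot [Finite F] (h2 : (2 : F) ≠ 0)
    {T : Sylow 2 (Matrix.ProjectiveSpecialLinearGroup (Fin 2) F)}
    {W : Subgroup (Matrix.ProjectiveSpecialLinearGroup (Fin 2) F)}
    (h : LocalSetup T W) : W = ⊥ := by
  have : Finite SL := inferInstanceAs (Finite {A : Matrix (Fin 2) (Fin 2) F // A.det = 1})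
  have : Finite (Matrix.ProjectiveSpecialLinearGroup (Fin 2) F) :=
    Finite.of_surjective _ pr_surjective
  exact BalUnique.eq_bot h (unique_involution h2) (conj_involution h2)

/-- Form for a group isomorphic to `PSL₂(F)`. -/
theorem eq_bot_of_iso {L : Type*} [Group L] [Finite L] [Finite F] (h2 : (2 : F) ≠ 0)
    (e : L ≃* Matrix.ProjectiveSpecialLinearGroup (Fin 2) F) {T : Sylow 2 L} {W : Subgroup L}
    (h : LocalSetup T W) : W = ⊥ := by
  obtain ⟨T', h'⟩ := h.map_equiv e
  have h3 := eq_bot h2 h'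
  exact (Subgroup.map_eq_bot_iff_of_injective _ e.injective).1 h3

end Cfsg.Agent.SignalizersComponents.BalPSL2
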