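import Mathlib
import Cfsg.Agent.SignalizersComponents.BalLocal

/-!
# Constructing a setup

If `W` has odd order, is normalized by `S` and meets `C_G(x)` in `O(C_G(x))` for the involutions `x` of
`S`, then `W` is generated by the `O(C_G(z))`, `z` an involution of `X`, for every subgroup `X` of `S`
of 2-rank at least 2; so `N_G(X)` normalizes `W`.
-/

set_option autoImplicit false

namespace Cfsg.Agent.SignalizersComponents.BalSetup

open Cfsg Subgroup
open Cfsg.Agent.TwoGenCore (Four fourSub)
open Cfsg.Agent.SignalizersComponents Cfsg.Agent.SignalizersComponents.BalRed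
open Cfsg.Agent.SignalizersComponents.BalRedTwo
open Cfsg.Agent.SignalizersComponents.BalLocal (core_conj)

universe u

variable {G : Type u} [Group G]

/-- The subgroup generated by the cores of the centralizers of the involutions of `X`. -/
def coreSpan (X : Subgroup G) : Subgroup G :=
  ⨆ x : {x : G // x ∈ X ∧ orderOf x = 2}, centralizerPPrimeCore 2 (x : G)

theorem coreSpan_def (X : Subgroup G) : coreSpan X =
    ⨆ x : {x : G // x ∈ X ∧ orderOf x = 2}, centralizerPPrimeCore 2 (x : G) := rfl

theorem core_le_coreSpan {X : Subgroup G} {x : G} (hx : x ∈ X) (hx2 : orderOf x = 2) :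
    centralizerPPrimeCore 2 x ≤ coreSpan X :=
  le_iSup (fun x : {x : G // x ∈ X ∧ orderOf x = 2} => centralizerPPrimeCore 2 (x : G)) ⟨x, hx, hx2⟩

theorem coreSpan_le {X M : Subgroup G}
    (h : ∀ x ∈ X, orderOf x = 2 → centralizerPPrimeCore 2 x ≤ M) : coreSpan X ≤ M :=
  iSup_le fun x => h x x.2.1 x.2.2

theorem normalizer_le_normalizer_coreSpan (X : Subgroup G) :
    normalizer (X : Set G) ≤ normalizer (coreSpan X : Set G) := by
  have key : ∀ g ∈ normalizer (X : Set G), ∀ w ∈ coreSpan X, g * w * g⁻¹ ∈ coreSpan X := by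
    intro g hg w hw
    have h1 : coreSpan X ≤ (coreSpan X).comap (MulAut.conj g).toMonoidHom := by
      refine coreSpan_le fun x hx hx2 => ?_
      rw [← map_le_iff_le_comap, core_conj]
      refine core_le_coreSpan ((mem_normalizer_iff.mp hg x).mp hx) ?_
      rw [← hx2]
      have := orderOf_injective (MulAut.conj g).toMonoidHom (MulAut.conj g).injective x
      simpa [MulAut.conj_apply] using this
    exact h1 hw
  intro g hg
  rw [mem_normalizer_iff]
  intro w
  constructor
  · exact key g hg w
  · intro hw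
    have := key g⁻¹ (inv_mem hg) _ hw
    have e : g⁻¹ * (g * w * g⁻¹) * g⁻¹⁻¹ = w := by group
    rwa [e] at this

/-- Construction of a setup. -/
theorem setup_of (S : Sylow 2 G) (W : Subgroup G) [Finite G] (hodd : Odd (Nat.card W))
    (hfix : ∀ x ∈ (S : Subgroup G), orderOf x = 2 →
      W ⊓ centralizer {x} = centralizerPPrimeCore 2 x)
    (hS : (S : Subgroup G) ≤ normalizer (W : Set G)) (hr : ¬ PRankLE 2 1 (S : Subgroup G)) :
    Setup S W := by
  refine ⟨hodd, hfix, ?_, hr⟩
  intro X hX hXr
  have hle : W ≤ coreSpan X := by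
    obtain ⟨x, hx, y, hy, hx1, hy1, hne, hx2, hy2, hxy⟩ :=
      Cfsg.Agent.TwoGenCore.not_pRankLE_one_iff.mp hXr
    have hxy1 : x * y ≠ 1 := by
      intro e
      apply hne
      have : x * y = x * x := by rw [e, hx2]
      exact (mul_left_cancel this).symm
    have hxy2 : (x * y) * (x * y) = 1 := by
      calc x * y * (x * y) = x * y * (y * x) := by rw [hxy]
        _ = x * (y * y) * x := by group
        _ = 1 := by rw [hy2, mul_one, hx2]
    have key : ∀ z ∈ X, z ≠ 1 → z * z = 1 → W ⊓ centralizer {z} ≤ coreSpan X := by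
      intro z hz hz1 hz2
      rw [hfix z (hX hz) (orderOf_eq_two hz1 hz2)]
      exact core_le_coreSpan hz (orderOf_eq_two hz1 hz2)
    exact Lib.KleinGen.le_of_klein W (coreSpan X) hodd x y hx2 hy2 hxy
      (fun w hw => (mem_normalizer_iff.mp (hS (hX hx)) w).mp hw)
      (fun w hw => (mem_normalizer_iff.mp (hS (hX hy)) w).mp hw)
      (key x hx hx1 hx2) (key y hy hy1 hy2) (key _ (X.mul_mem hx hy) hxy1 hxy2)
  have hge : coreSpan X ≤ W := coreSpan_le fun x hx hx2 => by
    rw [← hfix x (hX hx) hx2]
    exact inf_le_left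
  rw [le_antisymm hle hge]
  exact normalizer_le_normalizer_coreSpan X

/-- The subgroup `W = ⟨O(C_G(x)) : x ∈ I(S)⟩`. -/
theorem setup_coreSpan (S : Sylow 2 G) [Finite G]
    (hodd : Odd (Nat.card (coreSpan (S : Subgroup G))))
    (hfix : ∀ x ∈ (S : Subgroup G), orderOf x = 2 →
      coreSpan (S : Subgroup G) ⊓ centralizer {x} = centralizerPPrimeCore 2 x)
    (hr : ¬ PRankLE 2 1 (S : Subgroup G)) : Setup S (coreSpan (S : Subgroup G)) :=
  setup_of S _ hodd hfix
    (Subgroup.le_normalizer.trans (normalizer_le_normalizer_coreSpan (S : Subgroup G))) hr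

/-- If `W = 1` then all cores of centralizers of involutions are trivial. -/
theorem core_eq_bot_of_bot [Finite G] {S : Sylow 2 G} {W : Subgroup G} (h : Setup S W)
    (hW : W = ⊥) {t : G} (ht : orderOf t = 2) : centralizerPPrimeCore 2 t = ⊥ := by
  have hZ : IsPGroup 2 (zpowers t) := by
    rw [IsPGroup.iff_card]
    exact ⟨1, by rw [Nat.card_zpowers, ht, pow_one]⟩
  obtain ⟨g, -, hconj⟩ := exists_conj_le S (le_top : (S : Subgroup G) ≤ ⊤) le_top hZ
  have hx : g * t * g⁻¹ ∈ (S : Subgroup G) :=
    hconj ⟨t, mem_zpowers t, by simp [MulAut.conj_apply]⟩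
  have hx2 : orderOf (g * t * g⁻¹) = 2 := by
    rw [← ht]
    have := orderOf_injective (MulAut.conj g).toMonoidHom (MulAut.conj g).injective t
    simpa [MulAut.conj_apply] using this
  have h1 := h.fix _ hx hx2
  rw [hW, bot_inf_eq, ← core_conj] at h1
  exact (Subgroup.map_eq_bot_iff_of_injective _ (MulAut.conj g).injective).mp h1.symm

end Cfsg.Agent.SignalizersComponents.BalSetup
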