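import Mathlib
import Cfsg.Agent.SignalizersComponents.BalSetup
import Cfsg.Agent.SignalizersComponents.QsRankOne

/-!
# Assembly for S1290 and S1291

The end game `hEnd` (inspection of the simple groups with a proper 2-generated core) and the theorem
on cores of strongly embedded subgroups (`hSE`) are hypotheses here.
-/

set_option autoImplicit false

namespace Cfsg.Agent.SignalizersComponents.BalMain

open Cfsg Subgroup
open Cfsg.Agent.SignalizersComponents Cfsg.Agent.SignalizersComponents.BalRed
open Cfsg.Agent.SignalizersComponents.BalLocal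
open Cfsg.Agent.SignalizersComponents.BalSetup

universe u

/-- A centreless quasisimple group of even order has 2-rank at least 2. -/
theorem not_pRankLE_one {K : Type u} [Group K] [Finite K] (hK : IsQuasisimple K)
    (hc : center K = ⊥) (he : Even (Nat.card K)) : ¬ PRankLE 2 1 K := by
  intro hr
  obtain ⟨⟨t, ht, ht2⟩, -⟩ := QsRankOne.exists_central_involution hK he hr
  rw [hc, mem_bot] at ht
  rw [ht, orderOf_one] at ht2
  omega

theorem isQuasisimple_of_simple {G : Type u} [Group G] [IsSimpleGroup G]
    (hna : ¬ IsMulCommutative G) : IsQuasisimple G ∧ center G = ⊥ := by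
  have hc : center G = ⊥ := by
    rcases (inferInstance : (center G).Normal).eq_bot_or_eq_top with h | h
    · exact h
    · exfalso
      apply hna
      refine ⟨⟨fun a b => ?_⟩⟩
      have : a ∈ center G := by rw [h]; exact mem_top a
      exact (mem_center_iff.mp this b).symm
  refine ⟨⟨?_, ?_⟩, hc⟩
  · rw [Group.isPerfect_def]
    rcases (inferInstance : (commutator G).Normal).eq_bot_or_eq_top with h | h
    · exfalso
      apply hna
      refine ⟨⟨fun a b => ?_⟩⟩
      have h1 := Subgroup.commutator_mem_commutator (mem_top a) (mem_top b)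
      rw [← _root_.commutator_def, h, mem_bot, commutatorElement_eq_one_iff_mul_comm] at h1
      exact h1
    · exact h
  · have e : G ⧸ center G ≃* G :=
      (QuotientGroup.quotientMulEquivOfEq hc).trans (QuotientGroup.quotientBot (G := G))
    exact (MulEquiv.isSimpleGroup_congr e).mpr inferInstance

/-- S1290 from the end game. -/
theorem simple_case {G : Type u} [Group G] [Finite G] [IsSimpleGroup G]
    (hna : ¬ IsMulCommutative G) (S : Sylow 2 G)
    (hEnd : ∀ (K : Type u) [Group K] [Finite K] (T : Sylow 2 K) (V : Subgroup K),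
      IsSimpleGroup K → ¬ IsMulCommutative K → HasProperTwoGeneratedCore K → LocalSetup T V →
      V = ⊥)
    (hodd : Odd (Nat.card (coreSpan (S : Subgroup G))))
    (hfix : ∀ x ∈ (S : Subgroup G), orderOf x = 2 →
      coreSpan (S : Subgroup G) ⊓ centralizer {x} = centralizerPPrimeCore 2 x)
    (t : G) (ht : orderOf t = 2) : centralizerPPrimeCore 2 t = ⊥ := by
  obtain ⟨hq, hc⟩ := isQuasisimple_of_simple hna
  have heven : Even (Nat.card G) := by
    rw [even_iff_two_dvd, ← ht]
    exact orderOf_dvd_natCard t
  have hr := not_pRankLE_one hq hc heven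
  have hrT : ¬ PRankLE 2 1 (⊤ : Subgroup G) := fun h =>
    hr (Cfsg.Agent.TwoGenCore.Involution.pRankLE_of_injective
      (topEquiv (G := G)).symm.toMonoidHom (topEquiv (G := G)).symm.injective h)
  have hrS : ¬ PRankLE 2 1 (S : Subgroup G) := by
    rw [Cfsg.Agent.TwoGenCore.not_pRankLE_one_iff]
    exact four_sylow (Cfsg.Agent.TwoGenCore.not_pRankLE_one_iff.mp hrT) S
  have hset := setup_coreSpan S hodd hfix hrS
  obtain ⟨T, hT⟩ := Setup.localSetup hset (inferInstance : (⊤ : Subgroup G).Normal) hrT
  obtain ⟨T', hT'⟩ := hT.map_equiv topEquiv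
  refine core_eq_bot_of_bot hset ?_ ht
  by_contra hW
  have h1 : ((coreSpan (S : Subgroup G)).subgroupOf ⊤).map (topEquiv (G := G)).toMonoidHom ≠ ⊥ := by
    intro e
    apply hW
    rw [eq_bot_iff]
    intro w hw
    have : w ∈ ((coreSpan (S : Subgroup G)).subgroupOf ⊤).map (topEquiv (G := G)).toMonoidHom :=
      ⟨⟨w, mem_top w⟩, hw, rfl⟩
    rw [e] at this
    exact this
  exact h1 (hEnd G T' _ inferInstance hna (hT'.hasProperTwoGeneratedCore h1) hT')

/-- S1291 from a setup and the end game. -/
theorem general_case {G : Type u} [Group G] [Finite G] (hO : oddCore G = ⊥)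
    (hSE : ∀ (J : Type u) [Group J] [Finite J] (H : Subgroup J), IsStronglyEmbedded H →
      (oddCore ↥H).map H.subtype ≤ oddCore J)
    (hEnd : ∀ (K : Type u) [Group K] [Finite K] (T : Sylow 2 K) (V : Subgroup K),
      IsSimpleGroup K → ¬ IsMulCommutative K → HasProperTwoGeneratedCore K → LocalSetup T V →
      V = ⊥)
    {S : Sylow 2 G} {W : Subgroup G} (h : Setup S W) (t : G) (ht : orderOf t = 2) :
    centralizerPPrimeCore 2 t = ⊥ := by
  refine core_eq_bot_of_bot h ?_ ht
  exact Setup.eq_bot h hO (fun K hK hc he => not_pRankLE_one hK.2 hc he)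
    (fun J H hH => hSE J H hH) (fun K T V hs hna hp hl => hEnd K T V hs hna hp hl)

end Cfsg.Agent.SignalizersComponents.BalMain
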