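import Mathlib
import Cfsg.Agent.Dichotomy.Functor
import Cfsg.Agent.SignalizersComponents.BalSetup

/-!
# Connected balanced groups: the setup of S1291

`G` is balanced, of 2-rank at least 3. The cores `O(C_G(x))` of the centralizers of the involutions
form a solvable signalizer functor, complete on every elementary abelian subgroup of order at least 8.
If the Klein four-subgroups of a Sylow 2-subgroup `S` are connected, the completions agree on all the
elementary abelian subgroups of order at least 8 of `S` and each involution of `S` is in such a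
subgroup. If the Klein four-subgroups of `G` are connected, the completion is normal in `G`.
-/

set_option autoImplicit false

namespace Cfsg.Agent.SignalizersComponents.BalW

open Cfsg Subgroup
open Cfsg.Agent.Dichotomy.Elem Cfsg.Agent.Dichotomy.Functor
open Cfsg.Agent.SignalizersComponents.BalRed

universe u

/-! ### Klein four-subgroups -/

section klein

variable {H : Type u} [Group H]

theorem sq_of_klein {U : Subgroup H} (hU : IsKleinFour U) {a : H} (ha : a ∈ U) : a * a = 1 := by
  have h1 := Monoid.pow_exponent_eq_one (⟨a, ha⟩ : U)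
  rw [IsKleinFour.exponent_two, pow_two] at h1
  exact congrArg Subtype.val h1

theorem elem_of_klein {U : Subgroup H} (hU : IsKleinFour U) : IsElementaryAbelian 2 U := by
  refine isElementaryAbelian_of ?_ (fun a ha => sq_of_klein hU ha)
  intro a ha b hb
  have h1 := sq_of_klein hU ha
  have h2 := sq_of_klein hU hb
  have h3 := sq_of_klein hU (mul_mem ha hb)
  calc a * b = a * b * ((a * b) * (a * b))⁻¹ * 1 := by rw [h3]; simp
    _ = b⁻¹ * a⁻¹ := by group
    _ = b * a := by rw [inv_eq_of_mul_eq_one_left h1, inv_eq_of_mul_eq_one_left h2]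

theorem klein_four {a b : H} (ha : a * a = 1) (hb : b * b = 1) (hab : a * b = b * a)
    (ha1 : a ≠ 1) (hb1 : b ≠ 1) (hne : a ≠ b) : IsKleinFour (four a b) := by
  have hcard := card_four ha hb hab ha1 hb1 hne
  have : Finite (four a b) := Nat.finite_of_card_ne_zero (by rw [hcard]; norm_num)
  refine ⟨hcard, ?_⟩
  refine Nat.dvd_antisymm ?_ ?_
  · refine Monoid.exponent_dvd_of_forall_pow_eq_one ?_
    rintro ⟨x, hx⟩
    apply Subtype.ext
    rw [pow_two]
    exact elem_sq (elem_four ha hb hab) hx
  · have h1 : orderOf (⟨a, left_mem_four a b⟩ : four a b) = 2 :=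
      orderOf_two (Subtype.ext ha) (fun e => ha1 (congrArg Subtype.val e))
    rw [← h1]
    exact Monoid.order_dvd_exponent _

theorem exists_klein_le [Finite H] {A : Subgroup H} (hA : Big A) :
    ∃ U : Subgroup H, U ≤ A ∧ IsKleinFour U := by
  -- two distinct involutions of `A`
  obtain ⟨a, ha, ha1⟩ : ∃ a ∈ A, a ≠ 1 := by
    refine (Subgroup.bot_or_exists_ne_one A).resolve_left ?_
    intro e
    have := hA.2
    rw [e, Subgroup.card_bot] at this
    norm_num at this
  obtain ⟨b, hb, hb1⟩ : ∃ b ∈ A, b ∉ zpowers a := by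
    by_contra hcon
    push Not at hcon
    have hle : A ≤ zpowers a := hcon
    have h1 := Subgroup.card_le_of_le hle
    rw [Nat.card_zpowers, orderOf_two (elem_sq hA.1 ha) ha1] at h1
    have := hA.2
    omega
  refine ⟨four a b, four_le ha hb, klein_four (elem_sq hA.1 ha) (elem_sq hA.1 hb)
    (elem_comm hA.1 a ha b hb) ha1 ?_ ?_⟩
  · rintro rfl
    exact hb1 (one_mem _)
  · rintro rfl
    exact hb1 (mem_zpowers _)

theorem big_sup [Finite H] {U V : Subgroup H} (hU : IsKleinFour U) (hV : IsKleinFour V)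
    (hne : U ≠ V) (hUV : ∀ a ∈ U, ∀ b ∈ V, a * b = b * a) : Big (U ⊔ V) := by
  have he := elem_sup (elem_of_klein hU) (elem_of_klein hV) hUV
  refine ⟨he, card_ge he ?_⟩
  have h1 : Nat.card U = 4 := IsKleinFour.card_four
  have h2 : Nat.card V = 4 := IsKleinFour.card_four
  rw [show (2 : ℕ) ^ 2 = 4 from rfl, ← h1]
  refine lt_of_le_of_ne (Subgroup.card_le_of_le le_sup_left) ?_
  intro h
  have h3 : U = U ⊔ V := Subgroup.eq_of_le_of_card_ge le_sup_left h.ge
  have h4 : V ≤ U := by rw [h3]; exact le_sup_right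
  exact hne (Subgroup.eq_of_le_of_card_ge h4 (by rw [h1, h2])).symm

/-- If the Klein four-subgroups are connected and there is an elementary abelian subgroup of order at
least 8, then each Klein four-subgroup is in such a subgroup. -/
theorem exists_big_of_connected [Finite H] (hconn : IsFourConnected H) {A : Subgroup H}
    (hA : Big A) {U : Subgroup H} (hU : IsKleinFour U) : ∃ B : Subgroup H, Big B ∧ U ≤ B := by
  obtain ⟨V, hVA, hV⟩ := exists_klein_le hA
  have h := hconn U V hU hV
  clear hU
  induction h using Relation.ReflTransGen.head_induction_on with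
  | refl => exact ⟨A, hA, hVA⟩
  | @head X Y hadj _ ih =>
    by_cases hXY : X = Y
    · rw [hXY]; exact ih
    · exact ⟨X ⊔ Y, big_sup hadj.1 hadj.2.1 hXY hadj.2.2, le_sup_left⟩

/-- In a 2-group with an elementary abelian subgroup of order at least 8 each involution is in a
Klein four-subgroup. -/
theorem exists_klein_mem [Finite H] {T A : Subgroup H} (hT : IsPGroup 2 T) (hAT : A ≤ T)
    (hA : Big A) {x : H} (hx : x ∈ T) (hx2 : orderOf x = 2) :
    ∃ a b : H, a ∈ T ∧ b ∈ T ∧ x ∈ four a b ∧ a * a = 1 ∧ b * b = 1 ∧ a * b = b * a ∧ a ≠ 1 ∧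
      b ≠ 1 ∧ a ≠ b := by
  have hne : T ≠ ⊥ := by
    rintro rfl
    rw [mem_bot] at hx
    rw [hx, orderOf_one] at hx2
    omega
  obtain ⟨z, hzT, hz2, hz1, hzc⟩ := exists_central_involution hT hne
  by_cases hxz : x = z
  · subst hxz
    obtain ⟨a, ha, ha1⟩ : ∃ a ∈ A, a ∉ zpowers x := by
      by_contra hcon
      push Not at hcon
      have hle : A ≤ zpowers x := hcon
      have h1 := Subgroup.card_le_of_le hle
      rw [Nat.card_zpowers, hx2] at h1
      have := hA.2
      omega
    refine ⟨x, a, hx, hAT ha, left_mem_four x a, hz2, elem_sq hA.1 ha,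
      (hzc a (hAT ha)).symm, hz1, ?_, ?_⟩
    · rintro rfl
      exact ha1 (one_mem _)
    · rintro rfl
      exact ha1 (mem_zpowers _)
  · exact ⟨x, z, hx, hzT, left_mem_four x z, sq_of_orderOf hx2, hz2, hzc x hx,
      ne_one_of_orderOf hx2, hz1, hxz⟩

end klein

variable {G : Type u} [Group G] [Finite G]

/-- A balanced group gives a functor. -/
theorem fun_of_balanced (hodd : ∀ (K : Type u) [Group K] [Finite K], Odd (Nat.card K) →
    Group.IsSolvable K) (hbal : IsBalanced G) : Fun G where
  solv a _ := by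
    refine hodd _ ?_
    rw [← Nat.not_even_iff_odd, even_iff_two_dvd]
    exact th_odd a
  bal a b ha hb hab := by
    rw [hbal a b ha hb hab]
    exact inf_le_left

/-- `G` has 2-rank at least 3: a Sylow 2-subgroup contains an elementary abelian subgroup of order
at least 8. -/
theorem exists_big_sylow (hrank : ¬ PRankLE 2 2 G) (S : Sylow 2 G) :
    ∃ A : Subgroup G, A ≤ (S : Subgroup G) ∧ Big A := by
  obtain ⟨B, hB⟩ := exists_big_of_not_rankLE' hrank
  obtain ⟨P, hP⟩ := (isPGroup_of_elem hB.1).exists_le_sylow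
  obtain ⟨g, hg⟩ := MulAction.exists_smul_eq G P S
  refine ⟨B.map (MulAut.conj g).toMonoidHom, ?_, big_map hB (MulAut.conj g).injective⟩
  rw [← hg]
  exact Subgroup.map_mono hP

omit [Finite G] in
theorem rank_sylow {S : Sylow 2 G} {A : Subgroup G} (hAS : A ≤ (S : Subgroup G)) (hA : Big A) :
    ¬ PRankLE 2 1 (S : Subgroup G) := by
  intro h
  have h1 := h (A.subgroupOf (S : Subgroup G)) (by
      have := hA.1.1
      infer_instance) (by
      intro a ha
      ext
      simpa using hA.1.2 a ha)
  have hcard : Nat.card (A.subgroupOf (S : Subgroup G)) = Nat.card A :=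
    Nat.card_congr (Subgroup.subgroupOfEquivOfLe hAS).toEquiv
  rw [hcard] at h1
  have := hA.2
  omega

/-- The setup when the Klein four-subgroups of `S` are connected. -/
theorem setup_sylow (hF : Fun G) (hrank : ¬ PRankLE 2 2 G) (S : Sylow 2 G)
    (hconn : IsFourConnected ↥(S : Subgroup G)) : Setup S (WW (S : Subgroup G)) := by
  obtain ⟨A, hAS, hA⟩ := exists_big_sylow hrank S
  have hS : IsPGroup 2 (S : Subgroup G) := S.isPGroup'
  have hWA := WW_eq hF hS hAS hA
  refine BalSetup.setup_of S _ ?_ ?_ (Subgroup.le_normalizer.trans (le_normalizer_WW _))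
    (rank_sylow hAS hA)
  · rw [hWA, ← Nat.not_even_iff_odd, even_iff_two_dvd]
    exact (complete hF hA).1
  · intro x hx hx2
    -- a big subgroup of `S` containing `x`
    obtain ⟨B, hB, hBS, hxB⟩ : ∃ B : Subgroup G, Big B ∧ B ≤ (S : Subgroup G) ∧ x ∈ B := by
      have hA' : Big (A.subgroupOf (S : Subgroup G)) := by
        refine ⟨isElementaryAbelian_of ?_ ?_, ?_⟩
        · intro a ha b hb
          exact Subtype.ext (elem_comm hA.1 a ha b hb)
        · intro a ha
          exact Subtype.ext (elem_sq hA.1 ha)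
        · rw [Nat.card_congr (Subgroup.subgroupOfEquivOfLe hAS).toEquiv]
          exact hA.2
      have hx' : orderOf (⟨x, hx⟩ : (S : Subgroup G)) = 2 :=
        (Subgroup.orderOf_mk x hx).trans hx2
      obtain ⟨a, b, -, -, hxab, ha, hb, hab, ha1, hb1, hne⟩ := exists_klein_mem
        (T := (⊤ : Subgroup (S : Subgroup G))) (hS.to_subgroup _ : IsPGroup 2 _) le_top hA'
        (mem_top (⟨x, hx⟩ : (S : Subgroup G))) hx'
      obtain ⟨B, hB, hUB⟩ := exists_big_of_connected hconn hA' (klein_four ha hb hab ha1 hb1 hne)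
      exact ⟨B.map (S : Subgroup G).subtype, big_map hB (S : Subgroup G).subtype_injective,
        Subgroup.map_subtype_le B, ⟨⟨x, hx⟩, hUB hxab, rfl⟩⟩
    rw [WW_eq hF hS hBS hB]
    exact (complete hF hB).2 x hxB (ne_one_of_orderOf hx2)

/-- All cores are trivial when the Klein four-subgroups of `G` are connected. -/
theorem core_eq_bot_of_connected (hF : Fun G) (hO : oddCore G = ⊥) (hrank : ¬ PRankLE 2 2 G)
    (hconn : IsFourConnected G) {t : G} (ht : orderOf t = 2) :
    centralizerPPrimeCore 2 t = ⊥ := by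
  -- `W` is constant
  have hconst : ∀ U V : Subgroup G, IsKleinFour U → IsKleinFour V → W U = W V := by
    intro U V hU hV
    have h := hconn U V hU hV
    clear hU hV
    induction h with
    | refl => rfl
    | @tail X Y _ hadj ih =>
      rw [ih]
      by_cases hXY : X = Y
      · rw [hXY]
      · have h1 := big_sup hadj.1 hadj.2.1 hXY hadj.2.2
        have h2 : Nat.card X = 4 := hadj.1.card_four
        have h3 : Nat.card Y = 4 := hadj.2.1.card_four
        rw [W_eq_of_le hF h1 le_sup_left h2.ge, W_eq_of_le hF h1 le_sup_right h3.ge]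
  obtain ⟨A, hA⟩ := exists_big_of_not_rankLE' hrank
  obtain ⟨U, hUA, hU⟩ := exists_klein_le hA
  have hUcard : Nat.card U = 4 := hU.card_four
  have hklein : ∀ g : G, IsKleinFour (U.map (MulAut.conj g).toMonoidHom) := by
    intro g
    have e := U.equivMapOfInjective (MulAut.conj g).toMonoidHom (MulAut.conj g).injective
    refine ⟨?_, ?_⟩
    · rw [← Nat.card_congr e.toEquiv, hUcard]
    · rw [← Monoid.exponent_eq_of_mulEquiv e]
      exact hU.exponent_two
  have hnorm : (W U).Normal := by
    refine ⟨fun w hw g => ?_⟩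
    have h1 : g * w * g⁻¹ ∈ (W U).map (MulAut.conj g).toMonoidHom := ⟨w, hw, rfl⟩
    rw [W_conj, hconst _ U (hklein g) hU] at h1
    exact h1
  have hWodd : ¬ 2 ∣ Nat.card (W U) := by
    rw [W_eq_of_le hF hA hUA hUcard.ge]
    exact (complete hF hA).1
  have hbot : W U = ⊥ := by
    rw [eq_bot_iff, ← hO]
    refine le_sSup ⟨hnorm, ?_⟩
    exact ((Nat.Prime.coprime_iff_not_dvd Nat.prime_two).2 hWodd).symm
  -- `t` lies in a Klein four-subgroup
  have hZ : IsPGroup 2 (zpowers t) := by
    rw [IsPGroup.iff_card]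
    exact ⟨1, by rw [Nat.card_zpowers, ht, pow_one]⟩
  obtain ⟨P, hP⟩ := hZ.exists_le_sylow
  obtain ⟨B, hBP, hB⟩ := exists_big_sylow hrank P
  obtain ⟨a, b, -, -, hxab, ha, hb, hab, ha1, hb1, hne⟩ := exists_klein_mem P.isPGroup' hBP hB
    (hP (mem_zpowers t)) ht
  have h1 := le_W (four a b) hxab (ne_one_of_orderOf ht)
  rw [hconst _ U (klein_four ha hb hab ha1 hb1 hne) hU, hbot, le_bot_iff] at h1
  exact h1

/-- The two cases of S1291. -/
theorem main (hodd : ∀ (K : Type u) [Group K] [Finite K], Odd (Nat.card K) → Group.IsSolvable K)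
    (hbal : IsBalanced G) (hO : oddCore G = ⊥) (hrank : ¬ PRankLE 2 2 G)
    (hconn : IsFourConnected G ∨ ∃ S : Sylow 2 G, IsFourConnected ↥(S : Subgroup G)) :
    (∀ t : G, orderOf t = 2 → centralizerPPrimeCore 2 t = ⊥) ∨
      ∃ (S : Sylow 2 G) (W : Subgroup G), Setup S W := by
  have hF := fun_of_balanced hodd hbal
  rcases hconn with h | ⟨S, h⟩
  · exact Or.inl fun t ht => core_eq_bot_of_connected hF hO hrank h ht
  · exact Or.inr ⟨S, _, setup_sylow hF hrank S h⟩

end Cfsg.Agent.SignalizersComponents.BalW
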