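import Cfsg.Agent.SignalizersComponents.BalanceLocal

/-!
If `O_{p'}(X) = 1` and all components of `X` are locally `k`-balanced modulo their centre, then `Δ_X(A) = 1` for every
elementary abelian `p`-subgroup `A` of order `p ^ k`.
-/

set_option autoImplicit false

namespace Cfsg.Agent.SignalizersComponents.BalanceDelta

open Cfsg Subgroup BalanceAux BalanceLocal

/-- An automorphism of `L` induces an automorphism of `L / Z(L)`. -/
def autQuot (L : Type*) [Group L] : MulAut L →* MulAut (L ⧸ center L) where
  toFun α := QuotientGroup.congr (center L) (center L) α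
    (characteristic_iff_map_eq.mp inferInstance α)
  map_one' := by
    ext x
    obtain ⟨l, rfl⟩ := QuotientGroup.mk'_surjective (center L) x
    rfl
  map_mul' α β := by
    ext x
    obtain ⟨l, rfl⟩ := QuotientGroup.mk'_surjective (center L) x
    rfl

theorem autQuot_apply (L : Type*) [Group L] (α : MulAut L) (l : L) :
    autQuot L α (QuotientGroup.mk' (center L) l) = QuotientGroup.mk' (center L) (α l) := rfl

open scoped IsMulCommutative in
/-- An automorphism of a perfect group acting trivially modulo the centre is trivial. -/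
theorem eq_one_of_autQuot_eq_one {L : Type*} [Group L] (hL : Group.IsPerfect L) (α : MulAut L)
    (h : autQuot L α = 1) (x : L) : α x = x := by
  have h1 : ∀ x : L, α x * x⁻¹ ∈ center L := by
    intro x
    have h2 : autQuot L α (QuotientGroup.mk' (center L) x) = QuotientGroup.mk' (center L) x := by
      rw [h]; rfl
    rw [autQuot_apply] at h2
    have h3 : QuotientGroup.mk' (center L) (α x * x⁻¹) = 1 := by
      rw [map_mul, map_inv, h2, mul_inv_cancel]
    exact (QuotientGroup.eq_one_iff _).mp h3
  let f : L →* center L :=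
    { toFun := fun x => ⟨α x * x⁻¹, h1 x⟩
      map_one' := by
        apply Subtype.ext
        simp
      map_mul' := by
        intro x y
        apply Subtype.ext
        show α (x * y) * (x * y)⁻¹ = (α x * x⁻¹) * (α y * y⁻¹)
        rw [map_mul, mul_inv_rev]
        calc α x * α y * (y⁻¹ * x⁻¹) = α x * (α y * y⁻¹) * x⁻¹ := by group
          _ = α x * (x⁻¹ * (α y * y⁻¹)) := by rw [mul_assoc, mem_center_iff.mp (h1 y) x⁻¹]
          _ = _ := by group }
  have h2 := CompBasic.hom_eq_one_of_perfect hL f x
  have h3 : α x * x⁻¹ = 1 := congrArg Subtype.val h2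
  exact mul_inv_eq_one.mp h3

/-- The main local statement. -/
theorem delta_eq_bot {X : Type*} [Group X] [Finite X] (p k : ℕ) [hp : Fact p.Prime] (hk : 1 ≤ k)
    (hO : pPrimeCore p X = ⊥)
    (h : ∀ K : Subgroup X, IsComponent K → IsLocallyKBalanced p k (↥K ⧸ center ↥K))
    (A : Subgroup X) (hA : IsElementaryAbelian p A) (hAc : Nat.card A = p ^ k)
    (D : Subgroup X) (hD : ∀ a ∈ A, a ≠ 1 → D ≤ centralizerPPrimeCore p a) : D = ⊥ := by
  have hcomm : ∀ x ∈ A, ∀ y ∈ A, x * y = y * x := by
    intro x hx y hy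
    have := hA.1.is_comm.comm (⟨x, hx⟩ : A) ⟨y, hy⟩
    exact congrArg Subtype.val this
  have horder : ∀ a ∈ A, a ≠ 1 → orderOf a = p := fun a ha ha1 =>
    orderOf_eq_prime (hA.2 a ha) ha1
  -- a nontrivial element of `A`
  obtain ⟨a₀, ha₀, ha₀1⟩ : ∃ a ∈ A, a ≠ 1 := by
    have h1 : A ≠ ⊥ := by
      intro h1
      rw [h1, card_bot] at hAc
      have h2 : 1 < p ^ k := Nat.one_lt_pow (by omega) hp.out.one_lt
      omega
    exact (bot_or_exists_ne_one A).resolve_left h1
  have hW₀ := CoreOfCentralizer.card_centralizerPPrimeCore_coprime p a₀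
  have hDp : (Nat.card D).Coprime p :=
    Nat.Coprime.coprime_dvd_left (card_dvd_of_le (hD a₀ ha₀ ha₀1)) hW₀
  have hDF : D ≤ centralizer (pCore p X : Set X) :=
    (hD a₀ ha₀ ha₀1).trans (core_le_centralizer_pCore p a₀ (horder a₀ ha₀ ha₀1))
  have hAD : ∀ x ∈ A, ∀ d ∈ D, x * d = d * x := by
    intro x hx d hd
    by_cases hx1 : x = 1
    · rw [hx1, one_mul, mul_one]
    · exact (mem_centralizer_singleton_iff.mp
        (CoreOfCentralizer.centralizerPPrimeCore_le p x (hD x hx hx1 hd))).symm
  apply eq_bot_of_le_centralizer_components p hO D hDp hDF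
  intro K hK
  by_cases hcase : ∃ a ∈ A, a ≠ 1 ∧ ⁅K, zpowers a⁆ ≠ K
  · obtain ⟨a, ha, ha1, hKa⟩ := hcase
    have h1 := Cfsg.Agent.S1270.result p hO a (horder a ha ha1) K hK hKa
    rw [commutator_comm, commutator_eq_bot_iff_le_centralizer] at h1
    exact (hD a ha ha1).trans h1
  push Not at hcase
  have hAK : A ≤ normalizer (K : Set X) := by
    intro a ha
    by_cases ha1 : a = 1
    · rw [ha1]; exact one_mem _
    · exact mem_normalizer_of_commutator_eq (hcase a ha ha1)
  have hDK : D ≤ normalizer (K : Set X) :=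
    (hD a₀ ha₀ ha₀1).trans
      (core_le_normalizer_component p hO a₀ (horder a₀ ha₀ ha₀1) K hK)
  have hDZ : ∀ z ∈ K ⊓ centralizer (K : Set X), ∀ d ∈ D, d * z = z * d := by
    intro z hz d hd
    exact (mem_centralizer_iff.mp (hDF hd) z (center_component_le_pCore p hO hK hz)).symm
  obtain ⟨H, hH⟩ : ∃ H : Subgroup X, H = K ⊔ (D ⊔ A) := ⟨_, rfl⟩
  have hKH : K ≤ H := hH ▸ le_sup_left
  have hDH : D ≤ H := hH ▸ (le_sup_left (a := D)).trans le_sup_right
  have hAH : A ≤ H := hH ▸ (le_sup_right (a := D)).trans le_sup_right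
  have hHN : H ≤ normalizer (K : Set X) := by
    rw [hH]
    exact sup_le le_normalizer (sup_le hDK hAK)
  let u : H →* MulAut (↥K ⧸ center ↥K) :=
    (autQuot K).comp (K.normalizerMonoidHom.comp (inclusion hHN))
  -- the kernel of `u` centralizes `K`
  have hker : ∀ g : H, u g = 1 → (g : X) ∈ centralizer (K : Set X) := by
    intro g hg
    rw [mem_centralizer_iff]
    intro l hl
    have h1 := eq_one_of_autQuot_eq_one hK.2.1 (K.normalizerMonoidHom (inclusion hHN g)) hg ⟨l, hl⟩
    have h2 : (g : X) * l * (g : X)⁻¹ = l := congrArg Subtype.val h1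
    rw [mul_inv_eq_iff_eq_mul] at h2
    exact h2.symm
  let f : H →* u.range := u.rangeRestrict
  have hf : Function.Surjective f := u.rangeRestrict_surjective
  have hf1 : ∀ g : H, f g = 1 → u g = 1 := fun g hg => congrArg Subtype.val hg
  have hAinj : ∀ a : H, (a : X) ∈ A → f a = 1 → a = 1 := by
    intro a ha hfa
    by_contra ha1
    have ha1' : (a : X) ≠ 1 := fun h => ha1 (Subtype.ext h)
    have h1 := hcase a ha ha1'
    have h2 := hker a (hf1 a hfa)
    have h3 : ⁅K, zpowers (a : X)⁆ = ⊥ := by
      rw [commutator_comm, commutator_eq_bot_iff_le_centralizer, zpowers_le]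
      exact h2
    rw [h3] at h1
    exact Components.component_ne_bot hK h1.symm
  -- apply the hypothesis
  have hinn : (MulAut.conj : (↥K ⧸ center ↥K) →* MulAut (↥K ⧸ center ↥K)).range ≤ u.range := by
    rintro _ ⟨q, rfl⟩
    obtain ⟨l, rfl⟩ := QuotientGroup.mk'_surjective (center K) q
    refine ⟨⟨l, hKH l.2⟩, ?_⟩
    ext x
    obtain ⟨m, rfl⟩ := QuotientGroup.mk'_surjective (center K) x
    rfl
  let A' : Subgroup u.range := (A.subgroupOf H).map f
  have hA'1 : IsElementaryAbelian p A' := by
    constructor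
    · refine ⟨⟨?_⟩⟩
      rintro ⟨_, x, hx, rfl⟩ ⟨_, y, hy, rfl⟩
      apply Subtype.ext
      show f x * f y = f y * f x
      rw [← map_mul, ← map_mul]
      congr 1
      exact Subtype.ext (hcomm x hx y hy)
    · rintro _ ⟨x, hx, rfl⟩
      rw [← map_pow]
      have h1 : x ^ p = 1 := Subtype.ext (hA.2 x hx)
      rw [h1, map_one]
  have hA'2 : Nat.card A' = p ^ k := by
    rw [← hAc, ← Nat.card_congr (subgroupOfEquivOfLe hAH).toEquiv]
    apply Nat.card_congr
    refine (Equiv.ofBijective (f.subgroupMap (A.subgroupOf H)) ⟨?_, f.subgroupMap_surjective _⟩).symm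
    rw [injective_iff_map_eq_one]
    rintro ⟨x, hx⟩ hx1
    apply Subtype.ext
    exact hAinj x hx (congrArg Subtype.val hx1)
  have hΔ := h K hK u.range hinn A' hA'1 hA'2
  intro d hd
  have h1 : f ⟨d, hDH hd⟩ ∈ signalizerDelta p A' := by
    unfold signalizerDelta
    rw [mem_iInf]
    rintro ⟨_, ⟨a, ha, rfl⟩, hfa1⟩
    have ha1 : (a : X) ≠ 1 := by
      intro ha1
      apply hfa1
      have : a = 1 := Subtype.ext ha1
      rw [this, map_one]
    exact map_mem_core K A D H hKH hAH hDH hH.le hAK hDK hAD hcomm a ha (hD a ha ha1) hDZ f hf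
      (fun g hg _ => hker g (hf1 g hg)) d hd
  rw [hΔ, mem_bot] at h1
  exact hker _ (hf1 _ h1)

/-- Passage from `G` to `C_G(b) / O_{p'}(C_G(b))`. -/
theorem isKBalanced_of_local {G : Type*} [Group G] [Finite G] (p k : ℕ) [hp : Fact p.Prime]
    (hk : 1 ≤ k)
    (h : ∀ x : G, orderOf x = p → ∀ K : Subgroup (↥(centralizer ({x} : Set G)) ⧸
      pPrimeCore p ↥(centralizer ({x} : Set G))), IsComponent K →
        IsLocallyKBalanced p k (↥K ⧸ center ↥K)) : IsKBalanced p k G := by
  intro A hA hAc b hb hAb
  obtain ⟨hcomm, hpow⟩ := hA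
  have hcomm' : ∀ x ∈ A, ∀ y ∈ A, x * y = y * x := by
    intro x hx y hy
    have := hcomm.is_comm.comm (⟨x, hx⟩ : A) ⟨y, hy⟩
    exact congrArg Subtype.val this
  have hAC : A ≤ centralizer ({b} : Set G) := fun a ha =>
    mem_centralizer_singleton_iff.mpr (hAb a ha)
  let π : ↥(centralizer ({b} : Set G)) →* ↥(centralizer ({b} : Set G)) ⧸
      pPrimeCore p ↥(centralizer ({b} : Set G)) := QuotientGroup.mk' _
  have hNn : (pPrimeCore p ↥(centralizer ({b} : Set G))).Normal := Lib.Cores.pPrimeCore_normal p
  have hNp := Lib.Cores.pPrimeCore_coprime (G := ↥(centralizer ({b} : Set G))) p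
  have hNp' : ¬ p ∣ Nat.card (pPrimeCore p ↥(centralizer ({b} : Set G))) :=
    (hp.out.coprime_iff_not_dvd).mp hNp.symm
  have hO := Lib.Cores.pPrimeCore_quotient_pPrimeCore (G := ↥(centralizer ({b} : Set G))) p
  have hinj : ∀ a : ↥(centralizer ({b} : Set G)), (a : G) ∈ A → π a = 1 → a = 1 := by
    intro a ha ha1
    have h1 : a ∈ pPrimeCore p ↥(centralizer ({b} : Set G)) := (QuotientGroup.eq_one_iff a).mp ha1
    have h2 : a ^ Nat.card (pPrimeCore p ↥(centralizer ({b} : Set G))) = 1 := by
      have := pow_card_eq_one' (x := (⟨a, h1⟩ : pPrimeCore p ↥(centralizer ({b} : Set G))))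
      exact congrArg Subtype.val this
    have h3 : a ^ p = 1 := Subtype.ext (hpow a ha)
    have h4 : a ∈ (⊥ : Subgroup ↥(centralizer ({b} : Set G))) :=
      mem_of_pow_mem_of_coprime hNp (mem_bot.mpr h2) (mem_bot.mpr h3)
    exact mem_bot.mp h4
  have hA'1 : IsElementaryAbelian p ((A.subgroupOf (centralizer ({b} : Set G))).map π) := by
    constructor
    · refine ⟨⟨?_⟩⟩
      rintro ⟨_, x, hx, rfl⟩ ⟨_, y, hy, rfl⟩
      apply Subtype.ext
      show π x * π y = π y * π x
      rw [← map_mul, ← map_mul]
      congr 1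
      exact Subtype.ext (hcomm' x hx y hy)
    · rintro _ ⟨x, hx, rfl⟩
      rw [← map_pow]
      have h1 : x ^ p = 1 := Subtype.ext (hpow x hx)
      rw [h1, map_one]
  have hA'2 : Nat.card ((A.subgroupOf (centralizer ({b} : Set G))).map π) = p ^ k := by
    rw [← hAc, ← Nat.card_congr (subgroupOfEquivOfLe hAC).toEquiv]
    apply Nat.card_congr
    refine (Equiv.ofBijective (π.subgroupMap (A.subgroupOf (centralizer ({b} : Set G))))
      ⟨?_, π.subgroupMap_surjective _⟩).symm
    rw [injective_iff_map_eq_one]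
    rintro ⟨x, hx⟩ hx1
    apply Subtype.ext
    exact hinj x hx (congrArg Subtype.val hx1)
  have key := delta_eq_bot p k hk hO (h b hb) _ hA'1 hA'2
    (((signalizerDelta p A).subgroupOf (centralizer ({b} : Set G))).map π) (by
      rintro _ ⟨a, ha, rfl⟩ ha1
      have ha1' : (a : G) ≠ 1 := by
        intro h1
        apply ha1
        have : a = 1 := Subtype.ext h1
        rw [this, map_one]
      have hW := CoreOfCentralizer.card_centralizerPPrimeCore_coprime p (a : G)
      have hWa := CoreOfCentralizer.centralizerPPrimeCore_le p (a : G)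
      have hWn := CoreOfCentralizer.centralizer_le_normalizer_centralizerPPrimeCore p (a : G)
      have h1 : (signalizerDelta p A).subgroupOf (centralizer ({b} : Set G)) ≤
          (centralizerPPrimeCore p (a : G)).subgroupOf (centralizer ({b} : Set G)) := by
        apply comap_mono
        exact iInf_le (fun a : {a : G // a ∈ A ∧ a ≠ 1} => centralizerPPrimeCore p (a : G))
          ⟨a, ha, ha1'⟩
      refine (map_mono h1).trans ?_
      apply le_centralizerPPrimeCore
      · rintro _ ⟨y, hy, rfl⟩
        rw [mem_centralizer_singleton_iff, ← map_mul, ← map_mul]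
        congr 1
        exact Subtype.ext (mem_centralizer_singleton_iff.mp (hWa hy))
      · refine Nat.Coprime.coprime_dvd_left ?_ hW
        refine (card_dvd_of_surjective _ (π.subgroupMap_surjective _)).trans ?_
        exact card_comap_dvd_of_injective _ _ (subtype_injective _)
      · intro y hy
        have hpa : IsPGroup p (zpowers a) :=
          isPGroup_zpowers_of_orderOf (orderOf_eq_prime (Subtype.ext (hpow a ha))
            (fun h => ha1' (congrArg Subtype.val h)))
        obtain ⟨g, hg, rfl⟩ := CoreOfCentralizer.exists_centralizing_of_quotient (zpowers a) hpa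
          (pPrimeCore p ↥(centralizer ({b} : Set G))) hNp' y (by
            intro c hc
            obtain ⟨n, rfl⟩ := mem_zpowers_iff.mp hc
            have h2 : Commute (π a) y := (mem_centralizer_singleton_iff.mp hy).symm
            have h3 := h2.zpow_left n
            show π (a ^ n) * y = y * π (a ^ n)
            rw [map_zpow]
            exact h3)
        have hga : (g : G) ∈ centralizer ({(a : G)} : Set G) := by
          rw [mem_centralizer_singleton_iff]
          exact (congrArg Subtype.val (hg a (mem_zpowers a))).symm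
        have hgn : g ∈ normalizer (((centralizerPPrimeCore p (a : G)).subgroupOf
            (centralizer ({b} : Set G)) : Subgroup _) : Set ↥(centralizer ({b} : Set G))) := by
          rw [mem_normalizer_iff]
          intro y
          rw [mem_subgroupOf, mem_subgroupOf]
          exact mem_normalizer_iff.mp (hWn hga) y
        exact le_normalizer_map π ⟨g, hgn, rfl⟩)
  rintro g ⟨hg1, hg2⟩
  have h1 : π ⟨g, hg2⟩ ∈ ((signalizerDelta p A).subgroupOf (centralizer ({b} : Set G))).map π :=
    ⟨⟨g, hg2⟩, hg1, rfl⟩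
  rw [key, mem_bot] at h1
  exact ⟨⟨g, hg2⟩, (QuotientGroup.eq_one_iff _).mp h1, rfl⟩

end Cfsg.Agent.SignalizersComponents.BalanceDelta
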