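import Mathlib
import Cfsg.Agent.S1293
import Cfsg.Agent.Lib.Cores
import Cfsg.Agent.SignalizersComponents.Components
import Cfsg.Agent.SignalizersComponents.CentralizerCore

/-!
# Balance of the cores of centralizers

Copied from the file of S1295 (without the import of S1294 / S0217): `balance`, `genFitting_eq_pCore`.
-/

set_option autoImplicit false
open Cfsg

namespace Cfsg.Agent.SignalizersComponents.CentralizerBalance

open Cfsg.Agent.SignalizersComponents.CentralizerCore

section main

variable {G : Type*} [Group G] [Finite G] (p : ℕ) [hp : Fact p.Prime]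

/-- balance -/
theorem balance {a b : G} (ha : orderOf a = p)
    (hL : pLayer p ↥(Subgroup.centralizer ({b} : Set G)) = ⊥) (hab : a * b = b * a) :
    centralizerPPrimeCore p a ⊓ Subgroup.centralizer ({b} : Set G) ≤
      centralizerPPrimeCore p b := by
  set X := Subgroup.centralizer ({b} : Set G) with hX
  have haX : a ∈ X := Subgroup.mem_centralizer_singleton_iff.2 hab
  set a' : X := ⟨a, haX⟩ with ha'
  have ho : orderOf a' = p := by rw [← ha, ← Subgroup.orderOf_coe]
  set P : Subgroup X := Subgroup.zpowers a' with hP
  have hPp : IsPGroup p P := by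
    refine IsPGroup.of_card (n := 1) ?_
    rw [Nat.card_zpowers, ho, pow_one]
  have hP1 : P ≠ ⊥ := by
    rw [hP, Ne, Subgroup.zpowers_eq_bot]
    intro h
    rw [h, orderOf_one] at ho
    exact hp.out.one_lt.ne ho
  have h1 := (Cfsg.Agent.S1293.result p hL P hPp hP1).2
  -- elements of `X` normalising `P` normalise the core of `C(a)`
  have key : ∀ n : X, n ∈ Subgroup.normalizer (P : Set X) →
      (centralizerPPrimeCore p a).map (MulAut.conj (n : G)).toMonoidHom ≤
        centralizerPPrimeCore p a := by
    intro n hn
    refine core_map_le p a a n ?_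
    rw [centralizer_conj]
    have hmem : n * a' * n⁻¹ ∈ P := (Subgroup.mem_normalizer_iff.1 hn a').1
      (Subgroup.mem_zpowers a')
    have hmem' : n⁻¹ * a' * n ∈ P := by
      have := (Subgroup.mem_normalizer_iff.1 (inv_mem hn) a').1 (Subgroup.mem_zpowers a')
      simpa using this
    obtain ⟨k, hk⟩ := hmem
    obtain ⟨l, hl⟩ := hmem'
    have hk' : a ^ k = n * a * (n : G)⁻¹ := by
      have := congrArg (Subtype.val) hk
      simpa using this
    have hl' : a ^ l = (n : G)⁻¹ * a * n := by
      have := congrArg (Subtype.val) hl
      simpa using this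
    ext x
    rw [Subgroup.mem_centralizer_singleton_iff, Subgroup.mem_centralizer_singleton_iff]
    constructor
    · intro hx
      have hx' : Commute x (n * a * (n : G)⁻¹) := hx
      have h2 : (n * a * (n : G)⁻¹) ^ l = a := by
        have : (n * a * (n : G)⁻¹) ^ l = n * a ^ l * (n : G)⁻¹ := by
          rw [conj_zpow]
        rw [this, hl']
        group
      have h3 := hx'.zpow_right l
      rw [h2] at h3
      exact h3
    · intro hx
      rw [← hk']
      have hx' : Commute x a := hx
      exact hx'.zpow_right k
  -- the subgroup of X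
  set D : Subgroup X := (centralizerPPrimeCore p a).subgroupOf X with hD
  have hDN : D ≤ Subgroup.normalizer (P : Set X) := by
    intro x hx
    have hx1 : (x : G) ∈ centralizerPPrimeCore p a := hx
    have hx2 := Subgroup.mem_centralizer_singleton_iff.1 (core_le p a hx1)
    have hx3 : x * a' = a' * x := Subtype.ext hx2
    have hcen : x ∈ Subgroup.centralizer (P : Set X) := by
      rw [Subgroup.mem_centralizer_iff]
      rintro _ ⟨k, rfl⟩
      have : Commute x a' := hx3
      exact (this.zpow_right k).eq.symm
    exact Subgroup.centralizer_le_normalizer (P : Set X) hcen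
  have hDnorm : Subgroup.normalizer (P : Set X) ≤ Subgroup.normalizer (D : Set X) := by
    intro n hn
    rw [Subgroup.mem_normalizer_iff]
    intro x
    constructor
    · intro hx
      have hx1 : (x : G) ∈ centralizerPPrimeCore p a := hx
      show ((n * x * n⁻¹ : X) : G) ∈ centralizerPPrimeCore p a
      exact key n hn ⟨x, hx1, rfl⟩
    · intro hx
      have hx1 : ((n * x * n⁻¹ : X) : G) ∈ centralizerPPrimeCore p a := hx
      show (x : G) ∈ centralizerPPrimeCore p a
      have := key n⁻¹ (inv_mem hn) ⟨_, hx1, rfl⟩
      simpa [mul_assoc] using this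
  have hDcard : (Nat.card D).Coprime p := by
    have h6 : Nat.card D ∣ Nat.card (centralizerPPrimeCore p a) := by
      have h5 : Nat.card ((centralizerPPrimeCore p a).subgroupOf X) =
        Nat.card (((centralizerPPrimeCore p a).subgroupOf X).map X.subtype) :=
        (Subgroup.card_map_of_injective (Subgroup.subtype_injective X)).symm
      rw [hD, h5, Subgroup.subgroupOf_map_subtype]
      exact Subgroup.card_dvd_of_le inf_le_left
    exact ((Nat.Prime.coprime_iff_not_dvd hp.out).2 fun h => core_card p a (h.trans h6)).symm
  have h2 : D.subgroupOf (Subgroup.normalizer (P : Set X)) ≤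
      pPrimeCore p (Subgroup.normalizer (P : Set X)) := by
    refine Lib.Cores.le_pPrimeCore
      ((Subgroup.normal_subgroupOf_iff_le_normalizer hDN).2 hDnorm) ?_
    rwa [Nat.card_congr (Subgroup.subgroupOfEquivOfLe hDN).toEquiv]
  have h3 := Subgroup.map_mono (f := (Subgroup.normalizer (P : Set X)).subtype) h2
  rw [Subgroup.subgroupOf_map_subtype, inf_eq_left.2 hDN] at h3
  have h4 := Subgroup.map_mono (f := X.subtype) (h3.trans h1)
  rwa [hD, Subgroup.subgroupOf_map_subtype] at h4

/-- a group with trivial `p`-layer and trivial `p'`-core has no component -/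
theorem layer_eq_bot (hO : pPrimeCore p G = ⊥) (hL : pLayer p G = ⊥) : layer G = ⊥ := by
  have hinj : Function.Injective (QuotientGroup.mk' (pPrimeCore p G)) := by
    rw [← MonoidHom.ker_eq_bot_iff, QuotientGroup.ker_mk', hO]
  have hbij : Function.Bijective (QuotientGroup.mk' (pPrimeCore p G)) :=
    ⟨hinj, QuotientGroup.mk'_surjective _⟩
  unfold layer
  rw [sSup_eq_bot]
  intro K hK
  have hK' : IsPComponent p K := by
    refine ⟨hK.1, ?_, ?_⟩
    · exact SignalizersComponents.Components.isComponent_map_equiv
        (MulEquiv.ofBijective _ hbij) hK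
    · intro H _ _ hH
      exact Subgroup.map_injective hinj hH
  have h1 : K ≤ pLayer p G := le_sSup hK'
  rw [hL] at h1
  exact le_bot_iff.1 h1

/-- a group with trivial `p`-layer and trivial `p'`-core has `F* = O_p`. -/
theorem genFitting_eq_pCore (hO : pPrimeCore p G = ⊥) (hL : pLayer p G = ⊥) :
    generalizedFittingSubgroup G = pCore p G := by
  unfold generalizedFittingSubgroup
  rw [layer_eq_bot p hO hL, bot_sup_eq]
  apply le_antisymm
  · rw [Lib.Cores.fittingSubgroup_eq_iSup_pCore]
    refine iSup_le ?_
    rintro ⟨q, hq⟩
    by_cases hqp : q = p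
    · subst hqp; exact le_rfl
    · have h1 : pCore q G ≤ pPrimeCore p G := by
        refine Lib.Cores.le_pPrimeCore inferInstance ?_
        haveI : Fact q.Prime := ⟨hq⟩
        obtain ⟨n, hn⟩ := (IsPGroup.iff_card (p := q)).1 (Lib.Cores.pCore_isPGroup (G := G) q)
        rw [hn]
        exact Nat.Coprime.pow_left n ((Nat.coprime_primes hq hp.out).2 hqp)
      rw [hO] at h1
      exact h1.trans bot_le
  · exact Lib.Cores.pCore_le_fittingSubgroup p

end main

end Cfsg.Agent.SignalizersComponents.CentralizerBalance
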