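import Mathlib
import Cfsg.Prelude.Def_PLocal
import Cfsg.Agent.Lib.Cores
import Cfsg.Agent.Lib.LocalCore
import Cfsg.Agent.Lib.PSolvable
import Cfsg.Agent.Lib.HallHigman
import Cfsg.Agent.PLocal.ThompsonJ
import Cfsg.Agent.PLocal.ThompsonFrattini
import Cfsg.Agent.SignalizersComponents.NoOffender
import Cfsg.Agent.SignalizersComponents.MinCounterBasic
import Cfsg.Agent.Blocks.SylowIn
import Cfsg.Agent.S0621

set_option autoImplicit false

/-!
`J(T) = J(O_p(K))` for an `A C_K(A)`-invariant `p`-subgroup `T ≥ O_p(K)` of a solvable group `K` of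
characteristic `p` with `C_S(⟨Ω₁Z(S)^K⟩) = O_p(K)`.
-/

namespace Cfsg.Agent.SignalizersComponents.ThompsonFix

open Subgroup
open scoped commutatorElement
open Cfsg.Agent.SignalizersComponents.GoldschmidtGen (le_normalizer_of_conj_mem
  conj_mem_of_le_normalizer)
open Cfsg.Agent.SignalizersComponents.MinCounterBasic
open Cfsg.Agent.Lib

universe u

/-- `SL(2, p)`, `p = 2, 3`, has no normal Sylow `p`-subgroup. -/
theorem sl_two_not_closed {p : ℕ} (hp : p = 2 ∨ p = 3)
    (R : Subgroup (Matrix.SpecialLinearGroup (Fin 2) (ZMod p)))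
    (hR : IsPGroup p R) (h : ∀ x : Matrix.SpecialLinearGroup (Fin 2) (ZMod p), x ^ p = 1 → x ∈ R) :
    False := by
  have key : ∀ (w : Matrix.SpecialLinearGroup (Fin 2) (ZMod p)) (m : ℕ), w ∈ R → w ^ m = 1 →
      m.Coprime p → w = 1 := by
    intro w m hw hwm hm
    obtain ⟨k, hk⟩ := hR ⟨w, hw⟩
    have h1 : w ^ p ^ k = 1 := congrArg Subtype.val hk
    have h2 := Nat.dvd_gcd (orderOf_dvd_of_pow_eq_one hwm) (orderOf_dvd_of_pow_eq_one h1)
    rw [(Nat.Coprime.pow_right k hm).gcd_eq_one] at h2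
    exact orderOf_eq_one_iff.mp (Nat.dvd_one.mp h2)
  rcases hp with rfl | rfl
  · let u : Matrix.SpecialLinearGroup (Fin 2) (ZMod 2) := ⟨!![1, 1; 0, 1], by decide⟩
    let l : Matrix.SpecialLinearGroup (Fin 2) (ZMod 2) := ⟨!![1, 0; 1, 1], by decide⟩
    have hu : u ∈ R := h u (by decide)
    have hl : l ∈ R := h l (by decide)
    have h1 := key (u * l) 3 (mul_mem hu hl) (by decide) (by decide)
    exact absurd h1 (by decide)
  · let u : Matrix.SpecialLinearGroup (Fin 2) (ZMod 3) := ⟨!![1, 1; 0, 1], by decide⟩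
    let l : Matrix.SpecialLinearGroup (Fin 2) (ZMod 3) := ⟨!![1, 0; 2, 1], by decide⟩
    have hu : u ∈ R := h u (by decide)
    have hl : l ∈ R := h l (by decide)
    have h1 := key (u * l * u) 4 (mul_mem (mul_mem hu hl) hu) (by decide) (by decide)
    exact absurd h1 (by decide)

/-- In a finite group, a surjection lifts elements of order dividing `p` to `p`-elements. -/
theorem exists_lift {D E : Type*} [Group D] [Finite D] [Group E] {p : ℕ} [hp : Fact p.Prime]
    (f : D →* E) (hf : Function.Surjective f) {x : E} (hx : x ^ p = 1) :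
    ∃ d : D, f d = x ∧ ∃ m, d ^ p ^ m = 1 := by
  obtain ⟨d, rfl⟩ := hf x
  obtain ⟨a, m, hm, ho⟩ := Nat.exists_eq_pow_mul_and_not_dvd (orderOf_pos d).ne' p hp.out.one_lt.ne'
  have hcop : m.Coprime p := ((Nat.Prime.coprime_iff_not_dvd hp.out).mpr hm).symm
  obtain ⟨s, -, hs⟩ := Nat.exists_mul_mod_eq_one_of_coprime hcop hp.out.one_lt
  refine ⟨d ^ (m * s), ?_, a, ?_⟩
  · rw [map_pow]
    have h1 : m * s = p * (m * s / p) + 1 := by
      conv_lhs => rw [← Nat.div_add_mod (m * s) p, hs]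
    rw [h1, pow_add, pow_mul, hx, one_pow, one_mul, pow_one]
  · rw [← pow_mul, show m * s * p ^ a = (p ^ a * m) * s by ring, ← ho, pow_mul, pow_orderOf_eq_one,
      one_pow]

/-- Thompson factorisation for a solvable group whose fixed points under an operator group have only
`p`-elements in a `p`-group. -/
theorem isThompsonFactorizable {G : Type u} [Group G] [Finite G] {p : ℕ} [hp : Fact p.Prime] {q : ℕ}
    [Fact q.Prime] (K X : Subgroup G) (hXK : X ≤ normalizer (K : Set G))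
    (hX : Cfsg.IsElementaryAbelian q X) (hq : ¬ q ∣ Nat.card K) (hsol : Group.IsSolvable K)
    (hO : Cfsg.pPrimeCore p K = ⊥) (Q : Subgroup G) (hQ : IsPGroup p Q)
    (hQm : ∀ x ∈ K ⊓ centralizer (X : Set G), ∀ m : ℕ, x ^ p ^ m = 1 → x ∈ Q) :
    Cfsg.IsThompsonFactorizable p K := by
  by_contra hnf
  haveI := hsol
  obtain ⟨hp23, W, D, -, hD, -, -, -, hn, ⟨e⟩⟩ := Cfsg.Agent.S0621.result K X hXK hX hq
    (PSolvable.IsPSolvable_of_solvable p) hO hnf
  let f : D →* Matrix.SpecialLinearGroup (Fin 2) (ZMod p) :=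
    e.toMonoidHom.comp (QuotientGroup.mk' ((centralizer (W : Set G)).subgroupOf D))
  have hf : Function.Surjective f := e.surjective.comp (QuotientGroup.mk'_surjective _)
  have hQD : IsPGroup p (Q.subgroupOf D) :=
    hQ.comap_of_injective D.subtype D.subtype_injective
  refine sl_two_not_closed hp23 ((Q.subgroupOf D).map f) (hQD.map f) ?_
  intro x hx
  obtain ⟨d, hd, m, hm⟩ := exists_lift f hf hx
  refine ⟨d, ?_, hd⟩
  exact hQm d (hD d.2) m (by
    have := congrArg Subtype.val hm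
    simpa using this)

/-- The elements of order dividing `p` of the centre of `S`. -/
def zset (p : ℕ) {K : Type*} [Group K] (S : Subgroup K) : Set K :=
  {z | z ∈ S ∧ (∀ x ∈ S, x * z = z * x) ∧ z ^ p = 1}

/-- `V = ⟨Ω₁(Z(S))^K⟩`. -/
def vsub (p : ℕ) {K : Type*} [Group K] (S : Subgroup K) : Subgroup K := normalClosure (zset p S)

instance vsub_normal (p : ℕ) {K : Type*} [Group K] (S : Subgroup K) : (vsub p S).Normal :=
  normalClosure_normal

section abstractgroup

variable {K : Type u} [Group K] [Finite K] {p : ℕ} [hp : Fact p.Prime]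

theorem vsub_le (hK : Group.IsSolvable K) (hO : Cfsg.pPrimeCore p K = ⊥) (S : Sylow p K) :
    vsub p (S : Subgroup K) ≤ Cfsg.Agent.Transfer.ThompsonFactor.omegaCenter p (Cfsg.pCore p K) := by
  haveI := hK
  have hcent := HallHigman.centralizer_pCore_le_of_solvable (G := K) p hO
  have hn := Cfsg.Agent.Transfer.ThompsonFactor.omegaCenter_normal p (Cfsg.pCore p K)
    (Cores.pCore_normal p)
  refine Subgroup.normalClosure_le_normal ?_
  rintro z ⟨hz1, hz2, hz3⟩
  have h1 : z ∈ centralizer (Cfsg.pCore p K : Set K) := by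
    rw [mem_centralizer_iff]
    intro x hx
    exact hz2 x (Cores.pCore_le_sylow S hx)
  exact ⟨hcent h1, h1, hz3⟩

/-- A `p`-element of the preimage of `O_{p'}(K / C(V))` lies in `O_p(K)`. -/
theorem mem_pCore_of_mem (S : Sylow p K) (V : Subgroup K) [hVn : V.Normal]
    (hSC : (S : Subgroup K) ⊓ centralizer (V : Set K) ≤ Cfsg.pCore p K) {x : K}
    (hx : QuotientGroup.mk' (centralizer (V : Set K)) x ∈ Cfsg.pPrimeCore p (K ⧸ centralizer (V : Set K)))
    {m : ℕ} (hm : x ^ p ^ m = 1) : x ∈ Cfsg.pCore p K := by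
  set C : Subgroup K := centralizer (V : Set K) with hC
  have h1 : QuotientGroup.mk' C x = 1 := by
    have h2 : orderOf (QuotientGroup.mk' C x) ∣ p ^ m := by
      apply orderOf_dvd_of_pow_eq_one
      rw [← map_pow, hm, map_one]
    have h3 : orderOf (QuotientGroup.mk' C x) ∣ Nat.card (Cfsg.pPrimeCore p (K ⧸ C)) := by
      rw [← Subgroup.orderOf_mk (QuotientGroup.mk' C x) hx]
      exact orderOf_dvd_natCard _
    have h4 := Nat.dvd_gcd h2 h3
    rw [((Cores.pPrimeCore_coprime (G := K ⧸ C) p).symm.pow_left m).gcd_eq_one] at h4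
    exact orderOf_eq_one_iff.mp (Nat.dvd_one.mp h4)
  have h2 : x ∈ C := by
    rwa [← MonoidHom.mem_ker, QuotientGroup.ker_mk'] at h1
  have h3 : IsPGroup p (zpowers x) := by
    rw [IsPGroup.iff_orderOf]
    rintro ⟨y, hy⟩
    obtain ⟨k, rfl⟩ := mem_zpowers_iff.mp hy
    have h4 : orderOf (⟨x ^ k, hy⟩ : zpowers x) ∣ p ^ m := by
      apply orderOf_dvd_of_pow_eq_one
      apply Subtype.ext
      show (x ^ k) ^ p ^ m = 1
      rw [← zpow_natCast, ← zpow_mul, mul_comm, zpow_mul, zpow_natCast, hm, one_zpow]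
    exact (Nat.dvd_prime_pow hp.out).mp h4 |>.imp fun _ h => h.2
  obtain ⟨Q, hQ⟩ := h3.exists_le_sylow
  obtain ⟨g, hg⟩ := MulAction.exists_smul_eq K Q S
  have h4 : g * x * g⁻¹ ∈ (S : Subgroup K) := by
    rw [← hg, Sylow.coe_subgroup_smul]
    exact ⟨x, hQ (mem_zpowers x), rfl⟩
  have hCn : C.Normal := inferInstance
  have h5 : g * x * g⁻¹ ∈ Cfsg.pCore p K := hSC ⟨h4, hCn.conj_mem x h2 g⟩
  have h6 := (Cores.pCore_normal (G := K) p).conj_mem _ h5 g⁻¹
  have h7 : g⁻¹ * (g * x * g⁻¹) * g⁻¹⁻¹ = x := by group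
  rwa [h7] at h6

/-- An automorphism stabilising `S` stabilises the preimage of `O_{p'}(K / C(V))`. -/
theorem map_mem_of_map_eq (S : Subgroup K) (φ : K ≃* K) (hφ : ∀ x, x ∈ S ↔ φ x ∈ S) {x : K}
    (hx : QuotientGroup.mk' (centralizer (vsub p S : Set K)) x ∈
      Cfsg.pPrimeCore p (K ⧸ centralizer (vsub p S : Set K))) :
    QuotientGroup.mk' (centralizer (vsub p S : Set K)) (φ x) ∈
      Cfsg.pPrimeCore p (K ⧸ centralizer (vsub p S : Set K)) := by
  have hZ : ∀ z, z ∈ zset p S ↔ φ z ∈ zset p S := by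
    intro z
    constructor
    · rintro ⟨h1, h2, h3⟩
      refine ⟨(hφ z).mp h1, fun y hy => ?_, by rw [← map_pow, h3, map_one]⟩
      obtain ⟨y, rfl⟩ := φ.surjective y
      rw [← map_mul, h2 y ((hφ y).mpr hy), map_mul]
    · rintro ⟨h1, h2, h3⟩
      refine ⟨(hφ z).mpr h1, fun y hy => ?_, ?_⟩
      · apply φ.injective
        rw [map_mul, map_mul, h2 _ ((hφ y).mp hy)]
      · apply φ.injective
        rw [map_pow, h3, map_one]
  have hV : (vsub p S).map φ.toMonoidHom = vsub p S := by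
    unfold vsub
    rw [Subgroup.map_normalClosure _ φ.toMonoidHom φ.surjective]
    congr 1
    ext z
    constructor
    · rintro ⟨y, hy, rfl⟩; exact (hZ y).mp hy
    · intro hz
      refine ⟨φ.symm z, (hZ _).mpr ?_, by simp⟩
      simpa using hz
  have hC : (centralizer (vsub p S : Set K)).map φ.toMonoidHom = centralizer (vsub p S : Set K) := by
    ext y
    constructor
    · rintro ⟨c, hc, rfl⟩
      rw [mem_centralizer_iff]
      intro v hv
      rw [← hV] at hv
      obtain ⟨v', hv', rfl⟩ := hv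
      have := (mem_centralizer_iff.mp hc) v' hv'
      show φ v' * φ c = φ c * φ v'
      rw [← map_mul, this, map_mul]
    · intro hy
      refine ⟨φ.symm y, ?_, by simp⟩
      rw [SetLike.mem_coe, mem_centralizer_iff]
      intro v hv
      have h1 : φ v ∈ vsub p S := by
        rw [← hV]; exact ⟨v, hv, rfl⟩
      apply φ.injective
      have := (mem_centralizer_iff.mp hy) _ h1
      simpa using this
  let ψ := QuotientGroup.congr _ _ φ hC
  have h1 : ψ (QuotientGroup.mk' _ x) ∈ Cfsg.pPrimeCore p (K ⧸ centralizer (vsub p S : Set K)) := by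
    rw [← Cores.map_equiv_pPrimeCore ψ p]
    exact ⟨_, hx, rfl⟩
  exact h1

end abstractgroup

/-- `J(T) ≤ O_p(K)` for `O_p(K) ≤ T ≤ S`, `T` normalised by `A` and `C_K(A)`. -/
theorem thompsonSubgroupOf_le {G : Type u} [Group G] [Finite G] {p : ℕ} [hp : Fact p.Prime] {q : ℕ}
    [hqq : Fact q.Prime] {A K S T : Subgroup G} (hA : Cfsg.IsElementaryAbelian q A)
    (hAK : A ≤ normalizer (K : Set G)) (hq : ¬ q ∣ Nat.card K) (hK : Group.IsSolvable K)
    (hO : Opp p K = ⊥) (P : Sylow p K) (hP : (P : Subgroup K).map K.subtype = S)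
    (hAS : A ≤ normalizer (S : Set G))
    (hSC : (P : Subgroup K) ⊓ centralizer (vsub p (P : Subgroup K) : Set K) ≤ Cfsg.pCore p K)
    (hTS : T ≤ S) (hOT : Op p K ≤ T) (hAT : A ≤ normalizer (T : Set G))
    (hCT : K ⊓ centralizer (A : Set G) ≤ normalizer (T : Set G)) :
    Cfsg.thompsonSubgroupOf p T ≤ Op p K := by
  classical
  have hO' : Cfsg.pPrimeCore p K = ⊥ :=
    (Subgroup.map_eq_bot_iff_of_injective _ K.subtype_injective).mp hO
  set V : Subgroup K := vsub p (P : Subgroup K) with hV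
  set C : Subgroup K := centralizer (V : Set K) with hC
  set N : Subgroup K := (Cfsg.pPrimeCore p (K ⧸ C)).comap (QuotientGroup.mk' C) with hN
  haveI hNn : N.Normal := (Cores.pPrimeCore_normal p).comap _
  have hSK : S ≤ K := by rw [← hP]; exact map_subtype_le _
  have hTK : T ≤ K := hTS.trans hSK
  set T' : Subgroup K := T.subgroupOf K with hT'
  have hT'map : T'.map K.subtype = T := Subgroup.map_subgroupOf_eq_of_le hTK
  have hcore : Cfsg.pCore p K ≤ T' := Subgroup.map_le_iff_le_comap.mp hOT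
  have hTS' : T' ≤ (P : Subgroup K) := by
    intro x hx
    have h1 : (x : G) ∈ (P : Subgroup K).map K.subtype := by rw [hP]; exact hTS hx
    obtain ⟨y, hy, hyx⟩ := h1
    have h2 : y = x := Subtype.ext hyx
    rwa [← h2]
  have hTp : IsPGroup p T' := P.isPGroup'.to_le hTS'
  have hNcore : ∀ x ∈ N, ∀ m : ℕ, x ^ p ^ m = 1 → x ∈ Cfsg.pCore p K := fun x hx m hm =>
    mem_pCore_of_mem P V hSC hx hm
  set K6' : Subgroup K := N ⊔ T' with hK6'
  set K6 : Subgroup G := K6'.map K.subtype with hK6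
  have hK6K : K6 ≤ K := map_subtype_le _
  have hTK6 : T ≤ K6 := by rw [← hT'map]; exact Subgroup.map_mono le_sup_right
  have hmem : ∀ x ∈ K6', ∃ n ∈ N, ∃ t ∈ T', n * t = x := fun x hx =>
    Subgroup.mem_sup_of_normal_left.mp hx
  -- a `p`-subgroup of `K6` containing `T` is `T`
  have hmax : ∀ Q : Subgroup G, Q ≤ K6 → IsPGroup p Q → T ≤ Q → Q = T := by
    intro Q hQ hQp hTQ
    refine le_antisymm ?_ hTQ
    intro x hx
    obtain ⟨x', hx', rfl⟩ := hQ hx
    obtain ⟨n, hn, t, ht, rfl⟩ := hmem x' hx'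
    have hnQ : (n : G) ∈ Q := by
      have h1 : ((n * t : K) : G) * ((t : K) : G)⁻¹ ∈ Q := Q.mul_mem hx (Q.inv_mem (hTQ ht))
      simpa using h1
    obtain ⟨m, hm⟩ := hQp ⟨n, hnQ⟩
    have h2 : n ^ p ^ m = 1 := by
      apply Subtype.ext
      have := congrArg Subtype.val hm
      simpa using this
    have h3 : n ∈ T' := hcore (hNcore n hn m h2)
    exact (mul_mem h3 ht : n * t ∈ T')
  have hTp' : IsPGroup p T := by rw [← hT'map]; exact hTp.map _
  obtain ⟨S6, hS6⟩ : ∃ S6 : Sylow p K6, (S6 : Subgroup K6).map K6.subtype = T :=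
    Cfsg.Agent.Blocks.SylowIn.exists_sylow_map_eq_iff.mpr ⟨hTK6, hTp', fun Q hQ hQp hTQ => hmax Q hQ hQp hTQ⟩
  -- `O_{p'}(K6) = 1`
  have hKs := hK
  have hO6 : Opp p K6 = ⊥ := by
    have hOK6 : Op p K ≤ K6 := hOT.trans hTK6
    have h1 : Opp p K6 ≤ centralizer (Op p K : Set G) := by
      refine le_centralizer_of_normalize ((Opp_le.trans hK6K).trans le_normalizer_Op)
        (hOK6.trans le_normalizer_Opp) ?_
      exact MinCounterBasic.inf_eq_bot_of_coprime (coprime_of_isPGroup' coprime_Opp isPGroup_Op)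
    have h2 : Opp p K6 ≤ Op p K :=
      (le_inf (Opp_le.trans hK6K) h1).trans (centralizer_inf_le_Op hKs hO)
    have h3 := MinCounterBasic.inf_eq_bot_of_coprime (coprime_of_isPGroup' (coprime_Opp (q := p) (X := K6))
      (isPGroup_Op (q := p) (X := K)))
    rwa [inf_eq_left.mpr h2] at h3
  have hO6' : Cfsg.pPrimeCore p K6 = ⊥ :=
    (Subgroup.map_eq_bot_iff_of_injective _ K6.subtype_injective).mp hO6
  -- `A` normalises `K6`
  have hAK6 : A ≤ normalizer (K6 : Set G) := by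
    apply le_normalizer_of_conj_mem
    rintro a ha _ ⟨x, hx, rfl⟩
    obtain ⟨n, hn, t, ht, rfl⟩ := hmem x hx
    let φ : MulAut K := K.normalizerMonoidHom ⟨a, hAK ha⟩
    have hφ : ∀ y : K, ((φ y : K) : G) = a * y * a⁻¹ := fun y => rfl
    have hφP : ∀ y : K, y ∈ (P : Subgroup K) ↔ φ y ∈ (P : Subgroup K) := by
      have hmemP : ∀ y : K, y ∈ (P : Subgroup K) ↔ (y : G) ∈ S := by
        intro y
        rw [← hP]
        constructor
        · exact fun h => ⟨y, h, rfl⟩
        · rintro ⟨z, hz, hzy⟩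
          have h2 : z = y := Subtype.ext hzy
          rwa [← h2]
      intro y
      rw [hmemP, hmemP, hφ]
      exact mem_normalizer_iff.mp (hAS ha) y
    have h1 : φ n ∈ N := map_mem_of_map_eq (P : Subgroup K) φ hφP hn
    have h2 : φ t ∈ T' := by
      show ((φ t : K) : G) ∈ T
      rw [hφ]
      exact conj_mem_of_le_normalizer hAT ha ht
    refine ⟨φ n * φ t, mul_mem (mem_sup_left h1) (mem_sup_right h2), ?_⟩
    show ((φ n * φ t : K) : G) = a * ((n * t : K) : G) * a⁻¹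
    rw [← map_mul, hφ]
  have hq6 : ¬ q ∣ Nat.card K6 := fun h => hq (h.trans (card_dvd_of_le hK6K))
  haveI := hK
  have hsol6 : Group.IsSolvable K6 :=
    Group.isSolvable_of_isSolvable_injective (Subgroup.inclusion_injective hK6K)
  -- Thompson factorisation
  have hfac := isThompsonFactorizable K6 A hAK6 hA hq6 hsol6 hO6' T hTp' (by
    rintro x ⟨hxK, hxA⟩ m hm
    have hxT : x ∈ normalizer (T : Set G) := hCT ⟨hK6K hxK, hxA⟩
    have hxp : IsPGroup p (zpowers x) := by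
      rw [IsPGroup.iff_orderOf]
      rintro ⟨y, hy⟩
      obtain ⟨k, rfl⟩ := mem_zpowers_iff.mp hy
      have h4 : orderOf (⟨x ^ k, hy⟩ : zpowers x) ∣ p ^ m := by
        apply orderOf_dvd_of_pow_eq_one
        apply Subtype.ext
        show (x ^ k) ^ p ^ m = 1
        rw [← zpow_natCast, ← zpow_mul, mul_comm, zpow_mul, zpow_natCast, hm, one_zpow]
      exact (Nat.dvd_prime_pow hp.out).mp h4 |>.imp fun _ h => h.2
    have h1 : IsPGroup p (zpowers x ⊔ T : Subgroup G) :=
      hxp.to_sup_of_normal_right' hTp' (by rwa [zpowers_le])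
    have h2 := hmax (zpowers x ⊔ T) (sup_le (by rwa [zpowers_le]) hTK6) h1 le_sup_right
    rw [← h2]
    exact mem_sup_left (mem_zpowers x))
  -- the Thompson subgroup of `S6`
  have hJ6 : (Cfsg.thompsonSubgroupOf p (S6 : Subgroup K6)).map K6.subtype =
      Cfsg.thompsonSubgroupOf p T := by
    rw [← Cfsg.Agent.PLocal.ThompsonJ.thompsonSubgroupOf_map p K6.subtype_injective, hS6]
  have hmemS6 : ∀ y : K6, y ∈ (S6 : Subgroup K6) ↔ (y : G) ∈ T := by
    intro y
    rw [← hS6]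
    constructor
    · exact fun h => ⟨y, h, rfl⟩
    · rintro ⟨z, hz, hzy⟩
      have h2 : z = y := Subtype.ext hzy
      rwa [← h2]
  have hJT : Cfsg.thompsonSubgroupOf p T ≤ T := Cfsg.Agent.PLocal.ThompsonJ.thompsonSubgroupOf_le_self p T
  have hVT : V ≤ T' := fun v hv => hcore ((vsub_le hK hO' P) hv).1
  have hVpow : ∀ v ∈ V, v ^ p = 1 := fun v hv => ((vsub_le hK hO' P) hv).2.2
  have hVab : ∀ x ∈ V, ∀ y ∈ V, x * y = y * x := fun x hx y hy =>
    (mem_centralizer_iff.mp ((vsub_le hK hO' P) hy).2.1) x ((vsub_le hK hO' P) hx).1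
  have hVp : IsPGroup p V := by
    intro v
    refine ⟨1, ?_⟩
    rw [pow_one]
    exact Subtype.ext (hVpow v v.2)
  -- apply the lemma
  set J' : Subgroup K := Cfsg.thompsonSubgroupOf p T' with hJ'
  have hJ'map : J'.map K.subtype = Cfsg.thompsonSubgroupOf p T := by
    rw [hJ', ← Cfsg.Agent.PLocal.ThompsonJ.thompsonSubgroupOf_map p K.subtype_injective, hT'map]
  have hJ'T : J' ≤ T' := Cfsg.Agent.PLocal.ThompsonJ.thompsonSubgroupOf_le_self p T'
  have hZ : ∀ z ∈ zset p (P : Subgroup K), ∀ x ∈ (P : Subgroup K), x * z = z * x := fun z hz => hz.2.1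
  have key : J' ≤ centralizer (normalClosure (zset p (P : Subgroup K)) : Set K) := by
    refine NoOffender.le_centralizer hK P (zset p (P : Subgroup K)) hZ hVp hVab N hN T' J' hTp hJ'T ?_
    intro g hg v hv hvt j hj
    -- factorise `g⁻¹`
    have hgK6 : ((g : K) : G) ∈ K6 := ⟨g, hg, rfl⟩
    obtain ⟨x, hx, c, hc, n, hn, hgn⟩ := hfac S6 (⟨(g : G), hgK6⟩ : K6)⁻¹
    have hx1 : x = 1 := by rwa [hO6', mem_bot] at hx
    rw [hx1, one_mul] at hgn
    have hvK6 : ((v : K) : G) ∈ K6 := hTK6 (hVT hv)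
    set v6 : K6 := ⟨(v : G), hvK6⟩ with hv6
    have hv6S : v6 ∈ (S6 : Subgroup K6) := (hmemS6 v6).mpr (hVT hv)
    have hv6c : ∀ t ∈ (S6 : Subgroup K6), t * v6 = v6 * t := by
      intro t ht
      have h1 := hvt ⟨(t : G), hTK ((hmemS6 t).mp ht)⟩ ((hmemS6 t).mp ht)
      have h2 := congrArg Subtype.val h1
      apply Subtype.ext
      simpa using h2
    have hvZ : v6 ∈ Cfsg.omegaOne p ((S6 : Subgroup K6) ⊓ centralizer ((S6 : Subgroup K6) : Set K6)) := by
      apply Subgroup.subset_closure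
      refine ⟨⟨hv6S, mem_centralizer_iff.mpr fun t ht => hv6c t ht⟩, ?_⟩
      apply Subtype.ext
      have := congrArg Subtype.val (hVpow v hv)
      simpa using this
    have hcv : v6 * c = c * v6 := (mem_centralizer_iff.mp hc) v6 hvZ
    -- `j` as an element of `K6`
    have hjJ : ((j : K) : G) ∈ Cfsg.thompsonSubgroupOf p T := by
      rw [← hJ'map]; exact ⟨j, hj, rfl⟩
    obtain ⟨j6, hj6, hj6j⟩ : ∃ j6 ∈ Cfsg.thompsonSubgroupOf p (S6 : Subgroup K6), ((j6 : K6) : G) = j := by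
      rw [← hJ6] at hjJ
      obtain ⟨y, hy, hyj⟩ := hjJ
      exact ⟨y, hy, hyj⟩
    have hj6n : n * j6 * n⁻¹ ∈ Cfsg.thompsonSubgroupOf p (S6 : Subgroup K6) :=
      (mem_normalizer_iff.mp hn j6).mp hj6
    have hj6S : n * j6 * n⁻¹ ∈ (S6 : Subgroup K6) :=
      Cfsg.Agent.PLocal.ThompsonJ.thompsonSubgroupOf_le_self p _ hj6n
    have h1 := hv6c _ hj6S
    -- `g v g⁻¹ = n⁻¹ v n`
    have hg6 : (⟨(g : G), hgK6⟩ : K6) = n⁻¹ * c⁻¹ := by
      rw [← mul_inv_rev, ← hgn, inv_inv]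
    have h2 : (⟨(g : G), hgK6⟩ : K6) * v6 * (⟨(g : G), hgK6⟩ : K6)⁻¹ = n⁻¹ * v6 * n := by
      rw [hg6]
      calc n⁻¹ * c⁻¹ * v6 * (n⁻¹ * c⁻¹)⁻¹ = n⁻¹ * c⁻¹ * (v6 * c) * n := by group
        _ = n⁻¹ * c⁻¹ * (c * v6) * n := by rw [hcv]
        _ = n⁻¹ * v6 * n := by group
    have h3 : j6 * ((⟨(g : G), hgK6⟩ : K6) * v6 * (⟨(g : G), hgK6⟩ : K6)⁻¹) =
        ((⟨(g : G), hgK6⟩ : K6) * v6 * (⟨(g : G), hgK6⟩ : K6)⁻¹) * j6 := by
      rw [h2]
      calc j6 * (n⁻¹ * v6 * n) = n⁻¹ * ((n * j6 * n⁻¹) * v6) * n := by group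
        _ = n⁻¹ * (v6 * (n * j6 * n⁻¹)) * n := by rw [h1]
        _ = n⁻¹ * v6 * n * j6 := by group
    have h4 := congrArg Subtype.val h3
    apply Subtype.ext
    have h5 : ((j6 : K6) : G) * ((g : G) * (v : G) * (g : G)⁻¹) = (g : G) * (v : G) * (g : G)⁻¹ * ((j6 : K6) : G) := h4
    rw [hj6j] at h5
    simpa using h5
  have h1 : J' ≤ Cfsg.pCore p K := (le_inf (hJ'T.trans hTS') key).trans hSC
  rw [← hJ'map]
  exact Subgroup.map_mono h1

/-- `J(T) = J(O_p(K))`. -/
theorem thompsonSubgroupOf_eq {G : Type u} [Group G] [Finite G] {p : ℕ} {U T : Subgroup G}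
    (hUT : U ≤ T) (h : Cfsg.thompsonSubgroupOf p T ≤ U) :
    Cfsg.thompsonSubgroupOf p U = Cfsg.thompsonSubgroupOf p T := by
  have h1 : Cfsg.thompsonSubgroup p T ≤ U.subgroupOf T := Subgroup.map_le_iff_le_comap.mp h
  have h2 := Cfsg.Agent.PLocal.ThompsonJ.thompsonSubgroupOf_eq_of_le h1
  have h3 := congrArg (Subgroup.map T.subtype) h2
  rw [← Cfsg.Agent.PLocal.ThompsonJ.thompsonSubgroupOf_map p T.subtype_injective,
    Subgroup.map_subgroupOf_eq_of_le hUT] at h3
  exact h3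

end Cfsg.Agent.SignalizersComponents.ThompsonFix
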